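import Mathlib

/-!
Small facts on Hopf algebras and on `dualTensorHom`.
-/

universe u v w

open TensorProduct Coalgebra

namespace Groth.Agent.Hopf35

section Antipode

variable {R : Type u} [CommRing R] {A : Type v} [CommRing A] [HopfAlgebra R A]

/-- For a commutative Hopf algebra the antipode is an anti-coalgebra map. -/
theorem comul_antipode (a : A) :
    comul (R := R) (HopfAlgebra.antipode R a) =
      TensorProduct.comm R A A
        (TensorProduct.map (HopfAlgebra.antipode R) (HopfAlgebra.antipode R) (comul (R := R) a)) := by
  let iL : WithConv (A →ₐ[R] A ⊗[R] A) := WithConv.toConv Algebra.TensorProduct.includeLeft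
  let iR : WithConv (A →ₐ[R] A ⊗[R] A) := WithConv.toConv Algebra.TensorProduct.includeRight
  have h : iL * iR = WithConv.toConv (Bialgebra.comulAlgHom R A) := by
    apply WithConv.ext
    ext x
    show Algebra.TensorProduct.lmul' R (Algebra.TensorProduct.map iL.ofConv iR.ofConv (Bialgebra.comulAlgHom R A x)) = _
    simp only [Bialgebra.comulAlgHom_apply, WithConv.ofConv_toConv]
    generalize comul (R := R) x = t
    induction t using TensorProduct.induction_on with
    | zero => simp
    | tmul b c => simp [iL, iR]
    | add p q hp hq => simp only [map_add, hp, hq]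
  have h2 := DFunLike.congr_fun (congrArg WithConv.ofConv ((congrArg (·⁻¹) h).symm.trans (mul_inv_rev iL iR))) a
  refine Eq.trans ?_ (h2.trans ?_)
  · rfl
  show Algebra.TensorProduct.lmul' R (Algebra.TensorProduct.map iR⁻¹.ofConv iL⁻¹.ofConv (Bialgebra.comulAlgHom R A a)) = _
  simp only [Bialgebra.comulAlgHom_apply]
  generalize comul (R := R) a = t
  induction t using TensorProduct.induction_on with
  | zero => simp
  | tmul b c =>
    show ((1 : A) ⊗ₜ[R] HopfAlgebra.antipode R b) * (HopfAlgebra.antipode R c ⊗ₜ[R] (1 : A)) = _
    simp
  | add p q hp hq => simp only [map_add, hp, hq]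

/-- Sigma-notation form of `comul_antipode`. -/
theorem comul_antipode_of_sum {ι : Type*} (s : Finset ι) (a : A) (b c : ι → A)
    (h : comul (R := R) a = ∑ i ∈ s, b i ⊗ₜ[R] c i) :
    comul (R := R) (HopfAlgebra.antipode R a) =
      ∑ i ∈ s, HopfAlgebra.antipode R (c i) ⊗ₜ[R] HopfAlgebra.antipode R (b i) := by
  rw [comul_antipode, h]
  simp

end Antipode

section Dual

variable {R : Type u} [CommRing R] (M : Type v) [AddCommGroup M] [Module R M]
  (N : Type w) [AddCommGroup N] [Module R N] [Module.Flat R N]

private theorem dth_precomp {P : Type*} [AddCommGroup P] [Module R P] (f : P →ₗ[R] M)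
    (t : Module.Dual R M ⊗[R] N) :
    dualTensorHom R P N (LinearMap.rTensor N f.dualMap t) = dualTensorHom R M N t ∘ₗ f := by
  induction t using TensorProduct.induction_on with
  | zero => simp
  | tmul φ n => ext p; simp
  | add a b ha hb => simp only [map_add, ha, hb, LinearMap.add_comp]

/-- `M^* ⊗ N → Hom(M, N)` is bijective for `M` finitely presented and `N` flat. -/
theorem dualTensorHom_bijective_of_flat [Module.FinitePresentation R M] :
    Function.Bijective (dualTensorHom R M N) := by
  obtain ⟨n, K, e, hK⟩ := Module.FinitePresentation.exists_fin R M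
  obtain ⟨m, v, hv⟩ := Submodule.fg_iff_exists_fin_generating_family.mp hK
  let g : (Fin m → R) →ₗ[R] (Fin n → R) := Fintype.linearCombination R v
  have hg : LinearMap.range g = K := by rw [Fintype.range_linearCombination, hv]
  let π : (Fin n → R) →ₗ[R] M := e.symm.toLinearMap ∘ₗ K.mkQ
  have hπ : Function.Surjective π := e.symm.surjective.comp K.mkQ_surjective
  have hker : LinearMap.ker π = LinearMap.range g := by
    rw [LinearEquiv.ker_comp, Submodule.ker_mkQ, hg]
  have hdual : Function.Exact π.dualMap g.dualMap := by
    intro φ
    constructor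
    · intro hφ
      have hle : LinearMap.ker π ≤ LinearMap.ker φ := by
        rw [hker]; rintro _ ⟨y, rfl⟩; exact LinearMap.congr_fun hφ y
      refine ⟨((LinearMap.ker π).liftQ φ hle) ∘ₗ (π.quotKerEquivOfSurjective hπ).symm.toLinearMap, ?_⟩
      ext x
      simp [LinearMap.quotKerEquivOfSurjective_symm_apply]
    · rintro ⟨ψ, rfl⟩
      ext x
      have : π (g (Pi.single x 1)) = 0 := by
        rw [← LinearMap.mem_ker, hker]; exact LinearMap.mem_range_self g _
      simp [this]
  have hinjD : Function.Injective π.dualMap := fun a b h => by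
    ext x
    obtain ⟨y, rfl⟩ := hπ x
    exact LinearMap.congr_fun h y
  have hinj' : Function.Injective (LinearMap.rTensor N π.dualMap) :=
    Module.Flat.rTensor_preserves_injective_linearMap _ hinjD
  have hex : Function.Exact (LinearMap.rTensor N π.dualMap) (LinearMap.rTensor N g.dualMap) :=
    Module.Flat.rTensor_exact N hdual
  have bn := dualTensorHom_bijective (R := R) (M := Fin n → R) (N := N)
  have bm := dualTensorHom_bijective (R := R) (M := Fin m → R) (N := N)
  constructor
  · intro a b h
    apply hinj'
    apply bn.1
    rw [dth_precomp, dth_precomp, h]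
  · intro h
    obtain ⟨t, ht⟩ := bn.2 (h ∘ₗ π)
    have : LinearMap.rTensor N g.dualMap t = 0 := by
      apply bm.1
      rw [dth_precomp, ht, map_zero, LinearMap.comp_assoc]
      have : π ∘ₗ g = 0 := LinearMap.ext fun x => by
        rw [LinearMap.zero_apply, LinearMap.comp_apply, ← LinearMap.mem_ker, hker]
        exact LinearMap.mem_range_self g x
      rw [this, LinearMap.comp_zero]
    obtain ⟨s, rfl⟩ := (hex t).mp this
    refine ⟨s, ?_⟩
    rw [dth_precomp] at ht
    exact LinearMap.cancel_right hπ |>.mp ht

end Dual

section Separate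

variable {R : Type u} [CommRing R] {M : Type v} [AddCommGroup M] [Module R M] [Module.Projective R M]

/-- Linear forms separate the points of a projective module. -/
theorem eq_of_forall_dual {x y : M} (h : ∀ φ : Module.Dual R M, φ x = φ y) : x = y := by
  rw [← sub_eq_zero, ← Module.forall_dual_apply_eq_zero_iff R]
  intro φ; rw [map_sub, h, sub_self]

end Separate

end Groth.Agent.Hopf35
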