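import Groth.Agent.AlgGrp33.TorusBridge
import Groth.Agent.RedPts82.Comm
import Groth.Agent.RedPts82.TorusBasic
import Groth.Prelude.Def_TwC

/-!
helper35: isotrivial tori are tori; the coordinate ring of a torus over a field is geometrically a
domain.
-/

set_option autoImplicit false
set_option linter.style.haveILetI false

universe u

open CategoryTheory CategoryTheory.Limits MonoidalCategory CartesianMonoidalCategory MonObj GrpObj AlgebraicGeometry
open scoped TensorProduct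

noncomputable section

namespace Groth.Agent.Hopf35.TorDom

theorem isTorus_of_isotrivial {S : Scheme.{u}} (T : Over S) [GrpObj T] {r : ℕ}
    (h : TwC.Locally S .finiteEtale (fun S' g => Red.IsSplitTorusWith (Fin r → ℤ) (Red.bc g T))) :
    Red.IsTorus T := by
  obtain ⟨S', f, hfin, het, hs, hloc⟩ := h
  haveI := hfin; haveI := het; haveI := hs
  refine ⟨S', f, inferInstance, hs, fun V hV => ⟨f ⁻¹ᵁ V, (hV.preimage f).isCompact, ?_⟩, fun s' => ?_⟩
  · exact Set.image_preimage_eq (V : Set S) f.surjective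
  · obtain ⟨U, hU, -, hsp⟩ := hloc s'
    exact ⟨U, hU, r, hsp⟩

variable {k : Type u} [Field k] {A : Type u} [CommRing A] [HopfAlgebra k A]
  {T : Over (Spec (CommRingCat.of k))} [GrpObj T]

open GMod80 AlgGrp33

theorem isDomain_tensor (ψ : sp k A ≅ T) [IsMonHom ψ.hom] (hT : Red.IsTorus T) (K : Type u) [Field K]
    [Algebra k K] : IsDomain (K ⊗[k] A) := by
  obtain ⟨S', f, -, hs, -, hloc⟩ := hT
  obtain ⟨x₀⟩ : Nonempty (Spec (CommRingCat.of k)) := inferInstanceAs (Nonempty (PrimeSpectrum k))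
  obtain ⟨s', -⟩ := hs.surj x₀
  obtain ⟨U, hU, r, ⟨e₀⟩⟩ := hloc s'
  let u₀ : (U : Scheme.{u}) := ⟨s', hU⟩
  let F : Type u := (U : Scheme.{u}).residueField u₀
  let g₀ : Spec (CommRingCat.of F) ⟶ (U : Scheme.{u}) := (U : Scheme.{u}).fromSpecResidueField u₀
  letI : Algebra k F := (Spec.preimage (g₀ ≫ U.ι ≫ f)).hom.toAlgebra
  haveI : Nontrivial (K ⊗[k] F) := TensorProduct.nontrivial_of_linearMap_injective_of_flat_left k K F
    (Algebra.linearMap k F) (algebraMap k F).injective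
  obtain ⟨N, hN⟩ := Ideal.exists_maximal (K ⊗[k] F)
  let L : Type u := (K ⊗[k] F) ⧸ N
  letI : Field L := Ideal.Quotient.field N
  let iF : F →ₐ[k] L := (Ideal.Quotient.mkₐ k N).comp Algebra.TensorProduct.includeRight
  let iK : K →ₐ[k] L := (Ideal.Quotient.mkₐ k N).comp Algebra.TensorProduct.includeLeft
  let g : Spec (CommRingCat.of L) ⟶ (U : Scheme.{u}) := Spec.map (CommRingCat.ofHom iF.toRingHom) ≫ g₀
  have hq : Spec.map (CommRingCat.ofHom (algebraMap k L)) = g ≫ U.ι ≫ f := by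
    rw [show CommRingCat.ofHom (algebraMap k L) =
      Spec.preimage (g₀ ≫ U.ι ≫ f) ≫ CommRingCat.ofHom iF.toRingHom from
        CommRingCat.hom_ext (RingHom.ext fun c => (iF.commutes c).symm), Spec.map_comp, Spec.map_preimage,
      Category.assoc]
  obtain ⟨ψL, _⟩ := exists_coord_bc L ψ
  obtain ⟨ψD, _⟩ := exists_coord_DS L (Fin r → ℤ)
  obtain ⟨e₁⟩ := GMod80.nonempty_bc_DS_iso g (AddEquiv.refl (Fin r → ℤ))
  obtain ⟨e₂⟩ := nonempty_bc_comp g (U.ι ≫ f) T
  let e₃ : Grp.mk (Red.bc g (Red.bc (U.ι ≫ f) T)) ≅ Grp.mk (Red.bc g (Red.DS (U : Scheme.{u}) (Fin r → ℤ))) :=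
    (Functor.mapGrp (Over.pullback g)).mapIso e₀
  have he : Nonempty (Grp.mk (Red.bc (Spec.map (CommRingCat.ofHom (algebraMap k L))) T) ≅
      Grp.mk (Red.DS (Spec (CommRingCat.of L)) (Fin r → ℤ))) := by
    have aux : ∀ h : Spec (CommRingCat.of L) ⟶ Spec (CommRingCat.of k), h = g ≫ U.ι ≫ f →
        Nonempty (Grp.mk (Red.bc h T) ≅ Grp.mk (Red.DS (Spec (CommRingCat.of L)) (Fin r → ℤ))) := by
      rintro h rfl
      exact ⟨e₂.symm ≪≫ e₃ ≪≫ e₁⟩
    exact aux _ hq
  obtain ⟨e₄⟩ := he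
  obtain ⟨E⟩ := exists_bialgEquiv_of_grpIso ψD ψL e₄
  haveI : IsDomain (MonoidAlgebra L (Multiplicative (Fin r → ℤ))) := inferInstance
  haveI : IsDomain (L ⊗[k] A) := MulEquiv.isDomain _ E.symm.toMulEquiv
  let φ : K ⊗[k] A →ₐ[k] L ⊗[k] A := Algebra.TensorProduct.map iK (AlgHom.id k A)
  refine Function.Injective.isDomain φ.toRingHom ?_
  exact Module.Flat.rTensor_preserves_injective_linearMap (M := A) iK.toLinearMap iK.toRingHom.injective

end Groth.Agent.Hopf35.TorDom
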