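import Groth.Agent.Hopf35.GrpLikeLift
import Groth.Agent.Comod33.HopfFlat
import Mathlib.RingTheory.Bialgebra.MonoidAlgebra
import Mathlib.RingTheory.HopfAlgebra.MonoidAlgebra
import Mathlib.RingTheory.HopfAlgebra.GroupLike
import Mathlib.RingTheory.Norm.Defs
import Mathlib.RingTheory.Jacobson.Ring
import Mathlib.RingTheory.Noetherian.Basic
import Mathlib.GroupTheory.Finiteness
import Mathlib.RingTheory.TensorProduct.Free

/-!
helper35: group-like elements of a finitely generated Hopf algebra over a field form a finitely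
generated group; along a surjection of cocommutative Hopf algebras a positive power of every
group-like element lifts.
-/

set_option autoImplicit false

universe u v w v'

open TensorProduct WithConv CoalgebraStruct

noncomputable section

namespace Groth.Agent.Hopf35.GL

open Comod33

section FG

variable {k : Type u} [Field k] {B : Type v} [CommRing B] [HopfAlgebra k B]

theorem liftGroupLike_injective [IsDomain k] :
    Function.Injective (MonoidAlgebra.liftGroupLikeBialgHom (R := k) (A := B)) := by
  rw [injective_iff_map_eq_zero]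
  intro f hf
  have hli : LinearIndependent k (fun g : GroupLike k B => (g : B)) :=
    (linearIndependent_equiv GroupLike.valEquiv).2 linearIndepOn_isGroupLikeElem
  have h2 : Finsupp.linearCombination k (fun g : GroupLike k B => (g : B)) f.coeff = 0 := by
    rw [← hf]
    simp [MonoidAlgebra.liftGroupLikeBialgHom, MonoidAlgebra.lift_apply, Finsupp.linearCombination_apply]
  exact MonoidAlgebra.ext (linearIndependent_iff.mp hli f.coeff h2)

/-- The group-like elements of a finitely generated Hopf algebra over a field form a finitely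
generated group. -/
theorem fg_groupLike [Algebra.FiniteType k B] : Group.FG (GroupLike k B) := by
  classical
  haveI : IsNoetherianRing B := Algebra.FiniteType.isNoetherianRing k B
  let C := MonoidAlgebra k (GroupLike k B)
  let φ : C →ₐc[k] B := MonoidAlgebra.liftGroupLikeBialgHom (R := k) (A := B)
  have hff := HopfFlat.faithfullyFlat_of_injective φ liftGroupLike_injective
  letI : Algebra C B := (φ : C →+* B).toAlgebra
  haveI : Module.FaithfullyFlat C B := hff
  let s : Set C := Set.range fun g : GroupLike k B => MonoidAlgebra.single g (1 : k) - 1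
  obtain ⟨t, hts, ht⟩ := (Submodule.fg_span_iff_fg_span_finset_subset ((algebraMap C B) '' s)).1
    (IsNoetherian.noetherian (Ideal.span ((algebraMap C B) '' s)))
  obtain ⟨t', ht's, htt'⟩ : ∃ t' : Finset (GroupLike k B),
      Ideal.span (algebraMap C B '' ((fun g => MonoidAlgebra.single g (1 : k) - 1) '' (t' : Set _))) =
        Ideal.span (algebraMap C B '' s) ∧ True := by
    choose gg hgg using fun x : (t : Set B) => (show ∃ g : GroupLike k B,
        algebraMap C B (MonoidAlgebra.single g (1 : k) - 1) = x by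
      obtain ⟨_, ⟨g, rfl⟩, hx⟩ := hts x.2; exact ⟨g, hx⟩)
    refine ⟨Finset.univ.image gg, le_antisymm (Ideal.span_mono (Set.image_mono ?_)) ?_, trivial⟩
    · rintro _ ⟨g, -, rfl⟩; exact ⟨g, rfl⟩
    · show Submodule.span B (algebraMap C B '' s) ≤ _
      rw [ht]
      refine Submodule.span_le.2 fun x hx => Submodule.subset_span ?_
      exact ⟨_, ⟨gg ⟨x, hx⟩, by simp, rfl⟩, hgg ⟨x, hx⟩⟩
  let Y : Subgroup (GroupLike k B) := Subgroup.closure (t' : Set (GroupLike k B))
  have hJ : Ideal.span ((fun g => MonoidAlgebra.single g (1 : k) - 1) '' (t' : Set (GroupLike k B))) =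
      Ideal.span s :=
    Ideal.map_injective_of_faithfullyFlat (A := C) (B := B) (by
      rw [Ideal.map_span, Ideal.map_span]; exact ht's)
  let qY : GroupLike k B →* GroupLike k B ⧸ Y := QuotientGroup.mk' Y
  let Q : C →+* MonoidAlgebra k (GroupLike k B ⧸ Y) := MonoidAlgebra.mapDomainRingHom k qY
  have hker : Ideal.span s ≤ RingHom.ker Q := by
    rw [← hJ, Ideal.span_le]
    rintro _ ⟨g, hg, rfl⟩
    show Q (MonoidAlgebra.single g (1 : k) - 1) = 0
    rw [map_sub, map_one, sub_eq_zero]
    show MonoidAlgebra.mapDomain qY (MonoidAlgebra.single g (1 : k)) = 1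
    rw [MonoidAlgebra.mapDomain_single]
    rw [show qY g = 1 from (QuotientGroup.eq_one_iff g).2 (Subgroup.subset_closure hg)]
    rfl
  refine ⟨Subgroup.fg_iff _ |>.2 ⟨(t' : Set (GroupLike k B)), ?_, t'.finite_toSet⟩⟩
  rw [eq_top_iff]
  intro g _
  have h := hker (Ideal.subset_span (show MonoidAlgebra.single g (1 : k) - 1 ∈ s from ⟨g, rfl⟩))
  rw [RingHom.mem_ker, map_sub, map_one, sub_eq_zero] at h
  change MonoidAlgebra.mapDomain qY (MonoidAlgebra.single g (1 : k)) = 1 at h
  rw [MonoidAlgebra.mapDomain_single, MonoidAlgebra.one_def] at h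
  exact (QuotientGroup.eq_one_iff g).1
    (Finsupp.single_left_injective (one_ne_zero' k) (congrArg MonoidAlgebra.coeff h))

end FG

section Norm

variable {k : Type u} [Field k] {R : Type v} [CommRing R] [Algebra k R] {R' : Type v'} [CommRing R']
  [Algebra k R'] {L : Type w} [CommRing L] [Algebra k L]

theorem leftMulMatrix_map {ι : Type*} [Fintype ι] [DecidableEq ι] (e : Module.Basis ι k L)
    (f : R →ₐ[k] R') (z : R ⊗[k] L) :
    Algebra.leftMulMatrix (Algebra.TensorProduct.basis R' e)
        (Algebra.TensorProduct.map f (AlgHom.id k L) z) =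
      (Algebra.leftMulMatrix (Algebra.TensorProduct.basis R e) z).map f := by
  induction z with
  | zero => simp
  | add x y hx hy => rw [map_add, map_add, map_add, Matrix.map_add _ (map_add f), hx, hy]
  | tmul a l =>
    ext i j
    simp [Algebra.leftMulMatrix_eq_repr_mul, Algebra.TensorProduct.basis_apply,
      Algebra.TensorProduct.basis_repr_tmul]

theorem map_norm [Module.Finite k L] (f : R →ₐ[k] R') (z : R ⊗[k] L) :
    f (Algebra.norm R z) = Algebra.norm R' (Algebra.TensorProduct.map f (AlgHom.id k L) z) := by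
  classical
  let e := Module.finBasis k L
  rw [Algebra.norm_eq_matrix_det (Algebra.TensorProduct.basis R e),
    Algebra.norm_eq_matrix_det (Algebra.TensorProduct.basis R' e), leftMulMatrix_map,
    AlgHom.map_det, AlgHom.mapMatrix_apply]

end Norm

section Lift

variable {k : Type u} [Field k] {A : Type v} [CommRing A] [HopfAlgebra k A] [Coalgebra.IsCocomm k A]
  {B : Type v} [CommRing B] [HopfAlgebra k B]

/-- a commutative ring structure on a commutative subalgebra of endomorphisms -/
@[reducible] def endCommRing {k : Type u} [Field k] {V : Type w} [AddCommGroup V] [Module k V]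
    (S : Subalgebra k (Module.End k V)) (h : ∀ x y : S, x * y = y * x) : CommRing S :=
  { (Subalgebra.toRing S) with mul_comm := h }

/-- the pairing of two linear forms with coefficients in an extension -/
def ev2 {L : Type w} [CommRing L] [Algebra k L] (f g : A →ₗ[k] k) :
    (A ⊗[k] A) ⊗[k] L →ₗ[k] L :=
  (TensorProduct.lid k L).toLinearMap ∘ₗ
    LinearMap.rTensor L (LinearMap.comp f (rc g : A ⊗[k] A →ₗ[k] A))

theorem eq_of_ev2 {L : Type w} [CommRing L] [Algebra k L] {x y : (A ⊗[k] A) ⊗[k] L}
    (h : ∀ f g : A →ₗ[k] k, ev2 f g x = ev2 f g y) : x = y := by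
  refine eq_of_rc fun φ => eq_of_forms fun f g => ?_
  have hc : ∀ z : (A ⊗[k] A) ⊗[k] L, f (rc g (rc φ z)) = φ (ev2 f g z) := fun z => by
    induction z with
    | zero => simp
    | add p q hp hq => simp only [map_add, hp, hq]
    | tmul c l => simp [ev2, mul_comm]
  rw [hc, hc, h f g]

theorem ev2_mul {L : Type w} [CommRing L] [Algebra k L] (f g : A →ₗ[k] k) (x y : A ⊗[k] L) :
    ev2 f g (Algebra.TensorProduct.map (Algebra.TensorProduct.includeLeft : A →ₐ[k] A ⊗[k] A) (AlgHom.id k L) x *
        Algebra.TensorProduct.map Algebra.TensorProduct.includeRight (AlgHom.id k L) y) =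
      TensorProduct.lid k L (f.rTensor L x) * TensorProduct.lid k L (g.rTensor L y) := by
  induction x with
  | zero => simp
  | add p q hp hq => simp only [map_add, add_mul, hp, hq]
  | tmul a l =>
    induction y with
    | zero => simp
    | add p q hp hq => simp only [map_add, mul_add, hp, hq]
    | tmul b m =>
      simp only [Algebra.TensorProduct.map_tmul, AlgHom.coe_id, id_eq,
        Algebra.TensorProduct.includeLeft_apply, Algebra.TensorProduct.includeRight_apply,
        Algebra.TensorProduct.tmul_mul_tmul, _root_.mul_one, _root_.one_mul, ev2,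
        LinearMap.comp_apply, LinearMap.rTensor_tmul, rc_tmul, map_smul, LinearEquiv.coe_coe,
        TensorProduct.lid_tmul, smul_eq_mul]
      rw [smul_mul_smul_comm, mul_comm (g b)]

theorem ev2_comul {L : Type w} [CommRing L] [Algebra k L] (f g : A →ₗ[k] k) (x : A ⊗[k] L) :
    ev2 f g (Algebra.TensorProduct.map (Bialgebra.comulAlgHom k A) (AlgHom.id k L) x) =
      TensorProduct.lid k L ((toConv f * toConv g).ofConv.rTensor L x) := by
  induction x with
  | zero => simp
  | add p q hp hq => simp only [map_add, hp, hq]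
  | tmul a l =>
    simp only [Algebra.TensorProduct.map_tmul, AlgHom.coe_id, id_eq, ev2, LinearMap.comp_apply,
      LinearMap.rTensor_tmul, LinearEquiv.coe_coe, TensorProduct.lid_tmul, convMul_eq_rc]
    rfl

set_option maxHeartbeats 2400000 in
/-- The coalgebra part of the lifting of group-likes: a lift over a finite field extension. -/
theorem exists_lift_ext {k : Type u} [Field k] {A : Type v} [AddCommGroup A] [Module k A] [Coalgebra k A]
    [Coalgebra.IsCocomm k A] {B : Type w} [AddCommGroup B] [Module k B] [Coalgebra k B]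
    (π : A →ₗc[k] B) (hπ : Function.Surjective π) {b : B} (hb : IsGroupLikeElem k b) :
    ∃ (L : Type v) (_ : Field L) (_ : Algebra k L) (_ : Module.Finite k L) (aL : A ⊗[k] L),
      TensorProduct.lid k L ((counit (R := k) (A := A)).rTensor L aL) = 1 ∧
      (∀ f g : A →ₗ[k] k, TensorProduct.lid k L ((toConv f * toConv g).ofConv.rTensor L aL) =
        TensorProduct.lid k L (f.rTensor L aL) * TensorProduct.lid k L (g.rTensor L aL)) ∧
      ∀ f : B →ₗ[k] k, TensorProduct.lid k L ((f ∘ₗ π.toLinearMap).rTensor L aL) =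
        algebraMap k L (f b) := by
  classical
  obtain ⟨a0, rfl⟩ := hπ b
  let U : Submodule k A := gen (k := k) (A := A) a0
  have hU : ∀ (f : A →ₗ[k] k), ∀ u ∈ U, dact f u ∈ U := (isSubcomod_iff U).1 (isSubcomod_gen a0)
  let Lp : (A →ₗ[k] k) →ₗ[k] (Module.End k U) :=
    { toFun := fun f => (dact f).restrict (hU f)
      map_add' := fun f g => LinearMap.ext fun u => Subtype.ext (LinearMap.congr_fun (dact_add f g) u.1)
      map_smul' := fun c f => LinearMap.ext fun u => Subtype.ext (LinearMap.congr_fun (dact_smul c f) u.1) }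
  have hL1 : Lp (counit (R := k) (A := A)) = 1 :=
    LinearMap.ext fun u => Subtype.ext (dact_counit u.1)
  have hLmul : ∀ f g, Lp (toConv f * toConv g).ofConv = Lp f * Lp g := fun f g =>
    LinearMap.ext fun u => Subtype.ext (dact_dact f g u.1).symm
  let P : (B →ₗ[k] k) →ₗ[k] (A →ₗ[k] k) :=
    { toFun := fun f => f ∘ₗ π.toLinearMap
      map_add' := fun _ _ => rfl
      map_smul' := fun _ _ => rfl }
  have hPmul : ∀ f g : B →ₗ[k] k,
      (toConv (P f) * toConv (P g)).ofConv = P (toConv f * toConv g).ofConv := fun f g =>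
    (LinearMap.convMul_comp_coalgHom_distrib (toConv f) (toConv g) π).symm
  have hP1 : P (counit (R := k) (A := B)) = counit (R := k) (A := A) := π.counit_comp
  let SA : Subalgebra k (Module.End k U) :=
    (LinearMap.range Lp).toSubalgebra ⟨_, hL1⟩ (by
      rintro _ _ ⟨f, rfl⟩ ⟨g, rfl⟩; exact ⟨_, hLmul f g⟩)
  let SB : Subalgebra k (Module.End k U) :=
    (LinearMap.range (Lp ∘ₗ P)).toSubalgebra ⟨counit, by simp [hP1, hL1]⟩ (by
      rintro _ _ ⟨f, rfl⟩ ⟨g, rfl⟩
      exact ⟨_, (congrArg Lp (hPmul f g)).symm.trans (hLmul _ _)⟩)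
  have hle : SB ≤ SA := by rintro _ ⟨f, rfl⟩; exact ⟨P f, rfl⟩
  letI : CommRing SA := endCommRing SA fun ⟨_, f, hf⟩ ⟨_, g, hg⟩ => by
    subst hf hg
    refine Subtype.ext ?_
    show Lp f * Lp g = Lp g * Lp f
    rw [← hLmul, ← hLmul, conv_comm]
  letI : CommRing SB := endCommRing SB fun x y => (Subalgebra.inclusion_injective hle) (by
    rw [map_mul, map_mul, mul_comm])
  have hval : ∀ f : B →ₗ[k] k, Lp (P f) = 0 → f (π a0) = 0 := fun f hf => by
    have h := congrArg (fun e : (Module.End k U) => counit (R := k) (e ⟨a0, mem_gen a0⟩).1) hf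
    simp only [LinearMap.zero_apply, ZeroMemClass.coe_zero, map_zero] at h
    rw [← h]
    show f (π a0) = counit (R := k) (dact (P f) a0)
    rw [dact_apply]
    show _ = counit (R := k) (rc (P f) (comul (R := k) a0))
    rw [← convMul_eq_rc]
    have e1 : toConv (counit (R := k) (A := A)) = 1 := by
      apply WithConv.ofConv_injective; ext a; simp [LinearMap.convOne_def]
    rw [e1, one_mul]
    rfl
  choose σ hσ using fun x : SB => (x.2 : (x : (Module.End k U)) ∈ LinearMap.range (Lp ∘ₗ P))
  have hwd : ∀ (x : SB) (f : B →ₗ[k] k), Lp (P f) = x → σ x (π a0) = f (π a0) := fun x f hf =>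
    sub_eq_zero.1 (hval (σ x - f) (by rw [map_sub, map_sub, hf, ← hσ x]; exact sub_self _))
  let χ : SB →ₐ[k] k :=
    { toFun := fun x => σ x (π a0)
      map_one' := by rw [hwd 1 counit (by rw [hP1, hL1]; rfl)]; exact hb.counit_eq_one
      map_mul' := fun x y => by
        rw [hwd (x * y) (toConv (σ x) * toConv (σ y)).ofConv (by
          rw [← hPmul, hLmul, MulMemClass.coe_mul, ← hσ x, ← hσ y]; rfl)]
        rw [convMul_eq_rc, hb.comul_eq_tmul_self, rc_tmul, map_smul, smul_eq_mul, mul_comm]
      map_zero' := by rw [hwd 0 0 (by simp)]; rfl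
      map_add' := fun x y => by
        rw [hwd (x + y) (σ x + σ y) (by
          rw [map_add, map_add, AddMemClass.coe_add, ← hσ x, ← hσ y]; rfl)]
        rfl
      commutes' := fun c => by
        rw [hwd _ (c • counit) (by rw [map_smul, map_smul, hP1, hL1]; exact (Algebra.algebraMap_eq_smul_one c).symm)]
        simp [hb.counit_eq_one] }
  letI : Algebra SB SA := (Subalgebra.inclusion hle).toRingHom.toAlgebra
  haveI : IsScalarTower k SB SA := IsScalarTower.of_algebraMap_eq fun c => rfl
  haveI : Algebra.IsIntegral SB SA := Algebra.IsIntegral.tower_top k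
  haveI hM : (RingHom.ker χ).IsMaximal := RingHom.ker_isMaximal_of_surjective χ fun c =>
    ⟨algebraMap k SB c, χ.commutes c⟩
  obtain ⟨N, hN, hNc⟩ := Ideal.exists_ideal_over_maximal_of_isIntegral (S := SA) (RingHom.ker χ) (by
    intro x hx
    rw [RingHom.mem_ker] at hx ⊢
    have : x = 0 := Subalgebra.inclusion_injective hle (by rw [map_zero]; exact hx)
    rw [this, map_zero])
  haveI := hN
  let L := SA ⧸ N
  letI fL : Field L := Ideal.Quotient.field N
  haveI finL : Module.Finite k L := inferInstance
  let χ' : SA →ₐ[k] L := Ideal.Quotient.mkₐ k N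
  have hχ' : ∀ x : SB, χ' (algebraMap SB SA x) = algebraMap k L (χ x) := fun x => by
    have h1 : x - algebraMap k SB (χ x) ∈ RingHom.ker χ := by simp [RingHom.mem_ker]
    rw [← hNc, Ideal.mem_comap, map_sub, ← IsScalarTower.algebraMap_apply] at h1
    have h2 : χ' (algebraMap SB SA x - algebraMap k SA (χ x)) = 0 := by
      simp only [χ', Ideal.Quotient.mkₐ_eq_mk]
      exact Ideal.Quotient.eq_zero_iff_mem.2 h1
    rwa [map_sub, AlgHom.commutes, sub_eq_zero] at h2
  let L' : (A →ₗ[k] k) →ₗ[k] SA := Lp.codRestrict (Subalgebra.toSubmodule SA) fun f => ⟨f, rfl⟩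
  let θ : (A →ₗ[k] k) →ₗ[k] L := χ'.toLinearMap ∘ₗ L'
  have hθ1 : θ (counit (R := k) (A := A)) = 1 := by
    show χ' _ = 1
    rw [show L' counit = 1 from Subtype.ext hL1, map_one]
  have hθm : ∀ f g, θ (toConv f * toConv g).ofConv = θ f * θ g := fun f g => by
    show χ' _ = χ' _ * χ' _
    rw [← map_mul]
    exact congrArg χ' (Subtype.ext (hLmul f g))
  obtain ⟨Φ, hΦ⟩ := LinearMap.exists_extend (p := Subalgebra.toSubmodule SA) χ'.toLinearMap
  let e := Module.finBasis k U
  choose φ hφ using fun i => LinearMap.exists_extend (e.coord i)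
  let c : Fin (Module.finrank k U) → Fin (Module.finrank k U) → A := fun i j =>
    TensorProduct.lid k A ((φ i).rTensor A (comul (R := k) (e j).1))
  have hc : ∀ (f : A →ₗ[k] k) i j, f (c i j) = e.repr (Lp f (e j)) i := fun f i j => by
    have : e.repr (Lp f (e j)) i = φ i (dact f (e j).1) := by
      rw [← Module.Basis.coord_apply, ← hφ i]; rfl
    rw [this, dact_apply]
    show f (TensorProduct.lid k A ((φ i).rTensor A (comul (R := k) (e j).1))) = φ i (rc f (comul (R := k) (e j).1))
    generalize comul (R := k) (e j).1 = y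
    induction y with
    | zero => simp
    | tmul p q => simp [mul_comm]
    | add p q hp hq => simp [map_add, hp, hq]
  let E : Fin (Module.finrank k U) → Fin (Module.finrank k U) → (Module.End k U) := fun i j =>
    (e.coord j).smulRight (e i)
  let aL : A ⊗[k] L := ∑ i, ∑ j, c i j ⊗ₜ[k] Φ (E i j)
  have ha : ∀ f, TensorProduct.lid k L (f.rTensor L aL) = θ f := fun f => by
    have h1 : θ f = Φ (Lp f) := (LinearMap.congr_fun hΦ (L' f)).symm
    have h2 : Lp f = ∑ i, ∑ j, e.repr (Lp f (e j)) i • E i j := e.ext fun l => by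
      simp only [LinearMap.sum_apply, LinearMap.smul_apply, E, LinearMap.smulRight_apply,
        Module.Basis.coord_apply, Module.Basis.repr_self, Finsupp.single_apply]
      simp [e.sum_repr]
    rw [h1]
    conv_rhs => rw [h2]
    simp only [map_sum, map_smul, aL, LinearMap.rTensor_tmul, TensorProduct.lid_tmul, hc]
  refine ⟨L, fL, inferInstance, finL, aL, (ha _).trans hθ1, fun f g => by rw [ha, ha, ha, hθm],
    fun f => ?_⟩
  rw [show f ∘ₗ π.toLinearMap = P f from rfl, ha]
  let x : SB := ⟨Lp (P f), f, rfl⟩
  show χ' (L' (P f)) = algebraMap k L (f (π a0))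
  rw [show L' (P f) = algebraMap SB SA x from rfl, hχ' x]
  congr 1
  exact hwd x f rfl

/-- A positive power of a group-like element lifts. -/
theorem exists_pow_lift (π : A →ₐc[k] B) (hπ : Function.Surjective π) {b : B}
    (hb : IsGroupLikeElem k b) :
    ∃ (m : ℕ) (a : A), 0 < m ∧ IsGroupLikeElem k a ∧ π a = b ^ m := by
  classical
  obtain ⟨L, fL, aL', finL, aL, h1, hm, hπe⟩ := exists_lift_ext π.toCoalgHom hπ hb
  have hgl : Algebra.TensorProduct.map (Bialgebra.comulAlgHom k A) (AlgHom.id k L) aL =
      Algebra.TensorProduct.map (Algebra.TensorProduct.includeLeft : A →ₐ[k] A ⊗[k] A) (AlgHom.id k L) aL *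
        Algebra.TensorProduct.map Algebra.TensorProduct.includeRight (AlgHom.id k L) aL :=
    eq_of_ev2 fun f g => by rw [ev2_mul, ev2_comul]; exact hm f g
  have hε : Algebra.TensorProduct.map (Bialgebra.counitAlgHom k A) (AlgHom.id k L) aL = 1 := by
    refine (TensorProduct.lid k L).injective ?_
    refine Eq.trans ?_ (h1.trans (by simp [Algebra.TensorProduct.one_def]))
    rfl
  have hπa : Algebra.TensorProduct.map (π : A →ₐ[k] B) (AlgHom.id k L) aL =
      algebraMap B (B ⊗[k] L) b := by
    refine (TensorProduct.comm k B L).injective (eq_of_rc fun f => ?_)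
    have hl : ∀ z : A ⊗[k] L,
        rc f (TensorProduct.comm k B L (Algebra.TensorProduct.map (π : A →ₐ[k] B) (AlgHom.id k L) z)) =
          TensorProduct.lid k L ((f ∘ₗ π.toCoalgHom.toLinearMap).rTensor L z) := fun z => by
      induction z with
      | zero => simp
      | add p q hp hq => simp only [map_add, hp, hq]
      | tmul a l => simp; rfl
    rw [hl, hπe f]
    show _ = rc f (TensorProduct.comm k B L (b ⊗ₜ[k] (1 : L)))
    rw [TensorProduct.comm_tmul, rc_tmul, ← Algebra.algebraMap_eq_smul_one]
  refine ⟨Module.finrank k L, Algebra.norm A aL, Module.finrank_pos, ⟨?_, ?_⟩, ?_⟩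
  · show Bialgebra.counitAlgHom k A (Algebra.norm A aL) = 1
    rw [map_norm, hε, map_one]
  · show Bialgebra.comulAlgHom k A (Algebra.norm A aL) = _
    rw [map_norm, hgl, map_mul, ← map_norm, ← map_norm]
    simp
  · show (π : A →ₐ[k] B) (Algebra.norm A aL) = _
    rw [map_norm, hπa, Algebra.norm_algebraMap_of_basis
      (Algebra.TensorProduct.basis B (Module.finBasis k L)), Fintype.card_fin]

end Lift

end Groth.Agent.Hopf35.GL
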