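import Groth.Agent.AlgGrp79.Image
import Groth.Agent.AlgGrp79.KernelPts
import Groth.Agent.FBase64.PointCmp
import Mathlib.AlgebraicGeometry.Group.Smooth
import Mathlib.AlgebraicGeometry.Morphisms.Flat

/-!
helper35: the kernel of a homomorphism with a scheme-theoretic section.
-/

set_option autoImplicit false

universe u

open CategoryTheory MonoidalCategory CartesianMonoidalCategory MonObj GrpObj AlgebraicGeometry
open CategoryTheory.Limits

noncomputable section

namespace Groth.Agent.Hopf35.Uni

variable {k : Type u} [Field k] [IsAlgClosed k]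

theorem smooth_of_reduced_grp (N : Over (Spec (CommRingCat.of k))) [GrpObj N]
    [LocallyOfFiniteType N.hom] [IsReduced N.left] : Smooth N.hom := by
  have : IsIso (Spec.map (CommRingCat.ofHom (algebraMap k k))) :=
    inferInstanceAs (IsIso (Spec.map (𝟙 (CommRingCat.of k))))
  have : IsIso (pullback.fst N.hom (Spec.map (CommRingCat.ofHom (algebraMap k k)))) :=
    MorphismProperty.pullback_fst (P := MorphismProperty.isomorphisms Scheme.{u}) _ _
      ‹IsIso (Spec.map (CommRingCat.ofHom (algebraMap k k)))›
  have : IsReduced (FBase.bc N.hom k) :=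
    @isReduced_of_isOpenImmersion _ _ (pullback.fst N.hom (Spec.map (CommRingCat.ofHom (algebraMap k k))))
      (@IsOpenImmersion.of_isIso _ _ _ this) _
  have : GeometricallyReduced N.hom := FBase64.geometricallyReduced_of_isReduced_perfect N.hom k
  exact @AlgebraicGeometry.smooth_of_grpObj k _ N.left N.hom _ ‹GrpObj N› _

variable {P G : Over (Spec (CommRingCat.of k))} [GrpObj P] [GrpObj G]

/-- The kernel of a split surjection. -/
theorem exists_kernel_split [IsAffine P.left] [IsAffine G.left] [LocallyOfFiniteType P.hom]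
    [IsReduced P.left] [ConnectedSpace ↥P.left]
    (q : P ⟶ G) [IsMonHom q] (s : G ⟶ P) (hs : s ≫ q = 𝟙 G) :
    ∃ (N : Over (Spec (CommRingCat.of k))) (_ : GrpObj N) (i : N ⟶ P),
      IsMonHom i ∧ IsClosedImmersion i.left ∧ Smooth N.hom ∧ ConnectedSpace ↥N.left ∧
        Surjective q.left ∧ Flat q.left ∧ AlgGrp.IsKernel i q := by
  obtain ⟨N, i, hker⟩ : ∃ (N : Over (Spec (CommRingCat.of k))) (i : N ⟶ P),
      AlgGrp.IsKernel i q := by
    refine ⟨pullback q η[G], pullback.fst q η[G], ?_⟩
    have h := IsPullback.of_hasPullback q η[G]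
    rwa [toUnit_unique (pullback.snd q η[G]) (toUnit _)] at h
  have : Mono i := AlgGrp79.mono_of_isKernel hker
  have hη : IsClosedImmersion (η[G]).left := by
    have : IsClosedImmersion ((η[G]).left ≫ G.hom) := by
      rw [Over.w]
      exact inferInstanceAs (IsClosedImmersion (𝟙 (Spec (CommRingCat.of k))))
    exact IsClosedImmersion.of_comp (η[G]).left G.hom
  have hi : IsClosedImmersion i.left :=
    MorphismProperty.of_isPullback (hker.map (Over.forget _)).flip hη
  obtain ⟨hN, hhom⟩ := AlgGrp79.exists_grpObj_closed i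
    (AlgGrp79.exists_ker_of_comp_one hker η[P] (by
      rw [IsMonHom.one_hom (f := q), Hom.one_def, toUnit_unique (toUnit (𝟙_ _)) (𝟙 _),
        Category.id_comp]))
    fun T a b => AlgGrp79.exists_ker_of_comp_one hker _ (by
      rw [MonObj.mul_comp, GrpObj.inv_comp, AlgGrp79.isKernel_comp_one hker,
        AlgGrp79.isKernel_comp_one hker, inv_one, _root_.one_mul])
  let c : P ⟶ P := 𝟙 P * (q ≫ s)⁻¹ * (toUnit P ≫ η[G] ≫ s)
  have hc : c ≫ q = 1 := by
    simp only [c, MonObj.mul_comp, GrpObj.inv_comp, Category.assoc, hs, Category.id_comp,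
      Category.comp_id, mul_inv_cancel, _root_.one_mul]
    exact Hom.one_def.symm
  obtain ⟨ρ, hρ⟩ := AlgGrp79.exists_ker_of_comp_one hker c hc
  have hiρ : i ≫ ρ = 𝟙 N := by
    rw [← cancel_mono i, Category.assoc, hρ, Category.id_comp]
    simp only [c, MonObj.comp_mul, GrpObj.comp_inv, Category.comp_id, ← Category.assoc,
      toUnit_unique (i ≫ toUnit P) (toUnit N)]
    rw [show i ≫ q = toUnit N ≫ η[G] from hker.w, inv_mul_cancel_right]
  have hsurj : Function.Surjective ρ.left := fun x => ⟨i.left x, by
    rw [← Scheme.Hom.comp_apply, ← Over.comp_left, hiρ]; rfl⟩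
  have hconn : ConnectedSpace ↥N.left := hsurj.connectedSpace ρ.left.continuous
  have : IsAffine N.left := isAffine_of_isAffineHom i.left
  have : LocallyOfFiniteType N.hom := by rw [← Over.w i]; infer_instance
  have hred : IsReduced N.left := by
    have h1 : Function.Injective ρ.left.appTop.hom := by
      intro a b hab
      have e : ∀ z, i.left.appTop.hom (ρ.left.appTop.hom z) = z := fun z => by
        rw [← CommRingCat.comp_apply, ← Scheme.Hom.comp_appTop, ← Over.comp_left, hiρ]
        rfl
      rw [← e a, ← e b, hab]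
    have : _root_.IsReduced Γ(N.left, ⊤) := isReduced_of_injective ρ.left.appTop.hom h1
    exact isReduced_of_isOpenImmersion N.left.isoSpec.hom
  have hsm : Smooth N.hom := smooth_of_reduced_grp N
  have hqs : Surjective q.left := ⟨fun x => ⟨s.left x, by
    rw [← Scheme.Hom.comp_apply, ← Over.comp_left, hs]; rfl⟩⟩
  have hflat : Flat q.left := by
    let e : P ⟶ N ⊗ G := lift ρ q
    let t : N ⊗ G ⟶ P :=
      (fst N G ≫ i) * (toUnit (N ⊗ G) ≫ η[G] ≫ s)⁻¹ * (snd N G ≫ s)
    have h1 : e ≫ t = 𝟙 P := by
      simp only [e, t, MonObj.comp_mul, GrpObj.comp_inv, lift_fst_assoc, lift_snd_assoc, hρ]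
      rw [← Category.assoc (lift ρ q) (toUnit (N ⊗ G)) (η[G] ≫ s),
        toUnit_unique (lift ρ q ≫ toUnit (N ⊗ G)) (toUnit P)]
      simp only [c]
      group
    have h2 : t ≫ q = snd N G := by
      simp only [t, MonObj.mul_comp, GrpObj.inv_comp, Category.assoc, hs, Category.comp_id,
        hker.w]
      rw [← Category.assoc, toUnit_unique (fst N G ≫ toUnit N) (toUnit _), ← Hom.one_def]
      simp
    have h3 : t ≫ e = 𝟙 _ := by
      refine CartesianMonoidalCategory.hom_ext _ _ ?_ ?_
      · rw [Category.assoc, lift_fst, Category.id_comp, ← cancel_mono i, Category.assoc, hρ]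
        simp only [c, MonObj.comp_mul, GrpObj.comp_inv, Category.comp_id, ← Category.assoc, h2,
          toUnit_unique (t ≫ toUnit P) (toUnit (N ⊗ G))]
        simp only [t, ← Category.assoc]
        group
      · rw [Category.assoc, lift_snd, Category.id_comp, h2]
    have : IsIso e := ⟨t, h1, h3⟩
    have : IsIso e.left := ((Over.forget _).mapIso (asIso e)).isIso_hom
    have : Flat (snd N G).left := by
      show Flat (pullback.snd N.hom G.hom)
      infer_instance
    rw [← lift_snd ρ q, Over.comp_left]
    infer_instance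
  exact ⟨N, hN, i, hhom, hi, hsm, hconn, hqs, hflat, hker⟩

end Groth.Agent.Hopf35.Uni
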