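import Mathlib
import Groth.Agent.S17325

/-!
Invariant derivations of a commutative Hopf algebra over a field, and finite local ones.
-/

universe u v

open TensorProduct Coalgebra

namespace Groth.Agent.Hopf35.Loc

variable (k : Type u) [Field k] {A : Type v} [CommRing A] [HopfAlgebra k A]

/-- `ξ` is a derivation at the counit. -/
def IsPtDer (ξ : A →ₗ[k] k) : Prop :=
  ∀ a b, ξ (a * b) = counit (R := k) a * ξ b + counit (R := k) b * ξ a

/-- The convolution operator of a linear form. -/
noncomputable def op (ξ : A →ₗ[k] k) : Module.End k A :=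
  (TensorProduct.rid k A).toLinearMap ∘ₗ ξ.lTensor A ∘ₗ comul

theorem counit_op (ξ : A →ₗ[k] k) (a : A) : counit (R := k) (op k ξ a) = ξ a := by
  have : ∀ t : A ⊗[k] A, counit (R := k) (TensorProduct.rid k A (ξ.lTensor A t)) =
      ξ (TensorProduct.lid k A ((counit (R := k) (A := A)).rTensor A t)) := by
    intro t
    induction t using TensorProduct.induction_on with
    | zero => simp
    | add p q hp hq => simp only [map_add, hp, hq]
    | tmul b c => simp [mul_comm]
  simp only [op, LinearMap.comp_apply, LinearEquiv.coe_coe]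
  rw [this, Coalgebra.rTensor_counit_comul]
  simp

theorem op_injective : Function.Injective (op k : (A →ₗ[k] k) → Module.End k A) := fun f g h => by
  ext a; rw [← counit_op k f, ← counit_op k g, h]

theorem op_mul (ξ η : A →ₗ[k] k) :
    op k ξ * op k η = op k (LinearMap.mul' k k ∘ₗ TensorProduct.map ξ η ∘ₗ comul) := by
  ext a
  simp only [Module.End.mul_apply, op, LinearMap.comp_apply, LinearEquiv.coe_coe]
  rw [LinearMap.lTensor_comp_apply, LinearMap.lTensor_comp_apply, ← Coalgebra.coassoc_apply]
  generalize comul (R := k) a = t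
  induction t using TensorProduct.induction_on with
  | zero => simp
  | add x y hx hy => simp only [map_add, hx, hy]
  | tmul n b =>
    simp only [LinearMap.rTensor_tmul, LinearMap.lTensor_tmul, TensorProduct.rid_tmul, map_smul]
    generalize comul (R := k) n = s
    induction s using TensorProduct.induction_on with
    | zero => simp
    | add x y hx hy => simp only [map_add, add_tmul, smul_add, hx, hy]
    | tmul m c => simp [smul_smul, mul_comm]

theorem op_counit : op k (counit (R := k) (A := A)) = 1 := by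
  ext a
  simp [op, Coalgebra.lTensor_counit_comul]

theorem exists_op_pow (ξ : A →ₗ[k] k) (n : ℕ) : ∃ η : A →ₗ[k] k, op k ξ ^ n = op k η := by
  induction n with
  | zero => exact ⟨_, by rw [pow_zero, op_counit]⟩
  | succ n ih =>
    obtain ⟨η, h⟩ := ih
    exact ⟨_, by rw [pow_succ, h, op_mul]⟩

variable {k}

theorem op_leibniz {ξ : A →ₗ[k] k} (hξ : IsPtDer k ξ) (a b : A) :
    op k ξ (a * b) = a * op k ξ b + b * op k ξ a := by
  have key : ∀ s t : A ⊗[k] A, TensorProduct.rid k A (ξ.lTensor A (s * t)) =
      TensorProduct.rid k A ((counit (R := k) (A := A)).lTensor A s) * TensorProduct.rid k A (ξ.lTensor A t) +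
      TensorProduct.rid k A ((counit (R := k) (A := A)).lTensor A t) * TensorProduct.rid k A (ξ.lTensor A s) := by
    intro s t
    induction s using TensorProduct.induction_on with
    | zero => simp
    | add p q hp hq => simp only [add_mul, map_add, mul_add, hp, hq]; ring
    | tmul p q =>
      induction t using TensorProduct.induction_on with
      | zero => simp
      | add s t hs ht => simp only [mul_add, map_add, add_mul, hs, ht]; ring
      | tmul c d =>
        simp only [Algebra.TensorProduct.tmul_mul_tmul, LinearMap.lTensor_tmul, TensorProduct.rid_tmul, hξ q d, add_smul, mul_smul]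
        simp only [smul_mul_assoc, mul_smul_comm, mul_comm p c]
        module
  simp only [op, LinearMap.comp_apply, LinearEquiv.coe_coe, Bialgebra.comul_mul]
  rw [key, Coalgebra.lTensor_counit_comul, Coalgebra.lTensor_counit_comul]
  simp

/-- The invariant derivation. -/
noncomputable def der {ξ : A →ₗ[k] k} (hξ : IsPtDer k ξ) : Derivation k A A :=
  Derivation.mk' (op k ξ) fun a b => op_leibniz hξ a b

theorem der_apply {ξ : A →ₗ[k] k} (hξ : IsPtDer k ξ) (a : A) : der hξ a = op k ξ a := rfl

variable (k)

/-- The span of invariant derivations. -/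
noncomputable def lieSub : Submodule k (Module.End k A) where
  carrier := {T | ∃ ξ, IsPtDer k ξ ∧ op k ξ = T}
  add_mem' := by
    rintro _ _ ⟨ξ, hξ, rfl⟩ ⟨η, hη, rfl⟩
    refine ⟨ξ + η, fun a b => by simp [hξ a b, hη a b]; ring, ?_⟩
    simp [op, LinearMap.lTensor_add, LinearMap.add_comp, LinearMap.comp_add]
  zero_mem' := ⟨0, fun a b => by simp, by simp [op]⟩
  smul_mem' := by
    rintro c _ ⟨ξ, hξ, rfl⟩
    refine ⟨c • ξ, fun a b => by simp [hξ a b]; ring, ?_⟩
    simp [op, LinearMap.lTensor_smul, LinearMap.smul_comp, LinearMap.comp_smul]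

theorem lieSub_pow_mem (ℓ : ℕ) [Fact ℓ.Prime] [CharP k ℓ] {T : Module.End k A} (hT : T ∈ lieSub k) :
    T ^ ℓ ∈ lieSub k := by
  obtain ⟨ξ, hξ, rfl⟩ := hT
  obtain ⟨η, hη⟩ := exists_op_pow k ξ ℓ
  refine ⟨η, fun a b => ?_, hη.symm⟩
  haveI : Nontrivial A := Bialgebra.nontrivial (R := k) (A := A)
  haveI : Nontrivial (A ⊗[k] A) := Bialgebra.nontrivial (R := k) (A := A ⊗[k] A)
  haveI : CharP (Module.End k (A ⊗[k] A)) ℓ := charP_of_injective_algebraMap (algebraMap k _).injective ℓ
  set D := op k ξ
  let L : Module.End k (A ⊗[k] A) := D.rTensor A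
  let R : Module.End k (A ⊗[k] A) := D.lTensor A
  have hc : Commute L R := TensorProduct.ext' fun x y => rfl
  have hμ : ∀ n, (D ^ n) ∘ₗ LinearMap.mul' k A = LinearMap.mul' k A ∘ₗ ((L + R) ^ n) := by
    intro n
    induction n with
    | zero => rfl
    | succ n ih =>
      have h1 : D ∘ₗ LinearMap.mul' k A = LinearMap.mul' k A ∘ₗ (L + R) := TensorProduct.ext' fun x y => by
        simp [D, L, R, op_leibniz hξ x y, mul_comm, add_comm]
      rw [pow_succ, pow_succ, Module.End.mul_eq_comp, Module.End.mul_eq_comp, LinearMap.comp_assoc, h1, ← LinearMap.comp_assoc, ih, LinearMap.comp_assoc]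
  have h2 := LinearMap.congr_fun (hμ ℓ) (a ⊗ₜ b)
  have h3 : L ^ ℓ = (D ^ ℓ).rTensor A := LinearMap.rTensor_pow (M := A) D ℓ
  have h4 : R ^ ℓ = (D ^ ℓ).lTensor A := LinearMap.lTensor_pow (M := A) D ℓ
  rw [add_pow_char_of_commute ℓ hc, h3, h4] at h2
  rw [← counit_op k η, ← counit_op k η, ← counit_op k η, ← hη]
  simp only [LinearMap.comp_apply, LinearMap.mul'_apply, LinearMap.add_apply, LinearMap.rTensor_tmul, LinearMap.lTensor_tmul, map_add] at h2
  rw [h2]
  simp only [map_add, Bialgebra.counit_mul]
  ring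

section Local

variable [FiniteDimensional k A] [IsLocalRing A]

theorem maximalIdeal_eq_ker : IsLocalRing.maximalIdeal A = RingHom.ker (Bialgebra.counitAlgHom k A) :=
  (IsLocalRing.eq_maximalIdeal (RingHom.ker_isMaximal_of_surjective _ fun r => ⟨algebraMap k A r, by simp⟩)).symm

theorem mem_maximalIdeal_iff {a : A} : a ∈ IsLocalRing.maximalIdeal A ↔ counit (R := k) a = 0 := by
  rw [maximalIdeal_eq_ker k, RingHom.mem_ker, Bialgebra.counitAlgHom_apply]

theorem isUnit_iff {a : A} : IsUnit a ↔ counit (R := k) a ≠ 0 := by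
  rw [Ne, ← mem_maximalIdeal_iff k, IsLocalRing.mem_maximalIdeal, mem_nonunits_iff, not_not]

include k in
theorem isNilpotent_maximalIdeal : IsNilpotent (IsLocalRing.maximalIdeal A) := by
  haveI : IsArtinianRing A := IsArtinianRing.of_finite k A
  rw [← IsLocalRing.jacobson_eq_maximalIdeal ⊥ bot_ne_top]
  exact IsArtinianRing.isNilpotent_jacobson_bot

variable {k}

theorem op_iterate_mem {ξ : A →ₗ[k] k} (hξ : IsPtDer k ξ) :
    ∀ (j i : ℕ), j ≤ i → ∀ a ∈ IsLocalRing.maximalIdeal A ^ i,
      (op k ξ ^ j) a ∈ IsLocalRing.maximalIdeal A ^ (i - j) := by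
  set m := IsLocalRing.maximalIdeal A
  have step : ∀ i, ∀ a ∈ m ^ (i + 1), op k ξ a ∈ m ^ i := by
    intro i
    induction i with
    | zero => intro a _; simp
    | succ i ih =>
      intro a ha
      rw [pow_succ] at ha
      induction ha using Submodule.mul_induction_on' with
      | mem_mul_mem b hb c hc =>
        rw [op_leibniz hξ]
        refine add_mem (Ideal.mul_mem_right _ _ hb) ?_
        rw [pow_succ, mul_comm c]
        exact Ideal.mul_mem_mul (ih b hb) hc
      | add b _ c _ hb hc => rw [map_add]; exact add_mem hb hc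
  intro j
  induction j with
  | zero => intro i _ a ha; simpa using ha
  | succ j ih =>
    intro i hij a ha
    rw [pow_succ, Module.End.mul_apply]
    have h := ih (i - 1) (by omega) (op k ξ a) (step (i - 1) a (by rwa [Nat.sub_add_cancel (by omega)]))
    rwa [show i - 1 - j = i - (j + 1) by omega] at h

theorem counit_op_iterate_pow {ξ : A →ₗ[k] k} (hξ : IsPtDer k ξ) {x : A} (hx : counit (R := k) x = 0)
    (hξx : ξ x = 1) (i : ℕ) : counit (R := k) ((op k ξ ^ i) (x ^ i)) = i.factorial := by
  induction i with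
  | zero => simp
  | succ i ih =>
    rw [pow_succ, Module.End.mul_apply, ← der_apply hξ, Derivation.leibniz_pow, Nat.add_sub_cancel, map_nsmul, map_nsmul]
    have hd : der hξ x = 1 + (der hξ x - 1) := by ring
    rw [smul_eq_mul, hd, mul_add, mul_one, map_add, map_add, ih]
    have ht : der hξ x - 1 ∈ IsLocalRing.maximalIdeal A := by
      rw [mem_maximalIdeal_iff k, map_sub, der_apply, counit_op, hξx, Bialgebra.counit_one, sub_self]
    have h2 := op_iterate_mem hξ i (i + 1) (by omega) (x ^ i * (der hξ x - 1)) (by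
      rw [pow_succ]
      exact Ideal.mul_mem_mul (Ideal.pow_mem_pow ((mem_maximalIdeal_iff k).mpr hx) i) ht)
    rw [Nat.add_sub_cancel_left, pow_one, mem_maximalIdeal_iff k] at h2
    rw [h2, add_zero, Nat.factorial_succ, nsmul_eq_mul]
    push_cast
    ring

theorem counit_op_iterate_pow_of_lt {ξ : A →ₗ[k] k} (hξ : IsPtDer k ξ) {x : A} (hx : counit (R := k) x = 0)
    {j i : ℕ} (hji : j < i) : counit (R := k) ((op k ξ ^ j) (x ^ i)) = 0 := by
  rw [← mem_maximalIdeal_iff k]
  exact Ideal.pow_le_self (by omega) (op_iterate_mem hξ j i hji.le _ (Ideal.pow_mem_pow ((mem_maximalIdeal_iff k).mpr hx) i))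

/-- `x ^ i`, `i < n`, are independent while `(n - 1)!` is invertible. -/
theorem linearIndependent_pow {ξ : A →ₗ[k] k} (hξ : IsPtDer k ξ) {x : A} (hx : counit (R := k) x = 0)
    (hξx : ξ x = 1) {n : ℕ} (hn : ∀ i < n, (i.factorial : k) ≠ 0) :
    LinearIndependent k (fun i : Fin n => x ^ (i : ℕ)) := by
  rw [Fintype.linearIndependent_iff]
  classical
  intro c hc
  by_contra hne
  push Not at hne
  obtain ⟨i0, hi0⟩ := hne
  let s := Finset.univ.filter fun i : Fin n => c i ≠ 0
  obtain ⟨j, hj, hmin⟩ := s.exists_min_image (fun i => (i : ℕ)) ⟨i0, by simp [s, hi0]⟩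
  have h := congrArg (fun t => counit (R := k) ((op k ξ ^ (j : ℕ)) t)) hc
  simp only [map_sum, map_smul, map_zero] at h
  rw [Finset.sum_eq_single j] at h
  · rw [counit_op_iterate_pow hξ hx hξx, smul_eq_mul, mul_eq_zero] at h
    exact (Finset.mem_filter.mp hj).2 (h.resolve_right (hn j j.2))
  · intro i _ hij
    rcases lt_or_gt_of_ne (fun e => hij (Fin.ext e) : (i : ℕ) ≠ j) with h' | h'
    · have : c i = 0 := by
        by_contra hci
        have := hmin i (by simp [s, hci])
        omega
      rw [this, zero_smul]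
    · rw [counit_op_iterate_pow_of_lt hξ hx h', smul_zero]
  · simp

variable (k)

theorem exists_ptDer (hA : IsLocalRing.maximalIdeal A ≠ ⊥) :
    ∃ (ξ : A →ₗ[k] k) (x : A), IsPtDer k ξ ∧ counit (R := k) x = 0 ∧ ξ x = 1 := by
  set m := IsLocalRing.maximalIdeal A with hm
  have hne : ¬ m ≤ m ^ 2 := by
    intro h
    apply hA
    obtain ⟨N, hN⟩ := isNilpotent_maximalIdeal k (A := A)
    have : ∀ n, m ≤ m ^ (n + 1) := by
      intro n
      induction n with
      | zero => simp
      | succ n ih =>
        calc m ≤ m ^ 2 := h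
          _ = m * m := pow_two m
          _ ≤ m ^ (n + 1) * m := Ideal.mul_mono_left ih
          _ = m ^ (n + 1 + 1) := (pow_succ m (n + 1)).symm
    exact le_bot_iff.mp ((this N).trans (by rw [pow_succ, hN]; simp))
  obtain ⟨x, hx, hx2⟩ := SetLike.not_le_iff_exists.mp hne
  rw [hm, mem_maximalIdeal_iff k] at hx
  let W : Submodule k A := Submodule.span k {(1 : A)} ⊔ (m ^ 2).restrictScalars k
  have hxW : x ∉ W := by
    intro h
    obtain ⟨y, hy, z, hz, e⟩ := Submodule.mem_sup.mp h
    obtain ⟨c, rfl⟩ := Submodule.mem_span_singleton.mp hy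
    have hz0 : counit (R := k) z = 0 := (mem_maximalIdeal_iff k).mp (Ideal.pow_le_self two_ne_zero hz)
    have h2 := congrArg (counit (R := k)) e
    simp [hz0, hx] at h2
    rw [h2, zero_smul, zero_add] at e
    exact hx2 (e ▸ hz)
  obtain ⟨φ, hφx, hφW⟩ := Submodule.exists_dual_map_eq_bot_of_notMem hxW inferInstance
  have hW : ∀ w ∈ W, φ w = 0 := fun w hw => by
    have : φ w ∈ W.map φ := ⟨w, hw, rfl⟩
    rwa [hφW] at this
  let ξ : A →ₗ[k] k := (φ x)⁻¹ • φ
  refine ⟨ξ, x, fun a b => ?_, hx, by simp [ξ, inv_mul_cancel₀ hφx]⟩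
  have hab : (a - counit (R := k) a • 1) * (b - counit (R := k) b • 1) ∈ m ^ 2 := by
    rw [pow_two]
    exact Ideal.mul_mem_mul ((mem_maximalIdeal_iff k).mpr (by simp)) ((mem_maximalIdeal_iff k).mpr (by simp))
  have h0 : ξ ((a - counit (R := k) a • 1) * (b - counit (R := k) b • 1)) = 0 := by
    simp [ξ, hW _ (Submodule.mem_sup_right hab)]
  have h1 : ξ 1 = 0 := by simp [ξ, hW _ (Submodule.mem_sup_left (Submodule.mem_span_singleton_self 1))]
  simp only [sub_mul, mul_sub, smul_mul_assoc, mul_smul_comm, one_mul, mul_one, map_sub, map_smul, h1, smul_eq_mul, smul_sub] at h0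
  linear_combination h0

theorem charZero_eq_one [CharZero k] : Module.finrank k A = 1 := by
  haveI : Nontrivial A := inferInstance
  by_cases hA : IsLocalRing.maximalIdeal A = ⊥
  · refine finrank_eq_one 1 one_ne_zero fun a => ⟨counit (R := k) a, ?_⟩
    have : a - counit (R := k) a • (1 : A) ∈ IsLocalRing.maximalIdeal A := (mem_maximalIdeal_iff k).mpr (by simp)
    rw [hA, Ideal.mem_bot, sub_eq_zero] at this
    exact this.symm
  · obtain ⟨ξ, x, hξ, hx, hξx⟩ := exists_ptDer k hA
    have := (linearIndependent_pow hξ hx hξx (n := Module.finrank k A + 1)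
      fun i _ => Nat.cast_ne_zero.mpr i.factorial_ne_zero).fintype_card_le_finrank
    simp at this

theorem char_dvd_finrank [IsAlgClosed k] (ℓ : ℕ) [Fact ℓ.Prime] [CharP k ℓ]
    (hA : IsLocalRing.maximalIdeal A ≠ ⊥) : ℓ ∣ Module.finrank k A := by
  classical
  have hℓ : ℓ.Prime := Fact.out
  have hg : lieSub k ≠ (⊥ : Submodule k (Module.End k A)) := by
    intro h
    obtain ⟨ξ, x, hξ, hx, hξx⟩ := exists_ptDer k hA
    have : op k ξ ∈ lieSub k := ⟨ξ, hξ, rfl⟩
    rw [h, Submodule.mem_bot] at this
    have := counit_op k ξ x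
    simp_all
  obtain ⟨D, hD, hD0, c, hc⟩ := Groth.Agent.S17325.result k ℓ A (lieSub k) (fun T hT => lieSub_pow_mem k ℓ hT) hg
  obtain ⟨ξ, hξ, rfl⟩ := hD
  set D := op k ξ with hDdef
  obtain ⟨x, hξx, hx⟩ : ∃ x, ξ x = 1 ∧ counit (R := k) x = 0 := by
    obtain ⟨a, ha⟩ : ∃ a, ξ a ≠ 0 := by
      by_contra h; push Not at h
      exact hD0 (by rw [hDdef, show ξ = 0 from LinearMap.ext h]; simp [op])
    have h1 : ξ 1 = 0 := by
      have := hξ 1 1; simp at this; exact this
    exact ⟨(ξ a)⁻¹ • (a - counit (R := k) a • 1), by simp [h1, ha], by simp⟩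
  have hux : IsUnit (D x) := by rw [isUnit_iff k, hDdef, counit_op, hξx]; exact one_ne_zero
  by_cases hc0 : c = 0
  · -- nilpotent case
    rw [hc0, zero_smul] at hc
    set u := (D ^ (ℓ - 1)) (x ^ (ℓ - 1)) with hu
    have huu : IsUnit u := by
      rw [isUnit_iff k, hu, hDdef, counit_op_iterate_pow hξ hx hξx]
      intro h
      rw [CharP.cast_eq_zero_iff k ℓ, hℓ.dvd_factorial] at h
      have := hℓ.pos; omega
    have hDu : D u = 0 := by
      rw [hu, ← Module.End.mul_apply, ← pow_succ', Nat.sub_add_cancel hℓ.one_le, hc]; rfl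
    obtain ⟨uu, huu'⟩ := huu
    have hDi : D (↑uu⁻¹ : A) = 0 := by
      have h := op_leibniz hξ (↑uu⁻¹ : A) u
      rw [← huu', Units.inv_mul, ← hDdef, huu', hDu, mul_zero, zero_add] at h
      have h1 : D 1 = 0 := by
        have := op_leibniz hξ (1 : A) 1
        simp [← hDdef] at this; exact this
      rw [h1, ← huu'] at h
      exact (uu.mul_right_eq_zero).mp h.symm
    let w : A := (↑uu⁻¹ : A) * (D ^ (ℓ - 2)) (x ^ (ℓ - 1))
    have hw : D w = 1 := by
      rw [hDdef, op_leibniz hξ, ← hDdef, hDi, mul_zero, add_zero, ← Module.End.mul_apply, ← pow_succ',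
        show ℓ - 2 + 1 = ℓ - 1 by have := hℓ.two_le; omega, ← hu, ← huu', Units.inv_mul]
    have hint : ∀ j, ∀ a ∈ LinearMap.ker (D ^ j), ∀ i, i + j < ℓ → w ^ i * a ∈ LinearMap.range D := by
      intro j
      induction j with
      | zero => intro a ha i _; simp only [pow_zero, LinearMap.mem_ker, Module.End.one_apply] at ha; simp [ha]
      | succ j ih =>
        intro a ha i hij
        have hi : ((i + 1 : ℕ) : k) ≠ 0 := fun h => by
          rw [CharP.cast_eq_zero_iff k ℓ] at h
          have := Nat.le_of_dvd (by omega) h; omega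
        obtain ⟨b, hb⟩ := ih (D a) (by rw [LinearMap.mem_ker] at ha ⊢; rw [← Module.End.mul_apply, ← pow_succ]; exact ha) (i + 1) (by omega)
        refine ⟨((i + 1 : ℕ) : k)⁻¹ • (w ^ (i + 1) * a - b), ?_⟩
        have hd : D (w ^ (i + 1) * a) = w ^ (i + 1) * D a + a * ((i + 1) • w ^ i) := by
          rw [hDdef, op_leibniz hξ, ← der_apply hξ (w ^ (i + 1)), Derivation.leibniz_pow, Nat.add_sub_cancel, der_apply, ← hDdef, hw, smul_eq_mul, mul_one]
        rw [map_smul, map_sub, hb, hd, add_sub_cancel_left, ← Nat.cast_smul_eq_nsmul k, mul_smul_comm,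
          smul_smul, inv_mul_cancel₀ hi, one_smul, mul_comm]
    have hdim : ∀ j ≤ ℓ, Module.finrank k (LinearMap.ker (D ^ j)) = j * Module.finrank k (LinearMap.ker D) := by
      intro j hj
      induction j with
      | zero =>
        rw [pow_zero, zero_mul, Submodule.finrank_eq_zero]
        exact LinearMap.ker_eq_bot.mpr fun a b h => h
      | succ j ih =>
        have hr := LinearMap.finrank_range_add_finrank_ker (D.domRestrict (LinearMap.ker (D ^ (j + 1))))
        have hrange : LinearMap.range (D.domRestrict (LinearMap.ker (D ^ (j + 1)))) = LinearMap.ker (D ^ j) := by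
          ext a
          constructor
          · rintro ⟨⟨b, hb⟩, rfl⟩
            rw [LinearMap.mem_ker, pow_succ, Module.End.mul_apply] at hb
            exact hb
          · intro ha
            obtain ⟨b, hb⟩ := hint j a ha 0 (by omega)
            rw [pow_zero, one_mul] at hb
            refine ⟨⟨b, ?_⟩, hb⟩
            rw [LinearMap.mem_ker, pow_succ, Module.End.mul_apply, hb]
            exact ha
        have hker : Module.finrank k (LinearMap.ker (D.domRestrict (LinearMap.ker (D ^ (j + 1))))) = Module.finrank k (LinearMap.ker D) := by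
          rw [LinearMap.ker_domRestrict]
          refine LinearEquiv.finrank_eq (Submodule.comapSubtypeEquivOfLe ?_)
          intro a ha
          rw [LinearMap.mem_ker] at ha ⊢
          rw [pow_succ, Module.End.mul_apply, ha, map_zero]
        rw [← hr, hrange, hker, ih (by omega), add_mul, one_mul]
    have := hdim ℓ le_rfl
    rw [hc, LinearMap.ker_zero, finrank_top] at this
    exact ⟨_, this⟩
  · -- semisimple case
    have hder : ∀ (a b : A) (s t : k), D a = s • a → D b = t • b → D (a * b) = (s + t) • (a * b) := by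
      intro a b s t ha hb
      rw [hDdef, op_leibniz hξ, ← hDdef, ha, hb, mul_smul_comm, mul_smul_comm, mul_comm b a, add_smul, add_comm]
    have hsq : Squarefree (Polynomial.X ^ ℓ - Polynomial.C c * Polynomial.X) := by
      refine Polynomial.Separable.squarefree ?_
      show IsCoprime _ (Polynomial.derivative _)
      simp [Polynomial.derivative_X_pow]
      refine IsCoprime.neg_right ?_
      exact ⟨0, Polynomial.C c⁻¹, by simp [← map_mul, inv_mul_cancel₀ hc0]⟩
    have hss : D.IsSemisimple := Module.End.isSemisimple_of_squarefree_aeval_eq_zero hsq (by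
      simp only [map_sub, map_mul, map_pow, Polynomial.aeval_X, Polynomial.aeval_C, hc]
      ext a; simp [Module.algebraMap_end_apply])
    have htop : (⨆ μ : k, D.eigenspace μ) = ⊤ := by
      rw [← Module.End.iSup_maxGenEigenspace_eq_top D]
      exact iSup_congr fun μ => (hss.isFinitelySemisimple.maxGenEigenspace_eq_eigenspace μ).symm
    -- a unit eigenvector with non-zero eigenvalue
    obtain ⟨r, y, hr, hy, hyu⟩ : ∃ (r : k) (y : A), r ≠ 0 ∧ D y = r • y ∧ IsUnit y := by
      have hmem : x ∈ ⨆ μ : k, D.eigenspace μ := by rw [htop]; trivial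
      by_contra hcon
      push Not at hcon
      suffices h : ∀ z ∈ ⨆ μ : k, D.eigenspace μ, ¬ IsUnit (D z) from h x hmem hux
      intro z hz
      induction hz using Submodule.iSup_induction' with
      | mem μ z hz =>
        rw [Module.End.mem_eigenspace_iff] at hz
        intro hu
        rw [hz] at hu
        by_cases hμ : μ = 0
        · subst hμ; rw [zero_smul] at hu; exact not_isUnit_zero hu
        · rw [Algebra.smul_def, IsUnit.mul_iff] at hu
          exact hcon μ z hμ hz hu.2
      | zero => simp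
      | add z1 z2 _ _ h1 h2 =>
        rw [map_add]
        intro hu
        exact (IsLocalRing.isUnit_or_isUnit_of_isUnit_add hu).elim h1 h2
    -- eigenvalues are the multiples of `r`
    have hval : ∀ μ, D.eigenspace μ ≠ ⊥ → μ ^ ℓ = c * μ := by
      intro μ hμ
      obtain ⟨a, ha, ha0⟩ := Submodule.exists_mem_ne_zero_of_ne_bot hμ
      rw [Module.End.mem_eigenspace_iff] at ha
      have h1 : ∀ n, (D ^ n) a = μ ^ n • a := by
        intro n
        induction n with
        | zero => simp
        | succ n ih => rw [pow_succ, Module.End.mul_apply, ha, map_smul, ih, smul_smul, pow_succ, mul_comm]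
      have h2 := h1 ℓ
      rw [hc, LinearMap.smul_apply, ha, smul_smul] at h2
      exact smul_left_injective k ha0 h2.symm
    have hrc : r ^ ℓ = c * r := hval r (fun h => hyu.ne_zero (by
      have : y ∈ D.eigenspace r := Module.End.mem_eigenspace_iff.mpr hy
      rwa [h, Submodule.mem_bot] at this))
    let f : ZMod ℓ → k := fun i => ZMod.castHom dvd_rfl k i * r
    have hfinj : Function.Injective f := fun a b h => ZMod.castHom_injective k (mul_right_cancel₀ hr h)
    have hint : ∀ μ, D.eigenspace μ ≠ ⊥ → μ ∈ Set.range f := by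
      intro μ hμ
      have h1 : (μ / r) ^ ℓ = μ / r := by rw [div_pow, hval μ hμ, hrc, mul_div_mul_left _ _ hc0]
      obtain ⟨i, hi⟩ : μ / r ∈ (ZMod.castHom (dvd_refl ℓ) k).fieldRange := by
        rw [ZMod.fieldRange_castHom_eq_bot ℓ]
        exact (Subfield.mem_bot_iff_pow_eq_self k ℓ).mpr h1
      exact ⟨i, by simp only [f]; rw [hi, div_mul_cancel₀ _ hr]⟩
    have hInt : DirectSum.IsInternal fun i : ZMod ℓ => D.eigenspace (f i) := by
      rw [DirectSum.isInternal_submodule_iff_iSupIndep_and_iSup_eq_top]
      refine ⟨(D.eigenspaces_iSupIndep).comp hfinj, top_le_iff.mp ?_⟩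
      rw [← htop]
      refine iSup_le fun μ => ?_
      by_cases hμ : D.eigenspace μ = ⊥
      · rw [hμ]; exact bot_le
      · obtain ⟨i, rfl⟩ := hint μ hμ
        exact le_iSup (fun i => D.eigenspace (f i)) i
    let dd : ZMod ℓ → ℕ := fun i => Module.finrank k (D.eigenspace (f i))
    have hle : ∀ i, dd i ≤ dd (i + 1) := by
      intro i
      let M : D.eigenspace (f i) →ₗ[k] D.eigenspace (f (i + 1)) :=
        ((LinearMap.mulLeft k y).comp (D.eigenspace (f i)).subtype).codRestrict _ fun a => by
          rw [Module.End.mem_eigenspace_iff]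
          show D (y * a.1) = _
          rw [hder y a.1 r (f i) hy (Module.End.mem_eigenspace_iff.mp a.2)]
          congr 1
          simp only [f, map_add, map_one]; ring
      refine LinearMap.finrank_le_finrank_of_injective (f := M) fun a b h => Subtype.ext ?_
      exact hyu.mul_left_cancel (congrArg Subtype.val h)
    have hall : ∀ i, dd i = dd 0 := by
      have h1 : ∀ (n : ℕ) (i : ZMod ℓ), dd i ≤ dd (i + n) := by
        intro n
        induction n with
        | zero => simp
        | succ n ih => intro i; push_cast; rw [← add_assoc]; exact (ih i).trans (hle _)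
      intro i
      refine le_antisymm ?_ ?_
      · simpa using h1 (-i).val i
      · simpa using h1 i.val 0
    have hfin := LinearEquiv.finrank_eq (LinearEquiv.ofBijective (DirectSum.coeLinearMap _) hInt)
    rw [Module.finrank_directSum] at hfin
    exact ⟨dd 0, by rw [← hfin, Finset.sum_congr rfl fun i _ => hall i]; simp⟩

end Local

end Groth.Agent.Hopf35.Loc
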