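import Groth.Agent.Hopf35.RegDominant
import Groth.Agent.S1561
import Groth.Agent.Var76.GenSmoothScheme
import Mathlib

/-!
helper35: dominance and surjectivity of the differential at a regular closed point.
-/

set_option autoImplicit false
set_option linter.style.haveILetI false

universe u

open CategoryTheory AlgebraicGeometry TopologicalSpace

noncomputable section

namespace Groth.Agent.Hopf35.RegDominant

variable {k : Type u} [Field k] [IsAlgClosed k] {X Y : Scheme.{u}}

theorem surjective_residueFieldMap_of_section (qX : X ⟶ Spec (CommRingCat.of k)) (s : Spec (CommRingCat.of k) ⟶ X)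
    (hs : s ≫ qX = 𝟙 _) (z : Spec (CommRingCat.of k)) : Function.Surjective (qX.residueFieldMap (s z)).hom := by
  have key : ∀ (g : Spec (CommRingCat.of k) ⟶ Spec (CommRingCat.of k)), g = 𝟙 _ →
      ∀ x, Function.Bijective (g.residueFieldMap x).hom := by
    rintro g rfl x
    exact ConcreteCategory.bijective_of_isIso ((𝟙 (Spec (CommRingCat.of k)) : _ ⟶ _).residueFieldMap x)
  have h := key _ hs z
  rw [Scheme.residueFieldMap_comp] at h
  have h2 : Function.Bijective ((s.residueFieldMap z).hom ∘ (qX.residueFieldMap (s z)).hom) := h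
  have hinj : Function.Injective (s.residueFieldMap z).hom := RingHom.injective _
  intro y
  obtain ⟨c, hc⟩ := h2.2 ((s.residueFieldMap z).hom y)
  exact ⟨c, hinj hc⟩

theorem surjective_residueFieldMap (qX : X ⟶ Spec (CommRingCat.of k)) [LocallyOfFiniteType qX] (P : X)
    (hP : IsClosed ({P} : Set X)) : Function.Surjective (qX.residueFieldMap P).hom := by
  have h := surjective_residueFieldMap_of_section qX _ (pointOfClosedPoint_comp qX P hP) (IsLocalRing.closedPoint k)
  exact (pointOfClosedPoint_apply qX P hP (IsLocalRing.closedPoint k)) ▸ h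

theorem surjective_residue_stalkMap (qX : X ⟶ Spec (CommRingCat.of k)) (qY : Y ⟶ Spec (CommRingCat.of k)) (u : X ⟶ Y)
    (hu : u ≫ qY = qX) [LocallyOfFiniteType qX] (P : X) (hP : IsClosed ({P} : Set X)) :
    Function.Surjective ((IsLocalRing.residue (X.presheaf.stalk P)).comp (u.stalkMap P).hom) := by
  subst hu
  have h := surjective_residueFieldMap (u ≫ qY) P hP
  rw [Scheme.residueFieldMap_comp] at h
  have h2 : Function.Surjective (u.residueFieldMap P).hom := Function.Surjective.of_comp h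
  intro c
  obtain ⟨d, hd⟩ := h2 c
  obtain ⟨r, hr⟩ := IsLocalRing.residue_surjective (R := Y.presheaf.stalk (u P)) d
  refine ⟨r, ?_⟩
  have := congrArg (fun f : Y.presheaf.stalk (u P) ⟶ X.residueField P => f.hom r) (Scheme.residue_residueFieldMap u P)
  exact this.symm.trans ((congrArg (u.residueFieldMap P).hom hr).trans hd)

theorem isDominant_of_cotangent (qX : X ⟶ Spec (CommRingCat.of k)) (qY : Y ⟶ Spec (CommRingCat.of k)) (u : X ⟶ Y)
    (hu : u ≫ qY = qX) [LocallyOfFiniteType qX] [LocallyOfFiniteType qY] [IsIntegral Y] (P : X)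
    (hP : IsClosed ({P} : Set X)) [IsRegularLocalRing (X.presheaf.stalk P)]
    (hcot : ∀ a ∈ IsLocalRing.maximalIdeal (Y.presheaf.stalk (u P)),
      (u.stalkMap P).hom a ∈ IsLocalRing.maximalIdeal (X.presheaf.stalk P) ^ 2 →
        a ∈ IsLocalRing.maximalIdeal (Y.presheaf.stalk (u P)) ^ 2) : IsDominant u := by
  haveI : IsLocallyNoetherian Y := LocallyOfFiniteType.isLocallyNoetherian qY
  have hinj := injective_of_regular (u.stalkMap P).hom (surjective_residue_stalkMap qX qY u hu P hP) hcot
  have hbot : (⊥ : Ideal (Y.presheaf.stalk (u P))) ∈ minimalPrimes (Y.presheaf.stalk (u P)) := by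
    rw [IsDomain.minimalPrimes_eq_singleton_bot]; rfl
  obtain ⟨Q, hQ, hQc⟩ := Ideal.exists_comap_eq_of_mem_minimalPrimes_of_injective hinj ⊥ hbot
  let b : Spec (Y.presheaf.stalk (u P)) := (⟨⊥, Ideal.isPrime_bot⟩ : PrimeSpectrum _)
  let ξ : X := X.fromSpecStalk P (⟨Q, hQ⟩ : PrimeSpectrum _)
  have hb : Spec.map (u.stalkMap P) (⟨Q, hQ⟩ : PrimeSpectrum _) = b := PrimeSpectrum.ext hQc
  have h1 : u ξ = Y.fromSpecStalk (u P) b := by
    rw [← hb]
    exact (congrArg (fun g : Spec (X.presheaf.stalk P) ⟶ Y => g (⟨Q, hQ⟩ : PrimeSpectrum _))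
      (Scheme.SpecMap_stalkMap_fromSpecStalk u (x := P))).symm
  have hη : u ξ = genericPoint Y := by
    rw [h1]
    have hη' : genericPoint Y ∈ Set.range (Y.fromSpecStalk (u P)) := by
      rw [Scheme.range_fromSpecStalk]
      exact genericPoint_specializes _
    obtain ⟨q, hq⟩ := hη'
    have hs : b ⤳ q := (PrimeSpectrum.le_iff_specializes _ _).1 bot_le
    refine (Specializes.antisymm ?_ ?_).eq
    · exact hq ▸ hs.map (Y.fromSpecStalk (u P)).continuous
    · exact genericPoint_specializes _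
  refine ⟨fun y => closure_mono (s := {genericPoint Y}) (Set.singleton_subset_iff.2 (show genericPoint Y ∈ Set.range u from ⟨ξ, hη⟩)) ?_⟩
  exact specializes_iff_mem_closure.1 (genericPoint_specializes y)

theorem exists_point_of_isDominant [CharZero k] (qX : X ⟶ Spec (CommRingCat.of k)) (qY : Y ⟶ Spec (CommRingCat.of k))
    (u : X ⟶ Y) (hu : u ≫ qY = qX) [LocallyOfFiniteType qX] [QuasiCompact qX] [LocallyOfFiniteType qY] [IsIntegral Y]
    [IsReduced X] [IsDominant u] :
    ∃ P : X, IsClosed ({P} : Set X) ∧ IsRegularLocalRing (X.presheaf.stalk P) ∧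
      ∀ a ∈ IsLocalRing.maximalIdeal (Y.presheaf.stalk (u P)),
        (u.stalkMap P).hom a ∈ IsLocalRing.maximalIdeal (X.presheaf.stalk P) ^ 2 →
          a ∈ IsLocalRing.maximalIdeal (Y.presheaf.stalk (u P)) ^ 2 := by
  haveI : IsLocallyNoetherian Y := LocallyOfFiniteType.isLocallyNoetherian qY
  haveI : IsLocallyNoetherian X := LocallyOfFiniteType.isLocallyNoetherian qX
  haveI : CompactSpace X := QuasiCompact.compactSpace_of_compactSpace qX
  haveI : AlgebraicGeometry.IsNoetherian X := {}
  have hfin : (irreducibleComponents X).Finite := NoetherianSpace.finite_irreducibleComponents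
  obtain ⟨Z, hZ, hgen⟩ : ∃ Z ∈ irreducibleComponents X, ∀ ξ, IsGenericPoint ξ Z → u ξ = genericPoint Y := by
    have hsub : Set.range u ⊆ ⋃ Z ∈ irreducibleComponents X, closure (u '' Z) := by
      rintro _ ⟨x, rfl⟩
      refine Set.mem_biUnion (irreducibleComponent_mem_irreducibleComponents x) (subset_closure ⟨x, mem_irreducibleComponent, rfl⟩)
    have hη : genericPoint Y ∈ ⋃ Z ∈ irreducibleComponents X, closure (u '' Z) :=
      (closure_minimal hsub (hfin.isClosed_biUnion fun Z _ => isClosed_closure)) (u.denseRange (genericPoint Y))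
    obtain ⟨Z, hZ, hηZ⟩ := Set.mem_iUnion₂.1 hη
    refine ⟨Z, hZ, fun ξ hξ => ?_⟩
    have h1 : u '' Z ⊆ closure {u ξ} := by
      rintro _ ⟨x, hx, rfl⟩
      exact specializes_iff_mem_closure.1 ((hξ.specializes hx).map u.continuous)
    exact (Specializes.antisymm (specializes_iff_mem_closure.2 (closure_minimal h1 isClosed_closure hηZ))
      (genericPoint_specializes _)).eq
  obtain ⟨ξ, hξ⟩ := QuasiSober.sober hZ.1 (isClosed_of_mem_irreducibleComponents Z hZ)
  let O : X.Opens := ⟨(⋃ Z' ∈ irreducibleComponents X \ {Z}, Z')ᶜ,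
    ((hfin.subset Set.sdiff_subset).isClosed_biUnion fun Z' h => isClosed_of_mem_irreducibleComponents Z' h.1).isOpen_compl⟩
  have hξO : ξ ∈ O := by
    intro h
    obtain ⟨Z', ⟨hZ', hne⟩, hmem⟩ := Set.mem_iUnion₂.1 h
    have hle : Z ⊆ Z' := hξ ▸ closure_minimal (Set.singleton_subset_iff.2 hmem) (isClosed_of_mem_irreducibleComponents Z' hZ')
    exact hne (Set.Subset.antisymm (hZ.2 hZ'.1 hle) hle)
  have hOZ : (O : Set X) ⊆ Z := fun x hx => by
    by_contra hxZ
    refine hx (Set.mem_biUnion ⟨irreducibleComponent_mem_irreducibleComponents x, ?_⟩ mem_irreducibleComponent)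
    exact fun h => hxZ (Set.mem_singleton_iff.1 h ▸ mem_irreducibleComponent)
  obtain ⟨W, hW, hξW, hWO⟩ := exists_isAffineOpen_mem_and_subset hξO
  haveI : IrreducibleSpace W := by
    have hgenW : IsGenericPoint (⟨ξ, hξW⟩ : W) Set.univ := by
      rw [IsGenericPoint, Set.eq_univ_iff_forall]
      intro x
      rw [closure_subtype]
      show (x : X) ∈ closure ((Subtype.val : W → X) '' {(⟨ξ, hξW⟩ : W)})
      rw [Set.image_singleton]
      exact specializes_iff_mem_closure.1 (hξ.specializes (hOZ (hWO x.2)))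
    haveI : Nonempty W := ⟨⟨ξ, hξW⟩⟩
    exact { toPreirreducibleSpace := ⟨hgenW.isIrreducible.isPreirreducible⟩, toNonempty := inferInstance }
  haveI : IsReduced (W : Scheme.{u}) := isReduced_of_isOpenImmersion W.ι
  haveI : IsIntegral (W : Scheme.{u}) := isIntegral_of_irreducibleSpace_of_isReduced _
  have hgp : W.ι (genericPoint (W : Scheme.{u})) = ξ := by
    have hx : W.ι (genericPoint (W : Scheme.{u})) ∈ Z := hOZ (hWO (genericPoint (W : Scheme.{u})).2)
    refine (Specializes.antisymm ?_ (hξ.specializes hx)).eq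
    exact (genericPoint_specializes (α := ↥(W : Scheme.{u})) ⟨ξ, hξW⟩).map W.ι.continuous
  have hdom : (W.ι ≫ u) (genericPoint (W : Scheme.{u})) = genericPoint Y := by
    rw [Scheme.Hom.comp_apply, hgp]
    exact hgen ξ hξ
  haveI : CharZero Y.functionField := by
    have φ : k →+* Y.functionField :=
      ((Scheme.ΓSpecIso (CommRingCat.of k)).inv ≫ qY.appTop ≫ Y.presheaf.germ ⊤ (genericPoint Y) trivial).hom
    exact charZero_of_injective_ringHom φ.injective
  haveI : LocallyOfFiniteType u := by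
    haveI : LocallyOfFiniteType (u ≫ qY) := hu ▸ inferInstance
    exact locallyOfFiniteType_of_comp u qY
  obtain ⟨hlt, hsm⟩ := Var76.GenSmooth.exists_open_smoothOfRelativeDimension (W.ι ≫ u) hdom
  letI : Algebra (Y.presheaf.stalk ((W.ι ≫ u) (genericPoint (W : Scheme.{u})))) (W : Scheme.{u}).functionField :=
    ((W.ι ≫ u).stalkMap (genericPoint (W : Scheme.{u}))).hom.toAlgebra
  obtain ⟨n, hn⟩ := Cardinal.lt_aleph0.1 hlt
  obtain ⟨U, ⟨x₀, hx₀⟩, hU⟩ := hsm n hn
  haveI : Smooth (U.ι ≫ W.ι ≫ u) := SmoothOfRelativeDimension.smooth n _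
  letI : X.Over (Spec (CommRingCat.of k)) := ⟨qX⟩
  haveI : LocallyOfFinitePresentation (X ↘ Spec (CommRingCat.of k)) := by
    show LocallyOfFinitePresentation qX
    infer_instance
  obtain ⟨hreg, hdense⟩ := S1561.result k X
  let j := U.ι ≫ W.ι
  have hopen : IsOpen (Set.range j ∩ ((X ↘ Spec (CommRingCat.of k)).smoothLocus : Set X)) :=
    j.isOpenEmbedding.isOpen_range.inter (X ↘ Spec (CommRingCat.of k)).smoothLocus.2
  have hne : (Set.range j ∩ ((X ↘ Spec (CommRingCat.of k)).smoothLocus : Set X)).Nonempty :=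
    hdense.inter_open_nonempty _ j.isOpenEmbedding.isOpen_range ⟨_, ⟨x₀, hx₀⟩, rfl⟩
  haveI : JacobsonSpace X := LocallyOfFiniteType.jacobsonSpace qX
  obtain ⟨P, ⟨⟨z, hz⟩, hPsm⟩, hPc⟩ := nonempty_inter_closedPoints hne hopen.isLocallyClosed
  haveI : IsRegularLocalRing (X.presheaf.stalk P) := (hreg P).1 hPsm
  refine ⟨P, hPc, inferInstance, fun a ha h => mem_sq_of_formallySmooth (u.stalkMap P).hom ?_
    (surjective_residue_stalkMap qX qY u hu P hPc) ha h⟩
  subst hz
  have hz : z ∈ (j ≫ u).smoothLocus := by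
    haveI : Smooth (j ≫ u) := by rwa [Category.assoc]
    rw [Scheme.Hom.smoothLocus_eq_top]; trivial
  have h2 : ((j ≫ u).stalkMap z).hom.FormallySmooth := hz
  rw [Scheme.Hom.stalkMap_comp] at h2
  exact (RingHom.FormallySmooth.respectsIso.cancel_right_isIso _ (j.stalkMap z)).1 h2

end Groth.Agent.Hopf35.RegDominant
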