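import Groth.Agent.Crv77.FunDeg
import Groth.Agent.Hopf35.RegDominantScheme
import Groth.Agent.Cyc90.EnvelopeSeq
import Mathlib

/-!
helper35: the function field extension of an étale isogeny is Galois with group the kernel points.
-/

set_option autoImplicit false
set_option linter.style.haveILetI false

universe u

open CategoryTheory Limits AlgebraicGeometry MonoidalCategory CartesianMonoidalCategory MonObj

noncomputable section

namespace Groth.Agent.Hopf35.EtaleIsogenyGalois

variable {k : Type u} [Field k] [IsAlgClosed k] {E E' : Over (Spec (CommRingCat.of k))}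
  [GrpObj E] [GrpObj E'] [LocallyOfFiniteType E.hom] [LocallyOfFiniteType E'.hom]

variable (φ : E ⟶ E')

/-- Right translation by a rational point. -/
def transl (P : 𝟙_ (Over (Spec (CommRingCat.of k))) ⟶ E) : E ⟶ E := 𝟙 E * (toUnit E ≫ P)

theorem transl_comp_transl (P Q : 𝟙_ (Over (Spec (CommRingCat.of k))) ⟶ E) :
    transl P ≫ transl Q = transl (P * Q) := by
  simp [transl, MonObj.comp_mul, _root_.mul_assoc]

theorem transl_one : transl (1 : 𝟙_ (Over (Spec (CommRingCat.of k))) ⟶ E) = 𝟙 E := by
  simp [transl]

theorem eta_comp_transl (P : 𝟙_ (Over (Spec (CommRingCat.of k))) ⟶ E) : η[E] ≫ transl P = P := by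
  simp [transl, MonObj.comp_mul, MonObj.one_eq_one]

theorem transl_comp [IsMonHom φ] {P : 𝟙_ (Over (Spec (CommRingCat.of k))) ⟶ E} (hP : P ≫ φ = η[E']) :
    transl P ≫ φ = φ := by
  simp [transl, MonObj.mul_comp, hP, MonObj.one_eq_one]

instance isIso_transl_left (P : 𝟙_ (Over (Spec (CommRingCat.of k))) ⟶ E) : IsIso (transl P).left := by
  haveI : IsIso (transl P) := ⟨transl P⁻¹, by rw [transl_comp_transl, mul_inv_cancel, transl_one],
    by rw [transl_comp_transl, inv_mul_cancel, transl_one]⟩
  exact inferInstanceAs (IsIso ((Over.forget _).map (transl P)))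

theorem surjective_residueFieldMap_left (x : E.left) (hx : IsClosed ({x} : Set E.left)) :
    Function.Surjective (φ.left.residueFieldMap x).hom := by
  have key : ∀ (q : E.left ⟶ Spec (CommRingCat.of k)) [LocallyOfFiniteType q], φ.left ≫ E'.hom = q →
      Function.Surjective (φ.left.residueFieldMap x).hom := by
    intro q _ h
    subst h
    have h2 := RegDominant.surjective_residueFieldMap (φ.left ≫ E'.hom) x hx
    rw [Scheme.residueFieldMap_comp] at h2
    exact Function.Surjective.of_comp h2
  exact key E.hom (Over.w φ)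

theorem finrank_eq_card [IsMonHom φ] [IsFinite φ.left] [Etale φ.left] [IsLocallyNoetherian E'.left] :
    Scheme.Hom.finrank φ.left (η[E'].left (IsLocalRing.closedPoint k)) =
      Nat.card {P : 𝟙_ (Over (Spec (CommRingCat.of k))) ⟶ E // P ≫ φ = η[E']} := by
  let e' : E'.left := η[E'].left (IsLocalRing.closedPoint k)
  have he' : IsClosed ({e'} : Set E'.left) :=
    ((pointEquivClosedPoint E'.hom) ⟨η[E'].left, Over.w η[E']⟩).2
  have hclosed : ∀ x ∈ φ.left ⁻¹' {e'}, IsClosed ({x} : Set E.left) := fun x hx => by
    haveI : DiscreteTopology ↥(φ.left ⁻¹' {e'}) := (φ.left.isDiscrete_preimage_singleton e').to_subtype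
    have h := ((he'.preimage φ.left.continuous).isClosedEmbedding_subtypeVal).isClosedMap
      {(⟨x, hx⟩ : ↥(φ.left ⁻¹' {e'}))} (isClosed_discrete _)
    simpa using h
  let toFib : {P : 𝟙_ (Over (Spec (CommRingCat.of k))) ⟶ E // P ≫ φ = η[E']} → ↥(φ.left ⁻¹' {e'}) :=
    fun P => ⟨P.1.left (IsLocalRing.closedPoint k),
      congrArg (fun f : Spec (CommRingCat.of k) ⟶ E'.left => f (IsLocalRing.closedPoint k))
        (congrArg Over.Hom.left P.2)⟩
  have hbij : Function.Bijective toFib := by
    refine ⟨fun P Q h => Subtype.ext (Over.OverMorphism.ext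
      (AlgebraicGeometry.ext_of_apply_closedPoint_eq E.hom (Over.w P.1) (Over.w Q.1) (congrArg Subtype.val h))), ?_⟩
    rintro ⟨x, hx⟩
    let P : 𝟙_ (Over (Spec (CommRingCat.of k))) ⟶ E :=
      Over.homMk (pointOfClosedPoint E.hom x (hclosed x hx)) (pointOfClosedPoint_comp E.hom x (hclosed x hx))
    have hP : P.left (IsLocalRing.closedPoint k) = x := pointOfClosedPoint_apply E.hom x (hclosed x hx) _
    refine ⟨⟨P, Over.OverMorphism.ext (AlgebraicGeometry.ext_of_apply_closedPoint_eq E'.hom (Over.w (P ≫ φ))
      (Over.w η[E']) ?_)⟩, Subtype.ext hP⟩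
    show φ.left (P.left (IsLocalRing.closedPoint k)) = e'
    rw [hP]; exact hx
  rw [Nat.card_eq_of_bijective toFib hbij]
  obtain ⟨hfin, -, hsum⟩ := Cyc90.finite_flat_fibre φ.left e'
  rw [show Scheme.Hom.finrank φ.left e' = _ from hsum.symm, finsum_mem_eq_finite_toFinset_sum _ hfin,
    Finset.sum_eq_card_nsmul (b := 1), smul_eq_mul, _root_.mul_one, Nat.card_coe_set_eq, Set.ncard_eq_toFinset_card _ hfin]
  intro x hx
  rw [Set.Finite.mem_toFinset] at hx
  rw [Cyc90.residueDegree_of_surjective φ.left x (surjective_residueFieldMap_left φ x (hclosed x hx))]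
  have hu : ((φ.left.stalkMap x).hom).FormallyUnramified := FormallyUnramified.stalkMap φ.left x
  letI := (φ.left.stalkMap x).hom.toAlgebra
  haveI : Algebra.FormallyUnramified (E'.left.presheaf.stalk (φ.left x)) (E.left.presheaf.stalk x) := hu
  haveI : IsLocalHom (algebraMap (E'.left.presheaf.stalk (φ.left x)) (E.left.presheaf.stalk x)) :=
    inferInstanceAs <| IsLocalHom (φ.left.stalkMap x).hom
  haveI : Algebra.EssFiniteType (E'.left.presheaf.stalk (φ.left x)) (E.left.presheaf.stalk x) :=
    LocallyOfFiniteType.stalkMap φ.left x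
  rw [show (IsLocalRing.maximalIdeal (E'.left.presheaf.stalk (φ.left x))).map (φ.left.stalkMap x).hom =
    IsLocalRing.maximalIdeal (E.left.presheaf.stalk x) from Algebra.FormallyUnramified.map_maximalIdeal]
  haveI : IsSimpleModule (E.left.presheaf.stalk x)
      (E.left.presheaf.stalk x ⧸ IsLocalRing.maximalIdeal (E.left.presheaf.stalk x)) :=
    isSimpleModule_iff_isCoatom.2 (Ideal.isMaximal_def.1 inferInstance)
  rw [Module.length_eq_one]
  rfl

variable [IsIntegral E.left] [IsIntegral E'.left] (e : φ.left (genericPoint E.left) = genericPoint E'.left)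

theorem genericPoint_transl (P : 𝟙_ (Over (Spec (CommRingCat.of k))) ⟶ E) :
    (transl P).left (genericPoint E.left) = genericPoint E.left :=
  genericPoint_eq_of_isOpenImmersion (transl P).left

/-- Translation acting on the function field. -/
def translFF (P : 𝟙_ (Over (Spec (CommRingCat.of k))) ⟶ E) : E.left.functionField →+* E.left.functionField :=
  Crv77.ffMap (transl P).left (genericPoint_transl P)

theorem translFF_comp [IsMonHom φ] {P : 𝟙_ (Over (Spec (CommRingCat.of k))) ⟶ E} (hP : P ≫ φ = η[E']) :
    (translFF P).comp (Crv77.ffMap φ.left e) = Crv77.ffMap φ.left e := by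
  have h : Spec.map (CommRingCat.ofHom ((translFF P).comp (Crv77.ffMap φ.left e))) ≫
      E'.left.fromSpecStalk (genericPoint E'.left) =
      Spec.map (CommRingCat.ofHom (Crv77.ffMap φ.left e)) ≫ E'.left.fromSpecStalk (genericPoint E'.left) := by
    rw [CommRingCat.ofHom_comp, Spec.map_comp, Category.assoc, Crv77.fromSpecStalk_ffMap, ← Category.assoc,
      translFF, Crv77.fromSpecStalk_ffMap, Category.assoc, ← Over.comp_left, transl_comp φ hP]
  exact congrArg CommRingCat.Hom.hom (Spec.map_injective ((cancel_mono _).1 h))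

theorem translFF_injective [IsSeparated E.hom] :
    Function.Injective (translFF (E := E)) := fun P Q h => by
  have h1 : E.left.fromSpecStalk (genericPoint E.left) ≫ (transl P).left =
      E.left.fromSpecStalk (genericPoint E.left) ≫ (transl Q).left := by
    rw [← Crv77.fromSpecStalk_ffMap _ (genericPoint_transl P), ← Crv77.fromSpecStalk_ffMap _ (genericPoint_transl Q)]
    exact congrArg (fun f => Spec.map (CommRingCat.ofHom f) ≫ _) h
  haveI : IsDominant (E.left.fromSpecStalk (genericPoint E.left)) := ⟨by
    rw [denseRange_iff_closure_range, Scheme.range_fromSpecStalk, Set.eq_univ_iff_forall]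
    exact fun x => closure_mono (Set.singleton_subset_iff.2 (specializes_refl _))
      (specializes_iff_mem_closure.1 (genericPoint_specializes x))⟩
  have h2 : transl P = transl Q := Over.OverMorphism.ext
    (ext_of_isDominant_of_isSeparated E.hom (by rw [Over.w, Over.w]) _ h1)
  rw [← eta_comp_transl P, h2, eta_comp_transl]

set_option maxHeartbeats 1000000 in
theorem isGalois_and_card [IsMonHom φ] [IsFinite φ.left] [Etale φ.left] [IsSeparated E.hom] :
    letI := (Crv77.ffMap φ.left e).toAlgebra
    IsGalois E'.left.functionField E.left.functionField ∧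
      Nat.card (E.left.functionField ≃ₐ[E'.left.functionField] E.left.functionField) =
        Nat.card {P : 𝟙_ (Over (Spec (CommRingCat.of k))) ⟶ E // P ≫ φ = η[E']} := by
  letI := (Crv77.ffMap φ.left e).toAlgebra
  haveI : IsLocallyNoetherian E'.left := LocallyOfFiniteType.isLocallyNoetherian E'.hom
  have hdeg : Module.finrank E'.left.functionField E.left.functionField =
      Nat.card {P : 𝟙_ (Over (Spec (CommRingCat.of k))) ⟶ E // P ≫ φ = η[E']} := by
    rw [(Crv77.ffMap_spec φ.left e).1, ← finrank_eq_card φ]
    exact (Crv77.finrank_eq_residueDegree φ.left e _).symm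
  haveI : FiniteDimensional E'.left.functionField E.left.functionField := by
    refine Module.finite_of_finrank_pos ?_
    rw [(Crv77.ffMap_spec φ.left e).1]
    obtain ⟨-, h, -⟩ := Cyc90.finite_flat_fibre φ.left (genericPoint E'.left)
    exact Nat.pos_of_ne_zero (h _ e)
  let toAut : {P : 𝟙_ (Over (Spec (CommRingCat.of k))) ⟶ E // P ≫ φ = η[E']} →
      (E.left.functionField ≃ₐ[E'.left.functionField] E.left.functionField) := fun P =>
    AlgEquiv.ofBijective ⟨translFF P.1, fun a => RingHom.congr_fun (translFF_comp φ e P.2) a⟩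
      (Algebra.IsAlgebraic.algHom_bijective _)
  have hinj : Function.Injective toAut := fun P Q h =>
    Subtype.ext (translFF_injective (RingHom.ext fun a => AlgEquiv.congr_fun h a))
  have hle := Nat.card_le_card_of_injective toAut hinj
  have hge : Nat.card (E.left.functionField ≃ₐ[E'.left.functionField] E.left.functionField) ≤
      Module.finrank E'.left.functionField E.left.functionField := by
    rw [Nat.card_eq_fintype_card]; exact AlgEquiv.card_le
  refine ⟨IsGalois.of_card_aut_eq_finrank _ _ ?_, le_antisymm (hge.trans_eq hdeg) hle⟩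
  exact le_antisymm hge (hdeg.trans_le hle)

end Groth.Agent.Hopf35.EtaleIsogenyGalois
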