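import Mathlib

/-!
A finite locally free commutative group scheme of rank `n` is killed by `n` (Deligne), pointwise form.
-/

universe u v w

open TensorProduct Coalgebra WithConv

namespace Groth.Agent.Hopf35.Deligne

variable {R : Type u} [CommRing R] {A : Type v} [CommRing A] [HopfAlgebra R A]
  {C : Type w} [CommRing C] [Algebra R C]

/-- The translation of `C ⊗ A` by a `C`-point. -/
noncomputable def transl (f : A →ₐ[R] C) : C ⊗[R] A →ₐ[C] C ⊗[R] A :=
  Algebra.TensorProduct.lift (Algebra.ofId C (C ⊗[R] A))
    ((Algebra.TensorProduct.map f (AlgHom.id R A)).comp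
      ((Algebra.TensorProduct.comm R A A).toAlgHom.comp (Bialgebra.comulAlgHom R A)))
    (fun _ _ => Commute.all _ _)

theorem transl_tmul (f : A →ₐ[R] C) (c : C) (a : A) :
    transl f (c ⊗ₜ a) = (c ⊗ₜ 1) * TensorProduct.map f.toLinearMap LinearMap.id (TensorProduct.comm R A A (comul a)) := by
  rfl

theorem transl_one (x : C ⊗[R] A) : transl (1 : WithConv (A →ₐ[R] C)).ofConv x = x := by
  induction x using TensorProduct.induction_on with
  | zero => simp
  | add p q hp hq => simp [hp, hq]
  | tmul c a =>
    rw [transl_tmul]
    have h : ∀ t : A ⊗[R] A, TensorProduct.map (1 : WithConv (A →ₐ[R] C)).ofConv.toLinearMap LinearMap.id (TensorProduct.comm R A A t) =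
        (1 : C) ⊗ₜ (TensorProduct.rid R A ((counit (R := R) (A := A)).lTensor A t)) := by
      intro t
      induction t using TensorProduct.induction_on with
      | zero => simp
      | add p q hp hq => simp only [map_add, tmul_add, hp, hq]
      | tmul b d => simp [AlgHom.convOne_apply, Algebra.algebraMap_eq_smul_one, smul_tmul]
    rw [h, Coalgebra.lTensor_counit_comul]
    simp

theorem transl_comp (f g : WithConv (A →ₐ[R] C)) :
    (transl f.ofConv).comp (transl g.ofConv) = transl (f * g).ofConv := by
  apply Algebra.TensorProduct.ext (Subsingleton.elim _ _)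
  apply AlgHom.ext; intro a
  show transl f.ofConv (transl g.ofConv (1 ⊗ₜ a)) = transl (f * g).ofConv (1 ⊗ₜ a)
  simp only [transl_tmul, ← Algebra.TensorProduct.one_def, one_mul]
  let Φ : A ⊗[R] (A ⊗[R] A) →ₗ[R] C ⊗[R] A :=
    (TensorProduct.comm R A C).toLinearMap ∘ₗ
      LinearMap.lTensor A (LinearMap.mul' R C ∘ₗ TensorProduct.map f.ofConv.toLinearMap g.ofConv.toLinearMap)
  have e1 : ∀ t : A ⊗[R] A, transl f.ofConv (TensorProduct.map g.ofConv.toLinearMap LinearMap.id (TensorProduct.comm R A A t)) =
      Φ (TensorProduct.assoc R A A A ((comul (R := R) (A := A)).rTensor A t)) := by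
    intro t
    induction t using TensorProduct.induction_on with
    | zero => simp
    | add p q hp hq => simp only [map_add, hp, hq]
    | tmul b d =>
      simp only [TensorProduct.comm_tmul, TensorProduct.map_tmul, LinearMap.id_apply, LinearMap.rTensor_tmul, transl_tmul]
      generalize comul (R := R) b = s
      induction s using TensorProduct.induction_on with
      | zero => simp
      | add p q hp hq => simp only [map_add, add_tmul, mul_add, hp, hq]
      | tmul b1 b2 => simp [Φ, mul_comm]
  have e2 : ∀ t : A ⊗[R] A, TensorProduct.map (f * g).ofConv.toLinearMap LinearMap.id (TensorProduct.comm R A A t) =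
      Φ ((comul (R := R) (A := A)).lTensor A t) := by
    intro t
    induction t using TensorProduct.induction_on with
    | zero => simp
    | add p q hp hq => simp only [map_add, hp, hq]
    | tmul b d =>
      have : (f * g).ofConv d = LinearMap.mul' R C (TensorProduct.map f.ofConv.toLinearMap g.ofConv.toLinearMap (comul (R := R) d)) := by
        rw [AlgHom.convMul_apply]
        generalize comul (R := R) d = s
        induction s using TensorProduct.induction_on with
        | zero => simp
        | add p q hp hq => simp only [map_add, hp, hq]
        | tmul b1 b2 => simp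
      simp [Φ, this]
  rw [e1, e2, Coalgebra.coassoc_apply]

variable [IsCocomm R A]

theorem mul_inv_eq (f : WithConv (A →ₐ[R] C)) :
    f * toConv (f.ofConv.comp (HopfAlgebra.antipodeAlgHom R A)) = 1 := by
  have h := congrArg (fun t : WithConv (A →ₐ[R] A) => toConv (f.ofConv.comp t.ofConv))
    (AlgHom.antipode_id_cancel (R := R) (A := A))
  simp only [AlgHom.comp_convMul_distrib] at h
  rw [mul_comm]
  refine Eq.trans ?_ (h.trans ?_)
  · rfl
  · apply WithConv.ext; ext a; simp [AlgHom.convOne_apply]

/-- The translation as an automorphism. -/
noncomputable def translEquiv (f : WithConv (A →ₐ[R] C)) : C ⊗[R] A ≃ₐ[C] C ⊗[R] A :=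
  AlgEquiv.ofAlgHom (transl f.ofConv) (transl (f.ofConv.comp (HopfAlgebra.antipodeAlgHom R A)))
    (AlgHom.ext fun x => by
      have := DFunLike.congr_fun (transl_comp f (toConv (f.ofConv.comp (HopfAlgebra.antipodeAlgHom R A)))) x
      rw [mul_inv_eq, transl_one] at this
      exact this)
    (AlgHom.ext fun x => by
      have := DFunLike.congr_fun (transl_comp (toConv (f.ofConv.comp (HopfAlgebra.antipodeAlgHom R A))) f) x
      rw [mul_comm, mul_inv_eq, transl_one] at this
      exact this)

theorem translEquiv_apply (f : WithConv (A →ₐ[R] C)) (x : C ⊗[R] A) :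
    translEquiv f x = transl f.ofConv x := rfl

/-- Deligne's theorem: a point of a commutative finite locally free group of rank `n` has order
dividing `n`. -/
theorem pow_card_eq_one {ι : Type*} [Fintype ι] (b : Module.Basis ι C (C ⊗[R] A))
    (f : WithConv (A →ₐ[R] C)) : f ^ Fintype.card ι = 1 := by
  classical
  let B := WithConv (A →ₗ[R] C)
  let E := WithConv (A →ₗ[R] C ⊗[R] A)
  let iL : C →ₐ[R] C ⊗[R] A := Algebra.TensorProduct.includeLeft
  let iR : A →ₐ[R] C ⊗[R] A := Algebra.TensorProduct.includeRight
  let j : B →+* E :=
    { toFun := fun h => toConv (iL.toLinearMap ∘ₗ h.ofConv)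
      map_one' := by apply WithConv.ext; ext a; simp [LinearMap.convOne_apply, Algebra.algebraMap_eq_smul_one]
      map_mul' := fun x y => by
        apply WithConv.ext
        exact LinearMap.algHom_comp_convMul_distrib iL x y
      map_zero' := by apply WithConv.ext; simp
      map_add' := fun x y => by apply WithConv.ext; exact LinearMap.comp_add _ _ _ }
  let τ₀ := translEquiv f
  letI : Algebra B E := j.toAlgebra
  have hj : ∀ (x : B) (g : E), x • g = j x * g := fun x g => Algebra.smul_def x g
  -- the basis of `E` over `B`
  let e0 : ι → E := fun i => toConv ((counit (R := R) (A := A)).smulRight (b i))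
  have hje : ∀ (x : B) (i : ι) (a : A), (j x * e0 i) a = x a • b i := by
    intro x i a
    rw [LinearMap.convMul_apply]
    have : ∀ t : A ⊗[R] A, LinearMap.mul' R (C ⊗[R] A) (TensorProduct.map (j x).ofConv (e0 i).ofConv t) =
        x.ofConv (TensorProduct.rid R A ((counit (R := R) (A := A)).lTensor A t)) • b i := by
      intro t
      induction t using TensorProduct.induction_on with
      | zero => simp
      | add p q hp hq => simp only [map_add, add_smul, hp, hq]
      | tmul c d =>
        simp only [TensorProduct.map_tmul, LinearMap.mul'_apply, LinearMap.lTensor_tmul, TensorProduct.rid_tmul, map_smul]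
        show iL (x.ofConv c) * (counit (R := R) d • b i) = _
        rw [smul_assoc, mul_smul_comm]
        congr 1
        exact (Algebra.smul_def (x.ofConv c) (b i)).symm
    rw [this, Coalgebra.lTensor_counit_comul]
    simp
  have hsum : ∀ (h : ι → E) (a : A), (∑ i, h i).ofConv a = ∑ i, (h i).ofConv a := fun h a => by
    rw [show (∑ i, h i).ofConv = ∑ i, (h i).ofConv from map_sum (WithConv.linearEquiv R (A →ₗ[R] C ⊗[R] A)) h Finset.univ, LinearMap.sum_apply]
  let co : E → ι → B := fun g i => toConv ((b.coord i).restrictScalars R ∘ₗ g.ofConv)
  let bs : Module.Basis ι B E :=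
    Module.Basis.ofEquivFun
      { toFun := co
        map_add' := fun g g' => by ext i : 1; apply WithConv.ext; exact LinearMap.comp_add _ _ _
        map_smul' := fun x g => by
          ext i : 1
          apply WithConv.ext; ext a
          rw [hj]
          show b.coord i ((j x * g) a) = (x * co g i) a
          rw [LinearMap.convMul_apply, LinearMap.convMul_apply]
          generalize comul (R := R) a = t
          induction t using TensorProduct.induction_on with
          | zero => simp
          | add p q hp hq => simp only [map_add, hp, hq]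
          | tmul c d =>
            simp only [TensorProduct.map_tmul, LinearMap.mul'_apply]
            show b.coord i (iL (x.ofConv c) * g.ofConv d) = _
            show _ = x.ofConv c * b.coord i (g.ofConv d)
            rw [show iL (x.ofConv c) = algebraMap C (C ⊗[R] A) (x.ofConv c) from rfl, ← Algebra.smul_def, map_smul, smul_eq_mul]
        invFun := fun h => ∑ i, j (h i) * e0 i
        left_inv := fun g => by
          apply WithConv.ext; ext a
          rw [hsum, Finset.sum_congr rfl fun i _ => hje (co g i) i a]
          exact b.sum_repr (g.ofConv a)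
        right_inv := fun h => by
          ext i : 1
          apply WithConv.ext; ext a
          show b.coord i ((∑ i, j (h i) * e0 i).ofConv a) = (h i).ofConv a
          rw [hsum, Finset.sum_congr rfl fun i _ => hje (h i) i a]
          simp [Finsupp.single_apply] }
  -- translation on `E`
  let postc : (C ⊗[R] A →ₐ[C] C ⊗[R] A) → E → E := fun T g => toConv ((T.toLinearMap.restrictScalars R) ∘ₗ g.ofConv)
  let τ : E ≃ₐ[B] E :=
    { toFun := postc τ₀.toAlgHom
      invFun := postc τ₀.symm.toAlgHom
      left_inv := fun g => by apply WithConv.ext; ext a; exact τ₀.symm_apply_apply _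
      right_inv := fun g => by apply WithConv.ext; ext a; exact τ₀.apply_symm_apply _
      map_mul' := fun x y => by
        apply WithConv.ext
        exact LinearMap.algHom_comp_convMul_distrib (τ₀.toAlgHom.restrictScalars R) x y
      map_add' := fun x y => by apply WithConv.ext; exact LinearMap.comp_add _ _ _
      commutes' := fun x => by
        apply WithConv.ext; ext a
        exact τ₀.commutes (x.ofConv a) }
  let δ : E := toConv iR.toLinearMap
  let uf : B := toConv f.ofConv.toLinearMap
  have hτ : τ δ = δ * algebraMap B E uf := by
    apply WithConv.ext; ext a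
    show transl f.ofConv (1 ⊗ₜ a) = (δ * j uf) a
    rw [transl_tmul, LinearMap.convMul_apply, ← Algebra.TensorProduct.one_def, one_mul]
    generalize comul (R := R) a = t
    induction t using TensorProduct.induction_on with
    | zero => simp
    | add p q hp hq => simp only [map_add, hp, hq]
    | tmul c d => simp [δ, uf, j, iL, iR]
  have hδ : IsUnit δ := by
    refine IsUnit.of_mul_eq_one (toConv (iR.toLinearMap ∘ₗ HopfAlgebra.antipode R)) ?_
    apply WithConv.ext
    refine Eq.trans (LinearMap.algHom_comp_convMul_distrib iR (toConv LinearMap.id) (toConv (HopfAlgebra.antipode R))).symm ?_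
    rw [LinearMap.id_mul_antipode]
    ext a; simp [LinearMap.convOne_apply, Algebra.algebraMap_eq_smul_one]
  have key := congrArg (Algebra.norm B) hτ
  rw [Algebra.norm_eq_of_algEquiv, map_mul, Algebra.norm_algebraMap_of_basis bs] at key
  have h1 : uf ^ Fintype.card ι = 1 := (hδ.map (Algebra.norm B)).mul_eq_left.mp key.symm
  apply WithConv.ext
  apply AlgHom.toLinearMap_injective
  apply WithConv.toConv_injective
  rw [AlgHom.toLinearMap_convPow, AlgHom.toLinearMap_convOne]
  exact h1

end Groth.Agent.Hopf35.Deligne
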