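import Mathlib
import Groth.Prelude.Def_W4c5ffgsreadingcourseOT

/-!
Convolution powers of the identity and the eigenspace decomposition of the augmentation ideal.
-/

universe u

open Finset

namespace Groth.Agent.Hopf35.Eigen

open SGA3b (powConv)

variable {R : Type u} [CommRing R] {A : Type u} [CommRing A] [HopfAlgebra R A]

theorem toConv_powConv (n : ℕ) : WithConv.toConv (powConv R A n) = WithConv.toConv (AlgHom.id R A) ^ n := rfl

theorem powConv_one : powConv R A 1 = AlgHom.id R A := by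
  show ((WithConv.toConv (AlgHom.id R A)) ^ 1).ofConv = _
  rw [pow_one]

theorem powConv_zero_apply (a : A) : powConv R A 0 a = algebraMap R A (Coalgebra.counit (R := R) a) := by
  show ((WithConv.toConv (AlgHom.id R A)) ^ 0).ofConv a = _
  rw [pow_zero]
  simp [AlgHom.convOne_apply]

theorem comp_powConv {B : Type*} [CommRing B] [Algebra R B] (f : A →ₐ[R] B) (n : ℕ) :
    WithConv.toConv (f.comp (powConv R A n)) = WithConv.toConv f ^ n := by
  induction n with
  | zero =>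
    apply WithConv.ext
    apply AlgHom.ext
    intro a
    simp [powConv_zero_apply, AlgHom.convOne_apply]
  | succ n ih =>
    rw [pow_succ, ← ih]
    apply WithConv.ext
    show f.comp ((WithConv.toConv (AlgHom.id R A)) ^ (n + 1)).ofConv = _
    rw [pow_succ, AlgHom.comp_convMul_distrib]
    rfl

theorem powConv_powConv (m n : ℕ) (a : A) : powConv R A m (powConv R A n a) = powConv R A (m * n) a := by
  have h := comp_powConv (powConv R A m) n
  rw [toConv_powConv, ← pow_mul, ← toConv_powConv] at h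
  exact DFunLike.congr_fun (WithConv.toConv_injective h) a

theorem counit_powConv (n : ℕ) (a : A) : Coalgebra.counit (R := R) (powConv R A n a) = Coalgebra.counit (R := R) a := by
  have h := comp_powConv (Bialgebra.counitAlgHom R A) n
  have h1 : WithConv.toConv (Bialgebra.counitAlgHom R A) = (1 : WithConv (A →ₐ[R] R)) := by
    apply WithConv.ext; ext x; simp [AlgHom.convOne_apply]
  rw [h1, one_pow, ← h1] at h
  exact DFunLike.congr_fun (WithConv.toConv_injective h) a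

theorem powConv_mod {p : ℕ} (hp : (WithConv.toConv (AlgHom.id R A)) ^ p = 1) (n : ℕ) :
    powConv R A n = powConv R A (n % p) := by
  show (_ ^ n : WithConv (A →ₐ[R] A)).ofConv = (_ ^ (n % p) : WithConv (A →ₐ[R] A)).ofConv
  conv_lhs => rw [← Nat.mod_add_div n p]
  rw [pow_add, pow_mul, hp, one_pow, mul_one]

section Unit

variable {p : ℕ} [Fact p.Prime]

theorem powConv_units (hp : (WithConv.toConv (AlgHom.id R A)) ^ p = 1) (m n : (ZMod p)ˣ) (a : A) :
    powConv R A (m : ZMod p).val (powConv R A (n : ZMod p).val a) = powConv R A ((m * n : (ZMod p)ˣ) : ZMod p).val a := by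
  rw [powConv_powConv, Units.val_mul, ZMod.val_mul, ← powConv_mod hp]

variable {χ : (ZMod p)ˣ →* Rˣ}

theorem exists_generator_sub_one (hχ : ∀ m : (ZMod p)ˣ, m ≠ 1 → IsUnit ((χ m : R) - 1)) (d : ℕ)
    (hd : ¬ (p - 1) ∣ d) : ∃ g : (ZMod p)ˣ, IsUnit ((χ g : R) ^ d - 1) := by
  obtain ⟨g, hg⟩ := IsCyclic.exists_generator (α := (ZMod p)ˣ)
  refine ⟨g, ?_⟩
  have := hχ (g ^ d) (fun h => hd ?_)
  · simpa using this
  · have := orderOf_dvd_of_pow_eq_one h
    rwa [orderOf_eq_card_of_forall_mem_zpowers hg, Nat.card_eq_fintype_card, ZMod.card_units] at this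

theorem sum_char_pow (hχ : ∀ m : (ZMod p)ˣ, m ≠ 1 → IsUnit ((χ m : R) - 1)) (d : ℕ)
    (hd : ¬ (p - 1) ∣ d) : ∑ m : (ZMod p)ˣ, (χ m : R) ^ d = 0 := by
  obtain ⟨g, hg⟩ := exists_generator_sub_one hχ d hd
  have h : (χ g : R) ^ d * ∑ m : (ZMod p)ˣ, (χ m : R) ^ d = ∑ m : (ZMod p)ˣ, (χ m : R) ^ d := by
    rw [mul_sum]
    exact Fintype.sum_equiv (Equiv.mulLeft g) _ _ fun m => by simp [mul_pow]
  exact hg.mul_right_eq_zero.mp (by rw [sub_mul, one_mul, h, sub_self])

theorem char_pow_mod (m : (ZMod p)ˣ) (i : ℕ) : ((χ m : Rˣ) : R) ^ (i % (p - 1)) = ((χ m : Rˣ) : R) ^ i := by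
  have h : m ^ (p - 1) = 1 := ZMod.units_pow_card_sub_one_eq_one p m
  conv_rhs => rw [← Nat.mod_add_div i (p - 1), pow_add, pow_mul, ← Units.val_pow_eq_pow_val (χ m) (p - 1), ← map_pow, h]
  simp

theorem sum_char_range (hχ : ∀ m : (ZMod p)ˣ, m ≠ 1 → IsUnit ((χ m : R) - 1)) (m : (ZMod p)ˣ) :
    ∑ i ∈ range (p - 1), (χ m : R) ^ i = if m = 1 then ((p - 1 : ℕ) : R) else 0 := by
  split_ifs with h
  · subst h; simp
  · apply (hχ m h).mul_left_eq_zero.mp
    rw [geom_sum_mul, ← char_pow_mod m (p - 1)]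
    simp

variable (R A p χ) in
theorem eigenAug_mod (i : ℕ) : OortTate.eigenAug R A p χ (i % (p - 1)) = OortTate.eigenAug R A p χ i := by
  simp only [OortTate.eigenAug, char_pow_mod]

theorem mem_eigenAug {i : ℕ} {f : A} : f ∈ OortTate.eigenAug R A p χ i ↔
    Coalgebra.counit (R := R) f = 0 ∧ ∀ m : (ZMod p)ˣ, powConv R A (m : ZMod p).val f = ((χ m : Rˣ) : R) ^ i • f := by
  simp [OortTate.eigenAug, Submodule.mem_iInf]

theorem mul_mem_eigenAug {i j : ℕ} {f g : A} (hf : f ∈ OortTate.eigenAug R A p χ i)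
    (hg : g ∈ OortTate.eigenAug R A p χ j) : f * g ∈ OortTate.eigenAug R A p χ (i + j) := by
  rw [mem_eigenAug] at hf hg ⊢
  refine ⟨by simp [hf.1], fun m => ?_⟩
  rw [map_mul, hf.2, hg.2, smul_mul_smul_comm, pow_add]

theorem proj_apply (u : R) (i : ℕ) (a : A) : OortTate.proj R A p u χ i a =
    u • ∑ m : (ZMod p)ˣ, (((χ m⁻¹ : Rˣ) : R) ^ i) • powConv R A (m : ZMod p).val a := by
  simp [OortTate.proj]

theorem proj_mem (hp : (WithConv.toConv (AlgHom.id R A)) ^ p = 1) (u : R) (i : ℕ) {a : A}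
    (ha : Coalgebra.counit (R := R) a = 0) : OortTate.proj R A p u χ i a ∈ OortTate.eigenAug R A p χ i := by
  rw [mem_eigenAug]
  refine ⟨by simp [proj_apply, counit_powConv, ha], fun n => ?_⟩
  rw [proj_apply, map_smul, map_sum, smul_comm]
  congr 1
  rw [smul_sum]
  refine Fintype.sum_equiv (Equiv.mulLeft n) _ _ fun m => ?_
  rw [map_smul, powConv_units hp, smul_smul, Equiv.coe_mulLeft]
  congr 1
  rw [← mul_pow, ← Units.val_mul, ← map_mul, mul_inv_rev, mul_left_comm, mul_inv_cancel, mul_one]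

theorem proj_of_mem {u : R} (hu : u * ((p - 1 : ℕ) : R) = 1) {i : ℕ} {f : A}
    (hf : f ∈ OortTate.eigenAug R A p χ i) : OortTate.proj R A p u χ i f = f := by
  rw [proj_apply, Finset.sum_congr rfl fun m _ => by rw [(mem_eigenAug.mp hf).2 m, smul_smul, ← mul_pow, ← Units.val_mul, ← map_mul, inv_mul_cancel, map_one, Units.val_one, one_pow, one_smul]]
  rw [sum_const, card_univ, ZMod.card_units, ← Nat.cast_smul_eq_nsmul R, smul_smul, hu, one_smul]

theorem proj_of_mem_ne (hχ : ∀ m : (ZMod p)ˣ, m ≠ 1 → IsUnit ((χ m : R) - 1)) (u : R) {i j : ℕ}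
    (hij : i % (p - 1) ≠ j % (p - 1)) {f : A} (hf : f ∈ OortTate.eigenAug R A p χ j) :
    OortTate.proj R A p u χ i f = 0 := by
  have hpos : 0 < p - 1 := by have := (Fact.out : p.Prime).two_le; omega
  let d := j + (p - 1 - i % (p - 1))
  have hd : ¬ (p - 1) ∣ d := fun h => hij (by
    have h1 : i % (p - 1) < p - 1 := Nat.mod_lt _ hpos
    have h2 : (d + i) % (p - 1) = i % (p - 1) := by
      obtain ⟨c, hc⟩ := h; rw [hc, Nat.mul_add_mod]
    have h3 : d + i = j + (p - 1) * (i / (p - 1) + 1) := by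
      have := Nat.mod_add_div i (p - 1); simp only [d, mul_add, mul_one]; omega
    rw [h3, Nat.add_mul_mod_self_left] at h2
    exact h2.symm)
  rw [proj_apply, Finset.sum_congr rfl fun m _ => by rw [(mem_eigenAug.mp hf).2 m, smul_smul]]
  rw [← sum_smul]
  have : ∀ m : (ZMod p)ˣ, ((χ m⁻¹ : Rˣ) : R) ^ i * ((χ m : Rˣ) : R) ^ j = ((χ m : Rˣ) : R) ^ d := by
    intro m
    have h1 : ((χ m⁻¹ : Rˣ) : R) ^ i = ((χ m : Rˣ) : R) ^ (p - 1 - i % (p - 1)) := by
      have h : m ^ (p - 1) = 1 := ZMod.units_pow_card_sub_one_eq_one p m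
      have h1 : i % (p - 1) < p - 1 := Nat.mod_lt _ hpos
      rw [← char_pow_mod, ← Units.val_pow_eq_pow_val, ← Units.val_pow_eq_pow_val, ← map_pow, ← map_pow, inv_pow]
      congr 2
      exact inv_eq_of_mul_eq_one_right (by rw [← pow_add, Nat.add_sub_cancel' h1.le, h])
    rw [h1, ← pow_add, add_comm]
  simp only [this, sum_char_pow hχ d hd, zero_smul, smul_zero]

theorem sum_proj {u : R} (hu : u * ((p - 1 : ℕ) : R) = 1) (hχ : ∀ m : (ZMod p)ˣ, m ≠ 1 → IsUnit ((χ m : R) - 1)) (a : A) :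
    ∑ i ∈ range (p - 1), OortTate.proj R A p u χ i a = a := by
  simp only [proj_apply]
  rw [← smul_sum, sum_comm]
  simp only [← sum_smul, sum_char_range hχ, ite_smul, zero_smul, inv_eq_one]
  rw [sum_ite_eq' univ (1 : (ZMod p)ˣ), if_pos (mem_univ _), smul_smul, hu, one_smul]
  simp [ZMod.val_one, powConv_one]

theorem iSup_eigenAug {u : R} (hu : u * ((p - 1 : ℕ) : R) = 1) (hχ : ∀ m : (ZMod p)ˣ, m ≠ 1 → IsUnit ((χ m : R) - 1))
    (hp : (WithConv.toConv (AlgHom.id R A)) ^ p = 1) :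
    (⨆ i : Fin (p - 1), OortTate.eigenAug R A p χ (i : ℕ)) = LinearMap.ker (Bialgebra.counitAlgHom R A).toLinearMap := by
  refine le_antisymm (iSup_le fun i => inf_le_left) fun a ha => ?_
  rw [← sum_proj hu hχ a]
  exact sum_mem fun i hi => Submodule.mem_iSup_of_mem ⟨i, mem_range.mp hi⟩ (proj_mem hp u i (by simpa using ha))

theorem iSupIndep_eigenAug {u : R} (hu : u * ((p - 1 : ℕ) : R) = 1) (hχ : ∀ m : (ZMod p)ˣ, m ≠ 1 → IsUnit ((χ m : R) - 1)) :
    iSupIndep (fun i : Fin (p - 1) => OortTate.eigenAug R A p χ (i : ℕ)) := by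
  intro i
  rw [Submodule.disjoint_def]
  intro f hf hf'
  have : (⨆ (j : Fin (p - 1)) (_ : j ≠ i), OortTate.eigenAug R A p χ (j : ℕ)) ≤ LinearMap.ker (OortTate.proj R A p u χ (i : ℕ)) :=
    iSup₂_le fun j hj g hg => proj_of_mem_ne hχ u (by
      rw [Nat.mod_eq_of_lt i.2, Nat.mod_eq_of_lt j.2]
      exact fun e => hj (Fin.ext e.symm)) hg
  rw [← proj_of_mem hu hf]
  exact this hf'

end Unit

end Groth.Agent.Hopf35.Eigen
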