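import Mathlib
import Groth.Agent.Hopf35.Local
import Groth.Agent.Hopf35.Eigen
import Groth.Agent.Hopf35.Deligne
import Groth.Agent.S15897

/-!
Hopf algebras of prime dimension over an algebraically closed field.
-/

universe u v

open TensorProduct Finset

namespace Groth.Agent.Hopf35.Prime

section Field

variable {k : Type u} [Field k] {A : Type v} [CommRing A] [HopfAlgebra k A]

/-- Translation by a point. -/
noncomputable def trans (g : WithConv (A →ₐ[k] k)) : A →ₐ[k] A :=
  (Algebra.TensorProduct.rid k k A).toAlgHom.comp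
    ((Algebra.TensorProduct.map (AlgHom.id k A) g.ofConv).comp (Bialgebra.comulAlgHom k A))

theorem trans_eq_op (g : WithConv (A →ₐ[k] k)) : (trans g).toLinearMap = Loc.op k g.ofConv.toLinearMap :=
  LinearMap.ext fun _ => rfl

theorem counit_trans (g : WithConv (A →ₐ[k] k)) (a : A) : Coalgebra.counit (R := k) (trans g a) = g.ofConv a := by
  have := Loc.counit_op k g.ofConv.toLinearMap a
  rwa [← trans_eq_op] at this

theorem trans_trans (g h : WithConv (A →ₐ[k] k)) (a : A) : trans g (trans h a) = trans (g * h) a := by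
  have := LinearMap.congr_fun (Loc.op_mul k g.ofConv.toLinearMap h.ofConv.toLinearMap) a
  simp only [← trans_eq_op, Module.End.mul_apply, AlgHom.toLinearMap_apply] at this
  rw [this, ← AlgHom.toLinearMap_apply (trans (g * h)), trans_eq_op]
  rfl

theorem trans_one (a : A) : trans (1 : WithConv (A →ₐ[k] k)) a = a := by
  rw [← AlgHom.toLinearMap_apply (trans _), trans_eq_op]
  have : (1 : WithConv (A →ₐ[k] k)).ofConv.toLinearMap = Coalgebra.counit (R := k) (A := A) := by
    ext x; simp [AlgHom.convOne_apply]
  rw [this, Loc.op_counit]; rfl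

theorem pt_ext {g h : WithConv (A →ₐ[k] k)} (e : RingHom.ker g.ofConv = RingHom.ker h.ofConv) : g = h := by
  apply WithConv.ext
  ext a
  have : a - algebraMap k A (g.ofConv a) ∈ RingHom.ker g.ofConv := by simp [RingHom.mem_ker]
  rw [e, RingHom.mem_ker, map_sub, AlgHom.commutes, sub_eq_zero] at this
  simpa using this.symm

theorem ker_one : RingHom.ker (1 : WithConv (A →ₐ[k] k)).ofConv = RingHom.ker (Bialgebra.counitAlgHom k A) := by
  ext a; simp [RingHom.mem_ker, AlgHom.convOne_apply]

variable [FiniteDimensional k A]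

instance ker_isMaximal (g : WithConv (A →ₐ[k] k)) : (RingHom.ker g.ofConv).IsMaximal :=
  RingHom.ker_isMaximal_of_surjective _ fun r => ⟨algebraMap k A r, g.ofConv.commutes r⟩

instance finite_pt : Finite (WithConv (A →ₐ[k] k)) :=
  haveI : IsArtinianRing A := IsArtinianRing.of_finite k A
  Finite.of_injective (fun g => (⟨RingHom.ker g.ofConv, inferInstance⟩ : MaximalSpectrum A))
    fun _ _ e => pt_ext (congrArg MaximalSpectrum.asIdeal e)

/-- The number of points divides the dimension. -/
theorem card_mul_finrank [IsAlgClosed k] :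
    ∃ d, Nat.card (WithConv (A →ₐ[k] k)) * d = Module.finrank k A := by
  classical
  haveI : IsArtinianRing A := IsArtinianRing.of_finite k A
  haveI := Fintype.ofFinite (WithConv (A →ₐ[k] k))
  obtain ⟨N, hN⟩ : IsNilpotent ((⊥ : Ideal A).jacobson) := IsArtinianRing.isNilpotent_jacobson_bot
  let f : WithConv (A →ₐ[k] k) → Ideal A := fun g => RingHom.ker g.ofConv ^ (N + 1)
  have hmax : ∀ M : Ideal A, M.IsMaximal → ∃ g : WithConv (A →ₐ[k] k), RingHom.ker g.ofConv = M := by
    intro M hM
    letI := Ideal.Quotient.field M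
    let e := AlgEquiv.ofBijective (Algebra.ofId k (A ⧸ M)) (IsAlgClosed.algebraMap_bijective_of_isIntegral (k := k) (K := A ⧸ M))
    refine ⟨WithConv.toConv (e.symm.toAlgHom.comp (Ideal.Quotient.mkₐ k M)), ?_⟩
    ext a
    simp [RingHom.mem_ker, Ideal.Quotient.eq_zero_iff_mem]
  have hcop : Pairwise fun g h => IsCoprime (f g) (f h) := by
    intro g h hne
    refine IsCoprime.pow ?_
    rw [Ideal.isCoprime_iff_sup_eq]
    exact (ker_isMaximal g).coprime_of_ne (ker_isMaximal h) fun e => hne (pt_ext e)
  have hinf : (⨅ g, f g) = ⊥ := by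
    rw [eq_bot_iff]
    intro a ha
    have h1 : a ∈ ∏ g, f g := by
      rw [Ideal.prod_eq_iInf_of_pairwise_isCoprime (fun g h _ _ hne => hcop hne)]
      simpa using ha
    rw [Finset.prod_pow] at h1
    have h2 : (∏ g : WithConv (A →ₐ[k] k), RingHom.ker g.ofConv) ≤ (⊥ : Ideal A).jacobson := by
      refine Ideal.prod_le_inf.trans ?_
      rw [Ideal.jacobson]
      refine le_sInf fun M hM => ?_
      obtain ⟨g, hg⟩ := hmax M hM.2
      rw [← hg]
      exact Finset.inf_le (mem_univ g)
    have h3 := Ideal.pow_right_mono h2 (N + 1) h1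
    rw [pow_succ, hN] at h3
    simpa using h3
  let L : A →ₗ[k] (Π g, A ⧸ f g) := LinearMap.pi fun g => (Ideal.Quotient.mkₐ k (f g)).toLinearMap
  have hL : Function.Bijective L := by
    constructor
    · rw [← LinearMap.ker_eq_bot, eq_bot_iff]
      intro a ha
      have : a ∈ ⨅ g, f g := by
        rw [Ideal.mem_iInf]
        intro g
        exact Ideal.Quotient.eq_zero_iff_mem.mp (congrFun ha g)
      rw [hinf] at this
      exact this
    · intro z
      obtain ⟨q, hq⟩ := Ideal.quotientInfToPiQuotient_surj (I := f) hcop z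
      obtain ⟨a, rfl⟩ := Ideal.Quotient.mk_surjective q
      exact ⟨a, hq⟩
  refine ⟨Module.finrank k (A ⧸ f 1), ?_⟩
  rw [(LinearEquiv.ofBijective L hL).finrank_eq, Module.finrank_pi_fintype, ← Nat.card_eq_fintype_card.symm]
  refine (Finset.sum_const_nat fun g _ => ?_).symm
  let E : A ≃ₐ[k] A := AlgEquiv.ofAlgHom (trans g) (trans g⁻¹)
    (AlgHom.ext fun a => by simp [trans_trans, trans_one]) (AlgHom.ext fun a => by simp [trans_trans, trans_one])
  refine (Ideal.quotientEquivAlg (f g) (f 1) E ?_).toLinearEquiv.finrank_eq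
  simp only [f]
  rw [Ideal.map_pow, ker_one]
  congr 1
  have : RingHom.ker g.ofConv = Ideal.comap (E : A →+* A) (RingHom.ker (Bialgebra.counitAlgHom k A)) := by
    ext a
    simp only [RingHom.mem_ker, Ideal.mem_comap, Bialgebra.counitAlgHom_apply]
    exact (counit_trans g a).symm ▸ Iff.rfl
  rw [this]
  exact (Ideal.map_comap_of_surjective _ E.surjective _).symm

/-- Either the algebra is local or there are as many points as the dimension. -/
theorem isLocalRing_or_card [IsAlgClosed k] {p : ℕ} (hp : p.Prime) (hA : Module.finrank k A = p) :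
    IsLocalRing A ∨ Nat.card (WithConv (A →ₐ[k] k)) = p := by
  obtain ⟨d, hd⟩ := card_mul_finrank (k := k) (A := A)
  rw [hA] at hd
  rcases (Nat.dvd_prime hp).mp ⟨d, hd.symm⟩ with h | h
  · left
    haveI : Nontrivial A := Bialgebra.nontrivial (R := k) (A := A)
    refine IsLocalRing.of_unique_max_ideal ⟨RingHom.ker (1 : WithConv (A →ₐ[k] k)).ofConv, inferInstance, fun M hM => ?_⟩
    letI := Ideal.Quotient.field M
    let e := AlgEquiv.ofBijective (Algebra.ofId k (A ⧸ M)) (IsAlgClosed.algebraMap_bijective_of_isIntegral (k := k) (K := A ⧸ M))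
    haveI := Fintype.ofFinite (WithConv (A →ₐ[k] k))
    haveI := (Nat.card_eq_one_iff_unique.mp h).1
    rw [show (1 : WithConv (A →ₐ[k] k)) = WithConv.toConv (e.symm.toAlgHom.comp (Ideal.Quotient.mkₐ k M)) from Subsingleton.elim _ _]
    ext a
    simp [RingHom.mem_ker, Ideal.Quotient.eq_zero_iff_mem]
  · exact Or.inr h

/-- The data available in the local case. -/
theorem exists_local_data [IsAlgClosed k] [IsLocalRing A] {p : ℕ} (hp : p.Prime) (hA : Module.finrank k A = p) :
    CharP k p ∧ ∃ (ξ : A →ₗ[k] k) (x : A), Loc.IsPtDer k ξ ∧ Coalgebra.counit (R := k) x = 0 ∧ ξ x = 1 := by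
  haveI : Fact p.Prime := ⟨hp⟩
  have hm : IsLocalRing.maximalIdeal A ≠ ⊥ := by
    intro h
    have : Module.finrank k A = 1 := by
      haveI : Nontrivial A := inferInstance
      refine finrank_eq_one 1 one_ne_zero fun a => ⟨Coalgebra.counit (R := k) a, ?_⟩
      have : a - Coalgebra.counit (R := k) a • (1 : A) ∈ IsLocalRing.maximalIdeal A := (Loc.mem_maximalIdeal_iff k).mpr (by simp)
      rw [h, Ideal.mem_bot, sub_eq_zero] at this
      exact this.symm
    exact hp.one_lt.ne' (hA ▸ this)
  refine ⟨?_, Loc.exists_ptDer k hm⟩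
  obtain ⟨q, hq⟩ := CharP.exists k
  rcases CharP.char_is_prime_or_zero k q with hq' | rfl
  · haveI : Fact q.Prime := ⟨hq'⟩
    have := Loc.char_dvd_finrank k (A := A) q hm
    rw [hA, Nat.prime_dvd_prime_iff_eq hq' hp] at this
    rwa [this] at hq
  · haveI := CharP.charP_to_charZero k
    exact absurd (hA ▸ Loc.charZero_eq_one k (A := A)) hp.one_lt.ne'

omit [FiniteDimensional k A] in
theorem toLinearMap_pow_apply (g : WithConv (A →ₐ[k] k)) (n : ℕ) (a : A) :
    ((WithConv.toConv g.ofConv.toLinearMap) ^ n) a = (g ^ n).ofConv a := by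
  rw [← AlgHom.toLinearMap_convPow]; rfl

omit [FiniteDimensional k A] in
theorem op_pow (z : WithConv (A →ₗ[k] k)) (n : ℕ) : Loc.op k z.ofConv ^ n = Loc.op k (z ^ n).ofConv := by
  induction n with
  | zero =>
    rw [pow_zero, pow_zero, ← Loc.op_counit k]
    congr 1
  | succ n ih => rw [pow_succ, pow_succ, ih, Loc.op_mul]; rfl

/-- The dual algebra is generated by one element. -/
theorem exists_pow_linearIndependent [IsAlgClosed k] {p : ℕ} (hp : p.Prime) (hA : Module.finrank k A = p) :
    ∃ z : WithConv (A →ₗ[k] k), LinearIndependent k (fun i : Fin p => z ^ (i : ℕ)) := by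
  classical
  haveI : Fact p.Prime := ⟨hp⟩
  rcases isLocalRing_or_card (k := k) (A := A) hp hA with h | h
  · obtain ⟨hchar, ξ, x, hξ, hx, hξx⟩ := exists_local_data (k := k) (A := A) hp hA
    refine ⟨WithConv.toConv ξ, ?_⟩
    have hval : ∀ i a, ((WithConv.toConv ξ) ^ i).ofConv a = Coalgebra.counit (R := k) ((Loc.op k ξ ^ i) a) := by
      intro i a
      rw [show Loc.op k ξ = Loc.op k (WithConv.toConv ξ).ofConv from rfl, op_pow, Loc.counit_op]
    rw [Fintype.linearIndependent_iff]
    intro c hc
    by_contra hne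
    push Not at hne
    obtain ⟨i0, hi0⟩ := hne
    obtain ⟨j, hj, hmax⟩ := (univ.filter fun i : Fin p => c i ≠ 0).exists_max_image (fun i => (i : ℕ)) ⟨i0, by simp [hi0]⟩
    have := congrArg (fun t : WithConv (A →ₗ[k] k) => t (x ^ (j : ℕ))) hc
    simp only [WithConv.ofConv_sum, LinearMap.sum_apply, WithConv.ofConv_smul, LinearMap.smul_apply, hval, WithConv.ofConv_zero, LinearMap.zero_apply] at this
    rw [Finset.sum_eq_single j] at this
    · rw [Loc.counit_op_iterate_pow hξ hx hξx, smul_eq_mul, mul_eq_zero] at this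
      refine (mem_filter.mp hj).2 (this.resolve_right ?_)
      rw [CharP.cast_eq_zero_iff k p, hp.dvd_factorial]
      omega
    · intro i _ hij
      rcases lt_or_gt_of_ne (fun e => hij (Fin.ext e) : (i : ℕ) ≠ j) with h' | h'
      · rw [Loc.counit_op_iterate_pow_of_lt hξ hx h', smul_zero]
      · have : c i = 0 := by
          by_contra hci
          have := hmax i (by simp [hci])
          omega
        rw [this, zero_smul]
    · simp
  · obtain ⟨g, hg⟩ : ∃ g : WithConv (A →ₐ[k] k), g ≠ 1 := by
      haveI : Nontrivial (WithConv (A →ₐ[k] k)) := Finite.one_lt_card_iff_nontrivial.mp (h ▸ hp.one_lt)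
      exact exists_ne 1
    have hord : orderOf g = p := orderOf_eq_prime (h ▸ pow_card_eq_one') hg
    refine ⟨WithConv.toConv g.ofConv.toLinearMap, ?_⟩
    rw [Fintype.linearIndependent_iff]
    intro c hc i
    have hdist : Function.Injective fun i : Fin p => ((g ^ (i : ℕ)).ofConv : A →* k) := by
      intro a b e
      apply Fin.ext
      have e2 : g ^ (a : ℕ) = g ^ (b : ℕ) := by
        apply WithConv.ext; ext z; exact DFunLike.congr_fun e z
      exact pow_injOn_Iio_orderOf (by simp [hord]) (by simp [hord]) e2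
    have hli := (linearIndependent_monoidHom A k).comp _ hdist
    refine Fintype.linearIndependent_iff.mp hli c ?_ i
    funext a
    have := congrArg (fun t : WithConv (A →ₗ[k] k) => t a) hc
    simp only [WithConv.ofConv_sum, LinearMap.sum_apply, WithConv.ofConv_smul, LinearMap.smul_apply, toLinearMap_pow_apply, WithConv.ofConv_zero, LinearMap.zero_apply] at this
    simpa [Finset.sum_apply] using this

theorem isCocomm_of_prime [IsAlgClosed k] {p : ℕ} (hp : p.Prime) (hA : Module.finrank k A = p) :
    Coalgebra.IsCocomm k A := by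
  obtain ⟨z, hz⟩ := exists_pow_linearIndependent (k := k) (A := A) hp hA
  refine Groth.Agent.S15897.result k A fun x y => ?_
  have hfin : Module.finrank k (WithConv (A →ₗ[k] k)) = p := by
    rw [(WithConv.linearEquiv k (A →ₗ[k] k)).finrank_eq]
    exact Subspace.dual_finrank_eq.trans hA
  haveI : Nonempty (Fin p) := ⟨⟨0, hp.pos⟩⟩
  let b := basisOfLinearIndependentOfCardEqFinrank hz (by simp [hfin])
  have hcomm : ∀ w : CartDual.D k A, Commute z w := by
    intro w
    rw [← b.sum_repr w]
    refine Commute.sum_right _ _ _ fun i _ => Commute.smul_right ?_ _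
    rw [coe_basisOfLinearIndependentOfCardEqFinrank]
    exact Commute.self_pow z i
  show Commute x y
  rw [← b.sum_repr x]
  refine Commute.sum_left _ _ _ fun i _ => Commute.smul_left ?_ _
  rw [coe_basisOfLinearIndependentOfCardEqFinrank]
  exact (hcomm y).pow_left i

theorem id_pow_eq_one [IsAlgClosed k] {p : ℕ} (hp : p.Prime) (hA : Module.finrank k A = p) :
    (WithConv.toConv (AlgHom.id k A)) ^ p = 1 := by
  haveI := isCocomm_of_prime (k := k) (A := A) hp hA
  haveI : Nontrivial A := Bialgebra.nontrivial (R := k) (A := A)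
  have h := Deligne.pow_card_eq_one (Module.finBasis A (A ⊗[k] A)) (WithConv.toConv (AlgHom.id k A))
  rwa [Fintype.card_fin, Module.finrank_baseChange, hA] at h

end Field

section Eigen

variable {k : Type u} [Field k] [IsAlgClosed k] {A : Type u} [CommRing A] [HopfAlgebra k A] [FiniteDimensional k A]

theorem ptDer_powConv {ξ : A →ₗ[k] k} (hξ : Loc.IsPtDer k ξ) (n : ℕ) (a : A) :
    ξ (SGA3b.powConv k A n a) = n * ξ a := by
  induction n generalizing a with
  | zero =>
    have h1 : ξ 1 = 0 := by
      have := hξ 1 1; simp at this; exact this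
    simp [Eigen.powConv_zero_apply, Algebra.algebraMap_eq_smul_one, h1]
  | succ n ih =>
    show ξ (((WithConv.toConv (AlgHom.id k A)) ^ (n + 1)) a) = _
    rw [pow_succ, AlgHom.convMul_apply]
    have hc : ∀ b, Coalgebra.counit (R := k) (((WithConv.toConv (AlgHom.id k A)) ^ n).ofConv b) = Coalgebra.counit (R := k) b :=
      Eigen.counit_powConv n
    have ih' : ∀ b, ξ (((WithConv.toConv (AlgHom.id k A)) ^ n).ofConv b) = n * ξ b := ih
    have key : ∀ t : A ⊗[k] A, ξ (Algebra.TensorProduct.lift ((WithConv.toConv (AlgHom.id k A)) ^ n).ofConv (WithConv.toConv (AlgHom.id k A)).ofConv (fun _ _ => .all ..) t) =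
        ξ (TensorProduct.lid k A ((Coalgebra.counit (R := k) (A := A)).rTensor A t)) + n * ξ (TensorProduct.rid k A ((Coalgebra.counit (R := k) (A := A)).lTensor A t)) := by
      intro t
      induction t using TensorProduct.induction_on with
      | zero => simp
      | add p q hp hq => simp only [map_add, hp, hq]; ring
      | tmul b c =>
        simp only [Algebra.TensorProduct.lift_tmul, WithConv.ofConv_toConv, AlgHom.id_apply, LinearMap.rTensor_tmul,
          LinearMap.lTensor_tmul, TensorProduct.lid_tmul, TensorProduct.rid_tmul, map_smul, smul_eq_mul]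
        rw [hξ _ c, hc, ih']
        ring
    rw [key, Coalgebra.rTensor_counit_comul, Coalgebra.lTensor_counit_comul]
    simp
    ring

theorem exists_eigen_pow_ne_zero {p : ℕ} [Fact p.Prime] (u : k) (hu : u * ((p - 1 : ℕ) : k) = 1)
    (χ : (ZMod p)ˣ →* kˣ) (hχp : CharP k p → ∀ m : (ZMod p)ˣ, ((χ m : kˣ) : k) = ((m : ZMod p).val : k))
    (hA : Module.finrank k A = p) :
    ∃ y ∈ OortTate.eigenAug k A p χ 1, ∀ t, 1 ≤ t → t < p → y ^ t ≠ 0 := by
  classical
  have hp : p.Prime := Fact.out
  have hid := id_pow_eq_one (k := k) (A := A) hp hA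
  rcases isLocalRing_or_card (k := k) (A := A) hp hA with h | h
  · obtain ⟨hchar, ξ, x, hξ, hx, hξx⟩ := exists_local_data (k := k) (A := A) hp hA
    refine ⟨OortTate.proj k A p u χ 1 x, ?_, ?_⟩
    · exact Eigen.proj_mem hid u 1 hx
    · have hy : ξ (OortTate.proj k A p u χ 1 x) = 1 := by
        rw [Eigen.proj_apply, map_smul, map_sum]
        have : ∀ m : (ZMod p)ˣ, ξ (((χ m⁻¹ : kˣ) : k) ^ 1 • SGA3b.powConv k A (m : ZMod p).val x) = 1 := by
          intro m
          rw [map_smul, ptDer_powConv hξ, hξx, mul_one, pow_one, smul_eq_mul, ← hχp hchar m, ← Units.val_mul, ← map_mul, inv_mul_cancel, map_one, Units.val_one]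
        rw [Finset.sum_congr rfl fun m _ => this m, sum_const, card_univ, ZMod.card_units, nsmul_one, smul_eq_mul, hu]
      have hy0 : Coalgebra.counit (R := k) (OortTate.proj k A p u χ 1 x) = 0 := by
        simp [Eigen.proj_apply, Eigen.counit_powConv, hx]
      intro t _ ht h0
      have := Loc.counit_op_iterate_pow hξ hy0 hy t
      rw [h0, map_zero, map_zero] at this
      have := (CharP.cast_eq_zero_iff k p t.factorial).mp this.symm
      rw [hp.dvd_factorial] at this
      omega
  · obtain ⟨g, hg⟩ : ∃ g : WithConv (A →ₐ[k] k), g ≠ 1 := by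
      haveI : Nontrivial (WithConv (A →ₐ[k] k)) := Finite.one_lt_card_iff_nontrivial.mp (h ▸ hp.one_lt)
      exact exists_ne 1
    have hord : orderOf g = p := orderOf_eq_prime (h ▸ pow_card_eq_one') hg
    let L : A →ₗ[k] (Fin p → k) := LinearMap.pi fun i => (g ^ (i : ℕ)).ofConv.toLinearMap
    have hL : Function.Bijective L := by
      have hinj : Function.Injective fun i : Fin p => ((g ^ (i : ℕ)).ofConv : A →* k) := by
        intro a b e
        apply Fin.ext
        have e2 : g ^ (a : ℕ) = g ^ (b : ℕ) := by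
          apply WithConv.ext; ext z; exact DFunLike.congr_fun e z
        exact pow_injOn_Iio_orderOf (by simp [hord]) (by simp [hord]) e2
      have hli : LinearIndependent k fun i : Fin p => ((g ^ (i : ℕ)).ofConv.toLinearMap : Module.Dual k A) := by
        rw [Fintype.linearIndependent_iff]
        intro c hc
        refine Fintype.linearIndependent_iff.mp ((linearIndependent_monoidHom A k).comp _ hinj) c ?_
        funext a
        have := LinearMap.congr_fun hc a
        simpa [Finset.sum_apply] using this
      haveI : Nonempty (Fin p) := ⟨⟨0, hp.pos⟩⟩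
      let b := basisOfLinearIndependentOfCardEqFinrank hli (by rw [Fintype.card_fin, Subspace.dual_finrank_eq, hA])
      have hi : Function.Injective L := by
        rw [← LinearMap.ker_eq_bot, eq_bot_iff]
        intro a ha
        rw [Submodule.mem_bot, ← Module.forall_dual_apply_eq_zero_iff k]
        intro φ
        rw [← b.sum_repr φ]
        simp only [LinearMap.sum_apply, LinearMap.smul_apply]
        refine Finset.sum_eq_zero fun i _ => ?_
        rw [coe_basisOfLinearIndependentOfCardEqFinrank]
        have hi : (g ^ (i : ℕ)).ofConv a = 0 := congrFun ha i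
        simp [hi]
      exact ⟨hi, (LinearMap.injective_iff_surjective_of_finrank_eq_finrank (by rw [hA, Module.finrank_pi, Fintype.card_fin])).mp hi⟩
    let w : Fin p → k := fun i => if hi : ((i : ℕ) : ZMod p) = 0 then 0 else ((χ (Units.mk0 _ hi) : kˣ) : k)
    obtain ⟨v, hv⟩ := hL.2 w
    have hval : ∀ j : ZMod p, (g ^ j.val).ofConv v = if hj : j = 0 then 0 else ((χ (Units.mk0 j hj) : kˣ) : k) := by
      intro j
      have h1 := congrFun hv ⟨j.val, j.val_lt⟩
      show L v ⟨j.val, j.val_lt⟩ = _
      rw [h1]
      simp only [w]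
      by_cases hj : j = 0
      · subst hj; simp
      · rw [dif_neg hj, dif_neg (by rw [ZMod.natCast_zmod_val]; exact hj)]
        congr 2
        apply Units.ext
        simp
    refine ⟨v, ?_, ?_⟩
    · rw [Eigen.mem_eigenAug]
      constructor
      · have := hval 0
        simpa [AlgHom.convOne_apply] using this
      · intro m
        apply hL.1
        funext i
        show (g ^ (i : ℕ)).ofConv (SGA3b.powConv k A (m : ZMod p).val v) = (g ^ (i : ℕ)).ofConv (((χ m : kˣ) : k) ^ 1 • v)
        have hc := DFunLike.congr_fun (congrArg WithConv.ofConv (Eigen.comp_powConv (g ^ (i : ℕ)).ofConv (m : ZMod p).val)) v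
        simp only [WithConv.ofConv_toConv, AlgHom.comp_apply, WithConv.toConv_ofConv] at hc
        rw [hc, map_smul, pow_one, smul_eq_mul, ← pow_mul]
        have hred : ∀ n : ℕ, (g ^ n).ofConv v = (g ^ (n : ZMod p).val).ofConv v := fun n => by
          rw [ZMod.val_natCast, ← hord, pow_mod_orderOf]
        rw [hred, hred (i : ℕ), hval, hval]
        simp only [Nat.cast_mul, ZMod.natCast_zmod_val]
        by_cases hi : ((i : ℕ) : ZMod p) = 0
        · simp [hi]
        · rw [dif_neg (mul_ne_zero hi m.ne_zero), dif_neg hi, ← Units.val_mul, ← map_mul]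
          congr 2
          apply Units.ext
          simp [mul_comm]
    · intro t _ _ h0
      have h1 := congrArg (g ^ (1 : ZMod p).val).ofConv h0
      rw [map_pow, map_zero, hval, dif_neg one_ne_zero] at h1
      simp at h1

end Eigen

end Groth.Agent.Hopf35.Prime
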