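import Groth.Agent.Comod33.IdentityComp
import Groth.Agent.Comod33.Diag
import Mathlib.RingTheory.TensorProduct.Maps
import Mathlib.RingTheory.HopfAlgebra.Convolution
import Mathlib.RingTheory.HopfAlgebra.Quotient
import Mathlib.RingTheory.Bialgebra.Quotient
import Mathlib.RingTheory.Adjoin.Basic

/-!
helper35: for a primitive `z` of a commutative cocommutative Hopf algebra `A`, the Galois
isomorphism `A ⊗[k[z]] A ≅ A ⊗[k] A/(z)`.
-/

set_option autoImplicit false

universe u

open TensorProduct WithConv Coalgebra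

noncomputable section

namespace Groth.Agent.Hopf35.Uni

open Comod33

variable {k : Type u} [Field k] {A : Type u} [CommRing A] [HopfAlgebra k A]

/-- The ideal generated by an element. -/
abbrev zI (z : A) : Ideal A := Ideal.span ({z} : Set A)

theorem antipode_prim {z : A} (hz : Diag.IsPrim (k := k) z) :
    HopfAlgebraStruct.antipode (R := k) z = -z := by
  have h := HopfAlgebra.mul_antipode_rTensor_comul_apply (R := k) z
  rw [show CoalgebraStruct.comul (R := k) z = _ from hz, map_add, map_add, LinearMap.rTensor_tmul,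
    LinearMap.rTensor_tmul, show CoalgebraStruct.counit (R := k) z = 0 from Diag.counit_prim hz,
    map_zero, LinearMap.mul'_apply, LinearMap.mul'_apply, _root_.mul_one, HopfAlgebra.antipode_one,
    _root_.one_mul] at h
  exact eq_neg_of_add_eq_zero_left h

theorem isHopfIdeal_zI {z : A} (hz : Diag.IsPrim (k := k) z) : (zI z).IsHopfIdeal k := by
  refine IdComp.isHopfIdeal_span _ ?_ ?_ ?_
  · rintro _ rfl; exact Diag.counit_prim hz
  · intro x hx
    rw [Set.mem_singleton_iff] at hx
    subst x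
    have h0 : Ideal.Quotient.mkₐ k (zI z) z = 0 :=
      Ideal.Quotient.eq_zero_iff_mem.2 (Ideal.mem_span_singleton_self z)
    rw [show CoalgebraStruct.comul (R := k) z = _ from hz, map_add, Algebra.TensorProduct.map_tmul,
      Algebra.TensorProduct.map_tmul, h0, TensorProduct.zero_tmul, TensorProduct.tmul_zero, add_zero]
  · intro x hx
    rw [Set.mem_singleton_iff] at hx
    subst x
    rw [antipode_prim hz]
    exact neg_mem (Ideal.mem_span_singleton_self z)

variable [Coalgebra.IsCocomm k A]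

/-- Points with values in any commutative algebra form a commutative group. -/
instance (priority := 500) pointInv {R : Type u} [CommRing R] [Algebra k R] :
    Inv (WithConv (A →ₐ[k] R)) where
  inv f := toConv (f.ofConv.comp (HopfAlgebra.antipodeAlgHom k A))

instance (priority := 500) pointCommGroup {R : Type u} [CommRing R] [Algebra k R] :
    CommGroup (WithConv (A →ₐ[k] R)) where
  mul := (· * ·)
  mul_assoc := _root_.mul_assoc
  one := 1
  one_mul := _root_.one_mul
  mul_one := _root_.mul_one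
  npow := fun n f => f ^ n
  npow_zero := Monoid.npow_zero
  npow_succ := Monoid.npow_succ
  mul_comm := _root_.mul_comm
  inv := fun f => f⁻¹
  inv_mul_cancel f := by
    apply WithConv.ofConv_injective
    have e := AlgHom.comp_convMul_distrib f.ofConv (toConv (HopfAlgebra.antipodeAlgHom k A))
      (toConv (AlgHom.id k A))
    rw [AlgHom.antipode_id_cancel] at e
    refine (Eq.trans ?_ e.symm).trans (AlgHom.ext fun a => f.ofConv.commutes _)
    rfl

/-- The product of two algebra maps out of `A`, on a primitive element. -/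
theorem mul_prim {R : Type u} [CommRing R] [Algebra k R] {z : A} (hz : Diag.IsPrim (k := k) z)
    (f g : WithConv (A →ₐ[k] R)) : (f * g).ofConv z = f.ofConv z + g.ofConv z := by
  rw [AlgHom.convMul_apply, show CoalgebraStruct.comul (R := k) z = _ from hz, map_add,
    Algebra.TensorProduct.lift_tmul, Algebra.TensorProduct.lift_tmul, map_one, map_one,
    _root_.mul_one, _root_.one_mul]

theorem inv_prim {R : Type u} [CommRing R] [Algebra k R] {z : A} (hz : Diag.IsPrim (k := k) z)
    (f : WithConv (A →ₐ[k] R)) : (f⁻¹).ofConv z = - f.ofConv z := by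
  show f.ofConv (HopfAlgebraStruct.antipode (R := k) z) = _
  rw [antipode_prim hz, map_neg]

variable (z : A) {B : Type u} [CommRing B] [Algebra k B] [Algebra B A] [IsScalarTower k B A]
  (b0 : B)

variable (k B) in
/-- The first leg of `A ⊗[k[z]] A`. -/
def x1 : WithConv (A →ₐ[k] A ⊗[B] A) :=
  toConv Algebra.TensorProduct.includeLeft

variable (k B) in
/-- The second leg of `A ⊗[k[z]] A`. -/
def x2 : WithConv (A →ₐ[k] A ⊗[B] A) :=
  toConv ((Algebra.TensorProduct.includeRight :
    A →ₐ[B] A ⊗[B] A).restrictScalars k)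

theorem x1_apply (a : A) : (x1 k B).ofConv a = a ⊗ₜ 1 := rfl

theorem x2_apply (a : A) : (x2 k B).ofConv a = 1 ⊗ₜ a := rfl

theorem x1_z (hb : algebraMap B A b0 = z) : (x1 k B).ofConv z = (x2 k B).ofConv z := by
  rw [x1_apply, x2_apply, ← hb, Algebra.algebraMap_eq_smul_one, TensorProduct.smul_tmul]

variable (hz : Diag.IsPrim (k := k) z) (hb : algebraMap B A b0 = z)

include hz hb in
theorem x12_vanish : ∀ a ∈ zI z,
    ((x1 k B)⁻¹ * x2 k B).ofConv a = 0 := by
  have h : zI z ≤ RingHom.ker ((x1 k B)⁻¹ * x2 k B).ofConv := by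
    refine Ideal.span_le.2 (Set.singleton_subset_iff.2 ?_)
    show ((x1 k B)⁻¹ * x2 k B).ofConv z = 0
    rw [mul_prim hz, inv_prim hz, x1_z z b0 hb, neg_add_cancel]
  exact fun a ha => h ha

/-- The difference of the two legs, a point of `A/(z)`. -/
def g12 : WithConv (A ⧸ zI z →ₐ[k] A ⊗[B] A) :=
  toConv (Ideal.Quotient.liftₐ (zI z) ((x1 k B)⁻¹ * x2 k B).ofConv (x12_vanish z b0 hz hb))

/-- Restriction of points along `A → A/(z)`. -/
def pull {R : Type u} [CommRing R] [Algebra k R] (g : WithConv (A ⧸ zI z →ₐ[k] R)) :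
    WithConv (A →ₐ[k] R) :=
  toConv (g.ofConv.comp (Ideal.Quotient.mkₐ k (zI z)))

theorem pull_g12 : pull z (g12 z b0 hz hb) = (x1 k B)⁻¹ * x2 k B :=
  WithConv.ofConv_injective (AlgHom.ext fun _ => rfl)

/-- The coaction `A → A ⊗ A/(z)`. -/
def rho : A →ₐ[k] A ⊗[k] (A ⧸ zI z) :=
  (Algebra.TensorProduct.map (AlgHom.id k A) (Ideal.Quotient.mkₐ k (zI z))).comp
    (Bialgebra.comulAlgHom k A)

omit [Coalgebra.IsCocomm k A] in
theorem rho_eq : toConv (rho (k := k) z) =
    toConv (Algebra.TensorProduct.includeLeft : A →ₐ[k] A ⊗[k] (A ⧸ zI z)) *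
      pull z (toConv Algebra.TensorProduct.includeRight) := by
  apply WithConv.ofConv_injective
  rw [AlgHom.convMul_def]
  simp only [rho, ← AlgHom.comp_assoc]
  congr 1
  ext a <;> simp [pull]

include hz in
omit [Coalgebra.IsCocomm k A] in
theorem rho_z : rho (k := k) z z = z ⊗ₜ 1 := by
  have h0 : Ideal.Quotient.mkₐ k (zI z) z = 0 :=
    Ideal.Quotient.eq_zero_iff_mem.2 (Ideal.mem_span_singleton_self z)
  rw [rho, AlgHom.comp_apply, Bialgebra.comulAlgHom_apply,
    show CoalgebraStruct.comul (R := k) z = _ from hz, map_add, Algebra.TensorProduct.map_tmul,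
    Algebra.TensorProduct.map_tmul, h0, TensorProduct.tmul_zero, add_zero, map_one]
  rfl

variable (hgen : Algebra.adjoin k ({b0} : Set B) = ⊤)

include hz hb hgen in
omit [Coalgebra.IsCocomm k A] in
theorem rho_zB (b : B) : rho (k := k) z (algebraMap B A b) = algebraMap B A b ⊗ₜ 1 := by
  have : (rho (k := k) z).comp (IsScalarTower.toAlgHom k B A) =
      (Algebra.TensorProduct.includeLeft : A →ₐ[k] A ⊗[k] (A ⧸ zI z)).comp
        (IsScalarTower.toAlgHom k B A) := by
    refine AlgHom.ext_of_adjoin_eq_top hgen fun x hx => ?_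
    rw [Set.mem_singleton_iff] at hx
    show rho (k := k) z (algebraMap B A x) = algebraMap B A x ⊗ₜ 1
    rw [hx, hb, rho_z z hz]
  exact DFunLike.congr_fun this b

/-- `a ⊗ b ↦ (a ⊗ 1) ρ(b)`. -/
def Phi : A ⊗[B] A →ₐ[k] A ⊗[k] (A ⧸ zI z) :=
  (Algebra.TensorProduct.lift
    (Algebra.TensorProduct.includeLeft : A →ₐ[B] A ⊗[k] (A ⧸ zI z))
    ({ (rho (k := k) z).toRingHom with
        commutes' := fun b => rho_zB z b0 hz hb hgen b } : A →ₐ[B] A ⊗[k] (A ⧸ zI z))
    (fun _ _ => .all _ _)).restrictScalars k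

omit [Coalgebra.IsCocomm k A] in
theorem Phi_tmul (a b : A) : Phi z b0 hz hb hgen (a ⊗ₜ b) = (a ⊗ₜ 1) * rho (k := k) z b := rfl

/-- `a ⊗ c ↦ a · g12(c)`. -/
def Psi : A ⊗[k] (A ⧸ zI z) →ₐ[k] A ⊗[B] A :=
  Algebra.TensorProduct.lift (x1 k B).ofConv (g12 z b0 hz hb).ofConv fun _ _ => .all _ _

theorem Psi_rho (a : A) : Psi z b0 hz hb (rho (k := k) z a) = (x2 k B).ofConv a := by
  have h : toConv ((Psi z b0 hz hb).comp (rho (k := k) z)) = x2 k B := by
    rw [show rho (k := k) z = (toConv (rho (k := k) z)).ofConv from rfl, rho_eq,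
      AlgHom.comp_convMul_distrib, toConv_ofConv,
      show toConv ((Psi z b0 hz hb).comp (toConv (Algebra.TensorProduct.includeLeft :
        A →ₐ[k] A ⊗[k] (A ⧸ zI z))).ofConv) = x1 k B from
        WithConv.ofConv_injective (AlgHom.ext fun a => by simp [Psi]),
      show toConv ((Psi z b0 hz hb).comp (pull z (toConv
        (Algebra.TensorProduct.includeRight : (A ⧸ zI z) →ₐ[k] A ⊗[k] (A ⧸ zI z)))).ofConv) =
          pull z (g12 z b0 hz hb) from
        WithConv.ofConv_injective (AlgHom.ext fun a => by simp [Psi, pull]),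
      pull_g12, mul_inv_cancel_left]
  exact DFunLike.congr_fun (congrArg WithConv.ofConv h) a

theorem Psi_Phi (t : A ⊗[B] A) : Psi z b0 hz hb (Phi z b0 hz hb hgen t) = t := by
  induction t with
  | zero => simp
  | add p q hp hq => rw [map_add, map_add, hp, hq]
  | tmul a b =>
    rw [Phi_tmul, map_mul, Psi_rho, x2_apply,
      show Psi z b0 hz hb (a ⊗ₜ 1) = (x1 k B).ofConv a by simp [Psi], x1_apply,
      Algebra.TensorProduct.tmul_mul_tmul, _root_.mul_one, _root_.one_mul]

theorem Phi_Psi (t : A ⊗[k] (A ⧸ zI z)) : Phi z b0 hz hb hgen (Psi z b0 hz hb t) = t := by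
  have h2 : toConv ((Phi z b0 hz hb hgen).comp (pull z (g12 z b0 hz hb)).ofConv) =
      pull z (toConv Algebra.TensorProduct.includeRight) := by
    have e1 : toConv ((Phi z b0 hz hb hgen).comp (x1 k B).ofConv) =
        toConv (Algebra.TensorProduct.includeLeft : A →ₐ[k] A ⊗[k] (A ⧸ zI z)) :=
      WithConv.ofConv_injective (AlgHom.ext fun a => by
        show Phi z b0 hz hb hgen (a ⊗ₜ 1) = a ⊗ₜ 1
        rw [Phi_tmul, map_one, _root_.mul_one])
    have e2 : toConv ((Phi z b0 hz hb hgen).comp (x2 k B).ofConv) = toConv (rho (k := k) z) :=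
      WithConv.ofConv_injective (AlgHom.ext fun a => by
        show Phi z b0 hz hb hgen (1 ⊗ₜ a) = rho (k := k) z a
        rw [Phi_tmul, ← Algebra.TensorProduct.one_def, _root_.one_mul])
    have e3 : toConv ((Phi z b0 hz hb hgen).comp ((x1 k B)⁻¹).ofConv) =
        (toConv ((Phi z b0 hz hb hgen).comp (x1 k B).ofConv))⁻¹ :=
      WithConv.ofConv_injective (AlgHom.comp_assoc _ _ _).symm
    rw [pull_g12, AlgHom.comp_convMul_distrib, toConv_ofConv, e3, e2, e1, rho_eq,
      inv_mul_cancel_left]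
  induction t with
  | zero => simp
  | add p q hp hq => rw [map_add, map_add, hp, hq]
  | tmul a c =>
    obtain ⟨b, rfl⟩ := Ideal.Quotient.mkₐ_surjective k (zI z) c
    have hbb : Phi z b0 hz hb hgen ((g12 z b0 hz hb).ofConv (Ideal.Quotient.mkₐ k (zI z) b)) =
        1 ⊗ₜ Ideal.Quotient.mkₐ k (zI z) b :=
      DFunLike.congr_fun (congrArg WithConv.ofConv h2) b
    rw [show Psi z b0 hz hb (a ⊗ₜ Ideal.Quotient.mkₐ k (zI z) b) =
        (x1 k B).ofConv a * (g12 z b0 hz hb).ofConv (Ideal.Quotient.mkₐ k (zI z) b) by simp [Psi],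
      map_mul, hbb, x1_apply, Phi_tmul, map_one, _root_.mul_one,
      Algebra.TensorProduct.tmul_mul_tmul, _root_.mul_one, _root_.one_mul]

end Groth.Agent.Hopf35.Uni
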