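import Groth.Agent.S3264
import Groth.Agent.S5422
import Groth.Agent.S2148
import Groth.Agent.SGA3a.HopfFG
import Groth.Agent.Comod33.HopfFlat
import Groth.Agent.Comod33.Dimension
import Groth.Agent.Comod33.DimOneAdd
import Groth.Agent.Comod33.PrimUnipotent
import Groth.Agent.Comod33.Connected
import Groth.Agent.CAlg6.RegularNormal
import Groth.Agent.E4O.DimField
import Groth.Agent.FBase64.TensorField
import Groth.Agent.Hopf35.UniGalois
import Mathlib.RingTheory.Algebraic.Integral

/-!
helper35: on a smooth connected commutative unipotent group in characteristic `p` there is a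
primitive function `z` with `dz ≠ 0` whose algebra `k[z]` is relatively algebraically closed.
-/

set_option autoImplicit false

universe u

open TensorProduct WithConv Coalgebra

noncomputable section

namespace Groth.Agent.Hopf35.Uni

open Comod33

variable {k : Type u} [Field k] {A : Type u} [CommRing A] [HopfAlgebra k A]

theorem exists_prim_ne_zero [Algebra.FiniteType k A] (hU : HopfRep.IsUnipotent k A)
    (hne : Aug.aug k A ≠ ⊥) : ∃ w : A, Diag.IsPrim (k := k) w ∧ w ≠ 0 := by
  haveI : (⊥ : Ideal A).IsHopfIdeal k := by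
    rw [← Ideal.span_empty]
    exact IdComp.isHopfIdeal_span _ (fun _ h => h.elim) (fun _ h => h.elim) fun _ h => h.elim
  obtain ⟨x, hx0, hx⟩ := (S3264.result k A).1 hU ⊥ fun h => hne h.symm
  obtain ⟨w, rfl⟩ := Ideal.Quotient.mk_surjective x
  have hinj : Function.Injective (Ideal.Quotient.mkₐ k (⊥ : Ideal A)) := fun a b h =>
    sub_eq_zero.1 ((Submodule.mem_bot A).1 (Ideal.Quotient.eq.1 h))
  refine ⟨w, SubHopf.map_injective (k := k) (f := (Ideal.Quotient.mkₐ k (⊥ : Ideal A)).toLinearMap)
    (g := (Ideal.Quotient.mkₐ k (⊥ : Ideal A)).toLinearMap) hinj hinj ?_, fun h => hx0 (by rw [h]; rfl)⟩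
  rw [Bialgebra.Quotient.comul_mk] at hx
  refine hx.trans ?_
  simp

theorem isPrim_sub {x y : A} (hx : Diag.IsPrim (k := k) x) (hy : Diag.IsPrim (k := k) y) :
    Diag.IsPrim (k := k) (x - y) := (PrimGen.prims k A).sub_mem hx hy

theorem D_eq_zero_of_prim_mem_sq {z : A} (hz : Diag.IsPrim (k := k) z)
    (h2 : z ∈ Aug.aug k A ^ 2) : KaehlerDifferential.D k A z = 0 := by
  have hq : (HopfOm57.constSq k A).mkQ (1 : A) = 0 :=
    (Submodule.Quotient.mk_eq_zero _).2
      (Submodule.mem_sup_left (Submodule.mem_span_singleton_self _))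
  have hqz : (HopfOm57.constSq k A).mkQ z = 0 :=
    (Submodule.Quotient.mk_eq_zero _).2 (Submodule.mem_sup_right h2)
  rw [← HopfOm57.psi_der]
  show HopfOm57.psi k A ((HopfOm57.constSq k A).mkQ.lTensor A (CoalgebraStruct.comul (R := k) z)) = 0
  rw [show CoalgebraStruct.comul (R := k) z = _ from hz, map_add, LinearMap.lTensor_tmul,
    LinearMap.lTensor_tmul, hq, hqz, TensorProduct.tmul_zero, TensorProduct.tmul_zero, add_zero, map_zero]

theorem isIntegrallyClosed (k : Type u) [Field k] {A : Type u} [CommRing A] [IsDomain A]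
    [Algebra k A] [Algebra.FiniteType k A] [Algebra.FormallySmooth k A] : IsIntegrallyClosed A := by
  have : Algebra.FinitePresentation k A := Algebra.FinitePresentation.of_finiteType.1 inferInstance
  have : Algebra.Smooth k A := ⟨inferInstance, inferInstance⟩
  have := Var76.RegKaehler.isRegularRing_of_smooth (k := k) A
  refine IsIntegrallyClosed.of_localization_maximal fun m _ hm => ?_
  have := IsRegularRing.isRegularLocalRing_localization m
  exact CAlg6.isIntegrallyClosed_of_regular _

section Smooth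

variable [IsAlgClosed k] [IsDomain A] [Algebra.FiniteType k A] [Algebra.FormallySmooth k A]

variable {p : ℕ} [hp : Fact p.Prime] [CharP k p]

theorem exists_pow_of_D_eq_zero {w : A} (h : KaehlerDifferential.D k A w = 0) :
    ∃ y : A, y ^ p = w := by
  have := isIntegrallyClosed k (A := A)
  have h1 : KaehlerDifferential.D k (FractionRing A) (algebraMap A (FractionRing A) w) = 0 := by
    rw [← KaehlerDifferential.map_D k k A (FractionRing A) w, h, map_zero]
  haveI : PerfectRing k p := inferInstance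
  obtain ⟨b, hb⟩ := (S2148.result (k := k) p _).mp h1
  have hint : IsIntegral A b :=
    IsIntegral.of_pow hp.out.pos (by rw [hb]; exact isIntegral_algebraMap)
  obtain ⟨f, rfl⟩ := IsIntegrallyClosed.isIntegral_iff.mp hint
  exact ⟨f, IsFractionRing.injective A (FractionRing A) (by rw [map_pow, hb])⟩

include hp in
omit [Algebra.FiniteType k A] [Algebra.FormallySmooth k A] in
theorem isPrim_of_pow {y : A} (h : Diag.IsPrim (k := k) (y ^ p)) : Diag.IsPrim (k := k) y := by
  have : IsDomain (A ⊗[k] A) := FBase64.isDomain_tensor_of_isAlgClosed _ _ _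
  have : CharP (A ⊗[k] A) p := charP_of_injective_algebraMap (algebraMap k (A ⊗[k] A)).injective p
  apply frobenius_inj (A ⊗[k] A) p
  show CoalgebraStruct.comul (R := k) y ^ p = (y ⊗ₜ[k] (1 : A) + (1 : A) ⊗ₜ[k] y) ^ p
  rw [← Bialgebra.comul_pow, show CoalgebraStruct.comul (R := k) (y ^ p) = _ from h, add_pow_char,
    Algebra.TensorProduct.tmul_pow, Algebra.TensorProduct.tmul_pow, one_pow]

include hp in
/-- A primitive element with non-zero differential. -/
theorem exists_prim_D_ne_zero (hU : HopfRep.IsUnipotent k A) (hne : Aug.aug k A ≠ ⊥) :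
    ∃ w : A, Diag.IsPrim (k := k) w ∧ w ≠ 0 ∧ KaehlerDifferential.D k A w ≠ 0 := by
  have : IsNoetherianRing A := Algebra.FiniteType.isNoetherianRing k A
  obtain ⟨w0, hw0, hw0'⟩ := exists_prim_ne_zero hU hne
  let S : Set (Ideal A) := {I | ∃ x : A, Diag.IsPrim (k := k) x ∧ x ≠ 0 ∧ I = Ideal.span {x}}
  obtain ⟨_, ⟨w, hw, hne', rfl⟩, hmax⟩ :=
    set_has_maximal_iff_noetherian.2 inferInstance S ⟨_, w0, hw0, hw0', rfl⟩
  refine ⟨w, hw, hne', fun hD => ?_⟩
  obtain ⟨y, rfl⟩ := exists_pow_of_D_eq_zero (p := p) hD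
  have hy0 : y ≠ 0 := fun h => hne' (by rw [h, zero_pow hp.out.ne_zero])
  have hy : Diag.IsPrim (k := k) y := isPrim_of_pow hw
  refine hmax (Ideal.span {y}) ⟨y, hy, hy0, rfl⟩ (lt_of_le_of_ne ?_ ?_)
  · exact Ideal.span_singleton_le_span_singleton.2 (dvd_pow_self y hp.out.ne_zero)
  · intro e
    obtain ⟨a, ha⟩ := Ideal.mem_span_singleton'.1 (e ▸ Ideal.mem_span_singleton_self y :
      y ∈ Ideal.span {y ^ p})
    have h2 : a * y ^ (p - 1) = 1 := by
      refine mul_right_cancel₀ hy0 ?_
      rw [_root_.mul_assoc, ← pow_succ, Nat.sub_add_cancel hp.out.one_le, ha, _root_.one_mul]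
    have := congrArg (Bialgebra.counitAlgHom k A) h2
    rw [map_mul, map_pow, map_one, show Bialgebra.counitAlgHom k A y = 0 from Diag.counit_prim hy,
      zero_pow (Nat.sub_ne_zero_of_lt hp.out.one_lt), mul_zero] at this
    exact zero_ne_one this

omit [Algebra.FormallySmooth k A] [Fact p.Prime] [CharP k p] in
theorem injective_aeval_prim {z : A} (hz : Diag.IsPrim (k := k) z) (h0 : z ≠ 0) :
    Function.Injective (Polynomial.aeval (R := k) z) := by
  refine (injective_iff_map_eq_zero _).2 fun P hP => ?_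
  by_contra hne
  exact h0 (DimOneClass.prim_eq_zero_of_aeval hz hne hP)

omit [Algebra.FormallySmooth k A] [Fact p.Prime] [CharP k p] [IsAlgClosed k] [IsDomain A]
  [Algebra.FiniteType k A] in
theorem faithfullyFlat_adjoin {z : A} (hz : Diag.IsPrim (k := k) z) :
    Module.FaithfullyFlat (Algebra.adjoin k ({z} : Set A)) A :=
  HopfFlat.faithfullyFlat_of_isSubHopf
    (PrimUni.isSubHopf_adjoin _ hz)

omit [Algebra.FormallySmooth k A] [Fact p.Prime] [CharP k p] in
theorem exists_point_eq {z : A} (hz : Diag.IsPrim (k := k) z) (h0 : z ≠ 0) (c : k) :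
    ∃ m : Ideal A, m.IsMaximal ∧ z - algebraMap k A c ∈ m := by
  have hinj := injective_aeval_prim hz h0
  let B := Algebra.adjoin k ({z} : Set A)
  have := faithfullyFlat_adjoin hz
  let b : B := ⟨z, Algebra.self_mem_adjoin_singleton k z⟩ - algebraMap k B c
  have hb : ¬ IsUnit b := by
    rintro ⟨v, hv⟩
    obtain ⟨Q, hQ⟩ := (Algebra.adjoin_singleton_eq_range_aeval k z).le (↑v⁻¹ : B).2
    have e : (Polynomial.X - Polynomial.C c) * Q = 1 := hinj (by
      rw [map_mul, map_sub, Polynomial.aeval_X, Polynomial.aeval_C, map_one]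
      have := congrArg Subtype.val v.mul_inv
      rw [hv] at this
      simpa [b, ← hQ] using this)
    exact Polynomial.not_isUnit_X_sub_C c (IsUnit.of_mul_eq_one _ e)
  have hne : (Ideal.span {algebraMap B A b}) ≠ ⊤ := by
    intro h
    apply hb
    have h2 := Ideal.comap_map_eq_self_of_faithfullyFlat (B := A) (Ideal.span ({b} : Set B))
    rw [Ideal.map_span, Set.image_singleton, h, Ideal.comap_top] at h2
    exact Ideal.span_singleton_eq_top.1 h2.symm
  obtain ⟨m, hm, hle⟩ := Ideal.exists_le_maximal _ hne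
  refine ⟨m, hm, ?_⟩
  have := hle (Ideal.mem_span_singleton_self _)
  simpa [b] using this

omit [Algebra.FormallySmooth k A] [Fact p.Prime] [CharP k p] in
theorem card_roots_le {z : A} (hz : Diag.IsPrim (k := k) z) (h0 : z ≠ 0) {P : Polynomial k}
    [DecidableEq k] (hP : P ≠ 0) {w : A} (hw : Polynomial.aeval z P = w) :
    P.roots.toFinset.card ≤ ((Ideal.span ({w} : Set A)).minimalPrimes).ncard := by
  classical
  set s := P.roots.toFinset with hsdef
  have hs : ∀ r, r ∈ s ↔ P.IsRoot r := fun r => by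
    rw [hsdef, Multiset.mem_toFinset, Polynomial.mem_roots hP]
  have : IsNoetherianRing A := Algebra.FiniteType.isNoetherianRing k A
  have hfin := Ideal.finite_minimalPrimes_of_isNoetherianRing A (Ideal.span ({w} : Set A))
  have key : ∀ r : s, ∃ q ∈ (Ideal.span ({w} : Set A)).minimalPrimes, ∀ r' : s,
      z - algebraMap k A (r'.1) ∈ q → r' = r := by
    intro r
    obtain ⟨m, hm, hrm⟩ := exists_point_eq hz h0 r.1
    have hwm : Ideal.span ({w} : Set A) ≤ m := by
      obtain ⟨Q, hQ⟩ := Polynomial.dvd_iff_isRoot.2 ((hs r.1).1 r.2)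
      refine Ideal.span_le.2 (Set.singleton_subset_iff.2 ?_)
      rw [SetLike.mem_coe, ← hw, hQ, map_mul, map_sub, Polynomial.aeval_X, Polynomial.aeval_C]
      exact Ideal.mul_mem_right _ _ hrm
    obtain ⟨q, hq, hqm⟩ := Ideal.exists_minimalPrimes_le hwm
    refine ⟨q, hq, fun r' hr' => ?_⟩
    by_contra hne
    have h1 : algebraMap k A (r.1 - r'.1) ∈ m := by
      have := sub_mem (hqm hr') hrm
      rwa [sub_sub_sub_cancel_left, ← map_sub] at this
    have h2 : (r.1 - r'.1) ≠ 0 := sub_ne_zero.2 fun e => hne (Subtype.ext e.symm)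
    exact hm.ne_top (Ideal.eq_top_of_isUnit_mem _ h1 ((Ne.isUnit h2).map (algebraMap k A)))
  choose q hq hq' using key
  have hroot : ∀ r : s, ∃ r0 : k, P.IsRoot r0 ∧ z - algebraMap k A r0 ∈ q r := by
    intro r
    have hwq : w ∈ q r := (hq r).1.2 (Ideal.mem_span_singleton_self w)
    rw [← hw, (IsAlgClosed.splits P).eq_prod_roots, map_mul, Polynomial.aeval_C] at hwq
    rcases (hq r).1.1.mem_or_mem hwq with h | h
    · exact absurd (Ideal.eq_top_of_isUnit_mem _ h
        ((Ne.isUnit (Polynomial.leadingCoeff_ne_zero.2 hP)).map _)) (hq r).1.1.ne_top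
    · rw [map_multiset_prod, Multiset.map_map] at h
      obtain ⟨y, hy, hyq⟩ := (hq r).1.1.multiset_prod_mem_iff_exists_mem _ |>.1 h
      obtain ⟨r0, hr0, rfl⟩ := Multiset.mem_map.1 hy
      exact ⟨r0, (Polynomial.mem_roots hP).1 hr0, by simpa using hyq⟩
  have hinj : Function.Injective q := by
    intro r r' e
    obtain ⟨r0, hr0, hr0q⟩ := hroot r
    exact (hq' r ⟨r0, (hs r0).2 hr0⟩ hr0q).symm.trans (hq' r' ⟨r0, (hs r0).2 hr0⟩ (e ▸ hr0q))
  calc s.card = Nat.card s := by rw [Nat.card_eq_fintype_card, Fintype.card_coe]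
    _ ≤ Nat.card (Ideal.span ({w} : Set A)).minimalPrimes :=
        haveI := hfin.to_subtype
        Nat.card_le_card_of_injective (fun r => ⟨q r, hq r⟩) fun a b h =>
          hinj (congrArg Subtype.val h)
    _ = _ := Nat.card_coe_set_eq _

end Smooth

end Groth.Agent.Hopf35.Uni
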