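import Mathlib
import Groth.Agent.AdicC27.Approx
import Groth.Agent.CAlg7.Chevalley
import Groth.Agent.LinRed34.FreeOrbit
import Groth.Agent.LinRed34.Points

/-! Completeness of invariants for the `m`-adic filtration over a complete local ring of invariants. -/

set_option autoImplicit false

noncomputable section

open TensorProduct HopfRep

namespace Groth.Agent.Hopf35.LunaComplete

open Groth.Agent.Comod33 Groth.Agent.LinRed34

universe u v w w'

/-- Chevalley's lemma for finite modules over a complete Noetherian local ring. -/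
theorem exists_le_pow_smul {R : Type u} [CommRing R] [IsNoetherianRing R] [IsLocalRing R]
    [IsAdicComplete (IsLocalRing.maximalIdeal R) R] {P : Type v} [AddCommGroup P] [Module R P] [Module.Finite R P]
    (F : ℕ → Submodule R P) (hF : Antitone F) (h : ⨅ i, F i = ⊥) (N : ℕ) :
    ∃ n, F n ≤ (IsLocalRing.maximalIdeal R ^ N • ⊤ : Submodule R P) := by
  set m := IsLocalRing.maximalIdeal R
  haveI hc : IsAdicComplete m P := AdicC27.isAdicComplete_of_finite P
  have stab : ∀ M, ∃ n, ∀ n', n ≤ n' → (F n ⊔ m ^ M • ⊤) = (F n' ⊔ (m ^ M • ⊤ : Submodule R P)) := fun M => by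
    let Q := (m ^ M • ⊤ : Submodule R P)
    haveI : IsArtinianRing (R ⧸ m ^ M) := CAlg7.isArtinian_quot_pow M
    have htor : Module.IsTorsionBySet R (P ⧸ Q) (m ^ M : Ideal R) := by
      intro q a
      obtain ⟨p, rfl⟩ := Submodule.Quotient.mk_surjective _ q
      rw [← Submodule.Quotient.mk_smul, Submodule.Quotient.mk_eq_zero]
      exact Submodule.smul_mem_smul a.2 trivial
    letI := htor.module
    haveI : IsScalarTower R (R ⧸ m ^ M) (P ⧸ Q) := htor.isScalarTower
    haveI : Module.Finite (R ⧸ m ^ M) (P ⧸ Q) := Module.Finite.of_restrictScalars_finite R _ _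
    haveI hart : IsArtinian R (P ⧸ Q) := isArtinian_of_surjective_algebraMap (S := R) (R := R ⧸ m ^ M)
      Ideal.Quotient.mk_surjective
    obtain ⟨n, hn⟩ := monotone_stabilizes_iff_artinian.2 hart
      ⟨fun n => OrderDual.toDual ((F n).map Q.mkQ), fun a b hab => Submodule.map_mono (hF hab)⟩
    refine ⟨n, fun n' hn' => ?_⟩
    have := congrArg (Submodule.comap Q.mkQ) (OrderDual.toDual.injective (hn n' hn'))
    simpa [Submodule.comap_map_eq, Q] using this
  choose n₀ hn₀ using stab
  let n : ℕ → ℕ := fun M => ∑ i ∈ Finset.range (M + 1), (n₀ i + i)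
  have hn₀le : ∀ M, n₀ M + M ≤ n M := fun M =>
    Finset.single_le_sum (f := fun i => n₀ i + i) (fun _ _ => Nat.zero_le _) (Finset.self_mem_range_succ M)
  have hmono : Monotone n := fun a b hab =>
    Finset.sum_le_sum_of_subset (fun i hi => by simp only [Finset.mem_range] at hi ⊢; omega)
  refine ⟨n N, fun x hx => ?_⟩
  have step : ∀ (M : ℕ) (y : {y : P // y ∈ F (n M) ⊔ (m ^ M • ⊤ : Submodule R P)}),
      ∃ z : {y : P // y ∈ F (n (M + 1)) ⊔ (m ^ (M + 1) • ⊤ : Submodule R P)},
        z.1 - y.1 ∈ (m ^ M • ⊤ : Submodule R P) := fun M y => by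
    have h1 : y.1 ∈ F (n (M + 1)) ⊔ (m ^ M • ⊤ : Submodule R P) := by
      rw [← hn₀ M (n (M + 1)) (by have := hn₀le M; have := hmono (Nat.le_succ M); simp only [Nat.succ_eq_add_one] at this ⊢; omega),
        hn₀ M (n M) (by have := hn₀le M; omega)]
      exact y.2
    obtain ⟨a, ha, b, hb, hab⟩ := Submodule.mem_sup.1 h1
    exact ⟨⟨a, Submodule.mem_sup_left ha⟩, by rw [← hab, sub_add_cancel_left]; exact neg_mem hb⟩
  choose next hnext using step
  let seq : ∀ i, {y : P // y ∈ F (n (N + i)) ⊔ (m ^ (N + i) • ⊤ : Submodule R P)} :=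
    Nat.rec ⟨x, Submodule.mem_sup_left hx⟩ (fun i y => next (N + i) y)
  have hpow : ∀ {a b : ℕ}, a ≤ b → (m ^ b • ⊤ : Submodule R P) ≤ m ^ a • ⊤ := fun hab =>
    Submodule.smul_mono_left (Ideal.pow_le_pow_right hab)
  have hcau : ∀ {a b}, a ≤ b → (seq b).1 - (seq a).1 ∈ (m ^ (N + a) • ⊤ : Submodule R P) := by
    intro a b hab
    induction hab with
    | refl => rw [sub_self]; exact Submodule.zero_mem _
    | @step b hb ih =>
      rw [show (seq (b + 1)).1 - (seq a).1 =
        ((next (N + b) (seq b)).1 - (seq b).1) + ((seq b).1 - (seq a).1) by rw [sub_add_sub_cancel]]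
      exact Submodule.add_mem _ (hpow (Nat.add_le_add_left hb N) (hnext _ (seq b))) ih
  obtain ⟨L, hL⟩ := IsPrecomplete.prec (I := m) hc.toIsPrecomplete (f := fun i => (seq i).1)
    (fun {a b} hab => by rw [SModEq.sub_mem, ← neg_sub]; exact neg_mem (hpow (by omega) (hcau hab)))
  have hLn : ∀ i, (seq i).1 - L ∈ (m ^ (N + i) • ⊤ : Submodule R P) := fun i => by
    have h4 := hL (N + i + 1)
    rw [SModEq.sub_mem] at h4
    rw [show (seq i).1 - L = ((seq (N + i + 1)).1 - L) - ((seq (N + i + 1)).1 - (seq i).1) by abel]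
    exact Submodule.sub_mem _ (hpow (Nat.le_succ _) h4) (hcau (show i ≤ N + i + 1 by omega))
  have hLmem : ∀ i, L ∈ F i := fun i => by
    have hcl : ∀ M, L ∈ F i ⊔ (m ^ M • ⊤ : Submodule R P) := fun M => by
      set j := M + i with hj
      have h5 : L ∈ F (n (N + j)) ⊔ (m ^ (N + j) • ⊤ : Submodule R P) := by
        rw [show L = (seq j).1 - ((seq j).1 - L) by abel]
        exact Submodule.sub_mem _ (seq j).2 (Submodule.mem_sup_right (hLn j))
      have hle : F (n (N + j)) ≤ F i := hF (by have := hn₀le (N + j); omega)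
      exact (sup_le_sup hle (hpow (show M ≤ N + j by omega))) h5
    rw [← Submodule.Quotient.mk_eq_zero]
    haveI : IsHausdorff m (P ⧸ F i) := IsHausdorff.of_le_jacobson m _ (IsAdicComplete.le_jacobson_bot m)
    refine IsHausdorff.haus (I := m) inferInstance _ fun M => ?_
    rw [SModEq.zero]
    obtain ⟨a, ha, b, hb, hab⟩ := Submodule.mem_sup.1 (hcl M)
    rw [← hab, Submodule.Quotient.mk_add, (Submodule.Quotient.mk_eq_zero _).2 ha, zero_add]
    have := Submodule.mem_map_of_mem (f := (F i).mkQ) hb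
    rw [Submodule.map_smul'', Submodule.map_top, Submodule.range_mkQ] at this
    exact this
  have hL0 : L = 0 := by
    have : L ∈ ⨅ i, F i := Submodule.mem_iInf _ |>.2 hLmem
    rwa [h, Submodule.mem_bot] at this
  simpa [hL0, seq] using hLn 0

variable {k : Type u} [Field k] {H : Type v} [CommRing H] [HopfAlgebra k H]
variable {A : Type w} [CommRing A] [Algebra k A] [IsNoetherianRing A] [Comod k H A] [GLin.IsCoactAlg k H A]
variable {M : Type w'} [AddCommGroup M] [Module k M] [Module A M] [IsScalarTower k A M] [Module.Finite A M]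
  [Comod k H M] [TameAct.IsHopfMod k H A M]

local notation "R₀" => GLin.invariants k H A
local notation "P₀" => fixedInv k H A M

theorem finite_fixedInv (hG : IsLinearlyReductive k H) : Module.Finite R₀ P₀ := by
  classical
  haveI : IsNoetherian A M := isNoetherian_of_isNoetherianRing_of_finite A M
  obtain ⟨s, hs, hspan⟩ := exists_finset_fixedPts (k := k) (A := H) (R := A) (M := M) hG
  refine Module.finite_def.2 ⟨s.attach.image fun y => (⟨y.1, hs y.2⟩ : P₀), eq_top_iff.2 ?_⟩
  rintro ⟨p, hp⟩ -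
  obtain ⟨c, hc, hsum⟩ := hspan p hp
  have : (⟨p, hp⟩ : P₀) = ∑ y ∈ s.attach, (⟨c y.1, hc y.1⟩ : R₀) • (⟨y.1, hs y.2⟩ : P₀) := by
    apply Subtype.ext
    simp only [AddSubmonoidClass.coe_finsetSum, Submodule.coe_smul]
    rw [hsum, ← Finset.sum_attach]
    rfl
  rw [this]
  exact Submodule.sum_mem _ fun y _ => Submodule.smul_mem _ _
    (Submodule.subset_span (Finset.mem_image_of_mem _ (Finset.mem_attach _ y)))

theorem main (hG : IsLinearlyReductive k H) (m : Ideal A) [m.IsMaximal]
    (hm : IsSubcomod (k := k) (A := H) (m.restrictScalars k))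
    [IsLocalRing R₀] [IsNoetherianRing R₀] [IsAdicComplete (IsLocalRing.maximalIdeal R₀) R₀] :
    (∀ x ∈ fixedPts k H M, (∀ n : ℕ, x ∈ (m ^ n • ⊤ : Submodule A M)) → x = 0) ∧
      ∀ x : ℕ → M, (∀ n, x n ∈ fixedPts k H M) →
        (∀ n, x (n + 1) - x n ∈ (m ^ n • ⊤ : Submodule A M)) →
          ∃ y ∈ fixedPts k H M, ∀ n, y - x n ∈ (m ^ n • ⊤ : Submodule A M) := by
  haveI hHM : TameAct.IsHopfMod k H A A := isHopfMod_self
  let m₀ := IsLocalRing.maximalIdeal R₀
  have hle : ∀ a : R₀, (a : A) ∈ m → a ∈ m₀ := fun a ha hu => by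
    obtain ⟨u, rfl⟩ := hu
    exact ‹m.IsMaximal›.ne_top (Ideal.eq_top_of_isUnit_mem _ ha (u.isUnit.map (GLin.invariants k H A).val))
  have hm₀ : ∀ a ∈ m₀, (a : A) ∈ m := fun a ha => by
    by_contra hna
    obtain ⟨b, c, hc, hbc⟩ := ‹m.IsMaximal›.exists_inv hna
    have h1 := congrArg (reyInv (k := k) (A := H) (R := A) hG) hbc
    rw [map_add, mul_comm, show (a : A) * b = a • b from rfl, map_smul,
      show (reyInv (k := k) (A := H) (R := A) hG) 1 = 1 from reyInv_coe hG 1] at h1
    have h2 : (reyInv (k := k) (A := H) (R := A) hG c) ∈ m₀ := hle _ (rey_mem_of_isSubcomod hG hm hc)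
    refine (IsLocalRing.maximalIdeal.isMaximal R₀).ne_top ((Ideal.eq_top_iff_one _).2 ?_)
    rw [← h1]
    exact add_mem (Ideal.mul_mem_right _ _ ha) h2
  have hsep : ∀ x ∈ fixedPts k H M, (∀ n : ℕ, x ∈ (m ^ n • ⊤ : Submodule A M)) → x = 0 := by
    intro x hx hxn
    obtain ⟨r, hr⟩ := (Ideal.mem_iInf_smul_pow_eq_bot_iff m x).1 (Submodule.mem_iInf _ |>.2 hxn)
    let J := LinearMap.ker ((LinearMap.toSpanSingleton A M x).restrictScalars k)
    have hJ : IsSubcomod (k := k) (A := H) J := isSubcomod_ker (isComodHom_orbMap (R := A) hx)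
    have h1 : (1 - (r : A)) ∈ J := by
      show (1 - (r : A)) • x = 0
      rw [sub_smul, one_smul, hr, sub_self]
    have hj := rey_mem_of_isSubcomod hG hJ h1
    have hmr := rey_mem_of_isSubcomod hG hm r.2
    have hsum : rey k H A hG (1 - (r : A)) + rey k H A hG r = 1 := by
      rw [← map_add, sub_add_cancel]
      exact rey_of_fixed hG (GLin.invariants k H A).one_mem
    let u : R₀ := ⟨rey k H A hG (1 - (r : A)), rey_mem hG _⟩
    have hu : IsUnit u := by
      by_contra hnu
      refine (IsLocalRing.maximalIdeal.isMaximal R₀).ne_top ((Ideal.eq_top_iff_one _).2 ?_)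
      have : u + reyInv (k := k) (A := H) (R := A) hG r = 1 := Subtype.ext hsum
      rw [← this]
      exact add_mem hnu (hle _ hmr)
    obtain ⟨u', hu'⟩ := hu.exists_left_inv
    have h0 : (u : A) • x = 0 := hj
    calc x = ((u' : A) * (u : A)) • x := by rw [← Subalgebra.coe_mul, hu', OneMemClass.coe_one, one_smul]
      _ = 0 := by rw [mul_smul, h0, smul_zero]
  haveI := finite_fixedInv (k := k) (H := H) (A := A) (M := M) hG
  let F : ℕ → Submodule R₀ P₀ := fun n => ((m ^ n • ⊤ : Submodule A M).restrictScalars R₀).comap (P₀).subtype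
  have hF : Antitone F := fun a b hab => Submodule.comap_mono fun z hz =>
    Submodule.smul_mono_left (Ideal.pow_le_pow_right hab) hz
  have hinf : ⨅ i, F i = ⊥ := eq_bot_iff.2 fun p hp => by
    rw [Submodule.mem_iInf] at hp
    exact Subtype.ext (hsep p.1 p.2 fun n => hp n)
  have hmF : ∀ j, (m₀ ^ j • ⊤ : Submodule R₀ P₀) ≤ F j := by
    intro j
    rw [Submodule.smul_le]
    intro a ha p _
    show ((a : A) • (p : M)) ∈ (m ^ j • ⊤ : Submodule A M)
    refine Submodule.smul_mem_smul ?_ trivial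
    exact (Ideal.map_pow (GLin.invariants k H A).val m₀ j).le.trans
      (Ideal.pow_right_mono (Ideal.map_le_iff_le_comap.2 hm₀) j) (Ideal.mem_map_of_mem _ ha)
  refine ⟨hsep, fun x hx hdiff => ?_⟩
  choose N hN using exists_le_pow_smul F hF hinf
  let N' : ℕ → ℕ := fun j => ∑ i ∈ Finset.range (j + 1), (N i + i)
  have hN'le : ∀ j, N j + j ≤ N' j := fun j =>
    Finset.single_le_sum (f := fun i => N i + i) (fun _ _ => Nat.zero_le _) (Finset.self_mem_range_succ j)
  have hN'mono : Monotone N' := fun a b hab =>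
    Finset.sum_le_sum_of_subset (fun i hi => by simp only [Finset.mem_range] at hi ⊢; omega)
  have hcau : ∀ {a b}, a ≤ b → x b - x a ∈ (m ^ a • ⊤ : Submodule A M) := by
    intro a b hab
    induction hab with
    | refl => rw [sub_self]; exact Submodule.zero_mem _
    | @step b hb ih =>
      rw [← sub_add_sub_cancel (x (b + 1)) (x b) (x a)]
      exact add_mem (Submodule.smul_mono_left (Ideal.pow_le_pow_right hb) (hdiff b)) ih
  let f : ℕ → P₀ := fun j => ⟨x (N' j), hx _⟩
  haveI hc : IsAdicComplete m₀ P₀ := AdicC27.isAdicComplete_of_finite P₀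
  obtain ⟨L, hL⟩ := IsPrecomplete.prec (I := m₀) hc.toIsPrecomplete (f := f) (fun {a b} hab => by
    rw [SModEq.sub_mem, ← neg_sub]
    refine neg_mem (hN a (hF (show N a ≤ N' a by have := hN'le a; omega) ?_))
    show x (N' b) - x (N' a) ∈ (m ^ N' a • ⊤ : Submodule A M)
    exact hcau (hN'mono hab))
  refine ⟨L, L.2, fun n => ?_⟩
  have h4 := hL n
  rw [SModEq.sub_mem] at h4
  have h5 : x (N' n) - (L : M) ∈ (m ^ n • ⊤ : Submodule A M) := hmF n h4
  rw [show (L : M) - x n = (x (N' n) - x n) - (x (N' n) - L) by abel]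
  exact sub_mem (hcau (by have := hN'le n; omega)) h5

end Groth.Agent.Hopf35.LunaComplete
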