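import Mathlib
import Groth.Agent.LinRed34.Points
import Groth.Agent.LinRed34.OrbitDim
import Groth.Agent.Comod33.Points
import Groth.Agent.E4O.DimField

/-! Orbits, stabilisers and the stable locus for actions of affine algebraic groups. -/

set_option autoImplicit false

noncomputable section

universe u

open TensorProduct

namespace Groth.Agent.Hopf35.Stable

open Groth.Agent.LinRed34 Groth.Agent.Comod33

variable {k : Type u} [Field k] {A : Type u} [CommRing A] [HopfAlgebra k A]
  {R : Type u} [CommRing R] [Algebra k R] [HopfRep.Comod k A R] [GLin.IsCoactAlg k A R]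

local notation "φ_" => GLin.orbitHom k A
local notation "ε'" => Bialgebra.counitAlgHom k A

/-- `z` is a translate of `x`. -/
def InOrbit (k : Type u) [Field k] (A : Type u) [CommRing A] [HopfAlgebra k A] {R : Type u} [CommRing R]
    [Algebra k R] [HopfRep.Comod k A R] [GLin.IsCoactAlg k A R] (x z : R →ₐ[k] k) : Prop :=
  ∃ g : A →ₐ[k] k, GLin.actPt k g x = z

theorem actPt_apply (g : A →ₐ[k] k) (x : R →ₐ[k] k) (f : R) :
    GLin.actPt k g x f = x (HopfRep.Comod.act k A R g f) := (act_eq_orbitHom g x f).symm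

theorem actPt_actPt (g h : WithConv (A →ₐ[k] k)) (x : R →ₐ[k] k) :
    GLin.actPt k h.ofConv (GLin.actPt k g.ofConv x) = GLin.actPt k (g * h).ofConv x := by
  refine AlgHom.ext fun f => ?_
  rw [actPt_apply, actPt_apply, actPt_apply, act_mul, Module.End.mul_apply]

theorem actPt_one (x : R →ₐ[k] k) : GLin.actPt k (1 : WithConv (A →ₐ[k] k)).ofConv x = x := by
  refine AlgHom.ext fun f => ?_
  rw [actPt_apply, act_one, Module.End.one_apply]

theorem InOrbit.refl (x : R →ₐ[k] k) : InOrbit k A x x := ⟨_, actPt_one x⟩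

theorem InOrbit.symm {x z : R →ₐ[k] k} (h : InOrbit k A x z) : InOrbit k A z x := by
  obtain ⟨g, rfl⟩ := h
  exact ⟨((WithConv.toConv g)⁻¹).ofConv,
    (actPt_actPt (WithConv.toConv g) _ x).trans (by rw [mul_inv_cancel, actPt_one])⟩

theorem InOrbit.trans {x y z : R →ₐ[k] k} (h : InOrbit k A x y) (h' : InOrbit k A y z) : InOrbit k A x z := by
  obtain ⟨g, rfl⟩ := h
  obtain ⟨g', rfl⟩ := h'
  exact ⟨_, (actPt_actPt (WithConv.toConv g) (WithConv.toConv g') x).symm⟩

section points

variable [IsAlgClosed k] [Algebra.FiniteType k A] [IsReduced A]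

/-- Points separate in a reduced algebra of finite type. -/
theorem eq_zero_of_points {a : A} (h : ∀ g : A →ₐ[k] k, g a = 0) : a = 0 := by
  have : IsJacobsonRing A := isJacobsonRing_of_finiteType (A := k)
  have hm : a ∈ (⊥ : Ideal A).jacobson := by
    refine Ideal.mem_sInf.2 fun {m} hm => ?_
    obtain ⟨g, hg⟩ := exists_point (k := k) m hm.2.ne_top
    rw [hm.2.eq_of_le (RingHom.ker_ne_top _) fun b hb => RingHom.mem_ker.2 (hg b hb), RingHom.mem_ker]
    exact h g
  rw [← Ideal.radical_eq_jacobson] at hm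
  obtain ⟨n, hn⟩ := hm
  exact IsNilpotent.eq_zero ⟨n, hn⟩

theorem mem_ker_orbitHom_iff {x : R →ₐ[k] k} {f : R} :
    f ∈ RingHom.ker (φ_ x) ↔ ∀ g : A →ₐ[k] k, x (HopfRep.Comod.act k A R g f) = 0 := by
  simp only [act_eq_orbitHom]
  exact ⟨fun h g => by rw [RingHom.mem_ker.1 h, map_zero], fun h => eq_zero_of_points h⟩

theorem inOrbitClosure_iff {x z : R →ₐ[k] k} : GLin.InOrbitClosure k A x z ↔
    ∀ f : R, (∀ g : A →ₐ[k] k, x (HopfRep.Comod.act k A R g f) = 0) → z f = 0 :=
  ⟨fun h _ hf => h (mem_ker_orbitHom_iff.2 hf), fun h f hf => RingHom.mem_ker.2 (h f (mem_ker_orbitHom_iff.1 hf))⟩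

theorem InOrbit.inOrbitClosure {x z : R →ₐ[k] k} (h : InOrbit k A x z) : GLin.InOrbitClosure k A x z := by
  obtain ⟨g, rfl⟩ := h
  intro f hf
  show g (φ_ x f) = 0
  rw [RingHom.mem_ker.1 hf, map_zero]

theorem ker_le_of_inOrbitClosure {x z : R →ₐ[k] k} (h : GLin.InOrbitClosure k A x z) :
    RingHom.ker (φ_ x) ≤ RingHom.ker (φ_ z) := by
  intro f hf
  rw [mem_ker_orbitHom_iff]
  intro g
  refine inOrbitClosure_iff.1 h _ fun g' => ?_
  rw [← Module.End.mul_apply, show HopfRep.Comod.act k A R g' = HopfRep.Comod.act k A R (WithConv.toConv g').ofConv from rfl,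
    show HopfRep.Comod.act k A R g = HopfRep.Comod.act k A R (WithConv.toConv g).ofConv from rfl, ← act_mul]
  exact mem_ker_orbitHom_iff.1 hf _

theorem inOrbitClosure_refl (x : R →ₐ[k] k) : GLin.InOrbitClosure k A x x := (InOrbit.refl x).inOrbitClosure

theorem InOrbit.ker_eq {x z : R →ₐ[k] k} (h : InOrbit k A x z) : RingHom.ker (φ_ z) = RingHom.ker (φ_ x) :=
  le_antisymm (ker_le_of_inOrbitClosure h.symm.inOrbitClosure) (ker_le_of_inOrbitClosure h.inOrbitClosure)

variable [Algebra.FiniteType k R]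

/-- A point avoiding a given function on an irreducible closed subset. -/
theorem exists_point_ne (P : Ideal R) [P.IsPrime] {f : R} (hf : f ∉ P) :
    ∃ z : R →ₐ[k] k, (∀ a ∈ P, z a = 0) ∧ z f ≠ 0 := by
  have : IsJacobsonRing R := isJacobsonRing_of_finiteType (A := k)
  have h : f ∉ P.jacobson := by rw [← Ideal.radical_eq_jacobson, ‹P.IsPrime›.radical]; exact hf
  rw [Ideal.jacobson, Ideal.mem_sInf] at h
  push Not at h
  obtain ⟨m, ⟨hPm, hm⟩, hfm⟩ := h
  obtain ⟨z, hz⟩ := exists_point (k := k) m hm.ne_top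
  refine ⟨z, fun a ha => hz a (hPm ha), fun h0 => hfm ?_⟩
  rw [hm.eq_of_le (RingHom.ker_ne_top _) fun b hb => RingHom.mem_ker.2 (hz b hb)]
  exact RingHom.mem_ker.2 h0

/-- A rational point under the image of the orbit morphism is in the orbit. -/
theorem inOrbit_of_mem_range {x z : R →ₐ[k] k} (P : PrimeSpectrum A)
    (hP : (P.asIdeal.comap (φ_ x)) = RingHom.ker z) : InOrbit k A x z := by
  obtain ⟨g, hg⟩ := exists_point (k := k) P.asIdeal P.isPrime.ne_top
  refine ⟨g, AlgHom.ext fun f => ?_⟩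
  have hmem : f - algebraMap k R (z f) ∈ RingHom.ker z := by
    rw [RingHom.mem_ker, map_sub, AlgHom.commutes]; simp
  rw [← hP, Ideal.mem_comap] at hmem
  have h0 := hg _ hmem
  rw [map_sub, map_sub, AlgHom.commutes, AlgHom.commutes, Algebra.algebraMap_self, RingHom.id_apply, sub_eq_zero] at h0
  exact h0

omit [Algebra.FiniteType k A] [IsReduced A] in
theorem isMaximal_ker (z : R →ₐ[k] k) : (RingHom.ker z).IsMaximal :=
  RingHom.ker_isMaximal_of_surjective z.toRingHom fun c => ⟨algebraMap k R c, z.commutes c⟩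

omit [IsReduced A] in
theorem isConstructible_orbit (x : R →ₐ[k] k) : ∃ S : PrimeSpectrum.ConstructibleSetData R,
    S.toSet = Set.range (PrimeSpectrum.comap (φ_ x).toRingHom) := by
  have : IsNoetherianRing R := Algebra.FiniteType.isNoetherianRing k R
  refine PrimeSpectrum.exists_constructibleSetData_iff.2 (PrimeSpectrum.isConstructible_range_comap ?_)
  let := (φ_ x).toRingHom.toAlgebra
  have : IsScalarTower k R A := IsScalarTower.of_algebraMap_eq fun c => ((φ_ x).commutes c).symm
  have : Algebra.FiniteType R A := .of_restrictScalars_finiteType k R A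
  exact RingHom.FinitePresentation.of_finiteType.1 this

/-- Near each generic point of the orbit closure, points are in the orbit. -/
theorem exists_dense (x : R →ₐ[k] k) {P : Ideal R} (hP : P ∈ (RingHom.ker (φ_ x)).minimalPrimes) :
    ∃ f ∉ P, ∀ z : R →ₐ[k] k, GLin.InOrbitClosure k A x z → z f ≠ 0 → InOrbit k A x z := by
  classical
  have : IsNoetherianRing R := Algebra.FiniteType.isNoetherianRing k R
  have hPp : P.IsPrime := hP.1.1
  obtain ⟨S, hS⟩ := isConstructible_orbit (A := A) x
  obtain ⟨Q, hQ, hQP⟩ : ∃ Q : Ideal A, Q.IsPrime ∧ Q.comap (φ_ x).toRingHom = P := by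
    obtain ⟨Q, h1, -, h2⟩ := Ideal.exists_comap_eq_of_mem_minimalPrimes (I := ⊥) (φ_ x).toRingHom P hP
    exact ⟨Q, h1, h2⟩
  have hmem : (⟨P, hPp⟩ : PrimeSpectrum R) ∈ S.toSet := by
    rw [hS]; exact ⟨⟨Q, hQ⟩, PrimeSpectrum.ext hQP⟩
  simp only [PrimeSpectrum.ConstructibleSetData.toSet, Set.mem_iUnion] at hmem
  obtain ⟨C, hC, hCg, hCf⟩ := hmem
  replace hCf : C.f ∉ P := fun h => hCf (by simpa [PrimeSpectrum.mem_zeroLocus] using h)
  replace hCg : ∀ i, C.g i ∈ P := fun i => (PrimeSpectrum.mem_zeroLocus _ _).1 hCg ⟨i, rfl⟩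
  have hy : ∀ y ∈ P, ∃ t ∉ P, ∃ n : ℕ, t * y ^ n ∈ RingHom.ker (φ_ x) := by
    intro y hy
    by_contra hcon
    push Not at hcon
    let M : Submonoid R :=
      { carrier := {s | ∃ t ∉ P, ∃ n : ℕ, s = t * y ^ n}
        mul_mem' := by
          rintro _ _ ⟨t, ht, n, rfl⟩ ⟨t', ht', n', rfl⟩
          exact ⟨t * t', fun h => (hPp.mem_or_mem h).elim ht ht', n + n', by rw [pow_add]; ring⟩
        one_mem' := ⟨1, hPp.one_notMem, 0, by simp⟩ }
    have hd : Disjoint (RingHom.ker (φ_ x) : Set R) (M : Set R) := Set.disjoint_left.2 fun s hs hsM => by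
      obtain ⟨t, ht, n, rfl⟩ := hsM
      exact hcon t ht n hs
    obtain ⟨P', hP', hle, hdis⟩ := Ideal.exists_le_prime_disjoint _ M hd
    have hle' : P' ≤ P := fun s hs => by
      by_contra h
      exact Set.disjoint_left.1 hdis hs ⟨s, h, 0, by simp⟩
    exact Set.disjoint_left.1 hdis (hP.2 ⟨hP', hle⟩ hle' hy) ⟨1, hPp.one_notMem, 1, by simp⟩
  choose t ht n htn using fun i => hy (C.g i) (hCg i)
  refine ⟨C.f * ∏ i, t i, fun h => ?_, fun z hz hzf => ?_⟩
  · rcases hPp.mem_or_mem h with h | h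
    · exact hCf h
    · obtain ⟨i, -, hi⟩ := hPp.prod_mem_iff.1 h
      exact ht i hi
  · rw [map_mul, map_prod] at hzf
    have h1 : (⟨RingHom.ker z, (isMaximal_ker z).isPrime⟩ : PrimeSpectrum R) ∈ S.toSet := by
      simp only [PrimeSpectrum.ConstructibleSetData.toSet, Set.mem_iUnion]
      refine ⟨C, hC, (PrimeSpectrum.mem_zeroLocus _ _).2 ?_, fun h => left_ne_zero_of_mul hzf ?_⟩
      · rintro _ ⟨i, rfl⟩
        have h2 : z (t i * C.g i ^ n i) = 0 := hz (htn i)
        rw [map_mul, map_pow] at h2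
        exact eq_zero_of_pow_eq_zero ((mul_eq_zero.1 h2).resolve_left
          (Finset.prod_ne_zero_iff.1 (right_ne_zero_of_mul hzf) i (Finset.mem_univ i)))
      · exact RingHom.mem_ker.1 ((PrimeSpectrum.mem_zeroLocus _ _).1 h (Set.mem_singleton _))
    rw [hS] at h1
    obtain ⟨P', hP'⟩ := h1
    exact inOrbit_of_mem_range P' (congrArg PrimeSpectrum.asIdeal hP')

/-- Closedness of the orbit on rational points. -/
theorem isClosedOrbit_iff {x : R →ₐ[k] k} :
    GLin.IsClosedOrbit k A x ↔ ∀ z, GLin.InOrbitClosure k A x z → InOrbit k A x z := by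
  constructor
  · intro hcl z hz
    let m : PrimeSpectrum R := ⟨RingHom.ker z, (isMaximal_ker z).isPrime⟩
    have hm : m ∈ closure (Set.range (PrimeSpectrum.comap (φ_ x).toRingHom)) := by
      rw [PrimeSpectrum.closure_range_comap, PrimeSpectrum.mem_zeroLocus]
      exact hz
    rw [IsClosed.closure_eq hcl] at hm
    obtain ⟨P, hP⟩ := hm
    exact inOrbit_of_mem_range P (congrArg PrimeSpectrum.asIdeal hP)
  · intro h
    have : IsNoetherianRing R := Algebra.FiniteType.isNoetherianRing k R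
    obtain ⟨S, hS⟩ := isConstructible_orbit (A := A) x
    have hcon := PrimeSpectrum.exists_constructibleSetData_iff.1 ⟨S, hS⟩
    obtain ⟨T, hT⟩ := PrimeSpectrum.exists_constructibleSetData_iff.2 hcon.compl
    suffices Set.range (PrimeSpectrum.comap (φ_ x).toRingHom) =
        PrimeSpectrum.zeroLocus (RingHom.ker (φ_ x) : Set R) by
      rw [GLin.IsClosedOrbit, this]; exact PrimeSpectrum.isClosed_zeroLocus _
    refine le_antisymm ?_ fun P hP => ?_
    · rintro _ ⟨Q, rfl⟩ f hf
      show φ_ x f ∈ Q.asIdeal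
      rw [RingHom.mem_ker.1 hf]; exact zero_mem _
    · by_contra hP'
      rw [← Set.mem_compl_iff, ← hT] at hP'
      simp only [PrimeSpectrum.ConstructibleSetData.toSet, Set.mem_iUnion] at hP'
      obtain ⟨C, hC, hCg, hCf⟩ := hP'
      replace hCf : C.f ∉ P.asIdeal := fun h => hCf (by simpa [PrimeSpectrum.mem_zeroLocus] using h)
      obtain ⟨z, hz, hzf⟩ := exists_point_ne (k := k) P.asIdeal hCf
      obtain ⟨g, hg⟩ := h z fun f hf => hz f (hP hf)
      have hmem : (⟨RingHom.ker z, (isMaximal_ker z).isPrime⟩ : PrimeSpectrum R) ∈ T.toSet := by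
        simp only [PrimeSpectrum.ConstructibleSetData.toSet, Set.mem_iUnion]
        refine ⟨C, hC, (PrimeSpectrum.mem_zeroLocus _ _).2 ?_, fun h => hzf ?_⟩
        · rintro _ ⟨i, rfl⟩
          exact RingHom.mem_ker.2 (hz _ ((PrimeSpectrum.mem_zeroLocus _ _).1 hCg ⟨i, rfl⟩))
        · exact RingHom.mem_ker.1 ((PrimeSpectrum.mem_zeroLocus _ _).1 h (Set.mem_singleton _))
      rw [hT] at hmem
      refine hmem ⟨⟨RingHom.ker g, (isMaximal_ker g).isPrime⟩, PrimeSpectrum.ext ?_⟩
      rw [← hg]; rfl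

/-- Some closed orbit lies in the closure of a given orbit. -/
theorem exists_closedOrbit (x : R →ₐ[k] k) :
    ∃ z, GLin.InOrbitClosure k A x z ∧ GLin.IsClosedOrbit k A z := by
  have : IsNoetherianRing R := Algebra.FiniteType.isNoetherianRing k R
  obtain ⟨_, ⟨z, hz, rfl⟩, hmax⟩ := set_has_maximal_iff_noetherian.2 ‹IsNoetherianRing R›
    {I : Ideal R | ∃ z, GLin.InOrbitClosure k A x z ∧ I = RingHom.ker (φ_ z)} ⟨_, x, inOrbitClosure_refl x, rfl⟩
  refine ⟨z, hz, isClosedOrbit_iff.2 fun w hw => by_contra fun hno => ?_⟩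
  have : Nontrivial A := (ε').toRingHom.domain_nontrivial
  have hne : RingHom.ker (φ_ z) ≠ ⊤ := RingHom.ker_ne_top _
  obtain ⟨m, hm, hmle⟩ := Ideal.exists_le_maximal _ hne
  have := hm.isPrime
  obtain ⟨P, hP, -⟩ := Ideal.exists_minimalPrimes_le hmle
  obtain ⟨f, hf, hdense⟩ := exists_dense z hP
  have hwx : GLin.InOrbitClosure k A x w := fun a ha => hw (ker_le_of_inOrbitClosure hz ha)
  refine hmax _ ⟨w, hwx, rfl⟩ (lt_of_le_of_ne (ker_le_of_inOrbitClosure hw) fun he => hf (hP.1.2 ?_))
  rw [he]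
  refine mem_ker_orbitHom_iff.2 fun g => ?_
  rw [← actPt_apply]
  by_contra h0
  have hg : InOrbit k A w (GLin.actPt k g w) := ⟨g, rfl⟩
  exact hno ((hdense _ (fun a ha => hg.inOrbitClosure (ker_le_of_inOrbitClosure hw ha)) h0).trans hg.symm)

end points

section dim

variable [IsAlgClosed k] [Algebra.FiniteType k A] [IsReduced A]

/-- Translation by a point. -/
def transl (g : A →ₐ[k] k) : A →ₐ[k] A :=
  (Algebra.TensorProduct.rid k k A).toAlgHom.comp
    ((Algebra.TensorProduct.map (AlgHom.id k A) g).comp (Bialgebra.comulAlgHom k A))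

omit [IsAlgClosed k] [Algebra.FiniteType k A] [IsReduced A] in
theorem apply_transl (g h : A →ₐ[k] k) (a : A) :
    h (transl g a) = (WithConv.toConv h * WithConv.toConv g).ofConv a := by
  show h ((Algebra.TensorProduct.rid k k A) (Algebra.TensorProduct.map (AlgHom.id k A) g (Coalgebra.comul a))) =
    LinearMap.mul' k k (TensorProduct.map h.toLinearMap g.toLinearMap (Coalgebra.comul a))
  generalize Coalgebra.comul (R := k) a = t
  induction t using TensorProduct.induction_on with
  | zero => simp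
  | tmul r s => simp [mul_comm]
  | add p q hp hq => simp only [map_add, hp, hq]

theorem transl_transl (g g' : WithConv (A →ₐ[k] k)) (hgg : g * g' = 1) (a : A) :
    transl g.ofConv (transl g'.ofConv a) = a := by
  rw [← sub_eq_zero]
  refine eq_zero_of_points (k := k) fun h => ?_
  rw [map_sub, apply_transl, apply_transl, WithConv.toConv_ofConv, WithConv.toConv_ofConv, mul_assoc, hgg,
    mul_one, WithConv.ofConv_toConv, sub_self]

/-- Translation as an automorphism. -/
def translEquiv (g : A →ₐ[k] k) : A ≃ₐ[k] A :=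
  AlgEquiv.ofAlgHom (transl g) (transl ((WithConv.toConv g)⁻¹).ofConv)
    (AlgHom.ext fun a => transl_transl (WithConv.toConv g) _ (mul_inv_cancel _) a)
    (AlgHom.ext fun a => transl_transl _ (WithConv.toConv g) (inv_mul_cancel _) a)

omit [IsAlgClosed k] [Algebra.FiniteType k A] [IsReduced A] in
theorem one_ofConv : (1 : WithConv (A →ₐ[k] k)).ofConv = ε' := AlgHom.ext fun _ => rfl

theorem comap_translEquiv_inv (g : A →ₐ[k] k) :
    (RingHom.ker g).comap (translEquiv ((WithConv.toConv g)⁻¹).ofConv) = RingHom.ker ε' := by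
  ext a
  rw [Ideal.mem_comap, RingHom.mem_ker, RingHom.mem_ker, ← one_ofConv]
  show g (transl _ a) = 0 ↔ _
  rw [apply_transl, WithConv.toConv_ofConv, mul_inv_cancel]

theorem ringKrullDim_le_height_counit : ringKrullDim A ≤ (RingHom.ker ε').height := by
  have : Nontrivial A := (ε').toRingHom.domain_nontrivial
  rw [← Ideal.sup_isMaximal_height_eq_ringKrullDim]
  refine WithBot.coe_le_coe.2 (iSup₂_le fun m hm => ?_)
  obtain ⟨g, hg⟩ := exists_point (k := k) m hm.ne_top
  rw [hm.eq_of_le (RingHom.ker_ne_top _) fun b hb => RingHom.mem_ker.2 (hg b hb), ← comap_translEquiv_inv g]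
  exact ((translEquiv ((WithConv.toConv g)⁻¹).ofConv).toRingEquiv.height_comap (RingHom.ker g)).ge

variable [Algebra.FiniteType k R]

theorem height_counit_le {z : R →ₐ[k] k} (hfin : GLin.HasFiniteStab k A z) :
    ((RingHom.ker ε').height : WithBot ℕ∞) ≤ ringKrullDim (R ⧸ RingHom.ker (φ_ z)) := by
  let B := R ⧸ RingHom.ker (φ_ z)
  let ψ : B →+* A := Ideal.Quotient.lift _ (φ_ z).toRingHom (fun a ha => ha)
  let := ψ.toAlgebra
  have : IsNoetherianRing A := Algebra.FiniteType.isNoetherianRing k A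
  have : IsNoetherianRing R := Algebra.FiniteType.isNoetherianRing k R
  let q := RingHom.ker ε'
  have : q.IsPrime := (isMaximal_ker ε').isPrime
  let m : Ideal B := q.comap ψ
  have : q.LiesOver m := ⟨rfl⟩
  have h1 := Ideal.height_le_height_add_of_liesOver m q
  have hker : GLin.stabIdeal k A z ≤ m.map (algebraMap B A) := by
    refine Ideal.map_le_iff_le_comap.2 fun f hf => ?_
    have : Ideal.Quotient.mk (RingHom.ker (φ_ z)) f ∈ m := by
      show ε' (φ_ z f) = 0
      rw [← one_ofConv]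
      exact (AlgHom.congr_fun (actPt_one (A := A) z) f).trans hf
    exact Ideal.mem_map_of_mem (algebraMap B A) this
  have : IsArtinianRing (A ⧸ GLin.stabIdeal k A z) := by
    have : Module.Finite k (A ⧸ GLin.stabIdeal k A z) := hfin
    exact IsArtinianRing.of_finite k _
  have : IsArtinianRing (A ⧸ m.map (algebraMap B A)) :=
    (Ideal.Quotient.factor_surjective hker).isArtinianRing
  have h0 : (q.map (Ideal.Quotient.mk (m.map (algebraMap B A)))).height = 0 := by
    have : (q.map (Ideal.Quotient.mk (m.map (algebraMap B A)))).IsPrime :=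
      Ideal.isPrime_map_quotientMk_of_isPrime (Ideal.map_le_iff_le_comap.2 le_rfl)
    rw [Ideal.height_eq_zero_iff]
    refine ⟨⟨this, bot_le⟩, fun P hP hle => ?_⟩
    have := hP.1
    exact (Ideal.IsMaximal.eq_of_le (IsArtinianRing.isMaximal_of_isPrime P) ‹(q.map _).IsPrime›.ne_top hle).ge
  rw [h0, add_zero] at h1
  have hm : m.IsPrime := inferInstance
  exact (WithBot.coe_le_coe.2 h1).trans (Ideal.height_le_ringKrullDim_of_ne_top hm.ne_top)

theorem ringKrullDim_orbit_le (x : R →ₐ[k] k) : ringKrullDim (R ⧸ RingHom.ker (φ_ x)) ≤ ringKrullDim A := by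
  have : IsNoetherianRing R := Algebra.FiniteType.isNoetherianRing k R
  let B := R ⧸ RingHom.ker (φ_ x)
  rw [ringKrullDim, Order.krullDim]
  refine iSup_le fun l => ?_
  obtain ⟨P, hP, hPle⟩ := Ideal.exists_minimalPrimes_le (I := (⊥ : Ideal B)) (J := l.head.asIdeal) bot_le
  have : P.IsPrime := hP.1.1
  have h1 : (l.length : WithBot ℕ∞) ≤ ringKrullDim (B ⧸ P) := by
    rw [ringKrullDim_quotient]
    exact Order.le_krullDim_iff.2 ⟨⟨l.length, fun i => ⟨l i, (SetLike.coe_subset_coe.2 hPle).trans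
      (SetLike.coe_subset_coe.2 (show l.head.asIdeal ≤ (l i).asIdeal from l.monotone (Fin.zero_le i)))⟩,
      fun i => l.step i⟩, rfl⟩
  let ψ : B →ₐ[k] A := Ideal.kerLiftAlg (φ_ x)
  obtain ⟨Q, hQ, -, hQP⟩ := Ideal.exists_comap_eq_of_mem_minimalPrimes (I := ⊥) ψ.toRingHom P
    (by rw [show Ideal.comap ψ.toRingHom ⊥ = ⊥ from (RingHom.ker ψ.toRingHom).eq_bot_iff.2 fun a ha =>
      (Ideal.kerLiftAlg_injective (φ_ x)) (ha.trans (map_zero ψ).symm)]; exact hP)
  let χ : (B ⧸ P) →ₐ[k] (A ⧸ Q) := Ideal.quotientMapₐ Q ψ (hQP.ge)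
  have hχ : Function.Injective χ := Ideal.quotientMap_injective' (H := hQP.ge) hQP.le
  have h2 : ringKrullDim (B ⧸ P) ≤ ringKrullDim (A ⧸ Q) := by
    rw [E4O.ringKrullDim_eq_trdeg k (B ⧸ P), E4O.ringKrullDim_eq_trdeg k (A ⧸ Q)]
    refine Nat.cast_le.2 (Cardinal.toNat_le_toNat (trdeg_le_of_injective χ hχ) ?_)
    exact trdeg_lt_aleph0_of_finiteType
  exact h1.trans (h2.trans (ringKrullDim_le_of_surjective _ Ideal.Quotient.mk_surjective))

/-- A point in the boundary of an orbit has infinite stabiliser. -/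
theorem inOrbit_of_finite_stab {x z : R →ₐ[k] k} (hz : GLin.InOrbitClosure k A x z)
    (hfin : GLin.HasFiniteStab k A z) : InOrbit k A x z := by
  by_contra hno
  have : IsNoetherianRing R := Algebra.FiniteType.isNoetherianRing k R
  have hKle := ker_le_of_inOrbitClosure hz
  have hnot : ∀ P ∈ (RingHom.ker (φ_ x)).minimalPrimes, ¬ RingHom.ker (φ_ z) ≤ P := by
    intro P hP hle
    obtain ⟨f, hf, hd⟩ := exists_dense x hP
    refine hf (hle (mem_ker_orbitHom_iff.2 fun g => ?_))
    rw [← actPt_apply]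
    by_contra h0
    have hg : InOrbit k A z (GLin.actPt k g z) := ⟨g, rfl⟩
    exact hno ((hd _ (fun a ha => hg.inOrbitClosure (hKle ha)) h0).trans hg.symm)
  have hd2 : ringKrullDim (R ⧸ RingHom.ker (φ_ z)) ≤ (RingHom.ker ε').height :=
    ((ringKrullDim_le_of_surjective _ (Ideal.Quotient.factor_surjective hKle)).trans (ringKrullDim_orbit_le x)).trans
      (ringKrullDim_le_height_counit (k := k))
  have hdim := le_antisymm hd2 (height_counit_le hfin)
  have : IsNoetherianRing A := Algebra.FiniteType.isNoetherianRing k A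
  obtain ⟨d, hd⟩ : ∃ d : ℕ, (RingHom.ker ε').height = d := by
    refine ⟨_, (ENat.coe_toNat ?_).symm⟩
    exact Ideal.height_ne_top (RingHom.ker_ne_top _)
  rw [hd] at hdim
  change Order.krullDim (PrimeSpectrum (R ⧸ RingHom.ker (φ_ z))) = (d : WithBot ℕ∞) at hdim
  obtain ⟨l, hl⟩ := Order.le_krullDim_iff.1 hdim.ge
  let l' := l.map (PrimeSpectrum.comap (Ideal.Quotient.factor hKle))
    (fun p q hpq => lt_of_le_of_ne (fun a ha => Ideal.mem_comap.2 (hpq.le ha)) fun h =>
      hpq.ne (PrimeSpectrum.comap_injective_of_surjective _ (Ideal.Quotient.factor_surjective hKle) h))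
  obtain ⟨P0, hP0, hP0le⟩ := Ideal.exists_minimalPrimes_le (I := RingHom.ker (φ_ x))
    (J := (PrimeSpectrum.comap (Ideal.Quotient.mk (RingHom.ker (φ_ z))) l.head).asIdeal)
    (fun a ha => by
      show Ideal.Quotient.mk _ a ∈ l.head.asIdeal
      rw [Ideal.Quotient.eq_zero_iff_mem.2 (hKle ha)]; exact zero_mem _)
  have := hP0.1.1
  have hP0' : (P0.map (Ideal.Quotient.mk (RingHom.ker (φ_ x)))).IsPrime :=
    Ideal.isPrime_map_quotientMk_of_isPrime hP0.1.2
  have hcomap : (P0.map (Ideal.Quotient.mk (RingHom.ker (φ_ x)))).comap (Ideal.Quotient.mk _) = P0 := by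
    rw [Ideal.comap_map_of_surjective _ Ideal.Quotient.mk_surjective, ← RingHom.ker_eq_comap_bot, Ideal.mk_ker]
    exact sup_eq_left.2 hP0.1.2
  have hlt : (⟨_, hP0'⟩ : PrimeSpectrum (R ⧸ RingHom.ker (φ_ x))) < l'.head := by
    refine lt_of_le_of_ne ?_ fun he => hnot P0 hP0 fun a ha => ?_
    · refine Ideal.map_le_iff_le_comap.2 (hP0le.trans fun a ha => ?_)
      simpa [l'] using ha
    · rw [← hcomap, show P0.map (Ideal.Quotient.mk (RingHom.ker (φ_ x))) = l'.head.asIdeal from congrArg PrimeSpectrum.asIdeal he]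
      show Ideal.Quotient.mk _ a ∈ l'.head.asIdeal
      simp [l', Ideal.Quotient.eq_zero_iff_mem.2 ha]
  have hcontra : ((d + 1 : ℕ) : WithBot ℕ∞) ≤ ringKrullDim (R ⧸ RingHom.ker (φ_ x)) :=
    Order.le_krullDim_iff.2 ⟨l'.cons _ hlt, by simp [l', hl]⟩
  have := (hcontra.trans (ringKrullDim_orbit_le x)).trans (ringKrullDim_le_height_counit (k := k))
  rw [hd] at this
  norm_cast at this
  omega

end dim

section open_locus

variable [IsAlgClosed k] [Algebra.FiniteType k A] [IsReduced A]

omit [IsAlgClosed k] [Algebra.FiniteType k A] [IsReduced A] in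
theorem mem_stab_iff (w : R →ₐ[k] k) (g : A →ₐ[k] k) :
    GLin.stabIdeal k A w ≤ RingHom.ker g ↔ GLin.actPt k g w = w := by
  refine Iff.trans Ideal.map_le_iff_le_comap ⟨fun h => AlgHom.ext fun f => ?_, fun h f hf => ?_⟩
  · have h0 : g (φ_ w (f - algebraMap k R (w f))) = 0 := h (by simp [RingHom.mem_ker])
    rw [map_sub, map_sub, AlgHom.commutes, AlgHom.commutes, Algebra.algebraMap_self, RingHom.id_apply,
      sub_eq_zero] at h0
    exact h0
  · show g (φ_ w f) = 0
    exact (AlgHom.congr_fun h f).trans hf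

theorem finite_stab_of_minimal (w : R →ₐ[k] k)
    (h : ∀ P : Ideal A, P.IsPrime → GLin.stabIdeal k A w ≤ P → P ≤ RingHom.ker ε' → P = RingHom.ker ε') :
    GLin.HasFiniteStab k A w := by
  have : IsJacobsonRing A := isJacobsonRing_of_finiteType (A := k)
  have hall : ∀ P : Ideal A, P.IsPrime → GLin.stabIdeal k A w ≤ P → P.IsMaximal := by
    intro P hP hle
    obtain ⟨m, hm, hPm⟩ := Ideal.exists_le_maximal P hP.ne_top
    obtain ⟨g, hg⟩ := exists_point (k := k) m hm.ne_top
    have hmg := hm.eq_of_le (RingHom.ker_ne_top _) fun b hb => RingHom.mem_ker.2 (hg b hb)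
    have hgstab : GLin.actPt k g w = w := (mem_stab_iff w g).1 (hle.trans (hPm.trans hmg.le))
    set τ := translEquiv ((WithConv.toConv g)⁻¹).ofConv
    have hle' : GLin.stabIdeal k A w ≤ P.comap τ := by
      intro a ha
      show τ a ∈ P
      have hj : τ a ∈ P.jacobson := by
        refine Ideal.mem_sInf.2 fun {m'} hm' => ?_
        obtain ⟨g', hg'⟩ := exists_point (k := k) m' hm'.2.ne_top
        have hmg' := hm'.2.eq_of_le (RingHom.ker_ne_top _) fun b hb => RingHom.mem_ker.2 (hg' b hb)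
        have hg'stab : GLin.actPt k g' w = w := (mem_stab_iff w g').1 (hle.trans (hm'.1.trans hmg'.le))
        rw [hmg', RingHom.mem_ker]
        show g' (transl _ a) = 0
        rw [apply_transl, WithConv.toConv_ofConv]
        refine RingHom.mem_ker.1 ((mem_stab_iff w _).2 ?_ ha)
        rw [← actPt_actPt, WithConv.ofConv_toConv, hg'stab]
        conv_lhs => arg 3; rw [← hgstab]
        exact (actPt_actPt (WithConv.toConv g) _ w).trans (by rw [mul_inv_cancel, actPt_one])
      rwa [← Ideal.radical_eq_jacobson, hP.radical] at hj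
    have h2 := h (P.comap τ) inferInstance hle'
      (by rw [← comap_translEquiv_inv g]; exact Ideal.comap_mono (hPm.trans hmg.le))
    have h3 : P = RingHom.ker g :=
      Ideal.comap_injective_of_surjective _ τ.surjective (h2.trans (comap_translEquiv_inv g).symm)
    rw [h3]
    exact isMaximal_ker g
  have : IsNoetherianRing A := Algebra.FiniteType.isNoetherianRing k A
  have : Ring.KrullDimLE 0 (A ⧸ GLin.stabIdeal k A w) := by
    refine Ring.krullDimLE_zero_iff.2 fun P hP => ?_
    have h1 := hall (P.comap (Ideal.Quotient.mk _)) inferInstance (fun a ha => by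
      show Ideal.Quotient.mk _ a ∈ P
      rw [Ideal.Quotient.eq_zero_iff_mem.2 ha]; exact zero_mem _)
    rw [← Ideal.map_comap_of_surjective _ Ideal.Quotient.mk_surjective P]
    exact (Ideal.map_eq_top_or_isMaximal_of_surjective _ Ideal.Quotient.mk_surjective h1).resolve_left
      (by rw [Ideal.map_comap_of_surjective _ Ideal.Quotient.mk_surjective P]; exact hP.ne_top)
  have : IsArtinianRing (A ⧸ GLin.stabIdeal k A w) := IsNoetherianRing.isArtinianRing_of_krullDimLE_zero
  exact (Module.finite_iff_isArtinianRing k _).2 this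

variable (k A R) in
/-- The equations of the universal stabiliser. -/
def stabRel : Ideal (R ⊗[k] A) :=
  Ideal.span (Set.range fun f : R => GLin.coactAlgHom k A R f - f ⊗ₜ[k] (1 : A))

/-- The fibre of the universal stabiliser at `w`. -/
def evAt (w : R →ₐ[k] k) : R ⊗[k] A →ₐ[k] A :=
  (Algebra.TensorProduct.lid k A).toAlgHom.comp (Algebra.TensorProduct.map w (AlgHom.id k A))

omit [IsAlgClosed k] [Algebra.FiniteType k A] [IsReduced A] [HopfRep.Comod k A R] [GLin.IsCoactAlg k A R] in
theorem evAt_tmul (w : R →ₐ[k] k) (r : R) (a : A) : evAt w (r ⊗ₜ[k] a) = w r • a := rfl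

omit [IsAlgClosed k] [Algebra.FiniteType k A] [IsReduced A] in
theorem map_stabRel (w : R →ₐ[k] k) : (stabRel k A R).map (evAt w) = GLin.stabIdeal k A w := by
  have key : ∀ f : R, evAt w (GLin.coactAlgHom k A R f - f ⊗ₜ[k] (1 : A)) = φ_ w (f - algebraMap k R (w f)) := by
    intro f
    rw [map_sub, map_sub, AlgHom.commutes]
    congr 1
    show evAt w (f ⊗ₜ[k] (1 : A)) = algebraMap k A (w f)
    simp [evAt, Algebra.algebraMap_eq_smul_one]
  rw [stabRel, Ideal.map_span, ← Set.range_comp]
  refine le_antisymm (Ideal.span_le.2 ?_) (Ideal.map_le_iff_le_comap.2 fun f hf => ?_)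
  · rintro _ ⟨f, rfl⟩
    rw [Function.comp_apply, key]
    exact Ideal.mem_map_of_mem _ (by simp [RingHom.mem_ker])
  · refine Ideal.subset_span ⟨f, ?_⟩
    rw [Function.comp_apply, key, RingHom.mem_ker.1 hf, map_zero, sub_zero]

omit [IsAlgClosed k] [Algebra.FiniteType k A] [IsReduced A] [HopfRep.Comod k A R] [GLin.IsCoactAlg k A R] in
theorem sub_evAt_mem (w : R →ₐ[k] k) (s : R ⊗[k] A) :
    s - (1 : R) ⊗ₜ[k] evAt w s ∈ (RingHom.ker w).map (algebraMap R (R ⊗[k] A)) := by
  induction s using TensorProduct.induction_on with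
  | zero => simp
  | tmul r a =>
    have : r ⊗ₜ[k] a - (1 : R) ⊗ₜ[k] evAt w (r ⊗ₜ[k] a) =
        algebraMap R (R ⊗[k] A) (r - algebraMap k R (w r)) * ((1 : R) ⊗ₜ[k] a) := by
      simp [evAt, Algebra.TensorProduct.algebraMap_apply, sub_tmul, sub_mul, tmul_smul, smul_tmul',
        Algebra.algebraMap_eq_smul_one]
    rw [this]
    exact Ideal.mul_mem_right _ _ (Ideal.mem_map_of_mem _ (by simp [RingHom.mem_ker]))
  | add p q hp hq =>
    rw [map_add, tmul_add, add_sub_add_comm]
    exact Ideal.add_mem _ hp hq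

variable [Algebra.FiniteType k R]

/-- Finite stabiliser is an open condition. -/
theorem exists_open_finite_stab {z : R →ₐ[k] k} (hz : GLin.HasFiniteStab k A z) :
    ∃ r : R, z r ≠ 0 ∧ ∀ w : R →ₐ[k] k, w r ≠ 0 → GLin.HasFiniteStab k A w := by
  classical
  let S := R ⊗[k] A
  let T := S ⧸ stabRel k A R
  have hle : ∀ w : R →ₐ[k] k, stabRel k A R ≤ (GLin.stabIdeal k A w).comap (evAt w) := fun w =>
    Ideal.map_le_iff_le_comap.1 (map_stabRel (A := A) w).le
  let π : (w : R →ₐ[k] k) → T →+* A ⧸ GLin.stabIdeal k A w := fun w =>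
    Ideal.quotientMap _ (evAt w).toRingHom (hle w)
  have hπs : ∀ w, Function.Surjective (π w) := fun w =>
    Ideal.quotientMap_surjective fun a => ⟨(1 : R) ⊗ₜ[k] a, (evAt_tmul w 1 a).trans (by rw [map_one, one_smul])⟩
  have hπR : ∀ w r, π w (algebraMap R T r) = algebraMap k _ (w r) := by
    intro w r
    show Ideal.Quotient.mk _ (evAt w (r ⊗ₜ[k] (1 : A))) = _
    rw [evAt_tmul, Algebra.smul_def, mul_one]
    rfl
  have hπker : RingHom.ker (π z) ≤ (RingHom.ker z).map (algebraMap R T) := by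
    intro t ht
    obtain ⟨s, rfl⟩ := Ideal.Quotient.mk_surjective t
    have h1 : evAt z s ∈ (stabRel k A R).map (evAt z) := by
      rw [map_stabRel]; exact Ideal.Quotient.eq_zero_iff_mem.1 ht
    obtain ⟨j, hj, hj'⟩ := (Ideal.mem_map_iff_of_surjective (evAt z)
      (fun a => ⟨(1 : R) ⊗ₜ[k] a, (evAt_tmul z 1 a).trans (by rw [map_one, one_smul])⟩)).1 h1
    have h2 : s - j ∈ (RingHom.ker z).map (algebraMap R S) := by
      have := sub_evAt_mem z (s - j)
      rwa [map_sub, hj', sub_self, tmul_zero, sub_zero] at this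
    have h3 := Ideal.mem_map_of_mem (Ideal.Quotient.mk (stabRel k A R)) h2
    rw [Ideal.map_map, map_sub, Ideal.Quotient.eq_zero_iff_mem.2 hj, sub_zero] at h3
    exact h3
  -- the identity over a point
  have hlift : ∀ w : R →ₐ[k] k, ∀ a ∈ GLin.stabIdeal k A w, (ε').toRingHom a = 0 := fun w a ha =>
    (mem_stab_iff w ε').2 (by rw [← one_ofConv]; exact actPt_one w) ha
  let e : (w : R →ₐ[k] k) → T →+* k := fun w =>
    (Ideal.Quotient.lift (GLin.stabIdeal k A w) (ε').toRingHom (hlift w)).comp (π w)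
  have heR : ∀ w r, e w (algebraMap R T r) = w r := fun w r => by
    simp only [e, RingHom.comp_apply, hπR]
    exact (ε').commutes (w r)
  let q : PrimeSpectrum T := ⟨RingHom.ker (e z), RingHom.ker_isPrime _⟩
  have : IsArtinianRing (A ⧸ GLin.stabIdeal k A z) := by
    have : Module.Finite k (A ⧸ GLin.stabIdeal k A z) := hz
    exact IsArtinianRing.of_finite k _
  have : Algebra.FiniteType R S := inferInstance
  have : Algebra.FiniteType R T := .trans (S := S) inferInstance inferInstance
  have hq : q.comap (algebraMap R T) = ⟨RingHom.ker z, (isMaximal_ker z).isPrime⟩ := by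
    refine PrimeSpectrum.ext (Ideal.ext fun r => ?_)
    show e z (algebraMap R T r) = 0 ↔ z r = 0
    rw [heR]
  have hmem : ∀ Q : PrimeSpectrum T, Q.comap (algebraMap R T) = q.comap (algebraMap R T) →
      Q.asIdeal.IsMaximal ∧ Q ∈ Set.range (PrimeSpectrum.comap (π z)) := by
    intro Q hQ
    have hker : RingHom.ker (π z) ≤ Q.asIdeal := by
      refine hπker.trans (Ideal.map_le_iff_le_comap.2 ?_)
      have := congrArg PrimeSpectrum.asIdeal (hQ.trans hq)
      exact this.ge
    obtain ⟨Q', rfl⟩ : Q ∈ Set.range (PrimeSpectrum.comap (π z)) := by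
      rw [range_comap_of_surjective _ _ (hπs z), PrimeSpectrum.mem_zeroLocus]; exact hker
    refine ⟨?_, ⟨Q', rfl⟩⟩
    have : Q'.asIdeal.IsMaximal := IsArtinianRing.isMaximal_of_isPrime _
    exact Ideal.comap_isMaximal_of_surjective _ (hπs z)
  have : Finite (PrimeSpectrum (A ⧸ GLin.stabIdeal k A z)) := inferInstance
  have hfibre : Finite (PrimeSpectrum.comap (algebraMap R T) ⁻¹' {q.comap (algebraMap R T)} : Set _) :=
    ((Set.finite_range (PrimeSpectrum.comap (π z))).subset fun Q hQ => (hmem Q hQ).2).to_subtype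
  have hopen : IsOpen (X := PrimeSpectrum.comap (algebraMap R T) ⁻¹' {q.comap (algebraMap R T)})
      {⟨q, rfl⟩} := by
    rw [← isClosed_compl_iff]
    generalize (⟨q, rfl⟩ : (PrimeSpectrum.comap (algebraMap R T) ⁻¹' {q.comap (algebraMap R T)} : Set _)) = q₀
    rw [← Set.biUnion_of_singleton {q₀}ᶜ]
    refine (Set.toFinite _).isClosed_biUnion fun Q _ => ?_
    have h1 : IsClosed ({Q.1} : Set (PrimeSpectrum T)) :=
      (PrimeSpectrum.isClosed_singleton_iff_isMaximal _).2 (hmem Q.1 Q.2).1
    convert h1.preimage continuous_subtype_val using 1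
    ext Q'
    simp [Subtype.ext_iff]
  have hqf := Algebra.QuasiFiniteAt.of_isOpen_singleton_fiber (R := R) q hopen
  have := q.isPrime
  have : Algebra.WeaklyQuasiFiniteAt R q.asIdeal := inferInstance
  obtain ⟨S', hS', h, hh, hbij⟩ := Algebra.QuasiFiniteAt.exists_fg_and_exists_notMem_and_awayMap_bijective
    (R := R) q.asIdeal
  have : Module.Finite R S' := ⟨(Submodule.fg_top _).mpr hS'⟩
  have : Algebra.QuasiFinite R (Localization.Away h) := .trans R S' _
  let g₀ : Localization.Away h →ₐ[R] Localization.Away h.1 := Localization.awayMapₐ S'.val h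
  have : Algebra.QuasiFinite R (Localization.Away h.1) :=
    .of_surjective_algHom g₀ hbij.2
  obtain ⟨s, hs⟩ := Ideal.Quotient.mk_surjective h.1
  let r : R := Algebra.TensorProduct.rid k k R (Algebra.TensorProduct.map (AlgHom.id k R) ε' s)
  have her : ∀ w : R →ₐ[k] k, e w h.1 = w r := by
    intro w
    rw [← hs]
    show ε' (evAt w s) = w r
    simp only [r]
    clear hs
    induction s using TensorProduct.induction_on with
    | zero => simp
    | tmul a b => simp [evAt, mul_comm]
    | add a b ha hb => simp only [map_add, ha, hb]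
  refine ⟨r, fun h0 => hh (RingHom.mem_ker.2 ((her z).trans h0)), fun w hw => ?_⟩
  refine finite_stab_of_minimal w fun P hP hPs hPe => ?_
  have hPq : (P.map (Ideal.Quotient.mk (GLin.stabIdeal k A w))).IsPrime :=
    Ideal.isPrime_map_quotientMk_of_isPrime hPs
  let P' := (P.map (Ideal.Quotient.mk (GLin.stabIdeal k A w))).comap (π w)
  have hP'le : P' ≤ RingHom.ker (e w) := by
    intro t ht
    obtain ⟨p, hp, hp'⟩ := (Ideal.mem_map_iff_of_surjective _ Ideal.Quotient.mk_surjective).1 ht
    show Ideal.Quotient.lift _ _ (hlift w) (π w t) = 0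
    rw [← hp']
    exact hPe hp
  have : (RingHom.ker (e w)).IsPrime := RingHom.ker_isPrime _
  have hh' : h.1 ∉ RingHom.ker (e w) := fun h0 => hw ((her w).symm.trans (RingHom.mem_ker.1 h0))
  have hdisj : ∀ Q : Ideal T, Q.IsPrime → Q ≤ RingHom.ker (e w) → Disjoint (Submonoid.powers h.1 : Set T) Q := by
    intro Q hQ hQle
    rw [Set.disjoint_left]
    rintro _ ⟨n, rfl⟩ hn
    exact hh' (hQle (hQ.mem_of_pow_mem n hn))
  let L := Localization.Away h.1
  have i1 := IsLocalization.isPrime_of_isPrime_disjoint (Submonoid.powers h.1) L P' inferInstance (hdisj _ inferInstance hP'le)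
  have i2 := IsLocalization.isPrime_of_isPrime_disjoint (Submonoid.powers h.1) L (RingHom.ker (e w)) inferInstance (hdisj _ inferInstance le_rfl)
  have c1 := IsLocalization.comap_map_of_isPrime_disjoint (Submonoid.powers h.1) L (inferInstance : P'.IsPrime) (hdisj _ inferInstance hP'le)
  have c2 := IsLocalization.comap_map_of_isPrime_disjoint (Submonoid.powers h.1) L (inferInstance : (RingHom.ker (e w)).IsPrime) (hdisj _ inferInstance le_rfl)
  have hunder : ∀ Q : Ideal T, Q.IsPrime → Q ≤ RingHom.ker (e w) → (∀ r, w r = 0 → algebraMap R T r ∈ Q) →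
      Q.comap (algebraMap R T) = RingHom.ker w := fun Q hQ hle hge =>
    le_antisymm (fun r hr => RingHom.mem_ker.2 ((heR w r).symm.trans (hle hr))) fun r hr => hge r hr
  have heq : P'.map (algebraMap T L) = (RingHom.ker (e w)).map (algebraMap T L) := by
    refine Algebra.QuasiFinite.eq_of_le_of_under_eq (R := R) _ _ (Ideal.map_mono hP'le) ?_
    rw [← Ideal.under_under (B := T) (P'.map _), ← Ideal.under_under (B := T) ((RingHom.ker (e w)).map _)]
    simp only [Ideal.under, c1, c2]
    rw [hunder _ inferInstance hP'le fun r hr => by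
        refine Ideal.mem_comap.2 ?_
        rw [hπR, hr, map_zero]; exact zero_mem _,
      hunder _ inferInstance le_rfl fun r hr => (heR w r).trans hr]
  have hP'eq : P' = RingHom.ker (e w) := by rw [← c1, heq, c2]
  refine le_antisymm hPe fun a ha => ?_
  obtain ⟨t, ht⟩ := hπs w (Ideal.Quotient.mk _ a)
  have h1 : t ∈ RingHom.ker (e w) := by
    show Ideal.Quotient.lift _ _ (hlift w) (π w t) = 0
    rw [ht]; exact ha
  rw [← hP'eq, Ideal.mem_comap, ht, Ideal.mem_quotient_iff_mem hPs] at h1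
  exact h1

end open_locus

section stable

variable [IsAlgClosed k] [Algebra.FiniteType k A] [IsReduced A] [Algebra.FiniteType k R]

/-- Finiteness of the stabiliser on rational points. -/
theorem hasFiniteStab_iff {w : R →ₐ[k] k} : GLin.HasFiniteStab k A w ↔
    {g : A →ₐ[k] k | ∀ f : R, w (HopfRep.Comod.act k A R g f) = w f}.Finite := by
  have hset : {g : A →ₐ[k] k | ∀ f : R, w (HopfRep.Comod.act k A R g f) = w f} =
      {g | GLin.stabIdeal k A w ≤ RingHom.ker g} := by
    ext g
    simp only [Set.mem_setOf_eq, mem_stab_iff, AlgHom.ext_iff, actPt_apply]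
  rw [hset]
  have : IsJacobsonRing A := isJacobsonRing_of_finiteType (A := k)
  have hinj : Function.Injective fun g : A →ₐ[k] k => RingHom.ker g := by
    intro g g' h
    refine AlgHom.ext fun a => ?_
    have : a - algebraMap k A (g a) ∈ RingHom.ker g := by simp [RingHom.mem_ker]
    simp only at h
    rw [h, RingHom.mem_ker, map_sub, AlgHom.commutes, Algebra.algebraMap_self, RingHom.id_apply, sub_eq_zero] at this
    exact this.symm
  constructor
  · intro h
    have : Module.Finite k (A ⧸ GLin.stabIdeal k A w) := h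
    have : IsArtinianRing (A ⧸ GLin.stabIdeal k A w) := IsArtinianRing.of_finite k _
    refine Set.Finite.of_finite_image (f := fun g : A →ₐ[k] k => RingHom.ker g) ?_ hinj.injOn
    refine (Set.finite_range fun Q : PrimeSpectrum (A ⧸ GLin.stabIdeal k A w) =>
      Q.asIdeal.comap (Ideal.Quotient.mk _)).subset ?_
    rintro _ ⟨g, hg, rfl⟩
    have := (isMaximal_ker g).isPrime
    refine ⟨⟨(RingHom.ker g).map (Ideal.Quotient.mk _), Ideal.isPrime_map_quotientMk_of_isPrime hg⟩, ?_⟩
    simp only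
    rw [Ideal.comap_map_of_surjective _ Ideal.Quotient.mk_surjective, ← RingHom.ker_eq_comap_bot, Ideal.mk_ker]
    exact sup_eq_left.2 hg
  · intro h
    refine finite_stab_of_minimal w fun P hP hPs hPe => le_antisymm hPe ?_
    have hj : (h.toFinset.inf fun g => RingHom.ker g) ≤ P := by
      intro a ha
      suffices a ∈ P.jacobson by rwa [← Ideal.radical_eq_jacobson, hP.radical] at this
      refine Ideal.mem_sInf.2 fun {m} hm => ?_
      obtain ⟨g, hg⟩ := exists_point (k := k) m hm.2.ne_top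
      have hmg := hm.2.eq_of_le (RingHom.ker_ne_top _) fun b hb => RingHom.mem_ker.2 (hg b hb)
      rw [hmg]
      exact (Submodule.mem_finsetInf.1 ha) g (h.mem_toFinset.2 (hPs.trans (hm.1.trans hmg.le)))
    obtain ⟨g, -, hg⟩ := (hP.inf_le').1 hj
    have := (isMaximal_ker g).eq_of_le (RingHom.ker_ne_top _) (hg.trans hPe)
    exact this ▸ hg

theorem InOrbit.hasFiniteStab {x z : R →ₐ[k] k} (h : InOrbit k A x z)
    (hx : GLin.HasFiniteStab k A x) : GLin.HasFiniteStab k A z := by
  obtain ⟨g, rfl⟩ := h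
  rw [hasFiniteStab_iff] at hx ⊢
  let c : (A →ₐ[k] k) → (A →ₐ[k] k) := fun s =>
    (WithConv.toConv g * WithConv.toConv s * (WithConv.toConv g)⁻¹).ofConv
  refine Set.Finite.of_finite_image (f := c) (hx.subset ?_) fun s _ s' _ h => ?_
  · rintro _ ⟨s, hs, rfl⟩ f
    have hs' : GLin.actPt k s (GLin.actPt k g x) = GLin.actPt k g x := AlgHom.ext fun f => by
      rw [actPt_apply]; exact hs f
    have : GLin.actPt k (c s) x = x := by
      rw [← actPt_actPt, ← actPt_actPt, WithConv.ofConv_toConv, WithConv.ofConv_toConv, hs']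
      exact (actPt_actPt (WithConv.toConv g) _ x).trans (by rw [mul_inv_cancel, actPt_one])
    rw [← actPt_apply, this]
  · have h' := congrArg WithConv.toConv h
    simp only [c, WithConv.toConv_ofConv, mul_left_inj, mul_right_inj] at h'
    exact WithConv.toConv_injective h'

variable (hG : HopfRep.IsLinearlyReductive k A)
include hG

theorem exists_common {x y : R →ₐ[k] k} (h : ∀ f ∈ GLin.invariants k A R, x f = y f) :
    ∃ z, GLin.InOrbitClosure k A x z ∧ GLin.InOrbitClosure k A y z := by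
  obtain ⟨z, h1, h2⟩ := (forall_invariants_eq_iff hG x y).1 h
  exact ⟨z, inOrbitClosure_iff.2 h1, inOrbitClosure_iff.2 h2⟩

omit [IsAlgClosed k] [Algebra.FiniteType k A] [IsReduced A] [Algebra.FiniteType k R] hG in
theorem invariants_eq_of_closure {x z : R →ₐ[k] k} (h : GLin.InOrbitClosure k A x z) {f : R}
    (hf : f ∈ GLin.invariants k A R) : z f = x f := by
  have : f - algebraMap k R (x f) ∈ RingHom.ker (φ_ x) := by
    rw [RingHom.mem_ker, map_sub, orbitHom_invariant x hf, AlgHom.commutes, sub_self]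
  have := RingHom.mem_ker.1 (h this)
  rwa [map_sub, AlgHom.commutes, Algebra.algebraMap_self, RingHom.id_apply, sub_eq_zero] at this

/-- Every point with the same invariants degenerates to the closed orbit. -/
theorem closure_of_closed {x y : R →ₐ[k] k} (hx : GLin.IsClosedOrbit k A x)
    (h : ∀ f ∈ GLin.invariants k A R, y f = x f) : GLin.InOrbitClosure k A y x := by
  obtain ⟨z, hyz, hxz⟩ := exists_common hG h
  exact fun f hf => (isClosedOrbit_iff.1 hx z hxz).symm.inOrbitClosure (ker_le_of_inOrbitClosure hyz hf)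

theorem inOrbit_of_stable {x y : R →ₐ[k] k} (hx : GLin.IsStablePt k A x)
    (h : ∀ f ∈ GLin.invariants k A R, y f = x f) : InOrbit k A x y :=
  (inOrbit_of_finite_stab (closure_of_closed hG hx.1 h) hx.2).symm

theorem stable_iff {x : R →ₐ[k] k} : GLin.IsStablePt k A x ↔
    ∀ z : R →ₐ[k] k, (∀ f ∈ GLin.invariants k A R, z f = x f) → GLin.HasFiniteStab k A z := by
  refine ⟨fun hx z hz => (inOrbit_of_stable hG hx hz).hasFiniteStab hx.2, fun h => ?_⟩
  refine ⟨isClosedOrbit_iff.2 fun z hz => ?_, h x fun _ _ => rfl⟩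
  exact inOrbit_of_finite_stab hz (h z fun f hf => invariants_eq_of_closure hz hf)

/-- Invariants cutting out the non-stable locus. -/
theorem exists_invariants_cutting : ∃ S : Set R, S ⊆ (GLin.invariants k A R : Set R) ∧
    ∀ x : R →ₐ[k] k, GLin.IsStablePt k A x ↔ ∃ f ∈ S, x f ≠ 0 := by
  let J : Ideal R := ⨅ (w : R →ₐ[k] k) (_ : ¬ GLin.HasFiniteStab k A w), RingHom.ker (φ_ w)
  refine ⟨{f | f ∈ GLin.invariants k A R ∧ f ∈ J}, fun f hf => hf.1, fun x => ?_⟩
  rw [stable_iff hG]
  constructor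
  · intro h
    by_contra hcon
    push Not at hcon
    have hJ : HopfRep.IsSubcomod (k := k) (A := A) (J.restrictScalars k) := by
      rw [isSubcomod_iff]
      intro a f hf
      simp only [J, Submodule.restrictScalars_mem, Ideal.mem_iInf] at hf ⊢
      exact fun w hw => (isSubcomod_iff _).1 (isSubcomod_ker_orbitHom w) a f (hf w hw)
    obtain ⟨z, hzJ, hz⟩ := exists_point_over hG J hJ (x.comp (GLin.invariants k A R).val)
      (fun f hf => hcon f.1 ⟨f.2, hf⟩)
    obtain ⟨r, hr, hr'⟩ := exists_open_finite_stab (h z fun f hf => hz ⟨f, hf⟩)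
    refine hr (hzJ r ?_)
    simp only [J, Ideal.mem_iInf]
    intro w hw
    refine mem_ker_orbitHom_iff.2 fun g => by_contra fun h0 => hw ?_
    rw [← actPt_apply] at h0
    exact (show InOrbit k A w (GLin.actPt k g w) from ⟨g, rfl⟩).symm.hasFiniteStab (hr' _ h0)
  · rintro ⟨f, ⟨hfi, hfJ⟩, hf⟩ z hz
    by_contra hzf
    simp only [J, Ideal.mem_iInf] at hfJ
    exact hf ((hz f hfi).symm.trans (RingHom.mem_ker.1 (inOrbitClosure_refl (A := A) z (hfJ z hzf))))

end stable

end Groth.Agent.Hopf35.Stable
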