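import Groth.Agent.LinRed34.Points
import Mathlib

/-!
Uniqueness of Reynolds operators; orbit closures through `GLin.InOrbitClosure`; graded invariants.
-/

universe u v w

open TensorProduct HopfRep

namespace Groth.Agent.Hopf35.ReyUnique

open Groth.Agent.Comod33 Groth.Agent.LinRed34

variable {k : Type u} [Field k] {A : Type v} [CommRing A] [Bialgebra k A]
  {V : Type w} [AddCommGroup V] [Module k V] [Comod k A V] (hG : IsLinearlyReductive k A)

theorem isComodHom_rey : Hoch.IsComodHom A (rey k A V hG) := by
  refine (isComodHom_iff _).2 fun f v => ?_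
  have h := (((fixedΛ k A V).subtype ∘ₗ Submodule.projectionOnto _ _ (isCompl_compl hG))).map_smul
    (WithConv.toConv f) v
  simp only [smul_def] at h
  exact h

theorem eq_rey {E : V →ₗ[k] V} (h₁ : Hoch.IsComodHom A E) (h₂ : E ∘ₗ E = E)
    (h₃ : ∀ x : V, E x = x ↔ x ∈ fixedPts k A V) : E = rey k A V hG := by
  apply LinearMap.ext
  intro x
  have hx : E x ∈ fixedPts k A V := (h₃ _).1 (LinearMap.congr_fun h₂ x)
  rw [← rey_of_fixed hG hx, ← map_rey hG h₁, (h₃ _).2 (rey_mem hG x)]

theorem rey_idem : rey k A V hG ∘ₗ rey k A V hG = rey k A V hG :=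
  LinearMap.ext fun x => rey_of_fixed hG (rey_mem hG x)

theorem rey_eq_self_iff (x : V) : rey k A V hG x = x ↔ x ∈ fixedPts k A V :=
  ⟨fun h => h ▸ rey_mem hG x, rey_of_fixed hG⟩

include hG in
theorem existsUnique_reynolds : ∃! E : V →ₗ[k] V, Hoch.IsComodHom A E ∧ E ∘ₗ E = E ∧
    ∀ x : V, E x = x ↔ x ∈ fixedPts k A V :=
  ⟨rey k A V hG, ⟨isComodHom_rey hG, rey_idem hG, rey_eq_self_iff hG⟩,
    fun _ h => eq_rey hG h.1 h.2.1 h.2.2⟩

include hG in
theorem iSup_inf_fixed {ι : Type*} (U : ι → Submodule k V)
    (hU : ∀ i, IsSubcomod (k := k) (A := A) (U i)) :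
    (⨆ i, U i) ⊓ fixedPts k A V = ⨆ i, (U i ⊓ fixedPts k A V) := by
  refine le_antisymm ?_ (iSup_le fun i => inf_le_inf_right _ (le_iSup U i))
  rintro x ⟨hx, hxf⟩
  rw [show x = rey k A V hG x from (rey_of_fixed hG hxf).symm]
  clear hxf
  induction hx using Submodule.iSup_induction' with
  | mem i x hx => exact Submodule.mem_iSup_of_mem i ⟨rey_mem_of_isSubcomod hG (hU i) hx, rey_mem hG x⟩
  | zero => simp
  | add x y _ _ hx hy => rw [map_add]; exact add_mem hx hy

end Groth.Agent.Hopf35.ReyUnique

namespace Groth.Agent.Hopf35.ReyUnique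

open Groth.Agent.Comod33 Groth.Agent.LinRed34

variable {k : Type u} [Field k] {A : Type v} [CommRing A] [Bialgebra k A]

theorem invariant_eq_of_inOrbitClosure {R : Type w} [CommRing R] [Algebra k R] [Comod k A R]
    [GLin.IsCoactAlg k A R] {x z : R →ₐ[k] k} (h : GLin.InOrbitClosure k A x z) {f : R}
    (hf : f ∈ GLin.invariants k A R) : z f = x f := by
  have hm : f - algebraMap k R (x f) ∈ RingHom.ker (GLin.orbitHom k A x) := by
    rw [RingHom.mem_ker, map_sub, orbitHom_invariant x hf, AlgHom.commutes, sub_self]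
  have := h hm
  rw [RingHom.mem_ker, map_sub, AlgHom.commutes, Algebra.algebraMap_self, RingHom.id_apply, sub_eq_zero] at this
  exact this

theorem comp_invariants_eq_iff [IsAlgClosed k] {R : Type w} [CommRing R] [Algebra k R] [Comod k A R]
    [GLin.IsCoactAlg k A R] [Algebra.FiniteType k R] [Algebra.FiniteType k A]
    (hG : IsLinearlyReductive k A) (x₁ x₂ : R →ₐ[k] k) :
    x₁.comp (GLin.invariants k A R).val = x₂.comp (GLin.invariants k A R).val ↔
      ∃ z : R →ₐ[k] k, GLin.InOrbitClosure k A x₁ z ∧ GLin.InOrbitClosure k A x₂ z := by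
  constructor
  · intro h
    obtain ⟨z, h1, h2⟩ := (forall_invariants_eq_iff hG x₁ x₂).1 fun f hf => AlgHom.congr_fun h ⟨f, hf⟩
    refine ⟨z, fun f hf => h1 f fun g => ?_, fun f hf => h2 f fun g => ?_⟩
    all_goals rw [act_eq_orbitHom, RingHom.mem_ker.1 hf, map_zero]
  · rintro ⟨z, h1, h2⟩
    apply AlgHom.ext
    intro f
    exact (invariant_eq_of_inOrbitClosure h1 f.2).symm.trans (invariant_eq_of_inOrbitClosure h2 f.2)

open MvPolynomial in
/-- A linear coaction commutes with taking homogeneous components. -/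
theorem coact_homogeneousComponent {ι : Type w} [Fintype ι] [Comod k A (MvPolynomial ι k)]
    [GLin.IsCoactAlg k A (MvPolynomial ι k)] (hlin : GLin.IsLinear k A ι) (F : MvPolynomial ι k) (d : ℕ) :
    Comod.coact (k := k) (A := A) (homogeneousComponent d F) =
      (homogeneousComponent d).rTensor A (Comod.coact (k := k) (A := A) F) := by
  have hX : ∀ (G : MvPolynomial ι k) (i : ι) (n : ℕ),
      homogeneousComponent (n + 1) (G * X i) = homogeneousComponent n G * X i := by
    classical
    intro G i n
    ext m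
    rw [coeff_homogeneousComponent, coeff_mul_X', coeff_mul_X']
    by_cases hi : i ∈ m.support
    · have hle : Finsupp.single i 1 ≤ m := by
        rw [Finsupp.single_le_iff]; exact Nat.one_le_iff_ne_zero.mpr (Finsupp.mem_support_iff.mp hi)
      have hdeg : m.degree = (m - Finsupp.single i 1).degree + 1 := by
        conv_lhs => rw [← tsub_add_cancel_of_le hle, map_add, Finsupp.degree_single]
      rw [if_pos hi, if_pos hi, coeff_homogeneousComponent]
      simp only [hdeg, Nat.add_left_inj]
    · rw [if_neg hi, if_neg hi, ite_self]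
  have hX0 : ∀ (G : MvPolynomial ι k) (i : ι), homogeneousComponent 0 (G * X i) = 0 := by
    classical
    intro G i
    rw [homogeneousComponent_zero, coeff_mul_X']
    simp
  induction F using MvPolynomial.induction_on generalizing d with
  | C c =>
    rw [show (C c : MvPolynomial ι k) = c • (1 : MvPolynomial ι k) by rw [smul_eq_C_mul, mul_one]]
    rw [map_smul, map_smul, map_smul, GLin.IsCoactAlg.coact_one (k := k), map_smul,
      Algebra.TensorProduct.one_def, LinearMap.rTensor_tmul]
    congr 1
    cases d with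
    | zero => rw [homogeneousComponent_zero, coeff_zero_one, map_one, GLin.IsCoactAlg.coact_one (k := k)]; rfl
    | succ d =>
      rw [homogeneousComponent_eq_zero _ _ (by simp), map_zero, TensorProduct.zero_tmul]
  | add p q hp hq => simp only [map_add, hp, hq]
  | mul_X p i hp =>
    obtain ⟨m, hm⟩ := hlin i
    cases d with
    | zero =>
      rw [hX0, map_zero, GLin.IsCoactAlg.coact_mul, hm, Finset.mul_sum, map_sum]
      refine (Finset.sum_eq_zero fun j _ => ?_).symm
      induction Comod.coact (k := k) (A := A) p using TensorProduct.induction_on with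
      | zero => simp
      | tmul a b => rw [Algebra.TensorProduct.tmul_mul_tmul, LinearMap.rTensor_tmul, hX0, TensorProduct.zero_tmul]
      | add a b ha hb => simp only [add_mul, map_add, ha, hb, add_zero]
    | succ d =>
      rw [hX, GLin.IsCoactAlg.coact_mul, GLin.IsCoactAlg.coact_mul, hp, hm, Finset.mul_sum, Finset.mul_sum, map_sum]
      refine Finset.sum_congr rfl fun j _ => ?_
      induction Comod.coact (k := k) (A := A) p using TensorProduct.induction_on with
      | zero => simp
      | tmul a b =>
        rw [LinearMap.rTensor_tmul, Algebra.TensorProduct.tmul_mul_tmul, Algebra.TensorProduct.tmul_mul_tmul,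
          LinearMap.rTensor_tmul, hX]
      | add a b ha hb => simp only [map_add, add_mul, ha, hb]

open MvPolynomial in
theorem isSemistableVec_iff [IsAlgClosed k] [Algebra.FiniteType k A] (hG : IsLinearlyReductive k A)
    {ι : Type w} [Fintype ι] [Comod k A (MvPolynomial ι k)] [GLin.IsCoactAlg k A (MvPolynomial ι k)]
    (hlin : GLin.IsLinear k A ι) (v : ι → k) :
    GLin.IsSemistableVec k A v ↔
      ¬ GLin.InOrbitClosure k A (GLin.vecPt k ι v) (GLin.vecPt k ι (fun _ => (0 : k))) := by
  have hpt : ∀ (w : ι → k) F, GLin.vecPt k ι w F = eval w F := fun w F => by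
    rw [← coe_aeval_eq_eval w]; rfl
  refine not_congr ⟨fun hnull => ?_, fun hcl F hF d hd hhom => ?_⟩
  · obtain ⟨z, hz1, hz0⟩ := (comp_invariants_eq_iff hG (GLin.vecPt k ι v) (GLin.vecPt k ι (fun _ => (0 : k)))).1 (by
      apply AlgHom.ext
      rintro ⟨F, hF⟩
      show GLin.vecPt k ι v F = GLin.vecPt k ι (fun _ => (0 : k)) F
      rw [hpt, hpt]
      conv_lhs => rw [← sum_homogeneousComponent F, map_sum]
      rw [Finset.sum_eq_single 0]
      · rw [homogeneousComponent_zero, eval_C]
        simp [eval_zero', constantCoeff_eq]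
      · intro d _ hd
        refine hnull _ ?_ d (Nat.pos_of_ne_zero hd) (homogeneousComponent_isHomogeneous d F)
        rw [GLin.mem_invariants_iff, coact_homogeneousComponent hlin,
          show Comod.coact (k := k) (A := A) F = F ⊗ₜ[k] (1 : A) from hF, LinearMap.rTensor_tmul]
      · intro h; exact absurd (Finset.mem_range.2 (Nat.succ_pos _)) h)
    have hzero : z = GLin.vecPt k ι (fun _ => (0 : k)) := by
      refine MvPolynomial.algHom_ext fun i => ?_
      rw [hpt, eval_X]
      refine RingHom.mem_ker.1 (hz0 (RingHom.mem_ker.2 ?_))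
      obtain ⟨m, hm⟩ := hlin i
      show (Algebra.TensorProduct.lid k A) (Algebra.TensorProduct.map (GLin.vecPt k ι (fun _ => (0 : k))) (AlgHom.id k A)
        (Comod.coact (k := k) (A := A) (X i : MvPolynomial ι k))) = 0
      rw [hm, map_sum, map_sum]
      exact Finset.sum_eq_zero fun j _ => by simp [hpt]
    exact hzero ▸ hz1
  · have h := invariant_eq_of_inOrbitClosure hcl hF
    rw [hpt, hpt] at h
    rw [← h, eval_zero', constantCoeff_eq, hhom.coeff_eq_zero]
    simp; omega

end Groth.Agent.Hopf35.ReyUnique
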