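import Mathlib
import Groth.Agent.Hopf35.Prime
import Groth.Agent.Hopf35.Deligne
import Groth.Agent.S15897

/-!
A finite locally free group of prime rank is commutative and killed by its rank.
-/

universe u v w

open TensorProduct Finset

namespace Groth.Agent.Hopf35.Cocomm

section Conv

variable {R : Type u} [CommRing R] {A : Type v} [CommRing A] [HopfAlgebra R A]

/-- Post-composition with an algebra map. -/
noncomputable def push {C C' : Type*} [CommRing C] [Algebra R C] [CommRing C'] [Algebra R C'] (f : C →ₐ[R] C') :
    WithConv (A →ₗ[R] C) →+* WithConv (A →ₗ[R] C') where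
  toFun h := WithConv.toConv (f.toLinearMap ∘ₗ h.ofConv)
  map_one' := by apply WithConv.ext; ext a; simp [LinearMap.convOne_apply]
  map_mul' x y := by apply WithConv.ext; exact LinearMap.algHom_comp_convMul_distrib f x y
  map_zero' := by apply WithConv.ext; simp
  map_add' x y := by apply WithConv.ext; exact LinearMap.comp_add _ _ _

theorem push_apply {C C' : Type*} [CommRing C] [Algebra R C] [CommRing C'] [Algebra R C'] (f : C →ₐ[R] C')
    (h : WithConv (A →ₗ[R] C)) (a : A) : (push f h).ofConv a = f (h.ofConv a) := rfl

variable (C : Type w) [CommRing C] [Algebra R C]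

/-- Restriction of forms on the base change. -/
noncomputable def restr : WithConv (C ⊗[R] A →ₗ[C] C) →* WithConv (A →ₗ[R] C) where
  toFun h := WithConv.toConv ((h.ofConv.restrictScalars R) ∘ₗ (TensorProduct.mk R C A 1))
  map_one' := by
    apply WithConv.ext
    ext a
    simp [LinearMap.convOne_apply, Algebra.algebraMap_eq_smul_one]
  map_mul' x y := by
    apply WithConv.ext
    ext a
    show (x * y).ofConv (1 ⊗ₜ a) = _
    rw [LinearMap.convMul_apply, LinearMap.convMul_apply]
    show LinearMap.mul' C C (TensorProduct.map x.ofConv y.ofConv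
      (AlgebraTensorModule.tensorTensorTensorComm R C R C C C A A ((Coalgebra.comul (R := C) (1 : C)) ⊗ₜ[R] Coalgebra.comul (R := R) a))) = _
    generalize Coalgebra.comul (R := R) a = t
    induction t using TensorProduct.induction_on with
    | zero => simp
    | add p q hp hq => simp only [tmul_add, map_add, hp, hq]
    | tmul b c => simp

theorem restr_apply (h : WithConv (C ⊗[R] A →ₗ[C] C)) (a : A) : (restr C h).ofConv a = h.ofConv (1 ⊗ₜ a) := rfl

variable [Module.Finite R A] [Module.Projective R A]

theorem finrank_baseChange_field (K : Type w) [Field K] [Algebra R K] {p : ℕ}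
    (hrk : ∀ q : PrimeSpectrum R, Module.rankAtStalk A q = p) : Module.finrank K (K ⊗[R] A) = p := by
  have h := Module.rankAtStalk_baseChange (R := R) (M := A) (S := K) default
  rw [hrk, Module.rankAtStalk_eq_finrank_of_free] at h
  exact h

theorem exists_pow_linearIndependent (K : Type w) [Field K] [IsAlgClosed K] [Algebra R K] {p : ℕ} (hp : p.Prime)
    (hrk : ∀ q : PrimeSpectrum R, Module.rankAtStalk A q = p) :
    ∃ z : WithConv (A →ₗ[R] K), LinearIndependent K (fun i : Fin p => z ^ (i : ℕ)) := by
  obtain ⟨z, hz⟩ := Prime.exists_pow_linearIndependent (k := K) (A := K ⊗[R] A) hp (finrank_baseChange_field K hrk)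
  refine ⟨restr K z, ?_⟩
  rw [Fintype.linearIndependent_iff]
  intro c hc
  refine Fintype.linearIndependent_iff.mp hz c ?_
  apply WithConv.ext
  apply LinearMap.ext
  intro t
  induction t using TensorProduct.induction_on with
  | zero => simp
  | add x y hx hy => simp only [map_add, hx, hy, WithConv.ofConv_zero, LinearMap.zero_apply, add_zero]
  | tmul s a =>
    have h1 := congrArg (fun t : WithConv (A →ₗ[R] K) => t a) hc
    simp only [WithConv.ofConv_sum, LinearMap.sum_apply, WithConv.ofConv_smul, LinearMap.smul_apply, ← map_pow, restr_apply, WithConv.ofConv_zero, LinearMap.zero_apply] at h1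
    have : s ⊗ₜ[R] a = s • ((1 : K) ⊗ₜ[R] a) := by rw [smul_tmul', smul_eq_mul, mul_one]
    rw [this, map_smul]
    simp only [WithConv.ofConv_sum, LinearMap.sum_apply, WithConv.ofConv_smul, LinearMap.smul_apply, h1, smul_zero, WithConv.ofConv_zero, LinearMap.zero_apply]

end Conv

section Comm

variable {R : Type u} [CommRing R] {A : Type v} [CommRing A] [HopfAlgebra R A]
  [Module.Finite R A] [Module.Projective R A]

theorem commute_conv_of_isLocalRing {L : Type u} [CommRing L] [IsLocalRing L] [Algebra R L] {p : ℕ} (hp : p.Prime)
    (hrk : ∀ q : PrimeSpectrum R, Module.rankAtStalk A q = p) (x y : WithConv (A →ₗ[R] L)) :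
    Commute x y := by
  classical
  have hfree : Module.Free L (L ⊗[R] A) := Module.free_of_flat_of_isLocalRing
  have hfr : Module.finrank L (L ⊗[R] A) = p := by
    have h := Module.rankAtStalk_baseChange (R := R) (M := A) (S := L) ⟨IsLocalRing.maximalIdeal L, inferInstance⟩
    rw [hrk, Module.rankAtStalk_eq_finrank_of_free] at h
    exact h
  let b : Module.Basis (Fin p) L (L ⊗[R] A) := (Module.finBasis L (L ⊗[R] A)).reindex (finCongr hfr)
  -- coordinates
  let co : ∀ (C : Type u) [CommRing C] [Algebra R C] [Algebra L C] [IsScalarTower R L C],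
      WithConv (A →ₗ[R] C) → Fin p → C := fun C _ _ _ _ h j => h.ofConv.liftBaseChange L (b j)
  let el : ∀ (C : Type u) [CommRing C] [Algebra R C] [Algebra L C] [IsScalarTower R L C],
      (Fin p → C) → WithConv (A →ₗ[R] C) := fun C _ _ _ _ w =>
    WithConv.toConv (((Fintype.linearCombination L w) ∘ₗ b.equivFun.toLinearMap).restrictScalars R ∘ₗ TensorProduct.mk R L A 1)
  have el_co : ∀ (C : Type u) [CommRing C] [Algebra R C] [Algebra L C] [IsScalarTower R L C]
      (h : WithConv (A →ₗ[R] C)), el C (co C h) = h := by
    intro C _ _ _ _ h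
    apply WithConv.ext
    ext a
    show Fintype.linearCombination L (co C h) (b.equivFun (1 ⊗ₜ a)) = h.ofConv a
    rw [Fintype.linearCombination_apply]
    simp only [co, ← map_smul, ← map_sum]
    rw [b.sum_equivFun, LinearMap.liftBaseChange_tmul, one_smul]
  have co_push : ∀ (C C' : Type u) [CommRing C] [Algebra R C] [Algebra L C] [IsScalarTower R L C]
      [CommRing C'] [Algebra R C'] [Algebra L C'] [IsScalarTower R L C'] (f : C →ₐ[L] C')
      (h : WithConv (A →ₗ[R] C)) (j : Fin p), co C' (push (f.restrictScalars R) h) j = f (co C h j) := by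
    intro C C' _ _ _ _ _ _ _ _ f h j
    simp only [co]
    generalize b j = t
    induction t using TensorProduct.induction_on with
    | zero => simp
    | add s t hs ht => simp only [map_add, hs, ht]
    | tmul l a => simp [push_apply]
  have el_push : ∀ (C C' : Type u) [CommRing C] [Algebra R C] [Algebra L C] [IsScalarTower R L C]
      [CommRing C'] [Algebra R C'] [Algebra L C'] [IsScalarTower R L C'] (f : C →ₐ[L] C')
      (w : Fin p → C), push (f.restrictScalars R) (el C w) = el C' (fun j => f (w j)) := by
    intro C C' _ _ _ _ _ _ _ _ f w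
    apply WithConv.ext
    ext a
    simp [el, push_apply, Fintype.linearCombination_apply]
  -- the generic form
  let C0 := MvPolynomial (Fin p) L
  letI : IsScalarTower R L C0 := inferInstance
  let Z := el C0 MvPolynomial.X
  let M : Matrix (Fin p) (Fin p) C0 := Matrix.of fun i j => co C0 (Z ^ (i : ℕ)) j
  have hM : ∀ (C : Type u) [CommRing C] [Algebra R C] [Algebra L C] [IsScalarTower R L C] (f : C0 →ₐ[L] C),
      M.map f = Matrix.of fun (i j : Fin p) => co C ((el C (fun j => f (MvPolynomial.X j))) ^ (i : ℕ)) j := by
    intro C _ _ _ _ f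
    ext i j
    simp only [M, Matrix.map_apply, Matrix.of_apply, ← co_push C0 C f, map_pow, Z, el_push C0 C f]
  -- non-vanishing over the algebraically closed field
  let K := AlgebraicClosure (IsLocalRing.ResidueField L)
  obtain ⟨z, hz⟩ := exists_pow_linearIndependent (A := A) K hp hrk
  let f0 : C0 →ₐ[L] K := MvPolynomial.aeval (co K z)
  have hdet : f0 M.det ≠ 0 := by
    rw [AlgHom.map_det, AlgHom.mapMatrix_apply, hM K f0]
    have hz' : el K (fun j => f0 (MvPolynomial.X j)) = z := by
      rw [show (fun j => f0 (MvPolynomial.X j)) = co K z from funext fun j => MvPolynomial.aeval_X _ j]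
      exact el_co K z
    rw [hz']
    let coK : WithConv (A →ₗ[R] K) →ₗ[K] (Fin p → K) :=
      { toFun := co K
        map_add' := fun h h' => by
          funext j
          simp only [co, Pi.add_apply]
          generalize b j = t
          induction t using TensorProduct.induction_on with
          | zero => simp
          | add s t hs ht => simp only [map_add, hs, ht]; abel
          | tmul l a => simp
        map_smul' := fun c h => by
          funext j
          simp only [co, Pi.smul_apply, RingHom.id_apply]
          generalize b j = t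
          induction t using TensorProduct.induction_on with
          | zero => simp
          | add s t hs ht => simp only [map_add, hs, ht, smul_add]
          | tmul l a => simp [smul_comm] }
    have hinj : Function.Injective coK := fun h h' e => by
      rw [← el_co K h, ← el_co K h', show co K h = co K h' from e]
    have hli := hz.map' coK (LinearMap.ker_eq_bot.mpr hinj)
    have := (Matrix.linearIndependent_rows_iff_isUnit (A := Matrix.of fun (i j : Fin p) => co K (z ^ (i : ℕ)) j)).mp hli
    exact ((Matrix.isUnit_iff_isUnit_det _).mp this).ne_zero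
  -- generic point of the residue polynomial ring
  let Q : Ideal C0 := RingHom.ker (MvPolynomial.map (IsLocalRing.residue L) : C0 →+* _)
  haveI : Q.IsPrime := RingHom.ker_isPrime _
  have hQ : M.det ∉ Q := by
    intro h
    apply hdet
    have hfac : ∀ P : C0, f0 P = MvPolynomial.eval₂ (algebraMap (IsLocalRing.ResidueField L) K) (co K z) (MvPolynomial.map (IsLocalRing.residue L) P) := by
      intro P
      rw [MvPolynomial.eval₂_map]
      rfl
    rw [hfac, RingHom.mem_ker.mp h, MvPolynomial.eval₂_zero]
  let C := Localization.AtPrime Q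
  let f : C0 →ₐ[L] C := IsScalarTower.toAlgHom L C0 C
  have hdetC : IsUnit (M.map f).det := by
    rw [← AlgHom.mapMatrix_apply, ← AlgHom.map_det]
    exact IsLocalization.map_units C (⟨M.det, hQ⟩ : Q.primeCompl)
  rw [hM C f] at hdetC
  set zC := el C (fun j => f (MvPolynomial.X j)) with hzC
  have hall : ∀ h : WithConv (A →ₗ[R] C), ∃ c : Fin p → C, h = ∑ i, c i • zC ^ (i : ℕ) := by
    intro h
    set N := Matrix.of fun (i j : Fin p) => co C (zC ^ (i : ℕ)) j
    let c := Matrix.vecMul (co C h) N⁻¹
    refine ⟨c, ?_⟩
    have hc : Matrix.vecMul c N = co C h := by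
      rw [Matrix.vecMul_vecMul, Matrix.nonsing_inv_mul _ hdetC, Matrix.vecMul_one]
    rw [← el_co C h, ← el_co C (∑ i, c i • zC ^ (i : ℕ))]
    congr 1
    funext j
    rw [← congrFun hc j]
    simp only [Matrix.vecMul, dotProduct, N, Matrix.of_apply, co]
    generalize b j = t
    induction t using TensorProduct.induction_on with
    | zero => simp
    | add s t hs ht => simp only [map_add, mul_add, sum_add_distrib, hs, ht]
    | tmul l a => simp [WithConv.ofConv_sum, LinearMap.sum_apply, Finset.smul_sum]
  have hcomC : ∀ h h' : WithConv (A →ₗ[R] C), Commute h h' := by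
    intro h h'
    obtain ⟨c, rfl⟩ := hall h
    obtain ⟨c', rfl⟩ := hall h'
    exact Commute.sum_left _ _ _ fun i _ => Commute.sum_right _ _ _ fun j _ =>
      ((Commute.refl zC).pow_pow _ _).smul_left _ |>.smul_right _
  have hinj : Function.Injective (algebraMap L C) := by
    rw [injective_iff_map_eq_zero]
    intro r hr
    rw [IsScalarTower.algebraMap_apply L C0 C, IsLocalization.map_eq_zero_iff Q.primeCompl C] at hr
    obtain ⟨⟨s, hs⟩, hsr⟩ := hr
    have hs' : ∃ m, IsLocalRing.residue L (MvPolynomial.coeff m s) ≠ 0 := by
      by_contra hall'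
      push Not at hall'
      exact hs (RingHom.mem_ker.mpr (MvPolynomial.ext _ _ fun m => by rw [MvPolynomial.coeff_map, hall', MvPolynomial.coeff_zero]))
    obtain ⟨m, hm⟩ := hs'
    have h2 := congrArg (MvPolynomial.coeff m) hsr
    rw [MvPolynomial.algebraMap_eq] at h2
    rw [show ((⟨s, hs⟩ : Q.primeCompl) : C0) * MvPolynomial.C r = MvPolynomial.C r * s from mul_comm _ _, MvPolynomial.coeff_C_mul, MvPolynomial.coeff_zero] at h2
    exact (IsLocalRing.notMem_maximalIdeal.mp fun hmm => hm ((IsLocalRing.residue_eq_zero_iff _).mpr hmm)).mul_left_eq_zero.mp h2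
  show x * y = y * x
  have h := (hcomC (push (IsScalarTower.toAlgHom R L C) x) (push (IsScalarTower.toAlgHom R L C) y)).eq
  rw [← map_mul, ← map_mul] at h
  apply WithConv.ext
  ext a
  exact hinj (congrArg (fun t : WithConv (A →ₗ[R] C) => t a) h)

theorem commute_conv {p : ℕ} (hp : p.Prime) (hrk : ∀ q : PrimeSpectrum R, Module.rankAtStalk A q = p)
    (x y : WithConv (A →ₗ[R] R)) : Commute x y := by
  show x * y = y * x
  apply WithConv.ext
  ext a
  refine Module.eq_of_localization_maximal (fun P _ => Localization.AtPrime P) (fun P _ => Algebra.linearMap R (Localization.AtPrime P)) _ _ fun P hP => ?_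
  have h := (commute_conv_of_isLocalRing (A := A) (L := Localization.AtPrime P) hp hrk (push (Algebra.ofId R _) x) (push (Algebra.ofId R _) y)).eq
  rw [← map_mul, ← map_mul] at h
  exact congrArg (fun t : WithConv (A →ₗ[R] Localization.AtPrime P) => t a) h

theorem isCocomm {p : ℕ} (hp : p.Prime) (hrk : ∀ q : PrimeSpectrum R, Module.rankAtStalk A q = p) :
    Coalgebra.IsCocomm R A :=
  Groth.Agent.S15897.result R A fun x y => (commute_conv hp hrk x y).eq

theorem id_pow_eq_one [Coalgebra.IsCocomm R A] {n : ℕ} (hrk : ∀ q : PrimeSpectrum R, Module.rankAtStalk A q = n) :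
    (WithConv.toConv (AlgHom.id R A)) ^ n = 1 := by
  apply WithConv.ext
  ext a
  refine Module.eq_of_localization_maximal (fun P _ => Localization.AtPrime P) (fun P _ => Algebra.linearMap A (Localization.AtPrime P)) _ _ fun P hP => ?_
  let C := Localization.AtPrime P
  have hfree : Module.Free C (C ⊗[R] A) := Module.free_of_flat_of_isLocalRing
  have hfr : Module.finrank C (C ⊗[R] A) = n := by
    have h := Module.rankAtStalk_baseChange (R := R) (M := A) (S := C) ⟨IsLocalRing.maximalIdeal C, inferInstance⟩
    rw [hrk, Module.rankAtStalk_eq_finrank_of_free] at h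
    exact h
  have h := Deligne.pow_card_eq_one (Module.finBasis C (C ⊗[R] A)) (WithConv.toConv (IsScalarTower.toAlgHom R A C))
  have hcp : ∀ m, WithConv.toConv ((IsScalarTower.toAlgHom R A C).comp ((WithConv.toConv (AlgHom.id R A)) ^ m).ofConv) =
      WithConv.toConv (IsScalarTower.toAlgHom R A C) ^ m := by
    intro m
    induction m with
    | zero => apply WithConv.ext; ext b; simp [AlgHom.convOne_apply, ← IsScalarTower.algebraMap_apply]
    | succ m ih => rw [pow_succ, pow_succ, ← ih, AlgHom.comp_convMul_distrib]; rfl
  rw [Fintype.card_fin, hfr, ← hcp] at h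
  have := congrArg (fun t : WithConv (A →ₐ[R] C) => t a) h
  simp only [AlgHom.convOne_apply] at this
  refine this.trans ?_
  simp [AlgHom.convOne_apply, ← IsScalarTower.algebraMap_apply]
  rfl

end Comm

end Groth.Agent.Hopf35.Cocomm
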