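import Mathlib
import Groth.Agent.Hopf35.Cocomm
import Groth.Agent.Hopf35.Eigen

/-!
The eigenspaces of the augmentation ideal in prime rank.
-/

universe u

open TensorProduct Finset

namespace Groth.Agent.Hopf35.OT

section Field

variable {p : ℕ} [Fact p.Prime] {K : Type u} [Field K] [IsAlgClosed K] (u : K) (hu : u * ((p - 1 : ℕ) : K) = 1)
  (χ : (ZMod p)ˣ →* Kˣ) (hχ : ∀ m : (ZMod p)ˣ, m ≠ 1 → IsUnit ((χ m : K) - 1))
  (hχp : CharP K p → ∀ m : (ZMod p)ˣ, ((χ m : Kˣ) : K) = ((m : ZMod p).val : K))
  {A : Type u} [CommRing A] [HopfAlgebra K A] [FiniteDimensional K A] (hA : Module.finrank K A = p)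

omit [IsAlgClosed K] [FiniteDimensional K A] in
theorem pow_mem_eigenAug {y : A} (hy : y ∈ OortTate.eigenAug K A p χ 1) {t : ℕ} (ht : 1 ≤ t) :
    y ^ t ∈ OortTate.eigenAug K A p χ t := by
  induction t, ht using Nat.le_induction with
  | base => simpa
  | succ t _ ih => rw [pow_succ]; exact Eigen.mul_mem_eigenAug ih hy

include hu hχ hχp hA in
theorem exists_span_pow :
    ∃ y ∈ OortTate.eigenAug K A p χ 1, ∀ t, 1 ≤ t → t ≤ p - 1 →
      y ^ t ≠ 0 ∧ OortTate.eigenAug K A p χ t = Submodule.span K {y ^ t} := by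
  obtain ⟨y, hy, hy0⟩ := Prime.exists_eigen_pow_ne_zero u hu χ hχp hA
  have hp : p.Prime := Fact.out
  have hp2 := hp.two_le
  refine ⟨y, hy, fun t ht ht' => ⟨hy0 t ht (by omega), ?_⟩⟩
  let e : Fin (p - 1) → ℕ := fun i => if (i : ℕ) = 0 then p - 1 else i
  have he : ∀ i, 1 ≤ e i ∧ e i ≤ p - 1 ∧ e i % (p - 1) = (i : ℕ) := fun i => by
    simp only [e]
    split_ifs with h
    · simp [h]; omega
    · exact ⟨by omega, i.2.le, Nat.mod_eq_of_lt i.2⟩
  have hmem : ∀ i : Fin (p - 1), y ^ e i ∈ OortTate.eigenAug K A p χ (i : ℕ) := fun i => by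
    have := pow_mem_eigenAug χ hy (he i).1
    rwa [← Eigen.eigenAug_mod, (he i).2.2] at this
  have hli : LinearIndependent K fun i : Fin (p - 1) => y ^ e i :=
    iSupIndep.linearIndependent _ (Eigen.iSupIndep_eigenAug hu hχ) hmem fun i => hy0 _ (he i).1 (by have := (he i).2.1; omega)
  set I := LinearMap.ker (Bialgebra.counitAlgHom K A).toLinearMap with hI
  have hfr : Module.finrank K I = p - 1 := by
    have h := LinearMap.finrank_range_add_finrank_ker (Bialgebra.counitAlgHom K A).toLinearMap
    rw [LinearMap.range_eq_top.mpr (fun r => ⟨algebraMap K A r, by simp⟩), finrank_top, Module.finrank_self, hA, ← hI] at h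
    omega
  have hspan : I = Submodule.span K (Set.range fun i : Fin (p - 1) => y ^ e i) := by
    refine (Submodule.eq_of_le_of_finrank_eq (Submodule.span_le.mpr ?_) ?_).symm
    · rintro _ ⟨i, rfl⟩
      exact (hmem i).1
    · rw [finrank_span_eq_card hli, Fintype.card_fin, hfr]
  refine le_antisymm ?_ ?_
  swap
  · rw [Submodule.span_le, Set.singleton_subset_iff]
    exact pow_mem_eigenAug χ hy ht
  intro z hz
  have hz' : z ∈ Submodule.span K (Set.range fun i : Fin (p - 1) => y ^ e i) := hspan ▸ hz.1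
  obtain ⟨c, hc⟩ := (Submodule.mem_span_range_iff_exists_fun K).mp hz'
  have hpos : 0 < p - 1 := by omega
  let j : Fin (p - 1) := ⟨t % (p - 1), Nat.mod_lt _ hpos⟩
  have hej : e j = t := by
    simp only [e, j]
    rcases Nat.lt_or_eq_of_le ht' with h | h
    · rw [Nat.mod_eq_of_lt h, if_neg (by omega)]
    · subst h; simp
  have h2 : OortTate.proj K A p u χ t z = c j • y ^ t := by
    rw [← hc, map_sum, Finset.sum_eq_single j]
    · rw [map_smul, hej, Eigen.proj_of_mem hu (pow_mem_eigenAug χ hy ht)]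
    · intro i _ hij
      rw [map_smul, Eigen.proj_of_mem_ne hχ u ?_ (hmem i), smul_zero]
      rw [Nat.mod_eq_of_lt i.2]
      exact fun h => hij (Fin.ext h.symm)
    · simp
  rw [Eigen.proj_of_mem hu hz] at h2
  exact h2 ▸ Submodule.smul_mem _ _ (Submodule.mem_span_singleton_self _)

end Field

section BaseChange

variable {p : ℕ} {R : Type u} [CommRing R] {A : Type u} [CommRing A] [HopfAlgebra R A]
  (K : Type u) [CommRing K] [Algebra R K]

theorem counit_tmul (c : K) (a : A) :
    Coalgebra.counit (R := K) (c ⊗ₜ[R] a) = Coalgebra.counit (R := R) a • c := by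
  simp

/-- Restriction of points of the base change. -/
noncomputable def restrHom (B : Type u) [CommRing B] [Algebra R B] [Algebra K B] [IsScalarTower R K B] :
    WithConv (K ⊗[R] A →ₐ[K] B) →* WithConv (A →ₐ[R] B) where
  toFun f := WithConv.toConv ((f.ofConv.restrictScalars R).comp Algebra.TensorProduct.includeRight)
  map_one' := by
    apply WithConv.ext
    apply AlgHom.ext
    intro a
    simp [AlgHom.convOne_apply, Algebra.algebraMap_eq_smul_one]
  map_mul' x y := by
    apply WithConv.ext
    apply AlgHom.ext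
    intro a
    show (x * y).ofConv (1 ⊗ₜ a) = _
    rw [AlgHom.convMul_apply, AlgHom.convMul_apply]
    show Algebra.TensorProduct.lift x.ofConv y.ofConv (fun _ _ => .all ..)
      (AlgebraTensorModule.tensorTensorTensorComm R K R K K K A A ((Coalgebra.comul (R := K) (1 : K)) ⊗ₜ[R] Coalgebra.comul (R := R) a)) = _
    generalize Coalgebra.comul (R := R) a = t
    induction t using TensorProduct.induction_on with
    | zero => simp
    | add p q hp hq => simp only [tmul_add, map_add, hp, hq]
    | tmul b c => simp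

theorem powConv_tmul (m : ℕ) (c : K) (a : A) :
    SGA3b.powConv K (K ⊗[R] A) m (c ⊗ₜ[R] a) = c ⊗ₜ SGA3b.powConv R A m a := by
  have h := map_pow (restrHom (R := R) (A := A) K (K ⊗[R] A)) (WithConv.toConv (AlgHom.id K (K ⊗[R] A))) m
  rw [show restrHom (R := R) (A := A) K (K ⊗[R] A) (WithConv.toConv (AlgHom.id K _)) = WithConv.toConv Algebra.TensorProduct.includeRight from rfl] at h
  have h1 := congrArg (fun t : WithConv (A →ₐ[R] K ⊗[R] A) => t a) (h.trans (Eigen.comp_powConv _ m).symm)
  have h2 : SGA3b.powConv K (K ⊗[R] A) m ((1 : K) ⊗ₜ[R] a) = (1 : K) ⊗ₜ SGA3b.powConv R A m a := h1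
  have : c ⊗ₜ[R] a = c • ((1 : K) ⊗ₜ[R] a) := by rw [smul_tmul', smul_eq_mul, mul_one]
  rw [this, map_smul, h2, smul_tmul', smul_eq_mul, mul_one]

variable [Fact p.Prime] (u : R) (χ : (ZMod p)ˣ →* Rˣ)

/-- The character on the extension. -/
noncomputable abbrev chi : (ZMod p)ˣ →* Kˣ := (Units.map (algebraMap R K).toMonoidHom).comp χ

theorem chi_apply (m : (ZMod p)ˣ) : ((chi K χ m : Kˣ) : K) = algebraMap R K (χ m : R) := rfl

theorem tmul_mem_eigenAug {i : ℕ} {f : A} (hf : f ∈ OortTate.eigenAug R A p χ i) (c : K) :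
    c ⊗ₜ[R] f ∈ OortTate.eigenAug K (K ⊗[R] A) p (chi K χ) i := by
  rw [Eigen.mem_eigenAug] at hf ⊢
  refine ⟨by rw [counit_tmul, hf.1, zero_smul], fun m => ?_⟩
  rw [powConv_tmul, hf.2, chi_apply, ← map_pow, algebraMap_smul, tmul_smul]

theorem proj_tmul (i : ℕ) (c : K) (a : A) :
    OortTate.proj K (K ⊗[R] A) p (algebraMap R K u) (chi K χ) i (c ⊗ₜ[R] a) = c ⊗ₜ OortTate.proj R A p u χ i a := by
  simp only [Eigen.proj_apply, powConv_tmul, chi_apply, ← map_pow, algebraMap_smul, ← tmul_smul, ← tmul_sum]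

end BaseChange

section Base

variable {p : ℕ} [Fact p.Prime] {R : Type u} [CommRing R] (u : R) (hu : u * ((p - 1 : ℕ) : R) = 1)
  (χ : (ZMod p)ˣ →* Rˣ) (hχ : ∀ m : (ZMod p)ˣ, m ≠ 1 → IsUnit ((χ m : R) - 1))
  {A : Type u} [CommRing A] [HopfAlgebra R A]

/-- The projection of `A` onto an eigen-submodule. -/
noncomputable def projAug (hid : (WithConv.toConv (AlgHom.id R A)) ^ p = 1) (i : ℕ) :
    A →ₗ[R] OortTate.eigenAug R A p χ i :=
  ((OortTate.proj R A p u χ i) ∘ₗ (LinearMap.id - (Algebra.linearMap R A) ∘ₗ (Bialgebra.counitAlgHom R A).toLinearMap)).codRestrict _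
    fun a => Eigen.proj_mem hid u i (by simp)

include hu in
theorem projAug_of_mem (hid : (WithConv.toConv (AlgHom.id R A)) ^ p = 1) (i : ℕ) (f : OortTate.eigenAug R A p χ i) :
    projAug u χ hid i f.1 = f := by
  apply Subtype.ext
  show OortTate.proj R A p u χ i (f.1 - algebraMap R A (Coalgebra.counit (R := R) f.1)) = _
  rw [(Eigen.mem_eigenAug.mp f.2).1, map_zero, sub_zero, Eigen.proj_of_mem hu f.2]

variable [Module.Finite R A] [Module.Projective R A] (hid : (WithConv.toConv (AlgHom.id R A)) ^ p = 1)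

include hu hid in
theorem finite_eigenAug (i : ℕ) : Module.Finite R (OortTate.eigenAug R A p χ i) :=
  Module.Finite.of_surjective (projAug u χ hid i) fun f => ⟨f.1, projAug_of_mem u hu χ hid i f⟩

include hu hid in
theorem projective_eigenAug (i : ℕ) : Module.Projective R (OortTate.eigenAug R A p χ i) :=
  Module.Projective.of_split (OortTate.eigenAug R A p χ i).subtype (projAug u χ hid i)
    (LinearMap.ext fun f => projAug_of_mem u hu χ hid i f)

include hu hid in
theorem baseChange_subtype_injective (K : Type u) [CommRing K] [Algebra R K] (i : ℕ) :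
    Function.Injective ((OortTate.eigenAug R A p χ i).subtype.baseChange K) :=
  Function.LeftInverse.injective (g := (projAug u χ hid i).baseChange K) fun x => by
    rw [← LinearMap.comp_apply, ← LinearMap.baseChange_comp,
      show projAug u χ hid i ∘ₗ (OortTate.eigenAug R A p χ i).subtype = LinearMap.id from
        LinearMap.ext fun f => projAug_of_mem u hu χ hid i f, LinearMap.baseChange_id, LinearMap.id_apply]

include hu hid in
theorem range_baseChange_subtype (K : Type u) [CommRing K] [Algebra R K] (i : ℕ) :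
    LinearMap.range ((OortTate.eigenAug R A p χ i).subtype.baseChange K) = OortTate.eigenAug K (K ⊗[R] A) p (chi K χ) i := by
  refine le_antisymm ?_ ?_
  · rintro _ ⟨t, rfl⟩
    induction t using TensorProduct.induction_on with
    | zero => simp
    | add s t hs ht => rw [map_add]; exact add_mem hs ht
    | tmul c f => exact tmul_mem_eigenAug K χ f.2 c
  · intro z hz
    refine ⟨(projAug u χ hid i).baseChange K z, ?_⟩
    have key : ∀ t : K ⊗[R] A, (OortTate.eigenAug R A p χ i).subtype.baseChange K ((projAug u χ hid i).baseChange K t) =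
        OortTate.proj K (K ⊗[R] A) p (algebraMap R K u) (chi K χ) i (t - algebraMap K (K ⊗[R] A) (Coalgebra.counit (R := K) t)) := by
      intro t
      induction t using TensorProduct.induction_on with
      | zero => simp
      | add s t hs ht => simp only [map_add, hs, ht, add_sub_add_comm]
      | tmul c a =>
        simp only [LinearMap.baseChange_tmul, Submodule.subtype_apply]
        show c ⊗ₜ[R] OortTate.proj R A p u χ i (a - algebraMap R A (Coalgebra.counit (R := R) a)) = _
        rw [← proj_tmul K u χ i c, tmul_sub, counit_tmul]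
        congr 2
        rw [Algebra.algebraMap_eq_smul_one, tmul_smul, Algebra.TensorProduct.algebraMap_apply, smul_tmul']
        simp
    rw [key, (Eigen.mem_eigenAug.mp hz).1, map_zero, sub_zero]
    exact Eigen.proj_of_mem (by rw [← map_natCast (algebraMap R K) (p - 1), ← map_mul, hu, map_one]) hz

end Base

section Main

variable {p : ℕ} [Fact p.Prime] {R : Type u} [CommRing R] (u : R) (hu : u * ((p - 1 : ℕ) : R) = 1)
  (χ : (ZMod p)ˣ →* Rˣ) (hχ : ∀ m : (ZMod p)ˣ, m ≠ 1 → IsUnit ((χ m : R) - 1))
  (hχp : ∀ m : (ZMod p)ˣ, ((χ m : Rˣ) : R) - (((m : ZMod p).val : ℕ) : R) ∈ Ideal.span ({(p : R)} : Set R))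
  {A : Type u} [CommRing A] [HopfAlgebra R A] [Module.Finite R A] [Module.Projective R A]
  (hrk : ∀ q : PrimeSpectrum R, Module.rankAtStalk A q = p)

include hrk in
theorem id_pow : (WithConv.toConv (AlgHom.id R A)) ^ p = 1 := by
  haveI := Cocomm.isCocomm (Fact.out : p.Prime) hrk
  exact Cocomm.id_pow_eq_one hrk

include hu hχ hχp hrk in
theorem exists_span_pow_baseChange (K : Type u) [Field K] [IsAlgClosed K] [Algebra R K] :
    ∃ y ∈ OortTate.eigenAug K (K ⊗[R] A) p (chi K χ) 1, ∀ t, 1 ≤ t → t ≤ p - 1 →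
      y ^ t ≠ 0 ∧ OortTate.eigenAug K (K ⊗[R] A) p (chi K χ) t = Submodule.span K {y ^ t} := by
  refine exists_span_pow (algebraMap R K u) ?_ (chi K χ) ?_ ?_ (Cocomm.finrank_baseChange_field K hrk)
  · rw [← map_natCast (algebraMap R K) (p - 1), ← map_mul, hu, map_one]
  · intro m hm
    have := (hχ m hm).map (algebraMap R K)
    rwa [map_sub, map_one] at this
  · intro hchar m
    obtain ⟨r, hr⟩ := Ideal.mem_span_singleton'.mp (hχp m)
    have := congrArg (algebraMap R K) hr
    rw [map_mul, map_natCast, CharP.cast_eq_zero, mul_zero, map_sub, map_natCast, eq_comm, sub_eq_zero] at this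
    rw [chi_apply, this]

include hu hχ hχp hrk in
theorem rankAtStalk_eigenAug (i : ℕ) (q : PrimeSpectrum R) :
    Module.rankAtStalk (↥(OortTate.eigenAug R A p χ i)) q = 1 := by
  have hid := id_pow (A := A) hrk
  haveI := finite_eigenAug u hu χ hid i
  haveI := projective_eigenAug u hu χ hid i
  let K := AlgebraicClosure q.asIdeal.ResidueField
  have h := Module.rankAtStalk_baseChange (R := R) (M := ↥(OortTate.eigenAug R A p χ i)) (S := K) ⟨⊥, Ideal.isPrime_bot⟩
  have hq : PrimeSpectrum.comap (algebraMap R K) ⟨⊥, Ideal.isPrime_bot⟩ = q := by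
    apply PrimeSpectrum.ext
    show (⊥ : Ideal K).comap (algebraMap R K) = q.asIdeal
    rw [IsScalarTower.algebraMap_eq R q.asIdeal.ResidueField K, ← Ideal.comap_comap,
      Ideal.comap_bot_of_injective _ (algebraMap q.asIdeal.ResidueField K).injective, ← RingHom.ker_eq_comap_bot,
      Ideal.ker_algebraMap_residueField]
  rw [hq, Module.rankAtStalk_eq_finrank_of_free] at h
  refine h.symm.trans ?_
  simp only [Pi.natCast_def, Nat.cast_id]
  rw [LinearEquiv.finrank_eq (LinearEquiv.ofInjective _ (baseChange_subtype_injective u hu χ hid K i)),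
    range_baseChange_subtype u hu χ hid K i]
  obtain ⟨y, hy, hsp⟩ := exists_span_pow_baseChange u hu χ hχ hχp (A := A) hrk K
  have hp := (Fact.out : p.Prime).two_le
  obtain ⟨t, ht1, ht2, hti⟩ : ∃ t, 1 ≤ t ∧ t ≤ p - 1 ∧ t % (p - 1) = i % (p - 1) := by
    by_cases h0 : i % (p - 1) = 0
    · exact ⟨p - 1, by omega, le_rfl, by simp [h0]⟩
    · exact ⟨i % (p - 1), by omega, (Nat.mod_lt _ (by omega)).le, Nat.mod_mod _ _⟩
  obtain ⟨hne, heq⟩ := hsp t ht1 ht2
  rw [← Eigen.eigenAug_mod, ← hti, Eigen.eigenAug_mod, heq, finrank_span_singleton hne]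

omit [Module.Finite R A] [Module.Projective R A] in
theorem pow_le_eigenAug {t : ℕ} (ht : 1 ≤ t) :
    (OortTate.eigenAug R A p χ 1) ^ t ≤ OortTate.eigenAug R A p χ t := by
  induction t, ht using Nat.le_induction with
  | base => rw [pow_one]
  | succ t _ ih =>
    rw [pow_succ, Submodule.mul_le]
    exact fun a ha b hb => Eigen.mul_mem_eigenAug (ih ha) hb

set_option synthInstance.maxHeartbeats 400000 in
include hu hχ hχp hrk in
theorem pow_eq_eigenAug {t : ℕ} (ht : 1 ≤ t) (ht' : t ≤ p - 1) :
    (OortTate.eigenAug R A p χ 1) ^ t = OortTate.eigenAug R A p χ t := by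
  have hid := id_pow (A := A) hrk
  set I1 := OortTate.eigenAug R A p χ 1
  set It := OortTate.eigenAug R A p χ t
  have hle : I1 ^ t ≤ It := pow_le_eigenAug χ ht
  haveI := finite_eigenAug u hu χ hid t
  let N : Submodule R It := (I1 ^ t).comap It.subtype
  suffices hQ : Subsingleton (It ⧸ N) by
    refine le_antisymm hle fun f hf => ?_
    have : (Submodule.Quotient.mk (p := N) ⟨f, hf⟩) = 0 := Subsingleton.elim _ _
    exact (Submodule.Quotient.mk_eq_zero N).mp this
  rw [← Module.support_eq_empty_iff (R := R)]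
  refine Set.eq_empty_iff_forall_notMem.mpr fun q hq => ?_
  rw [Module.mem_support_iff_nontrivial_residueField_tensorProduct] at hq
  let K := AlgebraicClosure q.asIdeal.ResidueField
  haveI : Nontrivial (K ⊗[q.asIdeal.ResidueField] (q.asIdeal.ResidueField ⊗[R] (It ⧸ N))) :=
    Module.FaithfullyFlat.lTensor_nontrivial _ _ _
  haveI : Nontrivial (K ⊗[R] (It ⧸ N)) :=
    (AlgebraTensorModule.cancelBaseChange R q.asIdeal.ResidueField K K (It ⧸ N)).toEquiv.symm.nontrivial
  obtain ⟨y, hy, hsp⟩ := exists_span_pow_baseChange u hu χ hχ hχp (A := A) hrk K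
  obtain ⟨-, heq⟩ := hsp t ht ht'
  clear hsp
  let W : Submodule K (K ⊗[R] A) := (I1 ^ t).baseChange K
  have hyW : ∀ n, y ^ n ∈ (I1 ^ n).baseChange K := by
    rw [← range_baseChange_subtype u hu χ hid K 1] at hy
    intro n
    induction n with
    | zero =>
      rw [pow_zero, pow_zero, Algebra.TensorProduct.one_def]
      exact Submodule.tmul_mem_baseChange_of_mem 1 (Submodule.mem_one.mpr ⟨1, map_one _⟩)
    | succ n ih =>
      rw [pow_succ, pow_succ]
      obtain ⟨s, rfl⟩ := hy
      clear heq
      rw [Submodule.baseChange_eq_span] at ih ⊢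
      generalize (I1.subtype.baseChange K s) ^ n = z at ih ⊢
      induction ih using Submodule.span_induction with
      | mem x hx =>
        obtain ⟨a, ha, rfl⟩ := hx
        induction s using TensorProduct.induction_on with
        | zero => simp
        | add s s' hs hs' => rw [map_add, mul_add]; exact add_mem hs hs'
        | tmul c f =>
          have : TensorProduct.mk R K A 1 a * (I1.subtype.baseChange K) (c ⊗ₜ f) = c • TensorProduct.mk R K A 1 (a * f.1) := by
            simp [smul_tmul']
          rw [this]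
          refine Submodule.smul_mem _ _ (Submodule.subset_span ⟨_, ?_, rfl⟩)
          exact Submodule.mul_mem_mul ha f.2
      | zero => simp
      | add a b _ _ ha hb => rw [add_mul]; exact add_mem ha hb
      | smul c a _ ha => rw [smul_mul_assoc]; exact Submodule.smul_mem _ _ ha
  have hzero : ∀ z : K ⊗[R] It, N.mkQ.baseChange K z = 0 := by
    intro z
    have hz : It.subtype.baseChange K z ∈ (I1 ^ t).baseChange K := by
      have : It.subtype.baseChange K z ∈ Submodule.span K {y ^ t} := by
        rw [← heq, ← range_baseChange_subtype u hu χ hid K t]; exact LinearMap.mem_range_self _ _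
      exact Submodule.span_le.mpr (Set.singleton_subset_iff.mpr (hyW t)) this
    have h2 : (projAug u χ hid t).baseChange K (It.subtype.baseChange K z) = z := by
      rw [← LinearMap.comp_apply, ← LinearMap.baseChange_comp,
        show projAug u χ hid t ∘ₗ It.subtype = LinearMap.id from LinearMap.ext fun f => projAug_of_mem u hu χ hid t f,
        LinearMap.baseChange_id, LinearMap.id_apply]
    rw [← h2, ← LinearMap.comp_apply, ← LinearMap.baseChange_comp]
    rw [Submodule.baseChange_eq_span] at hz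
    refine (Submodule.span_le (p := LinearMap.ker ((N.mkQ ∘ₗ projAug u χ hid t).baseChange K))).mpr ?_ hz
    rintro _ ⟨a, ha, rfl⟩
    rw [SetLike.mem_coe, LinearMap.mem_ker, TensorProduct.mk_apply, LinearMap.baseChange_tmul, LinearMap.comp_apply,
      projAug_of_mem u hu χ hid t ⟨a, hle ha⟩, Submodule.mkQ_apply, (Submodule.Quotient.mk_eq_zero N).mpr ha, tmul_zero]
  have hsurj : Function.Surjective (N.mkQ.baseChange K) := LinearMap.lTensor_surjective K N.mkQ_surjective
  obtain ⟨a, b, hab⟩ := exists_pair_ne (K ⊗[R] (It ⧸ N))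
  obtain ⟨a', rfl⟩ := hsurj a
  obtain ⟨b', rfl⟩ := hsurj b
  exact hab (by rw [hzero, hzero])

end Main

end Groth.Agent.Hopf35.OT
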