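import Mathlib
import Groth.Agent.Hopf35.OT
import Groth.Prelude.Def_CartDual

/-!
Power maps and eigen-submodules of the dual Hopf algebra.
-/

universe u

open TensorProduct Finset

namespace Groth.Agent.Hopf35.DualEigen

open SGA3b (powConv)

theorem powConv_succ_apply {R : Type u} [CommRing R] {A : Type u} [CommRing A] [HopfAlgebra R A] (n : ℕ) (a : A) :
    powConv R A (n + 1) a = Algebra.TensorProduct.lift (powConv R A n) (AlgHom.id R A) (fun _ _ => Commute.all _ _)
      (Coalgebra.comul (R := R) a) := by
  show ((WithConv.toConv (AlgHom.id R A)) ^ (n + 1)).ofConv a = _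
  rw [pow_succ, AlgHom.convMul_apply]
  rfl

theorem powConv_eq_zero_apply {R : Type u} [CommRing R] {A : Type u} [CommRing A] [HopfAlgebra R A] {p : ℕ}
    (h : ∀ a, powConv R A p a = powConv R A 0 a) : (WithConv.toConv (AlgHom.id R A)) ^ p = 1 := by
  apply WithConv.ext
  apply AlgHom.ext; intro a
  refine (h a).trans ?_
  show ((WithConv.toConv (AlgHom.id R A)) ^ 0).ofConv a = _
  rw [pow_zero]

variable {R : Type u} [CommRing R] {A : Type u} [CommRing A] [HopfAlgebra R A] [Coalgebra.IsCocomm R A]
  [Module.Finite R A] [Module.Projective R A]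

/-- The power maps of the dual are the transposes of the power maps. -/
theorem powConv_dual (n : ℕ) (z : CartDual.D R A) (a : A) :
    powConv R (CartDual.D R A) n z a = z (powConv R A n a) := by
  induction n generalizing z a with
  | zero =>
    rw [Eigen.powConv_zero_apply, Eigen.powConv_zero_apply, CartDual.coalgebra_counit_apply]
    simp [Algebra.algebraMap_eq_smul_one, LinearMap.convOne_def, CartDual.coe_apply, mul_comm]
  | succ n ih =>
    have key : ∀ t : CartDual.D R A ⊗[R] CartDual.D R A,
        (Algebra.TensorProduct.lift (powConv R (CartDual.D R A) n) (AlgHom.id R _) (fun _ _ => Commute.all _ _) t) a =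
          CartDual.ev₂ R A t (TensorProduct.map (powConv R A n).toLinearMap LinearMap.id (Coalgebra.comul (R := R) a)) := by
      intro t
      induction t using TensorProduct.induction_on with
      | zero => simp [CartDual.coe_apply]
      | add x y hx hy =>
        simp only [map_add, LinearMap.add_apply, ← hx, ← hy, CartDual.coe_apply, WithConv.ofConv_add]
      | tmul x y =>
        rw [Algebra.TensorProduct.lift_tmul, AlgHom.id_apply, LinearMap.convMul_apply]
        generalize Coalgebra.comul (R := R) a = s
        induction s using TensorProduct.induction_on with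
        | zero => simp
        | add s s' hs hs' => simp only [map_add, hs, hs']
        | tmul b c => simp [CartDual.coe_apply, ← ih]
    have h2 : powConv R A (n + 1) a =
        LinearMap.mul' R A (TensorProduct.map (powConv R A n).toLinearMap LinearMap.id (Coalgebra.comul (R := R) a)) := by
      rw [powConv_succ_apply]
      generalize Coalgebra.comul (R := R) a = s
      induction s using TensorProduct.induction_on with
      | zero => simp
      | add s s' hs hs' => simp only [map_add, hs, hs']
      | tmul b c => simp
    rw [powConv_succ_apply, key, h2]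
    exact LinearMap.congr_fun (CartDual.ev₂_comul R A z) _

theorem hid_dual {p : ℕ} (hid : (WithConv.toConv (AlgHom.id R A)) ^ p = 1) :
    (WithConv.toConv (AlgHom.id R (CartDual.D R A))) ^ p = 1 := by
  refine powConv_eq_zero_apply fun z => ?_
  apply WithConv.ext; apply LinearMap.ext; intro a
  have h : powConv R A p a = powConv R A 0 a := by rw [Eigen.powConv_mod hid, Nat.mod_self]
  have h2 := powConv_dual p z a
  rw [h, ← powConv_dual] at h2
  exact h2

variable {p : ℕ} [Fact p.Prime] {χ : (ZMod p)ˣ →* Rˣ}

theorem mem_eigenAug_dual {i : ℕ} {z : CartDual.D R A} :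
    z ∈ OortTate.eigenAug R (CartDual.D R A) p χ i ↔
      z 1 = 0 ∧ ∀ (m : (ZMod p)ˣ) (a : A), z (powConv R A (m : ZMod p).val a) = ((χ m : Rˣ) : R) ^ i * z a := by
  rw [Eigen.mem_eigenAug, CartDual.coalgebra_counit_apply]
  refine and_congr_right fun _ => forall_congr' fun m => ⟨fun h a => ?_, fun h => ?_⟩
  · rw [← powConv_dual, h]; rfl
  · apply WithConv.ext; apply LinearMap.ext; intro a
    refine Eq.trans (powConv_dual _ z a) (h a)

theorem proj_dual (u : R) (i : ℕ) (z : CartDual.D R A) (a : A) :
    OortTate.proj R (CartDual.D R A) p u χ i z a = z (OortTate.proj R A p u χ i a) := by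
  simp only [Eigen.proj_apply, CartDual.coe_apply, WithConv.ofConv_smul, WithConv.ofConv_sum, LinearMap.smul_apply,
    LinearMap.sum_apply, map_smul, map_sum]
  congr 1
  refine Finset.sum_congr rfl fun m _ => ?_
  congr 1
  exact powConv_dual _ z a

/-- The projection is killed on constants and commutes with the power maps. -/
theorem eq_apply_projAug {u : R} (hu : u * ((p - 1 : ℕ) : R) = 1) (hid : (WithConv.toConv (AlgHom.id R A)) ^ p = 1)
    {i : ℕ} {z : CartDual.D R A} (hz : z ∈ OortTate.eigenAug R (CartDual.D R A) p χ i) (a : A) :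
    z a = z (OT.projAug u χ hid i a : A) := by
  conv_lhs => rw [← Eigen.proj_of_mem hu hz, proj_dual]
  show _ = z (OortTate.proj R A p u χ i (a - algebraMap R A (Coalgebra.counit (R := R) a)))
  have h1 : z (OortTate.proj R A p u χ i 1) = 0 := by
    have hz1 := (mem_eigenAug_dual.mp hz).1
    simp [Eigen.proj_apply, hz1]
  rw [map_sub, map_sub, Algebra.algebraMap_eq_smul_one, map_smul, map_smul, h1, smul_zero, sub_zero]

omit [Coalgebra.IsCocomm R A] [Module.Finite R A] [Module.Projective R A] in
theorem projAug_powConv {u : R} (hid : (WithConv.toConv (AlgHom.id R A)) ^ p = 1) (i : ℕ) (m : (ZMod p)ˣ) (a : A) :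
    OT.projAug u χ hid i (powConv R A (m : ZMod p).val a) = ((χ m : Rˣ) : R) ^ i • OT.projAug u χ hid i a := by
  apply Subtype.ext
  rw [Submodule.coe_smul]
  show OortTate.proj R A p u χ i (powConv R A (m : ZMod p).val a -
      algebraMap R A (Coalgebra.counit (R := R) (powConv R A (m : ZMod p).val a))) = _
  rw [Eigen.counit_powConv]
  show _ = ((χ m : Rˣ) : R) ^ i • OortTate.proj R A p u χ i (a - algebraMap R A (Coalgebra.counit (R := R) a))
  rw [← (Eigen.mem_eigenAug.mp (Eigen.proj_mem hid u i (a := a - algebraMap R A (Coalgebra.counit (R := R) a)) (by simp))).2 m]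
  rw [show powConv R A (m : ZMod p).val a - algebraMap R A (Coalgebra.counit (R := R) a) =
    powConv R A (m : ZMod p).val (a - algebraMap R A (Coalgebra.counit (R := R) a)) by
      rw [map_sub (powConv R A (m : ZMod p).val), AlgHom.commutes]]
  simp only [Eigen.proj_apply, map_smul, map_sum, Eigen.powConv_units hid, mul_comm m]

/-- Extension of a linear form on an eigen-submodule to an element of the eigen-submodule of the dual. -/
noncomputable def extend {u : R} (hid : (WithConv.toConv (AlgHom.id R A)) ^ p = 1) (i : ℕ)
    (ψ : Module.Dual R (OortTate.eigenAug R A p χ i)) : CartDual.D R A :=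
  WithConv.toConv (ψ ∘ₗ OT.projAug u χ hid i)

omit [Coalgebra.IsCocomm R A] [Module.Finite R A] [Module.Projective R A] in
theorem extend_apply {u : R} (hu : u * ((p - 1 : ℕ) : R) = 1) (hid : (WithConv.toConv (AlgHom.id R A)) ^ p = 1) (i : ℕ)
    (ψ : Module.Dual R (OortTate.eigenAug R A p χ i)) (f : OortTate.eigenAug R A p χ i) :
    extend (u := u) hid i ψ f.1 = ψ f := by
  show ψ (OT.projAug u χ hid i f.1) = ψ f
  rw [OT.projAug_of_mem u hu]

theorem extend_mem {u : R} (hid : (WithConv.toConv (AlgHom.id R A)) ^ p = 1) (i : ℕ)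
    (ψ : Module.Dual R (OortTate.eigenAug R A p χ i)) :
    extend (u := u) hid i ψ ∈ OortTate.eigenAug R (CartDual.D R A) p χ i := by
  refine mem_eigenAug_dual.mpr ⟨?_, fun m a => ?_⟩
  · show ψ (OT.projAug u χ hid i 1) = 0
    rw [show OT.projAug u χ hid i (1 : A) = 0 from Subtype.ext (by simp [OT.projAug]), map_zero]
  · show ψ (OT.projAug u χ hid i _) = _
    rw [projAug_powConv hid i m a, map_smul]
    rfl

theorem restrict_bijective {u : R} (hu : u * ((p - 1 : ℕ) : R) = 1) (hid : (WithConv.toConv (AlgHom.id R A)) ^ p = 1) (i : ℕ) :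
    Function.Bijective (fun f : OortTate.eigenAug R (CartDual.D R A) p χ i =>
      ((CartDual.toDual R A) (f : CartDual.D R A)).comp (OortTate.eigenAug R A p χ i).subtype) := by
  refine ⟨fun f g h => Subtype.ext ?_, fun ψ => ⟨⟨_, extend_mem (u := u) hid i ψ⟩, LinearMap.ext fun f => extend_apply hu hid i ψ f⟩⟩
  apply WithConv.ext; apply LinearMap.ext; intro a
  show f.1 a = g.1 a
  rw [eq_apply_projAug hu hid f.2 a, eq_apply_projAug hu hid g.2 a]
  exact (LinearMap.congr_fun h (OT.projAug u χ hid i a) :)

end Groth.Agent.Hopf35.DualEigen
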