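import Mathlib
import Groth.Agent.Hopf35.OT

/-!
The group algebra of the cyclic group of prime order.
-/

universe u

open Finset

namespace Groth.Agent.Hopf35.MuP

section RankOne

variable {R : Type u} [CommRing R] (M : Type*) [AddCommGroup M] [Module R M] [Module.Finite R M] [Module.Projective R M]

theorem eq_zero_of_smul_eq_zero (hrk : ∀ q : PrimeSpectrum R, Module.rankAtStalk M q = 1) (r : R)
    (h : ∀ m : M, r • m = 0) : r = 0 := by
  refine Module.eq_zero_of_localization_maximal (fun P _ => Localization.AtPrime P)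
    (fun P _ => Algebra.linearMap R (Localization.AtPrime P)) r fun P hP => ?_
  let L := Localization.AtPrime P
  let q : PrimeSpectrum R := ⟨P, hP.isPrime⟩
  have hf : Module.Free L (LocalizedModule P.primeCompl M) := Module.free_of_flat_of_isLocalRing
  have h1 : Module.finrank L (LocalizedModule P.primeCompl M) = 1 := hrk q
  let b := (Module.finBasis L (LocalizedModule P.primeCompl M)).reindex (finCongr h1)
  obtain ⟨⟨m, s⟩, hms⟩ := IsLocalizedModule.mk'_surjective P.primeCompl (LocalizedModule.mkLinearMap P.primeCompl M) (b 0)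
  have h2 : algebraMap R L r • b 0 = 0 := by
    rw [algebraMap_smul, ← hms]
    show r • IsLocalizedModule.mk' _ m s = 0
    rw [← IsLocalizedModule.mk'_smul, h, IsLocalizedModule.mk'_zero]
  have h3 : (b.repr (algebraMap R L r • b 0)) 0 = 0 := by rw [h2]; simp
  simpa [-algebraMap_smul] using h3

end RankOne

variable {p : ℕ} [Fact p.Prime] {R : Type u} [CommRing R] (u : R) (hu : u * ((p - 1 : ℕ) : R) = 1)
  (χ : (ZMod p)ˣ →* Rˣ) (hχ : ∀ m : (ZMod p)ˣ, m ≠ 1 → IsUnit ((χ m : R) - 1))
  (hχp : ∀ m : (ZMod p)ˣ, ((χ m : Rˣ) : R) - (((m : ZMod p).val : ℕ) : R) ∈ Ideal.span ({(p : R)} : Set R))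

local notation "G" => MonoidAlgebra R (Multiplicative (ZMod p))

theorem rank_eq (q : PrimeSpectrum R) : Module.rankAtStalk G q = p := by
  haveI : Nontrivial R := q.nontrivial
  rw [Module.rankAtStalk_eq_finrank_of_free]
  simp [Module.finrank_eq_card_basis (MonoidAlgebra.basis (Multiplicative (ZMod p)) R)]

theorem id_pow : (WithConv.toConv (AlgHom.id R G)) ^ p = 1 := OT.id_pow rank_eq

theorem powConv_of (n : ℕ) (g : Multiplicative (ZMod p)) :
    SGA3b.powConv R G n (MonoidAlgebra.of R _ g) = MonoidAlgebra.of R _ (g ^ n) := by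
  induction n with
  | zero => simp [Eigen.powConv_zero_apply, MonoidAlgebra.one_def]
  | succ n ih =>
    show ((WithConv.toConv (AlgHom.id R G)) ^ (n + 1)).ofConv _ = _
    rw [pow_succ, AlgHom.convMul_apply]
    change Algebra.TensorProduct.lift (SGA3b.powConv R G n) _ _ _ = _
    simp only [MonoidAlgebra.of_apply, MonoidAlgebra.comul_single, CommSemiring.comul_apply, TensorProduct.map_tmul, MonoidAlgebra.lsingle_apply, Algebra.TensorProduct.lift_tmul, WithConv.ofConv_toConv, AlgHom.id_apply]
    simp only [MonoidAlgebra.of_apply] at ih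
    try erw [Algebra.TensorProduct.lift_tmul]
    erw [ih]
    simp [MonoidAlgebra.single_mul_single, pow_succ]

theorem muT_pow (m : (ZMod p)ˣ) :
    OortTate.muT R p ^ (m : ZMod p).val = MonoidAlgebra.of R _ (Multiplicative.ofAdd ((m : ZMod p))) := by
  rw [← map_pow, ← ofAdd_nsmul, nsmul_eq_mul, mul_one, ZMod.natCast_zmod_val]

include hu hχ in
theorem eigenAug_le_span (i : ℕ) :
    OortTate.eigenAug R G p χ i ≤ Submodule.span R {OortTate.ygen R p u χ i} := by
  have hid := id_pow (p := p) (R := R)
  intro f hf
  have hε := (Eigen.mem_eigenAug.mp hf).1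
  have hgen : ∀ a : G, Coalgebra.counit (R := R) a = 0 →
      a ∈ Submodule.span R (Set.range fun m : (ZMod p)ˣ => SGA3b.powConv R G (m : ZMod p).val (OortTate.muT R p - 1)) := by
    intro a ha
    have key : ∀ b : G, b - algebraMap R G (Coalgebra.counit (R := R) b) ∈
        Submodule.span R (Set.range fun m : (ZMod p)ˣ => SGA3b.powConv R G (m : ZMod p).val (OortTate.muT R p - 1)) := by
      intro b
      induction b using MonoidAlgebra.induction_linear with
      | zero => simp
      | add b c hb hc =>
        rw [map_add, map_add, add_sub_add_comm]; exact add_mem hb hc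
      | single g r =>
        by_cases hg : Multiplicative.toAdd g = 0
        · have : g = 1 := by rw [← ofAdd_toAdd g, hg]; rfl
          simp [this, Algebra.algebraMap_eq_smul_one, MonoidAlgebra.one_def, MonoidAlgebra.smul_single']
        · have : MonoidAlgebra.single g r - algebraMap R G (Coalgebra.counit (R := R) (MonoidAlgebra.single g r)) =
              r • SGA3b.powConv R G (Units.mk0 _ hg : ZMod p).val (OortTate.muT R p - 1) := by
            rw [map_sub, map_one]
            rw [show SGA3b.powConv R G (Units.mk0 _ hg : ZMod p).val (OortTate.muT R p) = MonoidAlgebra.single g 1 from by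
              rw [OortTate.muT, powConv_of, map_pow]
              rw [← OortTate.muT, muT_pow]
              simp]
            simp [smul_sub, Algebra.algebraMap_eq_smul_one, MonoidAlgebra.smul_single']
          rw [this]
          exact Submodule.smul_mem _ _ (Submodule.subset_span ⟨_, rfl⟩)
    have := key a
    rwa [ha, map_zero, sub_zero] at this
  rw [← Eigen.proj_of_mem hu hf]
  refine (Submodule.span_le (p := Submodule.comap (OortTate.proj R G p u χ i) (Submodule.span R {OortTate.ygen R p u χ i}))).mpr ?_ (hgen f hε)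
  rintro _ ⟨m, rfl⟩
  have hm : OortTate.proj R G p u χ i (SGA3b.powConv R G (m : ZMod p).val (OortTate.muT R p - 1)) =
      ((χ m : Rˣ) : R) ^ i • OortTate.ygen R p u χ i := by
    rw [← (Eigen.mem_eigenAug.mp (Eigen.proj_mem hid u i (a := OortTate.muT R p - 1) (by simp [OortTate.muT, MonoidAlgebra.one_def]))).2 m]
    simp only [OortTate.ygen, Eigen.proj_apply, map_smul, map_sum, Eigen.powConv_powConv, mul_comm]
  rw [SetLike.mem_coe, Submodule.mem_comap, hm]
  exact Submodule.smul_mem _ _ (Submodule.mem_span_singleton_self _)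

include hu hχ hχp in
theorem main :
    LinearIndependent R (fun i : Fin (p - 1) => OortTate.ygen R p u χ (i : ℕ)) ∧
      Submodule.span R (Set.range (fun i : Fin (p - 1) => OortTate.ygen R p u χ (i : ℕ))) =
        LinearMap.ker (Bialgebra.counitAlgHom R G).toLinearMap ∧
      Algebra.adjoin R ({OortTate.ygen R p u χ 1} : Set G) = ⊤ ∧
      ∃! w : R, OortTate.ygen R p u χ 1 ^ p = w • OortTate.ygen R p u χ 1 := by
  have hid := id_pow (p := p) (R := R)
  have hp2 := (Fact.out : p.Prime).two_le
  have hmem : ∀ i, OortTate.ygen R p u χ i ∈ OortTate.eigenAug R G p χ i := fun i =>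
    Eigen.proj_mem hid u i (by simp [OortTate.muT, MonoidAlgebra.one_def])
  have heq : ∀ i, OortTate.eigenAug R G p χ i = Submodule.span R {OortTate.ygen R p u χ i} := fun i =>
    le_antisymm (eigenAug_le_span u hu χ hχ i) ((Submodule.span_le).mpr (Set.singleton_subset_iff.mpr (hmem i)))
  have hann : ∀ i (r : R), r • OortTate.ygen R p u χ i = 0 → r = 0 := by
    intro i r hr
    haveI := OT.finite_eigenAug (A := G) u hu χ hid i
    haveI := OT.projective_eigenAug (A := G) u hu χ hid i
    refine eq_zero_of_smul_eq_zero _ (OT.rankAtStalk_eigenAug (A := G) u hu χ hχ hχp rank_eq i) r fun f => ?_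
    obtain ⟨c, hc⟩ : ∃ c : R, c • OortTate.ygen R p u χ i = (f : G) :=
      Submodule.mem_span_singleton.mp (by rw [← heq i]; exact f.2)
    apply Subtype.ext
    rw [Submodule.coe_smul, ← hc, smul_comm, hr, smul_zero, Submodule.coe_zero]
  have hspan : Submodule.span R (Set.range (fun i : Fin (p - 1) => OortTate.ygen R p u χ (i : ℕ))) =
      LinearMap.ker (Bialgebra.counitAlgHom R G).toLinearMap := by
    rw [← Eigen.iSup_eigenAug hu hχ hid, Submodule.span_range_eq_iSup]
    simp only [heq]
  refine ⟨?_, hspan, ?_, ?_⟩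
  · rw [Fintype.linearIndependent_iff]
    intro c hc j
    have := congrArg (OortTate.proj R G p u χ (j : ℕ)) hc
    rw [map_sum, map_zero, Finset.sum_eq_single j] at this
    · rw [map_smul, Eigen.proj_of_mem hu (hmem _)] at this
      exact hann _ _ this
    · intro i _ hij
      rw [map_smul, Eigen.proj_of_mem_ne hχ u ?_ (hmem i), smul_zero]
      rw [Nat.mod_eq_of_lt i.2, Nat.mod_eq_of_lt j.2]
      exact fun h => hij (Fin.ext h.symm)
    · simp
  · set S := Algebra.adjoin R ({OortTate.ygen R p u χ 1} : Set G)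
    have hle : LinearMap.ker (Bialgebra.counitAlgHom R G).toLinearMap ≤ Subalgebra.toSubmodule S := by
      rw [← Eigen.iSup_eigenAug hu hχ hid]
      refine iSup_le fun i => ?_
      obtain ⟨t, ht1, ht2, hti⟩ : ∃ t, 1 ≤ t ∧ t ≤ p - 1 ∧ t % (p - 1) = (i : ℕ) := by
        by_cases h0 : (i : ℕ) = 0
        · exact ⟨p - 1, by omega, le_rfl, by simp [h0]⟩
        · exact ⟨i, by omega, i.2.le, Nat.mod_eq_of_lt i.2⟩
      rw [← hti, Eigen.eigenAug_mod, ← OT.pow_eq_eigenAug (A := G) u hu χ hχ hχp rank_eq ht1 ht2, heq 1, Submodule.span_pow,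
        Submodule.span_le]
      rintro _ hx
      rw [Set.singleton_pow, Set.mem_singleton_iff] at hx
      subst hx
      exact pow_mem (Algebra.subset_adjoin (Set.mem_singleton _)) t
    refine top_le_iff.mp fun a _ => ?_
    have h := hle (x := a - algebraMap R G (Coalgebra.counit (R := R) a)) (by simp)
    simpa using S.add_mem h (S.algebraMap_mem (Coalgebra.counit (R := R) a))
  · have hy : OortTate.ygen R p u χ 1 ^ p ∈ Submodule.span R {OortTate.ygen R p u χ 1} := by
      rw [← heq]
      have := OT.pow_le_eigenAug (A := G) χ (t := p) (by omega) (Submodule.pow_mem_pow _ (hmem 1) p)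
      rw [← Eigen.eigenAug_mod] at this ⊢
      rwa [show 1 % (p - 1) = p % (p - 1) from
        (Nat.add_mod_right 1 (p - 1)).symm.trans (by congr 1; omega)]
    obtain ⟨w, hw⟩ := Submodule.mem_span_singleton.mp hy
    refine ⟨w, hw.symm, fun w' hw' => ?_⟩
    exact sub_eq_zero.mp (hann 1 _ (by rw [sub_smul, hw, ← hw', sub_self]))

end Groth.Agent.Hopf35.MuP
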