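import Mathlib
import Groth.Agent.Hopf35.DualEigen
import Groth.Agent.Hopf35.MuP

/-!
The Cartier pairing of a group scheme of order `p` on the eigen-submodules.
-/

universe u

open TensorProduct Finset

namespace Groth.Agent.Hopf35.Pairing

open SGA3b (powConv)

section RankOne

variable {R : Type u} [CommRing R] {M : Type*} [AddCommGroup M] [Module R M] [Module.Finite R M] [Module.Projective R M]

theorem smul_swap (hrk : ∀ q : PrimeSpectrum R, Module.rankAtStalk M q = 1) (f : Module.Dual R M) (x y : M) :
    f x • y = f y • x := by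
  rw [← sub_eq_zero]
  refine Module.eq_zero_of_localization_maximal (fun (P : Ideal R) _ => LocalizedModule P.primeCompl M)
    (fun (P : Ideal R) _ => LocalizedModule.mkLinearMap P.primeCompl M) _ fun P hP => ?_
  let L := Localization.AtPrime P
  let ι := LocalizedModule.mkLinearMap P.primeCompl M
  have hf : Module.Free L (LocalizedModule P.primeCompl M) := Module.free_of_flat_of_isLocalRing
  have h1 : Module.finrank L (LocalizedModule P.primeCompl M) = 1 := hrk ⟨P, hP.isPrime⟩
  let b := (Module.finBasis L (LocalizedModule P.primeCompl M)).reindex (finCongr h1)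
  let F : LocalizedModule P.primeCompl M →ₗ[R] L :=
    IsLocalizedModule.lift P.primeCompl ι (Algebra.linearMap R L ∘ₗ f)
      (IsLocalizedModule.map_units (S := P.primeCompl) (Algebra.linearMap R L))
  let F' : LocalizedModule P.primeCompl M →ₗ[L] L := F.extendScalarsOfIsLocalization P.primeCompl L
  have hF : ∀ z : M, algebraMap R L (f z) = F' (ι z) := fun z =>
    (LinearMap.congr_fun (IsLocalizedModule.lift_comp P.primeCompl ι (Algebra.linearMap R L ∘ₗ f)
      (IsLocalizedModule.map_units (S := P.primeCompl) (Algebra.linearMap R L))) z).symm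
  have hb : ∀ z : LocalizedModule P.primeCompl M, z = b.repr z 0 • b 0 := fun z => by
    conv_lhs => rw [← b.sum_repr z, Fin.sum_univ_one]
  show ι (f x • y - f y • x) = 0
  rw [map_sub, map_smul, map_smul, ← algebraMap_smul L (f x), ← algebraMap_smul L (f y), hF, hF, hb (ι x), hb (ι y),
    map_smul, map_smul, smul_smul, smul_smul, smul_eq_mul, smul_eq_mul, ← sub_smul,
    show b.repr (ι x) 0 * F' (b 0) * b.repr (ι y) 0 - b.repr (ι y) 0 * F' (b 0) * b.repr (ι x) 0 = 0 by ring, zero_smul]

end RankOne

section End

variable {R : Type u} [CommRing R] {A : Type u} [CommRing A] [HopfAlgebra R A] [Coalgebra.IsCocomm R A]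

/-- The linear map underlying `toEnd`. -/
noncomputable def toEndLin : A ⊗[R] CartDual.D R A →ₗ[R] WithConv (A →ₗ[R] A) :=
  (WithConv.linearEquiv R (A →ₗ[R] A)).symm.toLinearMap ∘ₗ dualTensorHom R A A ∘ₗ
    (TensorProduct.comm R A (Module.Dual R A)).toLinearMap ∘ₗ TensorProduct.map LinearMap.id (CartDual.toDual R A).toLinearMap

omit [Coalgebra.IsCocomm R A] in
theorem toEndLin_tmul (a : A) (z : CartDual.D R A) (x : A) : toEndLin (a ⊗ₜ[R] z) x = z x • a := by
  simp [toEndLin]

/-- `A ⊗ Dual A → End A`, an algebra map for the convolution product. -/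
noncomputable def toEnd : A ⊗[R] CartDual.D R A →ₐ[R] WithConv (A →ₗ[R] A) :=
  Algebra.TensorProduct.algHomOfLinearMapTensorProduct toEndLin
    (fun a b z w => by
      apply WithConv.ext; apply LinearMap.ext; intro x
      refine (toEndLin_tmul _ _ _).trans ?_
      rw [LinearMap.convMul_apply, LinearMap.convMul_apply]
      generalize Coalgebra.comul (R := R) x = c
      induction c using TensorProduct.induction_on with
      | zero => simp
      | add c c' hc hc' => simp only [map_add, add_smul, hc, hc']
      | tmul c d =>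
        simp only [TensorProduct.map_tmul, LinearMap.mul'_apply]
        erw [toEndLin_tmul, toEndLin_tmul]
        rw [smul_mul_smul_comm])
    (by
      apply WithConv.ext; apply LinearMap.ext; intro x
      refine (toEndLin_tmul _ _ _).trans ?_
      simp [LinearMap.convOne_def, Algebra.algebraMap_eq_smul_one])

theorem toEnd_tmul (a : A) (z : CartDual.D R A) (x : A) : toEnd (a ⊗ₜ[R] z) x = z x • a := toEndLin_tmul a z x

theorem toEnd_apply (t : A ⊗[R] CartDual.D R A) (x : A) : toEnd t x =
    TensorProduct.rid R A (LinearMap.lTensor A ((Module.Dual.eval R A x) ∘ₗ (CartDual.toDual R A).toLinearMap) t) := by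
  induction t using TensorProduct.induction_on with
  | zero => simp [CartDual.coe_apply]
  | add s t hs ht => simp only [map_add, ← hs, ← ht, WithConv.ofConv_add, LinearMap.add_apply]
  | tmul a z => simp [toEnd_tmul]

theorem toEnd_bijective [Module.Finite R A] [Module.Projective R A] :
    Function.Bijective (toEnd : A ⊗[R] CartDual.D R A →ₐ[R] WithConv (A →ₗ[R] A)) := by
  haveI : Module.FinitePresentation R A := Module.finitePresentation_of_projective R A
  refine (WithConv.linearEquiv R (A →ₗ[R] A)).symm.bijective.comp ((dualTensorHom_bijective_of_flat A A).comp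
    ((TensorProduct.comm R A (Module.Dual R A)).bijective.comp ?_))
  exact (TensorProduct.congr (LinearEquiv.refl R A) (CartDual.toDual R A)).bijective

theorem toConv_powConv (n : ℕ) :
    WithConv.toConv (powConv R A n).toLinearMap = (WithConv.toConv (LinearMap.id : A →ₗ[R] A)) ^ n := by
  induction n with
  | zero =>
    rw [pow_zero]
    apply WithConv.ext; apply LinearMap.ext; intro a
    simp [Eigen.powConv_zero_apply, LinearMap.convOne_def, Algebra.algebraMap_eq_smul_one]
  | succ n ih =>
    rw [pow_succ, ← ih]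
    apply WithConv.ext; apply LinearMap.ext; intro a
    refine (DualEigen.powConv_succ_apply n a).trans ?_
    rw [LinearMap.convMul_apply]
    generalize Coalgebra.comul (R := R) a = s
    induction s using TensorProduct.induction_on with
    | zero => simp
    | add s s' hs hs' => simp only [map_add, hs, hs']
    | tmul b c => simp

end End

section Group

variable {p : ℕ} [Fact p.Prime] {R : Type u} [CommRing R] {A : Type u} [CommRing A] [HopfAlgebra R A]
  [Coalgebra.IsCocomm R A] (hid : (WithConv.toConv (AlgHom.id R A)) ^ p = 1)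

local notation "G" => MonoidAlgebra R (Multiplicative (ZMod p))

include hid in
omit [Fact p.Prime] in
theorem conv_id_pow : (WithConv.toConv (LinearMap.id : A →ₗ[R] A)) ^ p = 1 := by
  rw [← toConv_powConv, Eigen.powConv_mod hid, Nat.mod_self, toConv_powConv, pow_zero]

/-- The algebra map from the group algebra to convolution endomorphisms, `T ↦ id`. -/
noncomputable def groupMap : G →ₐ[R] WithConv (A →ₗ[R] A) :=
  MonoidAlgebra.lift R (WithConv (A →ₗ[R] A)) (Multiplicative (ZMod p))
    { toFun := fun g => (WithConv.toConv (LinearMap.id : A →ₗ[R] A)) ^ (Multiplicative.toAdd g).val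
      map_one' := by simp
      map_mul' := fun g h => by
        rw [toAdd_mul, ← pow_add, ZMod.val_add]
        conv_rhs => rw [← Nat.mod_add_div ((Multiplicative.toAdd g).val + (Multiplicative.toAdd h).val) p, pow_add, pow_mul,
          conv_id_pow hid, one_pow, mul_one] }

theorem groupMap_of (a : ZMod p) :
    groupMap hid (MonoidAlgebra.of R _ (Multiplicative.ofAdd a)) = WithConv.toConv (powConv R A a.val).toLinearMap := by
  rw [toConv_powConv, groupMap, MonoidAlgebra.lift_of]
  rfl

theorem groupMap_muT : groupMap hid (OortTate.muT R p) = WithConv.toConv (LinearMap.id : A →ₗ[R] A) := by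
  rw [OortTate.muT, groupMap_of, ZMod.val_one, Eigen.powConv_one]
  rfl

variable (u : R) (χ : (ZMod p)ˣ →* Rˣ)

/-- The projection onto an eigen-submodule as a convolution endomorphism. -/
noncomputable def P (i : ℕ) : WithConv (A →ₗ[R] A) :=
  WithConv.toConv ((OortTate.eigenAug R A p χ i).subtype ∘ₗ OT.projAug u χ hid i)

theorem groupMap_ygen (i : ℕ) : groupMap hid (OortTate.ygen R p u χ i) = P hid u χ i := by
  rw [OortTate.ygen, Eigen.proj_apply, map_smul, map_sum]
  apply WithConv.ext; apply LinearMap.ext; intro a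
  show _ = OortTate.proj R A p u χ i (a - algebraMap R A (Coalgebra.counit (R := R) a))
  rw [Eigen.proj_apply, WithConv.ofConv_smul, LinearMap.smul_apply, WithConv.ofConv_sum, LinearMap.sum_apply]
  congr 1
  refine Finset.sum_congr rfl fun m _ => ?_
  rw [map_smul, WithConv.ofConv_smul, LinearMap.smul_apply, map_sub, map_one, map_sub, map_one,
    map_sub (powConv R A _), AlgHom.commutes]
  congr 1
  rw [MuP.powConv_of, map_pow, ← OortTate.muT, MuP.muT_pow, groupMap_of]
  simp [LinearMap.convOne_def, Algebra.algebraMap_eq_smul_one]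

end Group

section Main

variable {p : ℕ} [Fact p.Prime] {R : Type u} [CommRing R] (u : R) (hu : u * ((p - 1 : ℕ) : R) = 1)
  (χ : (ZMod p)ˣ →* Rˣ) (hχ : ∀ m : (ZMod p)ˣ, m ≠ 1 → IsUnit ((χ m : R) - 1))
  (hχp : ∀ m : (ZMod p)ˣ, ((χ m : Rˣ) : R) - (((m : ZMod p).val : ℕ) : R) ∈ Ideal.span ({(p : R)} : Set R))

include hu hχ in
theorem exists_pow_ygen {n : ℕ} (hn : 1 ≤ n) : ∃ w : R, OortTate.ygen R p u χ 1 ^ n = w • OortTate.ygen R p u χ n := by
  have h : OortTate.ygen R p u χ 1 ^ n ∈ OortTate.eigenAug R (MonoidAlgebra R (Multiplicative (ZMod p))) p χ n :=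
    OT.pow_le_eigenAug χ hn (Submodule.pow_mem_pow _ (Eigen.proj_mem (MuP.id_pow (p := p) (R := R)) u 1 (by simp [OortTate.muT, MonoidAlgebra.one_def])) n)
  obtain ⟨w, hw⟩ := Submodule.mem_span_singleton.mp (MuP.eigenAug_le_span u hu χ hχ n h)
  exact ⟨w, hw.symm⟩

variable {A : Type u} [CommRing A] [HopfAlgebra R A] [Coalgebra.IsCocomm R A] [Module.Finite R A]
  [Module.Projective R A] (hrk : ∀ q : PrimeSpectrum R, Module.rankAtStalk A q = p)

include hu hχ hχp in
theorem toEnd_tmul_eigen (hid : (WithConv.toConv (AlgHom.id R A)) ^ p = 1)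
    (hrk : ∀ q : PrimeSpectrum R, Module.rankAtStalk A q = p)
    (x : OortTate.eigenAug R A p χ 1) {z : CartDual.D R A} (hz : z ∈ OortTate.eigenAug R (CartDual.D R A) p χ 1) :
    toEnd ((x : A) ⊗ₜ[R] z) = z x • P hid u χ 1 := by
  haveI := OT.finite_eigenAug (A := A) u hu χ hid 1
  haveI := OT.projective_eigenAug (A := A) u hu χ hid 1
  apply WithConv.ext; apply LinearMap.ext; intro a
  refine (toEnd_tmul _ _ _).trans ?_
  rw [DualEigen.eq_apply_projAug hu hid hz a]
  exact congrArg Subtype.val (smul_swap (OT.rankAtStalk_eigenAug u hu χ hχ hχp hrk 1)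
    ((CartDual.toDual R A z) ∘ₗ (OortTate.eigenAug R A p χ 1).subtype) (OT.projAug u χ hid 1 a) x)

include hu hχ hχp hrk in
theorem span_pairing_ygen
    (δ : A ⊗[R] CartDual.D R A)
    (hδ : ∀ a : A, TensorProduct.rid R A
      (LinearMap.lTensor A ((Module.Dual.eval R A a) ∘ₗ (CartDual.toDual R A).toLinearMap) δ) = a)
    (ϕ : MonoidAlgebra R (Multiplicative (ZMod p)) →ₐ[R] A ⊗[R] CartDual.D R A)
    (hϕ : ϕ (OortTate.muT R p) = δ) :
    Submodule.span R {ϕ (OortTate.ygen R p u χ 1)} =
        LinearMap.range (TensorProduct.map (OortTate.eigenAug R A p χ 1).subtype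
          (OortTate.eigenAug R (CartDual.D R A) p χ 1).subtype) ∧
      ∀ r : R, r • ϕ (OortTate.ygen R p u χ 1) = 0 → r = 0 := by
  have hid := OT.id_pow (A := A) hrk
  haveI := OT.finite_eigenAug (A := A) u hu χ hid 1
  haveI := OT.projective_eigenAug (A := A) u hu χ hid 1
  haveI : Module.FinitePresentation R (OortTate.eigenAug R A p χ 1) := Module.finitePresentation_of_projective R _
  have hcomp : toEnd.comp ϕ = groupMap hid := by
    refine AlgHom.ext_of_adjoin_eq_top (s := Set.range (MonoidAlgebra.of R (Multiplicative (ZMod p)))) ?_ ?_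
    · exact top_le_iff.mp fun f _ => by
        induction f using MonoidAlgebra.induction_linear with
        | zero => exact zero_mem _
        | add f g hf hg => exact add_mem (hf trivial) (hg trivial)
        | single g r => rw [← mul_one r, ← smul_eq_mul, ← MonoidAlgebra.smul_single]; exact Subalgebra.smul_mem _ (Algebra.subset_adjoin (s := Set.range (MonoidAlgebra.of R (Multiplicative (ZMod p)))) (Set.mem_range_self g)) r
    rintro _ ⟨g, rfl⟩
    obtain ⟨a, rfl⟩ : ∃ a : ZMod p, Multiplicative.ofAdd a = g := ⟨Multiplicative.toAdd g, rfl⟩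
    have : MonoidAlgebra.single (Multiplicative.ofAdd a) (1 : R) = OortTate.muT R p ^ a.val := by
      rw [OortTate.muT, ← map_pow, ← ofAdd_nsmul, nsmul_eq_mul, mul_one, ZMod.natCast_zmod_val]; rfl
    rw [MonoidAlgebra.of_apply, this, map_pow, map_pow, groupMap_muT, AlgHom.comp_apply, hϕ]
    congr 1
    apply WithConv.ext; apply LinearMap.ext; intro x
    exact (toEnd_apply δ x).trans (hδ x)
  have hy : toEnd (ϕ (OortTate.ygen R p u χ 1)) = P hid u χ 1 := by
    rw [← groupMap_ygen, ← hcomp]; rfl
  refine ⟨le_antisymm ?_ ?_, fun r hr => ?_⟩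
  · rw [Submodule.span_le, Set.singleton_subset_iff]
    obtain ⟨s, hs⟩ := (dualTensorHom_bijective_of_flat (R := R) (OortTate.eigenAug R A p χ 1) (OortTate.eigenAug R A p χ 1)).2 LinearMap.id
    let ext : Module.Dual R (OortTate.eigenAug R A p χ 1) →ₗ[R] OortTate.eigenAug R (CartDual.D R A) p χ 1 :=
      { toFun := fun ψ => ⟨_, DualEigen.extend_mem (u := u) hid 1 ψ⟩
        map_add' := fun a b => rfl
        map_smul' := fun a b => rfl }
    refine ⟨TensorProduct.map LinearMap.id ext (TensorProduct.comm R _ _ s), toEnd_bijective.1 ?_⟩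
    rw [hy]
    apply WithConv.ext; apply LinearMap.ext; intro a
    show _ = ((OT.projAug u χ hid 1 a : OortTate.eigenAug R A p χ 1) : A)
    have e : ∀ s, toEnd (TensorProduct.map (OortTate.eigenAug R A p χ 1).subtype (OortTate.eigenAug R (CartDual.D R A) p χ 1).subtype
        (TensorProduct.map LinearMap.id ext (TensorProduct.comm R _ _ s))) a =
        ((dualTensorHom R _ _ s (OT.projAug u χ hid 1 a) : OortTate.eigenAug R A p χ 1) : A) := by
      intro s
      induction s using TensorProduct.induction_on with
      | zero => simp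
      | add s s' h h' => simp only [map_add, WithConv.ofConv_add, LinearMap.add_apply, Submodule.coe_add, ← h, ← h']
      | tmul ψ x =>
        simp only [TensorProduct.comm_tmul, TensorProduct.map_tmul, LinearMap.id_apply, Submodule.subtype_apply, dualTensorHom_apply]
        refine (toEnd_tmul _ _ _).trans ?_
        rfl
    rw [e, hs]
    rfl
  · rintro _ ⟨t, rfl⟩
    induction t using TensorProduct.induction_on with
    | zero => simp
    | add s s' h h' => rw [map_add]; exact add_mem h h'
    | tmul x z =>
      refine Submodule.mem_span_singleton.mpr ⟨z.1 x.1, toEnd_bijective.1 ?_⟩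
      rw [map_smul, hy, TensorProduct.map_tmul, Submodule.subtype_apply, Submodule.subtype_apply,
        toEnd_tmul_eigen u hu χ hχ hχp hid hrk x z.2]
  · refine MuP.eq_zero_of_smul_eq_zero _ (OT.rankAtStalk_eigenAug (A := A) u hu χ hχ hχp hrk 1) r fun f => Subtype.ext ?_
    have h := congrArg (fun t => (toEnd t) (f : A)) hr
    simp only [map_smul, hy, map_zero, WithConv.ofConv_smul, WithConv.ofConv_zero, LinearMap.smul_apply, LinearMap.zero_apply] at h
    rw [Submodule.coe_smul, Submodule.coe_zero, ← h]
    show _ = r • ((OT.projAug u χ hid 1 (f : A) : OortTate.eigenAug R A p χ 1) : A)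
    rw [OT.projAug_of_mem u hu]

end Main

end Groth.Agent.Hopf35.Pairing
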