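import Mathlib
import Groth.Agent.Hopf35.OT

/-!
Generators and relations for a group scheme of order `p`.
-/

universe u

open TensorProduct Finset

namespace Groth.Agent.Hopf35.TensorGen

variable {p : ℕ} [Fact p.Prime] {R : Type u} [CommRing R] (u : R) (hu : u * ((p - 1 : ℕ) : R) = 1)
  (χ : (ZMod p)ˣ →* Rˣ) (hχ : ∀ m : (ZMod p)ˣ, m ≠ 1 → IsUnit ((χ m : R) - 1))
  (hχp : ∀ m : (ZMod p)ˣ, ((χ m : Rˣ) : R) - (((m : ZMod p).val : ℕ) : R) ∈ Ideal.span ({(p : R)} : Set R))
  {A : Type u} [CommRing A] [HopfAlgebra R A] [Module.Finite R A] [Module.Projective R A]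
  (hrk : ∀ q : PrimeSpectrum R, Module.rankAtStalk A q = p)

/-- The degree `n` part of the tensor algebra. -/
noncomputable abbrev W (I : Submodule R A) (n : ℕ) : Submodule R (TensorAlgebra R I) :=
  (LinearMap.range (TensorAlgebra.ι R (M := I))) ^ n

omit [Module.Finite R A] [Module.Projective R A] in
theorem map_W (I : Submodule R A) (n : ℕ) :
    (W I n).map (TensorAlgebra.lift R I.subtype).toLinearMap = I ^ n := by
  rw [W, Submodule.map_pow]
  congr 1
  rw [← LinearMap.range_comp, show (TensorAlgebra.lift R I.subtype).toLinearMap ∘ₗ TensorAlgebra.ι R = I.subtype from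
    TensorAlgebra.ι_comp_lift I.subtype, Submodule.range_subtype]

set_option synthInstance.maxHeartbeats 400000 in
include hu hχ hχp hrk in
theorem eq_zero_of_mem_W {n : ℕ} (hn : 1 ≤ n) (hn' : n ≤ p - 1) :
    ∀ z ∈ W (OortTate.eigenAug R A p χ 1) n,
      TensorAlgebra.lift R (OortTate.eigenAug R A p χ 1).subtype z = 0 → z = 0 := by
  set I := OortTate.eigenAug R A p χ 1 with hI
  set L := TensorAlgebra.lift R I.subtype
  have hid := OT.id_pow (A := A) hrk
  induction n, hn using Nat.le_induction with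
  | base =>
    intro z hz h0
    rw [W, pow_one] at hz
    obtain ⟨f, rfl⟩ := hz
    rw [TensorAlgebra.lift_ι_apply] at h0
    rw [show f = 0 from Subtype.ext h0, map_zero]
  | succ n hn ih =>
    intro z hz h0
    haveI : ∀ i, Module.Finite R (OortTate.eigenAug R A p χ i) := fun i => OT.finite_eigenAug u hu χ hid i
    haveI : ∀ i, Module.Projective R (OortTate.eigenAug R A p χ i) := fun i => OT.projective_eigenAug u hu χ hid i
    let Ln : W I n →ₗ[R] OortTate.eigenAug R A p χ n :=
      (L.toLinearMap ∘ₗ (W I n).subtype).codRestrict _ fun w => by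
        rw [← OT.pow_eq_eigenAug u hu χ hχ hχp hrk hn (by omega), ← map_W]
        exact Submodule.mem_map_of_mem w.2
    have hLn : Function.Bijective Ln := by
      refine ⟨(injective_iff_map_eq_zero _).mpr fun w hw => Subtype.ext (ih (by omega) w.1 w.2 (congrArg Subtype.val hw)), fun f => ?_⟩
      have hf := (OT.pow_eq_eigenAug u hu χ hχ hχp hrk hn (by omega)).ge f.2
      rw [← map_W] at hf
      obtain ⟨w, hw, hwf⟩ := hf
      exact ⟨⟨w, hw⟩, Subtype.ext hwf⟩
    let e := LinearEquiv.ofBijective Ln hLn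
    let m : OortTate.eigenAug R A p χ n ⊗[R] I →ₗ[R] TensorAlgebra R I :=
      LinearMap.mul' R _ ∘ₗ TensorProduct.map ((W I n).subtype ∘ₗ e.symm.toLinearMap) (TensorAlgebra.ι R)
    have hm : W I (n + 1) ≤ LinearMap.range m := by
      rw [W, pow_succ, Submodule.mul_le]
      rintro w hw _ ⟨f, rfl⟩
      refine ⟨e ⟨w, hw⟩ ⊗ₜ f, ?_⟩
      simp [m]
    have hmW : ∀ t, m t ∈ W I (n + 1) := by
      intro t
      induction t using TensorProduct.induction_on with
      | zero => simp
      | add a b ha hb => rw [map_add]; exact add_mem ha hb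
      | tmul a b =>
        rw [W, pow_succ]
        exact Submodule.mul_mem_mul (e.symm a).2 (LinearMap.mem_range_self _ b)
    let μ : OortTate.eigenAug R A p χ n ⊗[R] I →ₗ[R] OortTate.eigenAug R A p χ (n + 1) :=
      (L.toLinearMap ∘ₗ m).codRestrict _ fun t => by
        rw [← OT.pow_eq_eigenAug u hu χ hχ hχp hrk (by omega) hn', ← map_W]
        exact Submodule.mem_map_of_mem (hmW t)
    have hμs : Function.Surjective μ := fun f => by
      have hf := (OT.pow_eq_eigenAug u hu χ hχ hχp hrk (by omega) hn').ge f.2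
      rw [← map_W] at hf
      obtain ⟨w, hw, hwf⟩ := hf
      obtain ⟨t, rfl⟩ := hm hw
      exact ⟨t, Subtype.ext hwf⟩
    haveI : Module.Finite R I := OT.finite_eigenAug u hu χ hid 1
    haveI : Module.Projective R I := OT.projective_eigenAug u hu χ hid 1
    have hμ : Function.Bijective μ := Module.bijective_of_surjective_of_rankAtStalk_eq (M := OortTate.eigenAug R A p χ n ⊗[R] I) hμs fun q hq => by
      rw [Module.rankAtStalk_tensorProduct (M := OortTate.eigenAug R A p χ n) (N := I), Pi.mul_apply]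
      simp only [OT.rankAtStalk_eigenAug u hu χ hχ hχp hrk, one_mul]
      exact OT.rankAtStalk_eigenAug u hu χ hχ hχp hrk 1 _
    obtain ⟨t, rfl⟩ := hm hz
    have : μ t = μ 0 := Subtype.ext (by rw [map_zero, Submodule.coe_zero]; exact h0)
    rw [hμ.1 this, map_zero]

include hu hχ hχp hrk in
theorem surjective_lift :
    Function.Surjective (TensorAlgebra.lift R (OortTate.eigenAug R A p χ 1).subtype) := by
  have hid := OT.id_pow (A := A) hrk
  set S := (TensorAlgebra.lift R (OortTate.eigenAug R A p χ 1).subtype).range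
  have hle : LinearMap.ker (Bialgebra.counitAlgHom R A).toLinearMap ≤ Subalgebra.toSubmodule S := by
    rw [← Eigen.iSup_eigenAug hu hχ hid]
    refine iSup_le fun i => ?_
    have hp := (Fact.out : p.Prime).two_le
    obtain ⟨t, ht1, ht2, hti⟩ : ∃ t, 1 ≤ t ∧ t ≤ p - 1 ∧ t % (p - 1) = (i : ℕ) := by
      by_cases h0 : (i : ℕ) = 0
      · exact ⟨p - 1, by omega, le_rfl, by simp [h0]⟩
      · exact ⟨i, by omega, i.2.le, Nat.mod_eq_of_lt i.2⟩
    rw [← hti, Eigen.eigenAug_mod, ← OT.pow_eq_eigenAug (A := A) u hu χ hχ hχp hrk ht1 ht2, ← map_W]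
    rintro _ ⟨w, -, rfl⟩
    exact ⟨w, rfl⟩
  intro a
  have h : a ∈ S := by
    have := hle (x := a - algebraMap R A (Coalgebra.counit (R := R) a)) (by simp)
    simpa using S.add_mem this (S.algebraMap_mem (Coalgebra.counit (R := R) a))
  exact h

/-- The relations in degree `p`. -/
def rels : Set (TensorAlgebra R (OortTate.eigenAug R A p χ 1)) :=
  {x | ∃ (f : Fin p → OortTate.eigenAug R A p χ 1) (g : OortTate.eigenAug R A p χ 1),
    (g : A) = ∏ i, (f i : A) ∧
    x = (List.ofFn fun i => TensorAlgebra.ι R (f i)).prod - TensorAlgebra.ι R g}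

omit [Module.Finite R A] [Module.Projective R A] in
theorem rels_le_ker : Ideal.span (rels χ (A := A)) ≤ RingHom.ker (TensorAlgebra.lift R (OortTate.eigenAug R A p χ 1).subtype) := by
  rw [Ideal.span_le]
  rintro _ ⟨f, g, hg, rfl⟩
  simp [RingHom.mem_ker, map_list_prod, List.map_ofFn, Function.comp_def, List.prod_ofFn, hg]

/-- The left ideal of relations as a submodule. -/
noncomputable def J : Submodule R (TensorAlgebra R (OortTate.eigenAug R A p χ 1)) :=
  (Ideal.span (rels χ (A := A))).restrictScalars R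

omit [Module.Finite R A] [Module.Projective R A] in
theorem W_le_sup (n : ℕ) : W (OortTate.eigenAug R A p χ 1) n ≤
    J χ (A := A) ⊔ ⨆ t ∈ range p, W (OortTate.eigenAug R A p χ 1) t := by
  have hp := (Fact.out : p.Prime).two_le
  have hW : W (OortTate.eigenAug R A p χ 1) p ≤ J χ (A := A) ⊔ W (OortTate.eigenAug R A p χ 1) 1 := by
    show LinearMap.range _ ^ p ≤ _
    rw [Submodule.pow_eq_span_pow_set, Submodule.span_le]
    intro x hx
    obtain ⟨f, rfl⟩ := Set.mem_pow.mp hx
    choose g hg using fun i => (f i).2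
    have hprod : (∏ i, ((g i : OortTate.eigenAug R A p χ 1) : A)) ∈ OortTate.eigenAug R A p χ 1 := by
      have h1 : (∏ i, ((g i : OortTate.eigenAug R A p χ 1) : A)) ∈ (OortTate.eigenAug R A p χ 1) ^ p := by
        rw [Submodule.pow_eq_span_pow_set]
        refine Submodule.subset_span ?_
        rw [Set.mem_pow]
        exact ⟨g, by rw [List.prod_ofFn]⟩
      have e : OortTate.eigenAug R A p χ p = OortTate.eigenAug R A p χ 1 := by
        rw [← Eigen.eigenAug_mod R A p χ p, ← Eigen.eigenAug_mod R A p χ 1, show 1 % (p - 1) = p % (p - 1) from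
          (Nat.add_mod_right 1 (p - 1)).symm.trans (by congr 1; omega)]
      exact e.le (OT.pow_le_eigenAug χ (t := p) (by omega) h1)
    have e : (List.ofFn fun i => (f i : TensorAlgebra R (OortTate.eigenAug R A p χ 1))).prod =
        ((List.ofFn fun i => TensorAlgebra.ι R (g i)).prod - TensorAlgebra.ι R ⟨_, hprod⟩) + TensorAlgebra.ι R ⟨_, hprod⟩ := by
      rw [sub_add_cancel]
      simp only [hg]
    rw [e]
    exact Submodule.add_mem_sup (Ideal.subset_span ⟨g, ⟨_, hprod⟩, rfl, rfl⟩) (by rw [W, pow_one]; exact LinearMap.mem_range_self _ _)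
  induction n using Nat.strong_induction_on with
  | _ n ih =>
    rcases Nat.lt_or_ge n p with h | h
    · exact le_sup_of_le_right (le_iSup₂_of_le n (mem_range.mpr h) le_rfl)
    · obtain ⟨k, rfl⟩ := Nat.exists_eq_add_of_le' h
      have hJ : W (OortTate.eigenAug R A p χ 1) k * J χ (A := A) ≤ J χ (A := A) := by
        rw [Submodule.mul_le]
        exact fun a _ b hb => Ideal.mul_mem_left _ a hb
      calc W (OortTate.eigenAug R A p χ 1) (k + p)
          = W (OortTate.eigenAug R A p χ 1) k * W (OortTate.eigenAug R A p χ 1) p := pow_add _ _ _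
        _ ≤ W (OortTate.eigenAug R A p χ 1) k * (J χ (A := A) ⊔ W (OortTate.eigenAug R A p χ 1) 1) := mul_le_mul_right hW _
        _ ≤ _ := by
          rw [Submodule.mul_sup]
          refine sup_le (le_sup_of_le_left hJ) ?_
          rw [W, W, ← pow_add]
          exact ih (k + 1) (by omega)

include hu hχ hχp hrk in
theorem main :
    Function.Surjective (TensorAlgebra.lift R (OortTate.eigenAug R A p χ 1).subtype) ∧
      RingHom.ker (TensorAlgebra.lift R (OortTate.eigenAug R A p χ 1).subtype) = Ideal.span (rels χ (A := A)) := by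
  refine ⟨surjective_lift u hu χ hχ hχp hrk, le_antisymm (fun z hz => ?_) (rels_le_ker χ)⟩
  set L := TensorAlgebra.lift R (OortTate.eigenAug R A p χ 1).subtype
  have hp := (Fact.out : p.Prime).two_le
  have htop : z ∈ ⨆ n, W (OortTate.eigenAug R A p χ 1) n := by
    clear hz
    induction z using TensorAlgebra.induction with
    | algebraMap r => exact Submodule.mem_iSup_of_mem 0 (by rw [W, pow_zero]; exact Submodule.mem_one.mpr ⟨r, rfl⟩)
    | ι x => exact Submodule.mem_iSup_of_mem 1 (by rw [W, pow_one]; exact LinearMap.mem_range_self _ x)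
    | mul a b ha hb =>
      have : a * b ∈ (⨆ n, W (OortTate.eigenAug R A p χ 1) n) * ⨆ n, W (OortTate.eigenAug R A p χ 1) n :=
        Submodule.mul_mem_mul ha hb
      rw [Submodule.iSup_mul] at this
      refine SetLike.le_def.mp (iSup_le fun i => ?_) this
      rw [Submodule.mul_iSup]
      exact iSup_le fun j => by rw [W, W, ← pow_add]; exact le_iSup (W _) (i + j)
    | add a b ha hb => exact add_mem ha hb
  have hle : (⨆ n, W (OortTate.eigenAug R A p χ 1) n) ≤
      J χ (A := A) ⊔ ⨆ t ∈ range p, W (OortTate.eigenAug R A p χ 1) t := iSup_le fun n => W_le_sup χ n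
  obtain ⟨j, hj, s, hs, hjs⟩ := Submodule.mem_sup.mp (hle htop)
  subst hjs
  have hjk : L j = 0 := rels_le_ker χ hj
  have hsk : L s = 0 := by simpa [RingHom.mem_ker, hjk] using hz
  suffices s = 0 by rw [this, add_zero]; exact hj
  obtain ⟨w, hw⟩ := (Submodule.mem_iSup_finset_iff_exists_sum _ _).mp hs
  have hmem : ∀ t, 1 ≤ t → L (w t).1 ∈ OortTate.eigenAug R A p χ t := fun t ht =>
    OT.pow_le_eigenAug χ ht ((map_W (OortTate.eigenAug R A p χ 1) t).le (Submodule.mem_map_of_mem (w t).2))
  rw [← hw, map_sum] at hsk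
  obtain ⟨r, hr⟩ : ∃ r : R, algebraMap R _ r = (w 0).1 := Submodule.mem_one.mp (by
    have := (w 0).2
    exact (pow_zero (LinearMap.range (TensorAlgebra.ι R (M := OortTate.eigenAug R A p χ 1)))).le this)
  have hr0 : r = 0 := by
    have := congrArg (Coalgebra.counit (R := R)) hsk
    rw [map_sum, map_zero, Finset.sum_eq_single 0] at this
    · rwa [← hr, AlgHom.commutes, Algebra.algebraMap_eq_smul_one, map_smul, Bialgebra.counit_one, smul_eq_mul, mul_one] at this
    · intro t _ ht
      exact (Eigen.mem_eigenAug.mp (hmem t (by omega))).1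
    · simp; omega
  have hw0 : (w 0).1 = 0 := by rw [← hr, hr0, map_zero]
  have hsum := hsk
  rw [← hw]
  refine Finset.sum_eq_zero fun t ht => ?_
  rcases Nat.eq_zero_or_pos t with rfl | ht0
  · exact hw0
  rw [mem_range] at ht
  refine eq_zero_of_mem_W u hu χ hχ hχp hrk ht0 (by omega) _ (w t).2 ?_
  have := congrArg (OortTate.proj R A p u χ t) hsum
  rw [map_sum, map_zero, Finset.sum_eq_single t] at this
  · rwa [Eigen.proj_of_mem hu (hmem t ht0)] at this
  · intro i hi hit
    rcases Nat.eq_zero_or_pos i with rfl | hi0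
    · rw [hw0, map_zero, map_zero]
    rw [mem_range] at hi
    refine Eigen.proj_of_mem_ne hχ u ?_ (hmem i hi0)
    intro h
    rcases Nat.lt_or_eq_of_le (show i ≤ p - 1 by omega) with h1 | h1 <;> rcases Nat.lt_or_eq_of_le (show t ≤ p - 1 by omega) with h2 | h2
    · rw [Nat.mod_eq_of_lt h1, Nat.mod_eq_of_lt h2] at h; omega
    · rw [Nat.mod_eq_of_lt h1, h2, Nat.mod_self] at h; omega
    · rw [h1, Nat.mod_self, Nat.mod_eq_of_lt h2] at h; omega
    · omega
  · simp; omega

end Groth.Agent.Hopf35.TensorGen
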