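import Mathlib
import Groth.Agent.Hopf35.Pairing
import Groth.Prelude.Def_CartDual2
import Groth.Agent.Hopf35.TensorGen

/-!
A group scheme of order `p` is determined by its invariants.
-/

universe u

open TensorProduct Finset

namespace Groth.Agent.Hopf35.Classify

open SGA3b (powConv)

section Rank

variable {R : Type u} [CommRing R] (A : Type u) [CommRing A] [Algebra R A] [Module.Finite R A] [Module.Projective R A]

theorem rankAtStalk_dual (q : PrimeSpectrum R) :
    Module.rankAtStalk (CartDual.D R A) q = Module.rankAtStalk (R := R) A q := by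
  let k := q.asIdeal.ResidueField
  let g : k →ₗ[k] Module.Dual R A →ₗ[R] (A →ₗ[R] k) :=
    { toFun := fun c => c • ((Algebra.linearMap R k).compRight (M := A) R)
      map_add' := fun c d => add_smul _ _ _
      map_smul' := fun c d => by simp [smul_smul] }
  let h : k ⊗[R] Module.Dual R A →ₗ[k] (A →ₗ[R] k) := AlgebraTensorModule.lift g
  have hh : h.restrictScalars R = dualTensorHom R A k ∘ₗ (TensorProduct.comm R k (Module.Dual R A)).toLinearMap := by
    apply TensorProduct.ext'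
    intro c f
    apply LinearMap.ext; intro a
    simp [h, g, Algebra.smul_def, mul_comm]
  have hb : Function.Bijective h := by
    show Function.Bijective (h.restrictScalars R)
    rw [hh]
    exact (dualTensorHom_bijective (R := R) (M := A) (N := k)).comp (TensorProduct.comm R k (Module.Dual R A)).bijective
  rw [Module.rankAtStalk_eq, Module.rankAtStalk_eq]
  rw [show Module.finrank k (k ⊗[R] CartDual.D R A) = Module.finrank k (A →ₗ[R] k) from
    (AlgebraTensorModule.congr (LinearEquiv.refl k k) (CartDual.toDual R A) ≪≫ₗ LinearEquiv.ofBijective h hb).finrank_eq]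
  rw [(LinearMap.liftBaseChangeEquiv (R := R) (M := A) (N := k) k).finrank_eq]
  exact Subspace.dual_finrank_eq

end Rank

section Gen

variable {p : ℕ} [Fact p.Prime] {R : Type u} [CommRing R] (u : R) (hu : u * ((p - 1 : ℕ) : R) = 1)
  (χ : (ZMod p)ˣ →* Rˣ) (hχ : ∀ m : (ZMod p)ˣ, m ≠ 1 → IsUnit ((χ m : R) - 1))
  (hχp : ∀ m : (ZMod p)ˣ, ((χ m : Rˣ) : R) - (((m : ZMod p).val : ℕ) : R) ∈ Ideal.span ({(p : R)} : Set R))
  {A : Type u} [CommRing A] [HopfAlgebra R A] [Module.Finite R A] [Module.Projective R A]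
  (hrk : ∀ q : PrimeSpectrum R, Module.rankAtStalk A q = p)
  {B : Type u} [CommRing B] [HopfAlgebra R B]

omit [Module.Finite R A] [Module.Projective R A] in
theorem eigenAug_prime : OortTate.eigenAug R A p χ p = OortTate.eigenAug R A p χ 1 := by
  have hp := (Fact.out : p.Prime).two_le
  rw [← Eigen.eigenAug_mod R A p χ p, ← Eigen.eigenAug_mod R A p χ 1, show 1 % (p - 1) = p % (p - 1) from
    (Nat.add_mod_right 1 (p - 1)).symm.trans (by congr 1; omega)]

omit [Module.Finite R A] [Module.Projective R A] in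
theorem prod_mem {n : ℕ} (hn : 1 ≤ n) (f : Fin n → A) (hf : ∀ i, f i ∈ OortTate.eigenAug R A p χ 1) :
    ∏ i, f i ∈ OortTate.eigenAug R A p χ n := by
  refine OT.pow_le_eigenAug χ hn ?_
  rw [Submodule.pow_eq_span_pow_set]
  refine Submodule.subset_span ?_
  rw [Set.mem_pow]
  exact ⟨fun i => ⟨f i, hf i⟩, List.prod_ofFn⟩

omit [Module.Finite R A] [Module.Projective R A] in
theorem prod_mem_prime (f : Fin p → A) (hf : ∀ i, f i ∈ OortTate.eigenAug R A p χ 1) :
    ∏ i, f i ∈ OortTate.eigenAug R A p χ 1 :=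
  (eigenAug_prime χ).le (prod_mem χ (Fact.out : p.Prime).one_le f hf)

include hu hχ hχp hrk in
theorem eigenAug_le_span_prod {t : ℕ} (ht : 1 ≤ t) (ht' : t ≤ p - 1) :
    OortTate.eigenAug R A p χ t ≤ Submodule.span R
      (Set.range fun f : Fin t → OortTate.eigenAug R A p χ 1 => ∏ i, (f i : A)) := by
  rw [← OT.pow_eq_eigenAug u hu χ hχ hχp hrk ht ht', Submodule.pow_eq_span_pow_set, Submodule.span_le]
  intro x hx
  obtain ⟨f, rfl⟩ := Set.mem_pow.mp hx
  exact Submodule.subset_span ⟨f, List.prod_ofFn.symm⟩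

include hu hχ hχp hrk in
theorem linearMap_ext {M : Type*} [AddCommGroup M] [Module R M] {F G : A →ₗ[R] M} (h1 : F 1 = G 1)
    (h : ∀ n, 1 ≤ n → n ≤ p - 1 → ∀ f : Fin n → OortTate.eigenAug R A p χ 1, F (∏ i, (f i : A)) = G (∏ i, (f i : A))) :
    F = G := by
  have hid := OT.id_pow (A := A) hrk
  have hp := (Fact.out : p.Prime).two_le
  have hle : LinearMap.ker (Bialgebra.counitAlgHom R A).toLinearMap ≤ LinearMap.eqLocus F G := by
    rw [← Eigen.iSup_eigenAug hu hχ hid]
    refine iSup_le fun i => ?_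
    obtain ⟨t, ht1, ht2, hti⟩ : ∃ t, 1 ≤ t ∧ t ≤ p - 1 ∧ t % (p - 1) = (i : ℕ) := by
      by_cases h0 : (i : ℕ) = 0
      · exact ⟨p - 1, by omega, le_rfl, by simp [h0]⟩
      · exact ⟨i, by omega, i.2.le, Nat.mod_eq_of_lt i.2⟩
    rw [← hti, Eigen.eigenAug_mod]
    refine (eigenAug_le_span_prod u hu χ hχ hχp hrk ht1 ht2).trans (Submodule.span_le.mpr ?_)
    rintro _ ⟨f, rfl⟩
    exact h t ht1 ht2 f
  ext a
  have := hle (x := a - algebraMap R A (Coalgebra.counit (R := R) a)) (by simp)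
  simpa [Algebra.algebraMap_eq_smul_one, h1, sub_eq_iff_eq_add] using (LinearMap.mem_eqLocus.mp this)

include hu hχ hχp hrk in
theorem algHom_ext {C : Type*} [CommRing C] [Algebra R C] {F G : A →ₐ[R] C}
    (h : ∀ x ∈ OortTate.eigenAug R A p χ 1, F x = G x) : F = G :=
  AlgHom.toLinearMap_injective <| linearMap_ext u hu χ hχ hχp hrk (by simp) fun n _ _ f => by
    simp only [AlgHom.toLinearMap_apply, map_prod]
    exact Finset.prod_congr rfl fun i _ => h _ (f i).2

include hu hχ hχp hrk in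
theorem exists_algHom (θ : OortTate.eigenAug R A p χ 1 →ₗ[R] OortTate.eigenAug R B p χ 1)
    (hθ : ∀ (f : Fin p → OortTate.eigenAug R A p χ 1) (g : OortTate.eigenAug R A p χ 1),
      (g : A) = ∏ i, (f i : A) → ((θ g : OortTate.eigenAug R B p χ 1) : B) = ∏ i, ((θ (f i)) : B)) :
    ∃ F : A →ₐ[R] B, ∀ x : OortTate.eigenAug R A p χ 1, F x = θ x := by
  obtain ⟨hs, hk⟩ := TensorGen.main u hu χ hχ hχp (A := A) hrk
  let L := TensorAlgebra.lift R (OortTate.eigenAug R A p χ 1).subtype
  let φ := TensorAlgebra.lift R ((OortTate.eigenAug R B p χ 1).subtype ∘ₗ θ)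
  have hle : RingHom.ker L.toRingHom ≤ RingHom.ker φ.toRingHom := by
    refine hk.trans_le (Ideal.span_le.mpr ?_)
    rintro _ ⟨f, g, hg, rfl⟩
    simp [φ, RingHom.mem_ker, map_list_prod, List.map_ofFn, Function.comp_def, List.prod_ofFn, hθ f g hg]
  let e := RingHom.liftOfSurjective L.toRingHom hs ⟨φ.toRingHom, hle⟩
  have he : ∀ z, e (L z) = φ z := fun z => RingHom.liftOfSurjective_comp_apply L.toRingHom hs ⟨φ.toRingHom, hle⟩ z
  refine ⟨⟨e, fun r => ?_⟩, fun x => ?_⟩
  · have h := he (algebraMap R _ r)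
    rw [AlgHom.commutes, AlgHom.commutes] at h
    exact h
  · show e x.1 = _
    have h := he (TensorAlgebra.ι R x)
    simpa [L, φ] using h

end Gen

section Pair

variable {p : ℕ} [Fact p.Prime] {R : Type u} [CommRing R] (u : R) (hu : u * ((p - 1 : ℕ) : R) = 1)
  (χ : (ZMod p)ˣ →* Rˣ) (hχ : ∀ m : (ZMod p)ˣ, m ≠ 1 → IsUnit ((χ m : R) - 1))
  (hχp : ∀ m : (ZMod p)ˣ, ((χ m : Rˣ) : R) - (((m : ZMod p).val : ℕ) : R) ∈ Ideal.span ({(p : R)} : Set R))
  {A : Type u} [CommRing A] [HopfAlgebra R A] [Coalgebra.IsCocomm R A] [Module.Finite R A] [Module.Projective R A]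
  (hrk : ∀ q : PrimeSpectrum R, Module.rankAtStalk A q = p)

include hu hχ hχp hrk in
theorem prod_pairing {n : ℕ} (hn : 1 ≤ n) (hn' : n ≤ p - 1) {w : R}
    (hw : OortTate.ygen R p u χ 1 ^ n = w • OortTate.ygen R p u χ n)
    (φ : Fin n → CartDual.D R A) (hφ : ∀ i, φ i ∈ OortTate.eigenAug R (CartDual.D R A) p χ 1)
    (z : Fin n → OortTate.eigenAug R A p χ 1) :
    (∏ i, φ i) (∏ i, (z i : A)) = w * ∏ i, φ i (z i : A) := by
  have hid := OT.id_pow (A := A) hrk
  haveI := OT.finite_eigenAug (A := A) u hu χ hid 1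
  haveI := OT.projective_eigenAug (A := A) u hu χ hid 1
  haveI := OT.finite_eigenAug (A := A) u hu χ hid n
  haveI := OT.projective_eigenAug (A := A) u hu χ hid n
  let Lft : A →ₐ[R] WithConv (A →ₗ[R] A) := Pairing.toEnd.comp Algebra.TensorProduct.includeLeft
  let Rt : CartDual.D R A →ₐ[R] WithConv (A →ₗ[R] A) := Pairing.toEnd.comp Algebra.TensorProduct.includeRight
  have hsplit : ∀ (a : A) (ψ : CartDual.D R A), Pairing.toEnd (a ⊗ₜ[R] ψ) = Lft a * Rt ψ := fun a ψ => by
    simp only [Lft, Rt, AlgHom.comp_apply, ← map_mul, Algebra.TensorProduct.includeLeft_apply,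
      Algebra.TensorProduct.includeRight_apply, Algebra.TensorProduct.tmul_mul_tmul, one_mul, mul_one]
  have key : ∀ x : Fin n → OortTate.eigenAug R A p χ 1, ((∏ i, φ i) (∏ i, (z i : A)) - w * ∏ i, φ i (z i : A)) • (∏ i, (x i : A)) = 0 := by
    intro x
    have h1 : Pairing.toEnd ((∏ i, (x i : A)) ⊗ₜ[R] (∏ i, φ i)) = (∏ i, φ i (x i : A)) • (w • Pairing.P hid u χ n) := by
      rw [hsplit, map_prod, map_prod, ← Finset.prod_mul_distrib]
      simp only [← hsplit, Pairing.toEnd_tmul_eigen u hu χ hχ hχp hid hrk (x _) (hφ _)]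
      rw [Finset.prod_smul, Finset.prod_const, Finset.card_univ, Fintype.card_fin]
      congr 1
      rw [← Pairing.groupMap_ygen, ← map_pow, hw, map_smul, Pairing.groupMap_ygen]
    have h2 := congrArg (fun T : WithConv (A →ₗ[R] A) => T (∏ i, (z i : A))) h1
    simp only [Pairing.toEnd_tmul, WithConv.ofConv_smul, LinearMap.smul_apply] at h2
    have h3 : (Pairing.P hid u χ n) (∏ i, (z i : A)) = ∏ i, (z i : A) :=
      congrArg Subtype.val (OT.projAug_of_mem u hu χ hid n ⟨_, prod_mem χ hn _ fun i => (z i).2⟩)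
    rw [h3, smul_comm, ← Finset.prod_smul] at h2
    have h4 : ∀ i, φ i (x i : A) • (z i : A) = φ i (z i : A) • (x i : A) := fun i =>
      congrArg Subtype.val (Pairing.smul_swap (OT.rankAtStalk_eigenAug u hu χ hχ hχp hrk 1)
        ((CartDual.toDual R A (φ i)) ∘ₗ (OortTate.eigenAug R A p χ 1).subtype) (x i) (z i))
    simp only [h4] at h2
    rw [Finset.prod_smul, smul_smul] at h2
    rw [sub_smul, h2, sub_self]
  refine sub_eq_zero.mp (MuP.eq_zero_of_smul_eq_zero _ (OT.rankAtStalk_eigenAug (A := A) u hu χ hχ hχp hrk n) _ fun f => Subtype.ext ?_)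
  have hf := eigenAug_le_span_prod u hu χ hχ hχp hrk hn hn' f.2
  rw [Submodule.coe_smul, Submodule.coe_zero]
  generalize (f : A) = b at hf ⊢
  induction hf using Submodule.span_induction with
  | mem a ha => obtain ⟨x, rfl⟩ := ha; exact key x
  | zero => simp
  | add a b _ _ ha hb => rw [smul_add, ha, hb, add_zero]
  | smul c a _ ha => rw [smul_comm, ha, smul_zero]

end Pair

section Main

variable {p : ℕ} [Fact p.Prime] {R : Type u} [CommRing R] (u : R) (hu : u * ((p - 1 : ℕ) : R) = 1)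
  (χ : (ZMod p)ˣ →* Rˣ) (hχ : ∀ m : (ZMod p)ˣ, m ≠ 1 → IsUnit ((χ m : R) - 1))
  (hχp : ∀ m : (ZMod p)ˣ, ((χ m : Rˣ) : R) - (((m : ZMod p).val : ℕ) : R) ∈ Ideal.span ({(p : R)} : Set R))
  {A : Type u} [CommRing A] [HopfAlgebra R A] [Coalgebra.IsCocomm R A] [Module.Finite R A] [Module.Projective R A]
  (hrk : ∀ q : PrimeSpectrum R, Module.rankAtStalk A q = p)
  {A' : Type u} [CommRing A'] [HopfAlgebra R A'] [Coalgebra.IsCocomm R A'] [Module.Finite R A'] [Module.Projective R A']
  (hrk' : ∀ q : PrimeSpectrum R, Module.rankAtStalk A' q = p)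

include hu hχ hχp hrk hrk' in
theorem main (θ : OortTate.eigenAug R A p χ 1 ≃ₗ[R] OortTate.eigenAug R A' p χ 1)
    (hθ : ∀ (f : Fin p → OortTate.eigenAug R A p χ 1) (g : OortTate.eigenAug R A p χ 1),
      (g : A) = ∏ i, (f i : A) → ((θ g : OortTate.eigenAug R A' p χ 1) : A') = ∏ i, ((θ (f i)) : A'))
    (hθD : ∀ (φ : Fin p → OortTate.eigenAug R (CartDual.D R A) p χ 1)
      (φ' : Fin p → OortTate.eigenAug R (CartDual.D R A') p χ 1)
      (ψ : OortTate.eigenAug R (CartDual.D R A) p χ 1) (ψ' : OortTate.eigenAug R (CartDual.D R A') p χ 1),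
      (∀ i, ∀ x : OortTate.eigenAug R A p χ 1,
        CartDual.toDual R A (φ i : CartDual.D R A) (x : A) =
          CartDual.toDual R A' (φ' i : CartDual.D R A') ((θ x : OortTate.eigenAug R A' p χ 1) : A')) →
      (ψ : CartDual.D R A) = ∏ i, (φ i : CartDual.D R A) →
      (ψ' : CartDual.D R A') = ∏ i, (φ' i : CartDual.D R A') →
      ∀ x : OortTate.eigenAug R A p χ 1,
        CartDual.toDual R A (ψ : CartDual.D R A) (x : A) =
          CartDual.toDual R A' (ψ' : CartDual.D R A') ((θ x : OortTate.eigenAug R A' p χ 1) : A')) :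
    Nonempty (A ≃ₐc[R] A') := by
  have hid := OT.id_pow (A := A) hrk
  obtain ⟨F, hF⟩ := exists_algHom u hu χ hχ hχp hrk θ.toLinearMap hθ
  obtain ⟨F', hF'⟩ := exists_algHom u hu χ hχ hχp hrk' θ.symm.toLinearMap (fun f g hg => by
    have hmem := prod_mem_prime χ (fun i => ((θ.symm (f i) : OortTate.eigenAug R A p χ 1) : A)) fun i => (θ.symm (f i)).2
    have h := hθ (fun i => θ.symm (f i)) ⟨_, hmem⟩ rfl
    simp only [LinearEquiv.apply_symm_apply] at h
    rw [← hg] at h
    have e : θ.symm g = ⟨_, hmem⟩ := by rw [LinearEquiv.symm_apply_eq]; exact Subtype.ext h.symm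
    exact congrArg Subtype.val e)
  have hFF' : F'.comp F = AlgHom.id R A := algHom_ext u hu χ hχ hχp hrk fun x hx => by
    rw [AlgHom.comp_apply, hF ⟨x, hx⟩, LinearEquiv.coe_coe, hF', LinearEquiv.coe_coe, θ.symm_apply_apply]; rfl
  have hF'F : F.comp F' = AlgHom.id R A' := algHom_ext u hu χ hχ hχp hrk' fun x hx => by
    rw [AlgHom.comp_apply, hF' ⟨x, hx⟩, LinearEquiv.coe_coe, hF, LinearEquiv.coe_coe, θ.apply_symm_apply]; rfl
  have hε : (Bialgebra.counitAlgHom R A').comp F = Bialgebra.counitAlgHom R A :=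
    algHom_ext u hu χ hχ hχp hrk fun x hx => by
      rw [AlgHom.comp_apply, hF ⟨x, hx⟩, Bialgebra.counitAlgHom_apply, Bialgebra.counitAlgHom_apply,
        (Eigen.mem_eigenAug.mp hx).1, (Eigen.mem_eigenAug.mp (θ.toLinearMap ⟨x, hx⟩).2).1]
  have hpow : ∀ (m : (ZMod p)ˣ) (a : A), powConv R A' (m : ZMod p).val (F a) = F (powConv R A (m : ZMod p).val a) := by
    intro m a
    refine DFunLike.congr_fun (algHom_ext u hu χ hχ hχp hrk (F := (powConv R A' (m : ZMod p).val).comp F)
      (G := F.comp (powConv R A (m : ZMod p).val)) fun x hx => ?_) a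
    rw [AlgHom.comp_apply, AlgHom.comp_apply, (Eigen.mem_eigenAug.mp hx).2 m, map_smul, hF ⟨x, hx⟩,
      (Eigen.mem_eigenAug.mp (θ.toLinearMap ⟨x, hx⟩).2).2 m]
  let T : CartDual.D R A' →ₗ[R] CartDual.D R A := CartDual.transposeLin R F.toLinearMap
  have hT : ∀ z a, T z a = z (F a) := fun z a => rfl
  have hT1 : T 1 = 1 := by
    apply WithConv.ext; apply LinearMap.ext; intro a
    refine (hT 1 a).trans ?_
    rw [LinearMap.convOne_apply, LinearMap.convOne_apply]
    exact congrArg (algebraMap R R) (AlgHom.congr_fun hε a)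
  have hTmem : ∀ (i : ℕ) (z : CartDual.D R A'), z ∈ OortTate.eigenAug R (CartDual.D R A') p χ i →
      T z ∈ OortTate.eigenAug R (CartDual.D R A) p χ i := by
    intro i z hz
    obtain ⟨h1, h2⟩ := DualEigen.mem_eigenAug_dual.mp hz
    refine DualEigen.mem_eigenAug_dual.mpr ⟨by rw [hT, map_one]; exact h1, fun m a => ?_⟩
    rw [hT, hT, ← hpow]; exact h2 m (F a)
  have hrkD : ∀ q : PrimeSpectrum R, Module.rankAtStalk (CartDual.D R A') q = p := fun q => by
    rw [rankAtStalk_dual, hrk']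
  let τ : OortTate.eigenAug R (CartDual.D R A') p χ 1 →ₗ[R] OortTate.eigenAug R (CartDual.D R A) p χ 1 :=
    (T ∘ₗ (OortTate.eigenAug R (CartDual.D R A') p χ 1).subtype).codRestrict _ fun z => hTmem 1 z.1 z.2
  have hTθ : ∀ (z : CartDual.D R A') (x : OortTate.eigenAug R A p χ 1), T z x = z ((θ x : OortTate.eigenAug R A' p χ 1) : A') :=
    fun z x => by rw [hT, hF]; rfl
  obtain ⟨G, hG⟩ := exists_algHom u hu χ hχ hχp hrkD τ (fun f g hg => by
    let ψ : OortTate.eigenAug R (CartDual.D R A) p χ 1 := ⟨_, prod_mem_prime χ (fun i => (τ (f i) : CartDual.D R A)) fun i => (τ (f i)).2⟩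
    have h := hθD (fun i => τ (f i)) f ψ g (fun i x => hTθ (f i).1 x) rfl hg
    apply WithConv.ext; apply LinearMap.ext; intro a
    show T g.1 a = ψ.1 a
    rw [DualEigen.eq_apply_projAug hu hid (hTmem 1 g.1 g.2) a, DualEigen.eq_apply_projAug hu hid ψ.2 a, hTθ]
    exact (h _).symm)
  have hGT : G.toLinearMap = T := by
    refine linearMap_ext u hu χ hχ hχp hrkD (by rw [AlgHom.toLinearMap_apply, map_one, hT1]) fun n hn hn' φ => ?_
    obtain ⟨w, hw⟩ := Pairing.exists_pow_ygen u hu χ hχ hn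
    rw [AlgHom.toLinearMap_apply, map_prod]
    simp only [hG]
    have hR : (∏ i, (τ (φ i) : CartDual.D R A)) ∈ OortTate.eigenAug R (CartDual.D R A) p χ n := prod_mem χ hn _ fun i => (τ (φ i)).2
    have hL : T (∏ i, (φ i : CartDual.D R A')) ∈ OortTate.eigenAug R (CartDual.D R A) p χ n := hTmem n _ (prod_mem χ hn _ fun i => (φ i).2)
    apply WithConv.ext; apply LinearMap.ext; intro a
    rw [← CartDual.coe_apply, ← CartDual.coe_apply, DualEigen.eq_apply_projAug hu hid hR a, DualEigen.eq_apply_projAug hu hid hL a]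
    have hf := eigenAug_le_span_prod u hu χ hχ hχp hrk hn hn' (OT.projAug u χ hid n a).2
    generalize ((OT.projAug u χ hid n a : OortTate.eigenAug R A p χ n) : A) = b at hf ⊢
    induction hf using Submodule.span_induction with
    | mem b hb =>
      obtain ⟨z, rfl⟩ := hb
      have e : F (∏ i, (z i : A)) = ∏ i, ((θ (z i) : OortTate.eigenAug R A' p χ 1) : A') := by
        rw [map_prod]; exact Finset.prod_congr rfl fun i _ => hF _
      rw [hT, e, prod_pairing u hu χ hχ hχp hrk hn hn' hw _ (fun i => (τ (φ i)).2) z,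
        prod_pairing u hu χ hχ hχp hrk' hn hn' hw _ (fun i => (φ i).2) fun i => θ (z i)]
      congr 1
      exact Finset.prod_congr rfl fun i _ => hTθ _ _
    | zero => simp only [map_zero]
    | add b c _ _ hb hc => simp only [map_add, hb, hc]
    | smul r b _ hb => simp only [map_smul, hb]
  let e : A ≃ₐ[R] A' := AlgEquiv.ofAlgHom F F' hF'F hFF'
  refine ⟨BialgEquiv.ofAlgEquiv e hε ?_⟩
  apply AlgHom.ext; intro a
  show TensorProduct.map F.toLinearMap F.toLinearMap (Coalgebra.comul (R := R) a) = Coalgebra.comul (R := R) (F a)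
  refine eq_of_forall_dual (R := R) fun Φ => ?_
  obtain ⟨t, rfl⟩ := (CartDual.ev₂ R A').surjective Φ
  induction t using TensorProduct.induction_on with
  | zero => simp only [map_zero, LinearMap.zero_apply]
  | add s s' hs hs' => simp only [map_add, LinearMap.add_apply, hs, hs']
  | tmul z w =>
    have h := map_mul G z w
    rw [← AlgHom.toLinearMap_apply G, ← AlgHom.toLinearMap_apply G, ← AlgHom.toLinearMap_apply G, hGT] at h
    have h2 := congrArg (fun v : CartDual.D R A => v a) h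
    rw [CartDual.ev₂_tmul_eq']
    simp only [LinearMap.comp_apply]
    rw [← LinearMap.comp_apply (TensorProduct.map z.ofConv w.ofConv), ← TensorProduct.map_comp]
    simp only [hT, CartDual.coe_apply] at h2
    rw [LinearMap.convMul_apply, LinearMap.convMul_apply] at h2
    exact h2.symm

end Main

end Groth.Agent.Hopf35.Classify
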