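import Groth.Prelude.Def_BigSite
import Mathlib

/-!
helper35: sheaves on the big fppf site turn a partition into disjoint opens into a product of sections.
-/

set_option autoImplicit false
set_option linter.style.haveILetI false
set_option backward.isDefEq.respectTransparency.types false

universe u

open CategoryTheory CategoryTheory.Limits AlgebraicGeometry Opposite

noncomputable section

namespace Groth.Agent.Hopf35.ClopenGlue

variable {X : Scheme.{u}}

/-- An open piece of an object of the big site. -/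
abbrev opPart (W : Over X) (A : W.left.Opens) : Over X := Over.mk (A.ι ≫ W.hom)

/-- Its inclusion. -/
abbrev opIncl (W : Over X) (A : W.left.Opens) : opPart W A ⟶ W := Over.homMk A.ι rfl

variable (F : BigSite.Ab Scheme.fppfPrecoverage X)

theorem isSheafFor_opens (W : Over X) {ι : Type u} (A : ι → W.left.Opens) (hA : ∀ w, ∃ i, w ∈ A i) :
    Presieve.IsSheafFor (F.obj ⋙ forget _) (Presieve.ofArrows _ fun i => opIncl W (A i)) := by
  refine (Presieve.isSheafFor_iff_generate _).2
    (((isSheaf_iff_isSheaf_of_type _ _).1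
      (GrothendieckTopology.HasSheafCompose.isSheaf (J := QuotSh.J Scheme.fppfPrecoverage X)
        (F := forget AddCommGrpCat.{u + 1}) F.obj F.property)) _ ?_)
  rw [GrothendieckTopology.mem_over_iff, Sieve.overEquiv_generate]
  refine GrothendieckTopology.superset_covering _ ?_ (Precoverage.generate_mem_toGrothendieck
    (R := Presieve.ofArrows (fun i => (A i : Scheme.{u})) fun i => (A i).ι) ?_)
  · rw [Sieve.generate_le_iff]
    rintro Z f ⟨i⟩
    exact Sieve.le_generate _ _ _ ⟨opPart W (A i), opIncl W (A i), 𝟙 _, ⟨i⟩, by simp⟩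
  · rw [Scheme.fppfPrecoverage, Scheme.ofArrows_mem_precoverage_iff]
    refine ⟨fun w => ?_, fun i => ⟨inferInstance, inferInstance⟩⟩
    obtain ⟨i, hi⟩ := hA w
    exact ⟨i, by rw [Scheme.Opens.range_ι]; exact hi⟩

theorem subsingleton_of_isEmpty (W : Over X) [IsEmpty W.left] : Subsingleton (F.obj.obj (op W)) := by
  have h := (Presieve.isSheafFor_arrows_iff _ _).1
    (isSheafFor_opens F W (fun i : PEmpty.{u + 1} => (⊤ : W.left.Opens)) fun w => isEmptyElim w)
  obtain ⟨t, -, ht⟩ := h (fun i => i.elim) fun i => i.elim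
  exact ⟨fun a b => (ht a fun i => i.elim).trans (ht b fun i => i.elim).symm⟩

/-- Sections over a disjoint union of opens. -/
theorem bijective_restrict (W : Over X) {ι : Type u} (A : ι → W.left.Opens) (hA : ∀ w, ∃ i, w ∈ A i)
    (hd : ∀ i j w, w ∈ A i → w ∈ A j → i = j) :
    Function.Bijective fun (s : F.obj.obj (op W)) (i : ι) => F.obj.map (opIncl W (A i)).op s := by
  have hs := (Presieve.isSheafFor_arrows_iff _ _).1 (isSheafFor_opens F W A hA)
  refine ⟨fun s s' e => ?_, fun x => ?_⟩
  · obtain ⟨t₀, -, htu⟩ := hs (fun i => F.obj.map (opIncl W (A i)).op s) fun i j Z gi gj e' => by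
      change F.obj.map gi.op _ = F.obj.map gj.op _
      rw [← Functor.map_comp_apply, ← Functor.map_comp_apply, ← op_comp, ← op_comp, e']
    exact (htu s fun _ => rfl).trans (htu s' fun k => (congrFun e k).symm).symm
  · obtain ⟨t₀, ht, -⟩ := hs x fun i j Z gi gj e' => by
      change F.obj.map gi.op (x i) = F.obj.map gj.op (x j)
      by_cases hZ : IsEmpty Z.left
      · exact (subsingleton_of_isEmpty F Z).elim _ _
      · obtain ⟨z⟩ := not_isEmpty_iff.1 hZ
        have hl : gi.left ≫ (A i).ι = gj.left ≫ (A j).ι := congrArg CommaMorphism.left e'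
        have hzi : (gi.left ≫ (A i).ι) z ∈ A i := (gi.left z).2
        have hzj : (gj.left ≫ (A j).ι) z ∈ A j := (gj.left z).2
        rw [hl] at hzi
        obtain rfl := hd i j _ hzi hzj
        rw [show gi = gj from Over.OverMorphism.ext ((cancel_mono (A i).ι).1 hl)]
    exact ⟨t₀, funext ht⟩

theorem eq_of_restrict (W : Over X) (A B : W.left.Opens) (hd : Disjoint (A : Set W.left) B)
    (hc : ∀ w, w ∈ A ∨ w ∈ B) {s s' : F.obj.obj (op W)}
    (hA : F.obj.map (opIncl W A).op s = F.obj.map (opIncl W A).op s')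
    (hB : F.obj.map (opIncl W B).op s = F.obj.map (opIncl W B).op s') : s = s' := by
  refine (bijective_restrict F W (fun i : ULift.{u} Bool => bif i.down then A else B) ?_ ?_).1
    (funext fun ⟨i⟩ => by cases i; exacts [hB, hA])
  · intro w
    rcases hc w with h | h
    exacts [⟨⟨true⟩, h⟩, ⟨⟨false⟩, h⟩]
  · rintro ⟨(_ | _)⟩ ⟨(_ | _)⟩ w h h'
    exacts [rfl, (Set.disjoint_left.1 hd h' h).elim, (Set.disjoint_left.1 hd h h').elim, rfl]

theorem exists_extend (W : Over X) (A B : W.left.Opens) (hd : Disjoint (A : Set W.left) B)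
    (hc : ∀ w, w ∈ A ∨ w ∈ B) (x : F.obj.obj (op (opPart W A))) :
    ∃ s : F.obj.obj (op W), F.obj.map (opIncl W A).op s = x ∧ F.obj.map (opIncl W B).op s = 0 := by
  obtain ⟨s, hs⟩ := (bijective_restrict F W (fun i : ULift.{u} Bool => bif i.down then A else B) (by
    intro w
    rcases hc w with h | h
    exacts [⟨⟨true⟩, h⟩, ⟨⟨false⟩, h⟩]) (by
    rintro ⟨(_ | _)⟩ ⟨(_ | _)⟩ w h h'
    exacts [rfl, (Set.disjoint_left.1 hd h' h).elim, (Set.disjoint_left.1 hd h h').elim, rfl])).2
    (fun i => match i with | ⟨true⟩ => x | ⟨false⟩ => 0)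
  exact ⟨s, congrFun hs ⟨true⟩, congrFun hs ⟨false⟩⟩

end Groth.Agent.Hopf35.ClopenGlue
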