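import Mathlib

/-!
Semisimple parts and Zariski closures of conjugation orbits of matrices.
-/

universe u

open Matrix

namespace Groth.Agent.Hopf35.ConjClosure

variable {k : Type u} [Field k] {n : ℕ}

/-- `C` lies in the Zariski closure of the conjugation orbit of `B`. -/
def InClosure (B C : Matrix (Fin n) (Fin n) k) : Prop :=
  ∀ F : MvPolynomial (Fin n × Fin n) k,
    (∀ A : Matrix (Fin n) (Fin n) k, IsUnit A.det →
      MvPolynomial.eval (fun p => (A * B * A⁻¹) p.1 p.2) F = 0) →
    MvPolynomial.eval (fun p => C p.1 p.2) F = 0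

theorem eval_transform (G H : Matrix (Fin n) (Fin n) k) (F : MvPolynomial (Fin n × Fin n) k)
    (X : Matrix (Fin n) (Fin n) k) :
    MvPolynomial.eval (fun p => X p.1 p.2)
      (MvPolynomial.aeval (fun p : Fin n × Fin n =>
        ∑ a, ∑ b, MvPolynomial.C (G p.1 a * H b p.2) * MvPolynomial.X (a, b)) F) =
      MvPolynomial.eval (fun p => (G * X * H) p.1 p.2) F := by
  induction F using MvPolynomial.induction_on with
  | C a => simp
  | add f g hf hg => simp only [map_add, hf, hg]
  | mul_X f p hf =>
    rw [map_mul, map_mul, map_mul, hf, MvPolynomial.aeval_X, MvPolynomial.eval_X]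
    congr 1
    simp only [map_sum, map_mul, MvPolynomial.eval_C, MvPolynomial.eval_X, Matrix.mul_apply, Finset.sum_mul]
    rw [Finset.sum_comm]
    exact Finset.sum_congr rfl fun b _ => Finset.sum_congr rfl fun a _ => by ring

theorem refl (B : Matrix (Fin n) (Fin n) k) : InClosure B B := fun F hF => by
  simpa using hF 1 (by simp)

theorem conj {B C : Matrix (Fin n) (Fin n) k} (h : InClosure B C) {G : Matrix (Fin n) (Fin n) k}
    (hG : IsUnit G.det) : InClosure B (G * C * G⁻¹) := by
  intro F hF
  rw [← eval_transform G G⁻¹ F C]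
  refine h _ fun A hA => ?_
  rw [eval_transform]
  have : IsUnit (G * A).det := by rw [Matrix.det_mul]; exact hG.mul hA
  simpa [Matrix.mul_inv_rev, Matrix.mul_assoc] using hF (G * A) this

theorem trans {B C D : Matrix (Fin n) (Fin n) k} (h : InClosure B C) (h' : InClosure C D) : InClosure B D :=
  fun F hF => h' F fun _ hA => conj h hA F hF

theorem line [Infinite k] {B X Y : Matrix (Fin n) (Fin n) k}
    (h : ∀ t : k, t ≠ 0 → InClosure B (X + t • Y)) : InClosure B X := by
  intro F hF
  let G : Polynomial k := MvPolynomial.eval₂ Polynomial.C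
    (fun p => Polynomial.C (X p.1 p.2) + Polynomial.C (Y p.1 p.2) * Polynomial.X) F
  have hG : ∀ t : k, G.eval t = MvPolynomial.eval (fun p => (X + t • Y) p.1 p.2) F := by
    intro t
    simp only [G]
    rw [← Polynomial.coe_evalRingHom, MvPolynomial.eval₂_comp_left, ← MvPolynomial.eval₂_id]
    congr 1
    · ext a; simp
    · funext p; simp [Matrix.add_apply, Matrix.smul_apply]; ring
  have hG0 : G = 0 := by
    refine Polynomial.eq_zero_of_infinite_isRoot G ?_
    refine (Set.Infinite.diff (Set.infinite_univ (α := k)) (Set.finite_singleton (0 : k))).mono fun t ht => ?_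
    show G.eval t = 0
    rw [hG]
    exact h t (by simpa using ht) F hF
  have := hG 0
  rw [hG0, Polynomial.eval_zero, zero_smul, add_zero] at this
  exact this.symm

theorem semisimplePart_mem [IsAlgClosed k] :
    ∀ (m : ℕ) (S N : Matrix (Fin n) (Fin n) k), Module.End.IsSemisimple (Matrix.toLin' S) →
      Commute S N → N ^ m = 0 → InClosure (S + N) S := by
  intro m
  induction m with
  | zero =>
    intro S N _ _ h
    rw [pow_zero] at h
    haveI : Subsingleton (Matrix (Fin n) (Fin n) k) := subsingleton_of_zero_eq_one h.symm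
    rw [Subsingleton.elim (S + N) S]
    exact refl S
  | succ m ih =>
    intro S N hS hSN hN
    by_cases hN0 : N = 0
    · rw [hN0, add_zero]; exact refl S
    have hinv : LinearMap.ker (Matrix.toLin' N) ∈ Module.End.invtSubmodule (Matrix.toLin' S) := by
      rw [Module.End.mem_invtSubmodule]
      intro x hx
      rw [Submodule.mem_comap, LinearMap.mem_ker, ← LinearMap.comp_apply, ← Matrix.toLin'_mul, ← hSN.eq,
        Matrix.toLin'_mul, LinearMap.comp_apply, LinearMap.mem_ker.1 hx, map_zero]
    obtain ⟨q, hq, hc⟩ := Module.End.isSemisimple_iff.1 hS _ hinv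
    let e : Matrix (Fin n) (Fin n) k := LinearMap.toMatrix' ((LinearMap.ker (Matrix.toLin' N)).projection q hc)
    have heN : N * e = 0 := by
      apply Matrix.toLin'.injective
      rw [Matrix.toLin'_mul, map_zero, Matrix.toLin'_toMatrix']
      refine LinearMap.ext fun x => ?_
      exact LinearMap.mem_ker.1 (Submodule.projection_apply_mem hc x)
    have hee : e * e = e := by
      rw [← LinearMap.toMatrix'_comp]
      congr 1
      refine LinearMap.ext fun x => ?_
      exact Submodule.projection_apply_left hc ⟨_, Submodule.projection_apply_mem hc x⟩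
    have hid : ∀ x ∈ LinearMap.ker (Matrix.toLin' N), ((LinearMap.ker (Matrix.toLin' N)).projection q hc) x = x := fun x hx =>
      Submodule.projection_apply_left hc ⟨x, hx⟩
    have heS : Commute e S := by
      apply Matrix.toLin'.injective
      rw [Matrix.toLin'_mul, Matrix.toLin'_mul, Matrix.toLin'_toMatrix']
      refine LinearMap.ext fun x => ?_
      obtain ⟨a, ha, b, hb, rfl⟩ : ∃ a ∈ LinearMap.ker (Matrix.toLin' N), ∃ b ∈ q, a + b = x :=
        Submodule.mem_sup.1 (hc.sup_eq_top ▸ Submodule.mem_top)
      simp only [LinearMap.comp_apply, map_add, hid a ha, hid _ (hinv ha),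
        (Submodule.projection_apply_eq_zero_iff hc).2 hb, (Submodule.projection_apply_eq_zero_iff hc).2 (hq hb), map_zero]
    set f := 1 - e with hf
    have hff : f * f = f := by simp [hf, sub_mul, mul_sub, hee]
    have hef : e * f = 0 := by rw [hf, mul_sub, mul_one, hee, sub_self]
    have hfe : f * e = 0 := by rw [hf, sub_mul, one_mul, hee, sub_self]
    have hNf : N * f = N := by rw [hf, mul_sub, mul_one, heN, sub_zero]
    let N' := f * N
    have hN' : ∀ j : ℕ, N' ^ (j + 1) = f * N ^ (j + 1) := by
      intro j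
      induction j with
      | zero => simp [N']
      | succ j hj =>
        rw [pow_succ N' (j + 1), hj, show f * N ^ (j + 1) * (f * N) = f * (N ^ (j + 1) * f) * N by simp only [mul_assoc]]
        rw [pow_succ N j, mul_assoc (N ^ j), hNf, ← pow_succ, mul_assoc, ← pow_succ]
    have hstep : InClosure (S + N) (S + N') := by
      refine line (Y := e * N) fun t ht => ?_
      let h : Matrix (Fin n) (Fin n) k := t • e + f
      let g : Matrix (Fin n) (Fin n) k := t⁻¹ • e + f
      have hhg : h * g = 1 := by
        simp only [h, g, mul_add, add_mul, smul_mul_assoc, mul_smul_comm, smul_smul, hee, hef, hfe, hff,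
          smul_zero, add_zero, zero_add, inv_mul_cancel₀ ht, one_smul]
        rw [hf, add_sub_cancel]
      have hdet : IsUnit h.det := by
        refine IsUnit.of_mul_eq_one g.det ?_
        rw [← Matrix.det_mul, hhg, Matrix.det_one]
      have he : S + N' + t • (e * N) = h * (S + N) * h⁻¹ := by
        rw [Matrix.inv_eq_right_inv hhg]
        have hhS : h * S * g = S := by
          have hc' : Commute h S := ((heS.smul_left t).add_left ((Commute.one_left S).sub_left heS))
          rw [hc'.eq, mul_assoc, hhg, mul_one]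
        have hhN : h * N * g = N' + t • (e * N) := by
          simp only [h, g, N', mul_add, add_mul, smul_mul_assoc, mul_smul_comm, mul_assoc, heN, hNf,
            mul_zero, smul_zero, zero_add]
          abel
        rw [mul_add h, add_mul _ _ g, hhS, hhN, add_assoc]
      rw [he]
      exact conj (refl _) hdet
    refine trans hstep (ih S N' hS ?_ ?_)
    · exact ((Commute.one_right S).sub_right heS.symm).mul_right hSN
    · cases m with
      | zero =>
        rw [pow_one] at hN
        exact absurd hN hN0
      | succ j =>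
        rw [hN' j]
        have hk : ∀ x, ((LinearMap.ker (Matrix.toLin' N)).projection q hc) (Matrix.toLin' (N ^ (j + 1)) x) = Matrix.toLin' (N ^ (j + 1)) x := fun x =>
          hid _ (by rw [LinearMap.mem_ker, ← LinearMap.comp_apply, ← Matrix.toLin'_mul, ← pow_succ', hN]; simp)
        have : e * N ^ (j + 1) = N ^ (j + 1) := by
          apply Matrix.toLin'.injective
          rw [Matrix.toLin'_mul, Matrix.toLin'_toMatrix']
          exact LinearMap.ext hk
        rw [hf, sub_mul, one_mul, this, sub_self]

theorem inClosure_of_nilpotent [IsAlgClosed k] {S N : Matrix (Fin n) (Fin n) k}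
    (hS : Module.End.IsSemisimple (Matrix.toLin' S)) (hN : IsNilpotent N) (hSN : Commute S N) :
    InClosure (S + N) S := by
  obtain ⟨m, hm⟩ := hN
  exact semisimplePart_mem m S N hS hSN hm

theorem exists_diag [IsAlgClosed k] {S : Matrix (Fin n) (Fin n) k}
    (hS : Module.End.IsSemisimple (Matrix.toLin' S)) :
    ∃ (A : Matrix (Fin n) (Fin n) k) (d : Fin n → k), IsUnit A.det ∧ A * S * A⁻¹ = Matrix.diagonal d := by
  classical
  have hint : DirectSum.IsInternal fun μ : k => Module.End.eigenspace (Matrix.toLin' S) μ :=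
    (DirectSum.isInternal_submodule_iff_iSupIndep_and_iSup_eq_top _).2
      ⟨Module.End.eigenspaces_iSupIndep _, hS.iSup_eigenspace_eq_top⟩
  let bs := hint.collectedBasis fun μ => Module.Free.chooseBasis k (Module.End.eigenspace (Matrix.toLin' S) μ)
  haveI := FiniteDimensional.fintypeBasisIndex bs
  let σ := Fintype.equivFinOfCardEq (show Fintype.card _ = n by rw [← Module.finrank_eq_card_basis bs]; simp)
  let b := bs.reindex σ
  let d : Fin n → k := fun i => (σ.symm i).1
  have hb : ∀ i, Matrix.toLin' S (b i) = d i • b i := fun i => by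
    rw [Module.Basis.reindex_apply]
    exact Module.End.mem_eigenspace_iff.1 (hint.collectedBasis_mem _ _)
  let std := Pi.basisFun k (Fin n)
  refine ⟨b.toMatrix std, d, ?_, ?_⟩
  · exact Matrix.isUnit_det_of_left_inverse (B := std.toMatrix b) (Module.Basis.toMatrix_mul_toMatrix_flip std b)
  · rw [Matrix.inv_eq_right_inv (Module.Basis.toMatrix_mul_toMatrix_flip b std),
      show S = LinearMap.toMatrix std std (Matrix.toLin' S) by
        rw [LinearMap.toMatrix_eq_toMatrix', LinearMap.toMatrix'_toLin'],
      basis_toMatrix_mul_linearMap_toMatrix_mul_basis_toMatrix]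
    ext i j
    rw [LinearMap.toMatrix_apply, hb, map_smul, Module.Basis.repr_self]
    by_cases h : i = j
    · subst h; simp
    · simp [h, Ne.symm h]

theorem conj_of_charpoly_eq [IsAlgClosed k] {S T : Matrix (Fin n) (Fin n) k}
    (hS : Module.End.IsSemisimple (Matrix.toLin' S)) (hT : Module.End.IsSemisimple (Matrix.toLin' T))
    (h : S.charpoly = T.charpoly) : ∃ A : Matrix (Fin n) (Fin n) k, IsUnit A.det ∧ A * S * A⁻¹ = T := by
  classical
  obtain ⟨A, d, hA, hd⟩ := exists_diag hS
  obtain ⟨B, e, hB, he⟩ := exists_diag hT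
  have hcp : ∀ {U : Matrix (Fin n) (Fin n) k} (_ : IsUnit U.det) (X : Matrix (Fin n) (Fin n) k),
      (U * X * U⁻¹).charpoly = X.charpoly := fun {U} hU X => by
    rw [Matrix.charpoly_mul_comm, ← mul_assoc, Matrix.nonsing_inv_mul _ hU, one_mul]
  have hpoly : (Matrix.diagonal d).charpoly = (Matrix.diagonal e).charpoly := by
    rw [← hd, ← he, hcp hA, hcp hB, h]
  have hms : (Finset.univ : Finset (Fin n)).val.map d = (Finset.univ : Finset (Fin n)).val.map e := by
    have := congrArg Polynomial.roots hpoly
    simpa [Matrix.charpoly_diagonal, Polynomial.roots_prod, Finset.prod_ne_zero_iff, Polynomial.X_sub_C_ne_zero,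
      Multiset.bind_singleton] using this
  have hfib : ∀ c, Fintype.card {i // d i = c} = Fintype.card {i // e i = c} := by
    intro c
    have := congrArg (Multiset.count c) hms
    rw [Multiset.count_map, Multiset.count_map] at this
    simp only [Fintype.card_subtype, Finset.card_def, Finset.filter_val]
    simpa [eq_comm] using this
  let π : Equiv.Perm (Fin n) := Equiv.ofFiberEquiv (f := e) (g := d) fun c => Fintype.equivOfCardEq (hfib c).symm
  have hπ : ∀ i, d (π i) = e i := fun i => Equiv.ofFiberEquiv_map _ i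
  let P : Matrix (Fin n) (Fin n) k := (1 : Matrix (Fin n) (Fin n) k).submatrix π id
  have hP : P * (1 : Matrix (Fin n) (Fin n) k).submatrix id π = 1 := by
    ext i j; simp [P, Matrix.mul_apply, Matrix.one_apply]
  have hPd : P * Matrix.diagonal d * P⁻¹ = Matrix.diagonal e := by
    rw [Matrix.inv_eq_right_inv hP]
    ext i j
    simp [P, Matrix.mul_apply, Matrix.one_apply, Matrix.diagonal_apply, hπ]
    split_ifs with h <;> simp [h]
  refine ⟨B⁻¹ * P * A, ?_, ?_⟩
  · rw [Matrix.det_mul, Matrix.det_mul]
    exact ((Matrix.isUnit_nonsing_inv_det _ hB).mul (Matrix.isUnit_det_of_right_inverse hP)).mul hA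
  · calc B⁻¹ * P * A * S * (B⁻¹ * P * A)⁻¹ = B⁻¹ * (P * (A * S * A⁻¹) * P⁻¹) * B := by
          rw [Matrix.mul_inv_rev, Matrix.mul_inv_rev, Matrix.nonsing_inv_nonsing_inv _ hB]
          simp only [Matrix.mul_assoc]
      _ = B⁻¹ * (B * T * B⁻¹) * B := by rw [hd, hPd, he]
      _ = T := by
          simp only [Matrix.mul_assoc, Matrix.nonsing_inv_mul _ hB, mul_one]
          rw [← Matrix.mul_assoc, Matrix.nonsing_inv_mul _ hB, one_mul]

theorem charpoly_eq_of_inClosure {B C : Matrix (Fin n) (Fin n) k} (h : InClosure B C) : C.charpoly = B.charpoly := by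
  ext i
  let X : Matrix (Fin n) (Fin n) (MvPolynomial (Fin n × Fin n) k) := Matrix.of fun a b => MvPolynomial.X (a, b)
  have he : ∀ Y : Matrix (Fin n) (Fin n) k,
      MvPolynomial.eval (fun p => Y p.1 p.2) (X.charpoly.coeff i - MvPolynomial.C (B.charpoly.coeff i)) =
        Y.charpoly.coeff i - B.charpoly.coeff i := fun Y => by
    rw [map_sub, MvPolynomial.eval_C, ← Polynomial.coeff_map, ← Matrix.charpoly_map]
    congr 3
    ext a b
    simp [X]
  have := h (X.charpoly.coeff i - MvPolynomial.C (B.charpoly.coeff i)) fun A hA => by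
    rw [he, Matrix.charpoly_mul_comm, ← mul_assoc, Matrix.nonsing_inv_mul _ hA, one_mul, sub_self]
  rw [he, sub_eq_zero] at this
  exact this

theorem meet_iff [IsAlgClosed k] {S₁ N₁ S₂ N₂ : Matrix (Fin n) (Fin n) k}
    (hS₁ : Module.End.IsSemisimple (Matrix.toLin' S₁)) (hN₁ : IsNilpotent N₁) (hc₁ : Commute S₁ N₁)
    (hS₂ : Module.End.IsSemisimple (Matrix.toLin' S₂)) (hN₂ : IsNilpotent N₂) (hc₂ : Commute S₂ N₂) :
    (∃ C, InClosure (S₁ + N₁) C ∧ InClosure (S₂ + N₂) C) ↔
      ∃ A : Matrix (Fin n) (Fin n) k, IsUnit A.det ∧ A * S₁ * A⁻¹ = S₂ := by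
  constructor
  · rintro ⟨C, h₁, h₂⟩
    refine conj_of_charpoly_eq hS₁ hS₂ ?_
    rw [charpoly_eq_of_inClosure (inClosure_of_nilpotent hS₁ hN₁ hc₁),
      charpoly_eq_of_inClosure (inClosure_of_nilpotent hS₂ hN₂ hc₂), ← charpoly_eq_of_inClosure h₁,
      charpoly_eq_of_inClosure h₂]
  · rintro ⟨A, hA, rfl⟩
    exact ⟨_, conj (inClosure_of_nilpotent hS₁ hN₁ hc₁) hA, inClosure_of_nilpotent hS₂ hN₂ hc₂⟩

end Groth.Agent.Hopf35.ConjClosure
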