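import Mathlib

/-!
helper35: content ideals in projective modules, and universal injectivity from injectivity modulo maximal ideals.
-/

set_option autoImplicit false
set_option linter.style.haveILetI false

universe u

open TensorProduct

namespace Groth.Agent.Hopf35.ContentInj

variable {A : Type u} [CommRing A] {N M : Type u} [AddCommGroup N] [Module A N] [AddCommGroup M] [Module A M]

/-- Elements of a projective module have content ideals, which are finitely generated. -/
theorem exists_content [Module.Projective A N] (x : N) :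
    ∃ I : Ideal A, I.FG ∧ x ∈ I • (⊤ : Submodule A N) ∧
      ∀ J : Ideal A, x ∈ J • (⊤ : Submodule A N) → I ≤ J := by
  classical
  obtain ⟨s, hs⟩ := Module.projective_def'.1 (inferInstance : Module.Projective A N)
  refine ⟨Ideal.span ((s x).support.image (s x) : Set A), ⟨_, rfl⟩, ?_, fun J hJ => ?_⟩
  · have h : Finsupp.linearCombination A id (s x) = x := LinearMap.congr_fun hs x
    suffices hs' : Finsupp.linearCombination A id (s x) ∈
        Ideal.span ((s x).support.image (s x) : Set A) • (⊤ : Submodule A N) by rwa [h] at hs'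
    rw [Finsupp.linearCombination_apply]
    refine Submodule.finsuppSum_mem _ _ _ _ fun i hi => ?_
    replace hi : i ∈ (s x).support := Finsupp.mem_support_iff.2 hi
    exact Submodule.smul_mem_smul (Ideal.subset_span (Finset.mem_image_of_mem _ hi)) (Submodule.mem_top (x := i))
  · rw [Ideal.span_le]
    rintro _ ha
    obtain ⟨i, -, rfl⟩ := Finset.mem_image.1 ha
    have h := Submodule.mem_map_of_mem (f := (Finsupp.lapply i).comp s) hJ
    rw [Submodule.map_smul''] at h
    exact Submodule.smul_le.2 (fun r hr n _ => Ideal.mul_mem_right _ _ hr) h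

theorem one_tmul_eq_zero_iff (J : Ideal A) (n : N) :
    (1 : A ⧸ J) ⊗ₜ[A] n = 0 ↔ n ∈ J • (⊤ : Submodule A N) := by
  rw [← (quotTensorEquivQuotSMul N J).map_eq_zero_iff, quotTensorEquivQuotSMul_mk_one_tmul,
    Submodule.Quotient.mk_eq_zero]

theorem mem_smul_iff_of_univInj {g : N →ₗ[A] M} (hg : ∀ (Q : Type u) [AddCommGroup Q] [Module A Q], Function.Injective (g.lTensor Q))
    (J : Ideal A) (n : N) : g n ∈ J • (⊤ : Submodule A M) ↔ n ∈ J • (⊤ : Submodule A N) := by
  rw [← one_tmul_eq_zero_iff, ← one_tmul_eq_zero_iff, ← map_eq_zero_iff _ (hg (A ⧸ J)) (x := (1 : A ⧸ J) ⊗ₜ[A] n),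
    LinearMap.lTensor_tmul]

/-- A module killed by a maximal ideal sees injectivity modulo that ideal. -/
theorem injective_lTensor_of_killed (m : Ideal A) [m.IsMaximal] (u : N →ₗ[A] M)
    (hu : Function.Injective (u.lTensor (A ⧸ m))) (V : Type u) [AddCommGroup V] [Module A V]
    (hV : Module.IsTorsionBySet A V m) : Function.Injective (u.lTensor V) := by
  letI := Ideal.Quotient.field m
  letI : Module (A ⧸ m) V := hV.module
  haveI : IsScalarTower A (A ⧸ m) V := hV.isScalarTower
  let e₁ := AlgebraTensorModule.cancelBaseChange A (A ⧸ m) (A ⧸ m) V N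
  let e₂ := AlgebraTensorModule.cancelBaseChange A (A ⧸ m) (A ⧸ m) V M
  have hc : ∀ z, e₂ ((u.baseChange (A ⧸ m)).lTensor V z) = u.lTensor V (e₁ z) := by
    intro z
    induction z using TensorProduct.induction_on with
    | zero => simp
    | add a b ha hb => simp only [map_add, ha, hb]
    | tmul v w =>
      induction w using TensorProduct.induction_on with
      | zero => simp
      | add a b ha hb => simp only [tmul_add, map_add, ha, hb]
      | tmul c n => simp [e₁, e₂]
  have hinj : Function.Injective ((u.baseChange (A ⧸ m)).lTensor V) :=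
    Module.Flat.lTensor_preserves_injective_linearMap (M := V) _
      (by rw [LinearMap.baseChange_eq_ltensor]; exact hu)
  intro a b hab
  obtain ⟨a, rfl⟩ := e₁.surjective a
  obtain ⟨b, rfl⟩ := e₁.surjective b
  rw [← hc, ← hc] at hab
  rw [hinj (e₂.injective hab)]

theorem exists_isMaximal_not_le (I J : Ideal A) (hI : I.FG) (h : ¬ I ≤ J) :
    ∃ m : Ideal A, m.IsMaximal ∧ ¬ I ≤ m * I ⊔ J := by
  by_contra hc
  push Not at hc
  have htop : J.colon (I : Set A) = ⊤ := by
    by_contra hne
    obtain ⟨m, hm, hle⟩ := Ideal.exists_le_maximal _ hne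
    have hin : Submodule.map J.mkQ I ≤ m • Submodule.map J.mkQ I := by
      rw [← Submodule.map_smul'']
      rintro _ ⟨i, hi, rfl⟩
      obtain ⟨a, ha, b, hb, rfl⟩ := Submodule.mem_sup.1 (hc m hm hi)
      exact ⟨a, ha, (Submodule.Quotient.eq J).2 (by simpa using J.neg_mem hb)⟩
    obtain ⟨r, hr, hr0⟩ := Submodule.exists_sub_one_mem_and_smul_eq_zero_of_fg_of_le_smul m
      (Submodule.map J.mkQ I) (Submodule.FG.map _ hI) hin
    have : r ∈ J.colon (I : Set A) := Submodule.mem_colon.2 fun i hi => by
      have h1 := hr0 _ ⟨i, hi, rfl⟩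
      rwa [← map_smul, Submodule.mkQ_apply, Submodule.Quotient.mk_eq_zero] at h1
    have h2 := m.sub_mem (hle this) hr
    rw [sub_sub_cancel] at h2
    exact hm.ne_top ((Ideal.eq_top_iff_one m).2 h2)
  refine h fun i hi => ?_
  have := Submodule.mem_colon.1 ((Ideal.eq_top_iff_one _).1 htop) i hi
  simpa using this

theorem mem_smul_of_map_mem (hc : ∀ x : N, ∃ I : Ideal A, I.FG ∧ x ∈ I • (⊤ : Submodule A N) ∧
      ∀ J : Ideal A, x ∈ J • (⊤ : Submodule A N) → I ≤ J)
    [Module.Flat A M] (u : N →ₗ[A] M)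
    (hu : ∀ (m : Ideal A) [m.IsMaximal], Function.Injective (u.lTensor (A ⧸ m))) (J : Ideal A) (x : N)
    (hx : u x ∈ J • (⊤ : Submodule A M)) : x ∈ J • (⊤ : Submodule A N) := by
  obtain ⟨I, hI, hxI, hmin⟩ := hc x
  by_contra hxJ
  have hIJ : ¬ I ≤ J := fun h => hxJ (Submodule.smul_mono h le_rfl hxI)
  obtain ⟨m, hm, hnle⟩ := exists_isMaximal_not_le I J hI hIJ
  haveI := hm
  refine hnle (hmin _ ?_)
  let W : Ideal A := m * I ⊔ J
  let L : Ideal A := I ⊔ J
  let V : Submodule A (A ⧸ W) := Submodule.map W.mkQ L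
  have hV : Module.IsTorsionBySet A V m := by
    rintro ⟨_, l, hl, rfl⟩ ⟨a, ha⟩
    apply Subtype.ext
    show a • W.mkQ l = 0
    rw [← map_smul, Submodule.mkQ_apply, Submodule.Quotient.mk_eq_zero]
    obtain ⟨i, hi, j, hj, rfl⟩ := Submodule.mem_sup.1 hl
    rw [smul_add]
    exact add_mem (Ideal.mem_sup_left (Ideal.mul_mem_mul ha hi)) (Ideal.mem_sup_right (J.mul_mem_left a hj))
  let ρ : L →ₗ[A] V := (W.mkQ.comp L.subtype).codRestrict V fun l => ⟨l.1, l.2, rfl⟩
  obtain ⟨ξ, hξ⟩ : ∃ ξ : L ⊗[A] N, TensorProduct.lid A N (L.subtype.rTensor N ξ) = x := by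
    refine Submodule.smul_induction_on (p := fun x => ∃ ξ : L ⊗[A] N, TensorProduct.lid A N (L.subtype.rTensor N ξ) = x)
      hxI (fun i hi n _ => ⟨⟨i, Ideal.mem_sup_left hi⟩ ⊗ₜ n, by simp⟩) ?_
    rintro a b ⟨ξ, rfl⟩ ⟨η, rfl⟩
    exact ⟨ξ + η, by simp⟩
  have hxw : (V.subtype.rTensor N) (ρ.rTensor N ξ) = (1 : A ⧸ W) ⊗ₜ[A] x := by
    rw [← hξ]
    clear hξ
    induction ξ using TensorProduct.induction_on with
    | zero => simp
    | add a b ha hb => simp only [map_add, tmul_add, ha, hb]
    | tmul l n =>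
      have h1 : V.subtype (ρ l) = (l : A) • (1 : A ⧸ W) := by
        show W.mkQ (l : A) = (l : A) • W.mkQ 1
        rw [← map_smul, smul_eq_mul, mul_one]
      simp only [LinearMap.rTensor_tmul, h1, TensorProduct.lid_tmul, Submodule.subtype_apply, smul_tmul]
  have h2 : (V.subtype.rTensor M) (u.lTensor V (ρ.rTensor N ξ)) = (1 : A ⧸ W) ⊗ₜ[A] u x := by
    rw [← LinearMap.comp_apply, LinearMap.rTensor_comp_lTensor, ← LinearMap.lTensor_comp_rTensor,
      LinearMap.comp_apply, hxw, LinearMap.lTensor_tmul]
  rw [(one_tmul_eq_zero_iff W (u x)).2 (Submodule.smul_mono le_sup_right le_rfl hx)] at h2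
  have h3 : ρ.rTensor N ξ = 0 := injective_lTensor_of_killed m u (hu m) V hV
    (((Module.Flat.rTensor_preserves_injective_linearMap V.subtype V.subtype_injective)
      (h2.trans (map_zero _).symm)).trans (map_zero _).symm)
  rw [h3, map_zero] at hxw
  exact (one_tmul_eq_zero_iff W x).1 hxw.symm

theorem univInj_of_mod_maximal (hc : ∀ x : N, ∃ I : Ideal A, I.FG ∧ x ∈ I • (⊤ : Submodule A N) ∧
      ∀ J : Ideal A, x ∈ J • (⊤ : Submodule A N) → I ≤ J)
    [Module.Flat A M] (u : N →ₗ[A] M)
    (hu : ∀ (m : Ideal A) [m.IsMaximal], Function.Injective (u.lTensor (A ⧸ m)))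
    (Q : Type u) [AddCommGroup Q] [Module A Q] : Function.Injective (u.lTensor Q) := by
  have hinj : Function.Injective u := (injective_iff_map_eq_zero u).2 fun x hx => by
    have h := mem_smul_of_map_mem hc u hu ⊥ x (hx ▸ zero_mem _)
    rwa [Submodule.bot_smul, Submodule.mem_bot] at h
  let π := (LinearMap.range u).mkQ
  haveI : Module.Flat A (M ⧸ LinearMap.range u) := by
    refine Module.Flat.iff_rTensor_injective.2 fun J _ => (injective_iff_map_eq_zero _).2 fun z hz => ?_
    obtain ⟨w, rfl⟩ := LinearMap.lTensor_surjective J (g := π) (Submodule.mkQ_surjective _) z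
    let θN := (TensorProduct.lid A N).toLinearMap.comp (J.subtype.rTensor N)
    let θM := (TensorProduct.lid A M).toLinearMap.comp (J.subtype.rTensor M)
    have hnat : ∀ w', θM (u.lTensor J w') = u (θN w') := by
      intro w'
      induction w' using TensorProduct.induction_on with
      | zero => simp
      | add a b ha hb => simp only [map_add, ha, hb]
      | tmul j n => simp [θN, θM]
    have hπ : π (θM w) = 0 := by
      have h1 : TensorProduct.lid A (M ⧸ LinearMap.range u) (J.subtype.rTensor _ (π.lTensor J w)) = π (θM w) := by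
        clear hz
        induction w using TensorProduct.induction_on with
        | zero => simp
        | add a b ha hb => simp only [map_add, ha, hb]
        | tmul j n => simp [θM, π]
      rw [← h1, hz, map_zero]
    rw [Submodule.mkQ_apply, Submodule.Quotient.mk_eq_zero] at hπ
    obtain ⟨x, hx⟩ := hπ
    have hxJ : u x ∈ J • (⊤ : Submodule A M) := by
      rw [hx]
      clear hz hx
      induction w using TensorProduct.induction_on with
      | zero => simp
      | add a b ha hb => rw [map_add]; exact add_mem ha hb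
      | tmul j n =>
        rw [show θM (j ⊗ₜ n) = (j : A) • n by simp [θM]]
        exact Submodule.smul_mem_smul j.2 Submodule.mem_top
    obtain ⟨w', hw'⟩ : ∃ w', θN w' = x := by
      refine Submodule.smul_induction_on (p := fun x => ∃ w', θN w' = x) (mem_smul_of_map_mem hc u hu J x hxJ)
        (fun j hj n _ => ⟨(⟨j, hj⟩ : J) ⊗ₜ n, by simp [θN]⟩) ?_
      rintro a b ⟨ξ, rfl⟩ ⟨η, rfl⟩
      exact ⟨ξ + η, map_add _ _ _⟩
    have hw : w = u.lTensor J w' :=
      ((TensorProduct.lid A M).injective.comp
        (Module.Flat.rTensor_preserves_injective_linearMap J.subtype J.subtype_injective))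
        (show θM w = θM (u.lTensor J w') by rw [hnat, hw', hx])
    rw [hw, ← LinearMap.lTensor_comp_apply, show π.comp u = 0 from LinearMap.ext fun y =>
      (Submodule.Quotient.mk_eq_zero _).2 ⟨y, rfl⟩, LinearMap.lTensor_zero, LinearMap.zero_apply]
  exact LinearMap.lTensor_injective_of_exact_of_flat π (Submodule.mkQ_surjective _) u hinj
    (LinearMap.exact_map_mkQ_range u) Q

end Groth.Agent.Hopf35.ContentInj
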