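import Groth.Agent.Hopf35.MuLimit
import Mathlib

/-!
The numerical function of a diagonalisable group acting linearly: maximum of linear functionals.
-/

universe u v w

open TensorProduct LaurentPolynomial

namespace Groth.Agent.Hopf35.DiagMu

variable {k : Type u} [Field k] {A : Type v} [CommRing A] [Bialgebra k A]

theorem counit_orbitHom {R : Type*} [CommRing R] [Algebra k R] [HopfRep.Comod k A R] [GLin.IsCoactAlg k A R]
    (x : R →ₐ[k] k) (f : R) : Coalgebra.counit (R := k) (GLin.orbitHom k A x f) = x f := by
  show Coalgebra.counit (R := k) ((Algebra.TensorProduct.lid k A)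
    (Algebra.TensorProduct.map x (AlgHom.id k A) (HopfRep.Comod.coact (k := k) (A := A) f))) = x f
  have h := LinearMap.congr_fun (HopfRep.Comod.counit_comp (k := k) (A := A) (V := R)) f
  simp only [LinearMap.comp_apply, LinearMap.flip_apply, TensorProduct.mk_apply] at h
  have h' := congrArg (fun z => TensorProduct.lid k k (x.toLinearMap.rTensor k z)) h
  simp only [LinearMap.rTensor_tmul, TensorProduct.lid_tmul, smul_eq_mul, mul_one, AlgHom.toLinearMap_apply] at h'
  rw [← h']
  induction HopfRep.Comod.coact (k := k) (A := A) f using TensorProduct.induction_on with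
  | zero => simp
  | tmul a b => simp
  | add a b ha hb => simp only [map_add, ha, hb]

variable {V : Type w} [AddCommGroup V] [Module k V] [HopfRep.Comod k A V]
  (b : Module.Basis {a : A // IsGroupLikeElem k a} k A)

/-- the projection onto eigenvectors of a group-like element -/
noncomputable def pr (g : {a : A // IsGroupLikeElem k a}) : V →ₗ[k] V :=
  (TensorProduct.rid k V).toLinearMap ∘ₗ (b.coord g).lTensor V ∘ₗ HopfRep.Comod.coact (k := k) (A := A)

theorem coact_pr (hb : ∀ g, b g = g.1) (g : {a : A // IsGroupLikeElem k a}) (r : V) :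
    HopfRep.Comod.coact (k := k) (A := A) (pr b g r) = pr b g r ⊗ₜ[k] g.1 := by
  classical
  let G : V ⊗[k] (A ⊗[k] A) →ₗ[k] V ⊗[k] A := ((TensorProduct.rid k _).toLinearMap ∘ₗ (b.coord g).lTensor A).lTensor V
  have h1 : ∀ z : V ⊗[k] A, G (TensorProduct.assoc k V A A ((HopfRep.Comod.coact (k := k) (A := A)).rTensor A z)) =
      HopfRep.Comod.coact (k := k) (A := A) ((TensorProduct.rid k V) ((b.coord g).lTensor V z)) := by
    intro z
    induction z using TensorProduct.induction_on with
    | zero => simp
    | add p q hp hq => simp only [map_add, hp, hq]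
    | tmul p a =>
      simp only [LinearMap.rTensor_tmul, LinearMap.lTensor_tmul, TensorProduct.rid_tmul, map_smul]
      induction HopfRep.Comod.coact (k := k) (A := A) p using TensorProduct.induction_on with
      | zero => simp
      | add s t hs ht => simp only [TensorProduct.add_tmul, map_add, hs, ht, smul_add]
      | tmul s t => simp [G, TensorProduct.smul_tmul']
  have h2 : ((TensorProduct.rid k A).toLinearMap ∘ₗ (b.coord g).lTensor A) ∘ₗ Coalgebra.comul (R := k) (A := A) =
      (b.coord g).smulRight g.1 := by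
    refine b.ext fun g' => ?_
    rw [LinearMap.comp_apply, LinearMap.smulRight_apply, hb, g'.2.comul_eq_tmul_self, LinearMap.comp_apply,
      LinearEquiv.coe_coe, LinearMap.lTensor_tmul, TensorProduct.rid_tmul, ← hb g', Module.Basis.coord_apply,
      Module.Basis.repr_self, Finsupp.single_apply]
    split_ifs with h
    · subst h; rw [hb]
    · simp
  have hco := congrArg G (LinearMap.congr_fun (HopfRep.Comod.coassoc (k := k) (A := A) (V := V)) r)
  simp only [LinearMap.comp_apply, LinearEquiv.coe_coe] at hco
  rw [h1] at hco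
  show HopfRep.Comod.coact (k := k) (A := A)
    ((TensorProduct.rid k V) ((b.coord g).lTensor V (HopfRep.Comod.coact (k := k) (A := A) r))) =
    ((TensorProduct.rid k V) ((b.coord g).lTensor V (HopfRep.Comod.coact (k := k) (A := A) r))) ⊗ₜ[k] g.1
  rw [hco, ← LinearMap.comp_apply, ← LinearMap.lTensor_comp, h2]
  induction HopfRep.Comod.coact (k := k) (A := A) r using TensorProduct.induction_on with
  | zero => simp
  | add p q hp hq => simp only [map_add, TensorProduct.add_tmul, hp, hq]
  | tmul p a => simp [TensorProduct.smul_tmul]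

theorem exists_groupLike_weights {A : Type v} [CommRing A] [Bialgebra k A]
    (hdiag : Submodule.span k {a : A | IsGroupLikeElem k a} = ⊤)
    {ι : Type w} [Fintype ι] [HopfRep.Comod k A (MvPolynomial ι k)] [GLin.IsCoactAlg k A (MvPolynomial ι k)]
    (hlin : GLin.IsLinear k A ι) :
    ∃ (N : ℕ) (χ : Fin N → A), (∀ j, IsGroupLikeElem k (χ j)) ∧
      ∀ v : ι → k, v ≠ 0 → ∃ I : Finset (Fin N), I.Nonempty ∧
        ∀ (lam : A →ₐc[k] k[T;T⁻¹]) (e : Fin N → ℤ), (∀ j, lam (χ j) = LaurentPolynomial.T (e j)) →
          ∀ m : ℤ, GLin.IsMu k A lam v m ↔ ((∀ j ∈ I, -e j ≤ m) ∧ ∃ j ∈ I, m = -e j) := by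
  classical
  let b : Module.Basis {a : A // IsGroupLikeElem k a} k A :=
    Module.Basis.mk (linearIndepOn_isGroupLikeElem (R := k) (A := A)) (by simpa using hdiag.ge)
  have hb : ∀ g, b g = g.1 := fun g => Module.Basis.mk_apply _ _ g
  choose m hm using hlin
  let G : Finset {a : A // IsGroupLikeElem k a} := Finset.univ.biUnion fun p : ι × ι => (b.repr (m p.1 p.2)).support
  let χ : Fin G.card → {a : A // IsGroupLikeElem k a} := fun j => (G.equivFin.symm j).1
  refine ⟨G.card, fun j => (χ j).1, fun j => (χ j).2, fun v hv => ?_⟩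
  let x := GLin.vecPt k ι v
  let w : Fin G.card → ι → k := fun j i => ∑ l, b.repr (m i l) (χ j) * v l
  have hsum : ∀ i, GLin.orbitHom k A x (MvPolynomial.X i) = ∑ j, w j i • (χ j).1 := by
    intro i
    show (Algebra.TensorProduct.lid k A) (Algebra.TensorProduct.map x (AlgHom.id k A)
      (HopfRep.Comod.coact (k := k) (A := A) (MvPolynomial.X i : MvPolynomial ι k))) = _
    rw [hm i, map_sum, map_sum]
    simp only [w, Finset.sum_smul]
    rw [Finset.sum_comm]
    refine Finset.sum_congr rfl fun l _ => ?_
    rw [Algebra.TensorProduct.map_tmul, Algebra.TensorProduct.lid_tmul, AlgHom.id_apply,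
      show x (MvPolynomial.X l) = v l by simp [x, GLin.vecPt]]
    rw [Equiv.sum_comp G.equivFin.symm (fun g : G => (b.repr (m i l) g.1 * v l) • (g.1 : A)), Finset.univ_eq_attach,
      Finset.sum_attach G (fun g => (b.repr (m i l) g * v l) • (g : A))]
    conv_lhs => rw [← b.linearCombination_repr (m i l), Finsupp.linearCombination_apply,
      Finsupp.sum_of_support_subset _ (show (b.repr (m i l)).support ⊆ G from
        Finset.subset_biUnion_of_mem (fun p : ι × ι => (b.repr (m p.1 p.2)).support) (Finset.mem_univ (i, l))) _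
        (fun g _ => zero_smul k (b g)), Finset.smul_sum]
    exact Finset.sum_congr rfl fun g _ => by rw [hb, smul_smul, mul_comm]
  have hpr : ∀ j i, pr b (χ j) (MvPolynomial.X i : MvPolynomial ι k) =
      ∑ l, b.repr (m i l) (χ j) • MvPolynomial.X l := by
    intro j i
    show (TensorProduct.rid k (MvPolynomial ι k)) ((b.coord (χ j)).lTensor _ _) = _
    rw [hm i, map_sum, map_sum]
    exact Finset.sum_congr rfl fun l _ => by simp [Module.Basis.coord_apply]
  let I : Finset (Fin G.card) := Finset.univ.filter fun j => ∃ i, w j i ≠ 0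
  have hI : I.Nonempty := by
    by_contra hne
    rw [Finset.not_nonempty_iff_eq_empty] at hne
    refine hv (funext fun i => ?_)
    have h := counit_orbitHom (A := A) x (MvPolynomial.X i : MvPolynomial ι k)
    rw [hsum, Finset.sum_eq_zero (fun j _ => ?_), map_zero] at h
    · simpa [x, GLin.vecPt] using h.symm
    · have : j ∉ I := hne ▸ Finset.notMem_empty j
      simp only [I, Finset.mem_filter, Finset.mem_univ, true_and, not_exists, not_not] at this
      rw [this i, zero_smul]
  refine ⟨I, hI, fun lam e he => ?_⟩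
  have hphi : ∀ i, MuLimit.phi lam v i = ∑ j, w j i • (T (e j) : k[T;T⁻¹]) := by
    intro i
    show lam (GLin.orbitHom k A x (MvPolynomial.X i)) = _
    rw [hsum, map_sum]
    exact Finset.sum_congr rfl fun j _ => by rw [map_smul, he]
  have hpure : ∀ j i, ∑ l, b.repr (m i l) (χ j) • MuLimit.phi lam v l = w j i • (T (e j) : k[T;T⁻¹]) := by
    intro j i
    have h1 : GLin.orbitHom k A x (pr b (χ j) (MvPolynomial.X i : MvPolynomial ι k)) = w j i • (χ j).1 := by
      show (Algebra.TensorProduct.lid k A) (Algebra.TensorProduct.map x (AlgHom.id k A)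
        (HopfRep.Comod.coact (k := k) (A := A) (pr b (χ j) (MvPolynomial.X i : MvPolynomial ι k)))) = _
      rw [coact_pr b hb, Algebra.TensorProduct.map_tmul, Algebra.TensorProduct.lid_tmul, AlgHom.id_apply]
      congr 1
      rw [hpr, map_sum]
      exact Finset.sum_congr rfl fun l _ => by simp [x, GLin.vecPt]
    rw [hpr] at h1
    rw [← he, ← map_smul, ← h1, map_sum, map_sum]
    exact Finset.sum_congr rfl fun l _ => by rw [map_smul, map_smul]; rfl
  have hcrit : ∀ j0 ∈ I, (∀ j ∈ I, -e j ≤ -e j0) → GLin.IsMu k A lam v (-e j0) := by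
    intro j0 hj0 hmax
    rw [MuLimit.isMu_iff, neg_neg]
    refine ⟨fun i n hn => ?_, ?_⟩
    · rw [hphi, AddMonoidAlgebra.coeff_sum, Finsupp.finsetSum_apply]
      refine Finset.sum_eq_zero fun j _ => ?_
      by_cases hw : w j i = 0
      · simp [hw]
      · have := hmax j (Finset.mem_filter.2 ⟨Finset.mem_univ j, i, hw⟩)
        rw [AddMonoidAlgebra.coeff_smul, Finsupp.smul_apply, T, AddMonoidAlgebra.coeff_single, Finsupp.single_apply,
          if_neg (by omega), smul_zero]
    · by_contra! hall
      obtain ⟨i, hi⟩ := (Finset.mem_filter.1 hj0).2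
      apply hi
      have h := congrArg (fun z : k[T;T⁻¹] => z.coeff (e j0)) (hpure j0 i)
      simp only [AddMonoidAlgebra.coeff_sum, Finsupp.finsetSum_apply, AddMonoidAlgebra.coeff_smul, Finsupp.smul_apply,
        hall, smul_zero, Finset.sum_const_zero, T, AddMonoidAlgebra.coeff_single, Finsupp.single_eq_same, smul_eq_mul,
        mul_one] at h
      exact h.symm.trans (by simp)
  intro μ
  constructor
  · intro hμ
    obtain ⟨j0, hj0, hmax⟩ := I.exists_max_image (fun j => -e j) hI
    have h0 := hcrit j0 hj0 hmax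
    obtain rfl : μ = -e j0 := (MuLimit.existsUnique_isMu lam v hv).unique hμ h0
    exact ⟨hmax, j0, hj0, rfl⟩
  · rintro ⟨h1, j0, hj0, rfl⟩
    exact hcrit j0 hj0 h1

end Groth.Agent.Hopf35.DiagMu
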