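import Groth.Agent.Hopf35.TensorPow
import Groth.Agent.DiagI52.Sym
import Mathlib

/-!
helper35: in characteristic zero the powers of a pairwise diagonal ideal of a smooth algebra are primary.
-/

set_option autoImplicit false
set_option linter.style.haveILetI false

universe u

open scoped TensorProduct

noncomputable section

namespace Groth.Agent.Hopf35.DiagSymbolic

section Generic

variable {R : Type u} [CommRing R] (I : Ideal R) [I.IsPrime] {n : ℕ} (D : Fin n → R →+ R)
  (hD : ∀ i x y, D i (x * y) = x * D i y + y * D i x) (u : Fin n → ↥I)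
  (hu : ∀ f : ↥I, (DiagI52.eul I D u (f : R) : R) - f ∈ I ^ 2)
  (hchar : ∀ j : ℕ, IsUnit ((j + 1 : ℕ) : R))

include hD hu hchar in
theorem step : ∀ (m : ℕ) (f s : R), s ∉ I → f ∈ I ^ m → s * f ∈ I ^ (m + 1) → f ∈ I ^ (m + 1)
  | 0, f, s, hs, _, hsf => by
    rw [zero_add, pow_one] at hsf ⊢
    exact ((Ideal.IsPrime.mem_or_mem ‹I.IsPrime› hsf).resolve_left hs)
  | m + 1, f, s, hs, hf, hsf => by
    have hDf : ∀ i, D i f ∈ I ^ (m + 1) := fun i => by
      refine step m (D i f) s hs (DiagI52.sDer_mem_pow I D hD i m f hf) ?_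
      have h1 := DiagI52.sDer_mem_pow I D hD i (m + 1) (s * f) hsf
      rw [hD] at h1
      have h2 : f * D i s ∈ I ^ (m + 1) := Ideal.mul_mem_right _ _ hf
      simpa using sub_mem h1 h2
    have heul : (DiagI52.eul I D u f : R) ∈ I ^ (m + 1 + 1) := by
      rw [DiagI52.eul_coe, pow_succ]
      exact sum_mem fun i _ => Ideal.mul_mem_mul (hDf i) (u i).2
    have h3 := sub_mem heul (DiagI52.eul_pow I D hD u hu (m + 1) f hf)
    rw [sub_sub_cancel] at h3
    exact (Ideal.unit_mul_mem_iff_mem _ (hchar m)).1 h3

include hD hu hchar in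
theorem mem_pow_of_mul_mem : ∀ (l : ℕ) (f s : R), s ∉ I → s * f ∈ I ^ l → f ∈ I ^ l
  | 0, f, s, _, _ => by simp
  | l + 1, f, s, hs, hsf =>
    step I D hD u hu hchar l f s hs
      (mem_pow_of_mul_mem l f s hs (Ideal.pow_le_pow_right (Nat.le_succ l) hsf)) hsf

end Generic

open TensorPow

variable {k A : Type u} [Field k] [CommRing A] [Algebra k A] {n : ℕ}

/-- The diagonal ideal of two factors. -/
def diag (k A : Type u) [Field k] [CommRing A] [Algebra k A] {n : ℕ} (i j : Fin n) : Ideal (T k A n) :=
  Ideal.span (Set.range fun a : A => inc i a - inc j a)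

theorem sub_mem_diag (i j : Fin n) (a : A) : inc (k := k) i a - inc j a ∈ diag k A i j :=
  Ideal.subset_span ⟨a, rfl⟩

/-- Replacing factor `i` by factor `j`. -/
def collapse (k A : Type u) [Field k] [CommRing A] [Algebra k A] {n : ℕ} (i j : Fin n) : T k A n →ₐ[k] T k A n :=
  evalHom fun t => inc (if t = i then j else t)

theorem sub_collapse_mem (i j : Fin n) (y : T k A n) : y - collapse k A i j y ∈ diag k A i j := by
  rw [← Ideal.Quotient.eq]
  have h : (Ideal.Quotient.mkₐ k (diag k A i j)).comp (collapse k A i j) = Ideal.Quotient.mkₐ k (diag k A i j) := by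
    refine PiTensorProduct.algHom_ext fun t => AlgHom.ext fun a => ?_
    simp only [AlgHom.comp_apply, collapse, evalHom_inc, Ideal.Quotient.mkₐ_eq_mk]
    by_cases ht : t = i
    · subst ht
      rw [if_pos rfl, eq_comm, Ideal.Quotient.eq]
      exact sub_mem_diag _ _ a
    · rw [if_neg ht]
  exact (AlgHom.congr_fun h y).symm

theorem collapse_eq_zero_iff (i j : Fin n) (y : T k A n) : collapse k A i j y = 0 ↔ y ∈ diag k A i j := by
  refine ⟨fun h => by simpa [h] using sub_collapse_mem i j y, fun h => ?_⟩
  refine (Ideal.span_le.2 ?_ h : y ∈ RingHom.ker (collapse k A i j))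
  rintro _ ⟨a, rfl⟩
  simp only [SetLike.mem_coe, RingHom.mem_ker, map_sub, collapse, evalHom_inc]
  rw [if_pos trivial]
  by_cases h : j = i
  · rw [if_pos h, sub_self]
  · rw [if_neg h, sub_self]

theorem isPrime_diag [IsAlgClosed k] [IsDomain A] (i j : Fin n) : (diag k A i j).IsPrime := by
  haveI := TensorPow.isDomain k A n
  rw [show diag k A i j = RingHom.ker (collapse k A i j) from
    Ideal.ext fun y => (collapse_eq_zero_iff i j y).symm]
  exact RingHom.ker_isPrime _

theorem not_diag_le [Nontrivial A] (hA : ¬ Function.Surjective (algebraMap k A)) {i j i' j' : Fin n}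
    (hij : i < j) (hij' : i' < j') (hne : (i, j) ≠ (i', j')) : ¬ diag k A i j ≤ diag k A i' j' := by
  intro hle
  have hne' : (if i = i' then j' else i) ≠ (if j = i' then j' else j) := by
    intro h
    split_ifs at h with h1 h2 h2
    · exact hij.ne (h1.trans h2.symm)
    · exact hne (by rw [h1, h])
    · subst h2; exact (hij.trans hij').ne h
    · exact hij.ne h
  obtain ⟨a, ha⟩ := exists_inc_ne (k := k) hA hne'
  have h := (collapse_eq_zero_iff i' j' _).2 (hle (sub_mem_diag i j a))
  rw [map_sub, sub_eq_zero, collapse, evalHom_inc, evalHom_inc] at h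
  exact ha h

theorem exists_dual_basis [Algebra.Smooth k A] :
    ∃ (s : ℕ) (x : Fin s → A) (d : Fin s → Derivation k A A),
      ∀ a, KaehlerDifferential.D k A a = ∑ l, d l a • KaehlerDifferential.D k A (x l) := by
  classical
  haveI : Module.Finite A (Ω[A⁄k]) := inferInstance
  have hfg : (⊤ : Submodule A (Ω[A⁄k])).FG := Module.Finite.fg_top
  rw [← KaehlerDifferential.span_range_derivation] at hfg
  obtain ⟨s, hs, hfin, heq⟩ := Submodule.fg_span_iff_fg_span_finset_subset _ |>.1 hfg |> fun ⟨t, h1, h2⟩ =>
    (⟨(t : Set _), h1, t.finite_toSet, h2⟩ : ∃ s : Set (Ω[A⁄k]), s ⊆ Set.range (KaehlerDifferential.D k A) ∧ s.Finite ∧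
      Submodule.span A (Set.range (KaehlerDifferential.D k A)) = Submodule.span A s)
  obtain ⟨m, v, hv⟩ := hfin.fin_embedding
  choose x hx using fun l => hs (show v l ∈ s from hv ▸ Set.mem_range_self l)
  let π := Fintype.linearCombination A (fun l => KaehlerDifferential.D k A (x l))
  have hπ : Function.Surjective π := by
    rw [← LinearMap.range_eq_top, Fintype.range_linearCombination]
    rw [show (Set.range fun l => KaehlerDifferential.D k A (x l)) = s by rw [← hv]; exact congrArg Set.range (funext hx)]
    rw [← heq, KaehlerDifferential.span_range_derivation]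
  obtain ⟨h, hh⟩ := Module.projective_lifting_property π LinearMap.id hπ
  refine ⟨m, x, fun l => ((LinearMap.proj l).comp h).compDer (KaehlerDifferential.D k A), fun a => ?_⟩
  have := (LinearMap.congr_fun hh (KaehlerDifferential.D k A a)).symm
  simpa [π, Fintype.linearCombination_apply] using this

theorem exists_derivation (d : Derivation k A A) (i : Fin n) :
    ∃ D : T k A n →+ T k A n, (∀ x y, D (x * y) = x * D y + y * D x) ∧ (∀ a, D (inc i a) = inc i (d a)) ∧
      ∀ t, t ≠ i → ∀ a, D (inc t a) = 0 := by
  let g : Fin n → A →ₐ[k] TrivSqZeroExt (T k A n) (T k A n) := fun t =>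
    if t = i then AlgHom.ofLinearMap
      { toFun := fun a => TrivSqZeroExt.inl (inc t a) + TrivSqZeroExt.inr (inc t (d a))
        map_add' := fun a b => by
          simp only [map_add, TrivSqZeroExt.inl_add, TrivSqZeroExt.inr_add]; abel
        map_smul' := fun c a => by
          ext <;> simp }
      (by ext <;> simp [-PiTensorProduct.singleAlgHom_apply])
      (fun a b => by ext <;> simp [-PiTensorProduct.singleAlgHom_apply, mul_comm, add_comm])
    else (TrivSqZeroExt.inlAlgHom k (T k A n) (T k A n)).comp (inc t)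
  let E := evalHom g
  have hfst : ∀ y, (E y).fst = y := fun y => by
    have : (TrivSqZeroExt.fstHom k (T k A n) (T k A n)).comp E = AlgHom.id k _ := by
      refine PiTensorProduct.algHom_ext fun t => AlgHom.ext fun a => ?_
      show (E (inc t a)).fst = inc t a
      simp only [E, evalHom_inc, g]
      by_cases h : t = i
      · rw [if_pos h]; simp
      · rw [if_neg h]; simp
    exact AlgHom.congr_fun this y
  refine ⟨{ toFun := fun y => (E y).snd, map_zero' := by simp, map_add' := fun x y => by simp }, fun x y => ?_, fun a => ?_,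
    fun t ht a => ?_⟩
  · show (E (x * y)).snd = x * (E y).snd + y * (E x).snd
    rw [map_mul, TrivSqZeroExt.snd_mul, hfst, hfst]
    simp [mul_comm]
  · show (E (inc i a)).snd = _
    simp [E, evalHom_inc, g]
  · show (E (inc t a)).snd = 0
    simp [E, evalHom_inc, g, ht]

theorem mem_pow_of_mul_mem_diag [IsAlgClosed k] [CharZero k] [IsDomain A] [Algebra.Smooth k A] {i j : Fin n}
    (hij : i ≠ j) {l : ℕ} {f s : T k A n} (hs : s ∉ diag k A i j) (h : s * f ∈ diag k A i j ^ l) :
    f ∈ diag k A i j ^ l := by
  classical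
  haveI := isPrime_diag (k := k) (A := A) i j
  obtain ⟨m, x, d, hd⟩ := exists_dual_basis (k := k) (A := A)
  choose D hD hDi hDo using fun l => exists_derivation (n := n) (d l) i
  let u : Fin m → ↥(diag k A i j) := fun l => ⟨inc i (x l) - inc j (x l), sub_mem_diag i j (x l)⟩
  have hgen : ∀ a : A, (∑ l, inc i (d l a) * (u l : T k A n)) - (inc i a - inc j a) ∈ diag k A i j ^ 2 := by
    let Q := T k A n ⧸ diag k A i j ^ 2
    let q := Ideal.Quotient.mkₐ k (diag k A i j ^ 2)
    letI : Algebra A Q := (q.comp (inc i)).toRingHom.toAlgebra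
    haveI : IsScalarTower k A Q := IsScalarTower.of_algebraMap_eq fun c => ((q.comp (inc i)).commutes c).symm
    let δ₀ : A →ₗ[k] Q := q.toLinearMap.comp ((inc i).toLinearMap - (inc j).toLinearMap)
    let δ : Derivation k A Q := Derivation.mk' δ₀ fun a b => by
      simp only [δ₀, LinearMap.comp_apply, LinearMap.sub_apply, AlgHom.toLinearMap_apply, Algebra.smul_def]
      show q _ = q (inc i a) * q _ + q (inc i b) * q _
      rw [← map_mul, ← map_mul, ← map_add]
      refine Ideal.Quotient.eq.2 ?_
      rw [show inc i (a * b) - inc j (a * b) - (inc i a * (inc i b - inc j b) + inc i b * (inc i a - inc j a)) =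
        -((inc (k := k) i a - inc j a) * (inc i b - inc j b)) by rw [map_mul, map_mul]; ring, pow_two]
      exact neg_mem (Ideal.mul_mem_mul (sub_mem_diag i j a) (sub_mem_diag i j b))
    intro a
    refine Ideal.Quotient.eq.1 ?_
    have h1 := congrArg δ.liftKaehlerDifferential (hd a)
    simp only [map_sum, map_smul, Derivation.liftKaehlerDifferential_comp_D, Algebra.smul_def] at h1
    show q _ = q _
    rw [map_sum]
    refine Eq.trans ?_ h1.symm
    refine Finset.sum_congr rfl fun l _ => ?_
    rw [map_mul]
    rfl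
  refine mem_pow_of_mul_mem (diag k A i j) D hD u ?_ ?_ l f s hs h
  · rintro ⟨z, hz⟩
    show (DiagI52.eul _ D u z : T k A n) - z ∈ _
    rw [DiagI52.eul_coe]
    induction hz using Submodule.span_induction with
    | mem y hy =>
      obtain ⟨a, rfl⟩ := hy
      convert hgen a using 3 with l
      rw [map_sub, hDi, hDo l j hij.symm, sub_zero]
    | zero => simp
    | add y z _ _ hy hz =>
      simp only [map_add, add_mul, Finset.sum_add_distrib]
      convert add_mem hy hz using 1
      abel
    | smul r y hy hy' =>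
      have e : (∑ l, D l (r * y) * (u l : T k A n)) - r * y =
          r * ((∑ l, D l y * (u l : T k A n)) - y) + y * ∑ l, D l r * (u l : T k A n) := by
        simp only [hD, add_mul, Finset.sum_add_distrib, mul_sub, Finset.mul_sum, mul_assoc]; ring
      rw [smul_eq_mul, e]
      refine add_mem (Ideal.mul_mem_left _ _ hy') ?_
      rw [pow_two]
      exact Ideal.mul_mem_mul hy (sum_mem fun l _ => Ideal.mul_mem_left _ _ (u l).2)
  · intro j
    have h := (IsUnit.mk0 ((j + 1 : ℕ) : k) (Nat.cast_ne_zero.2 j.succ_ne_zero)).map (algebraMap k (T k A n))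
    rwa [map_natCast] at h

end Groth.Agent.Hopf35.DiagSymbolic
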