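import Mathlib

/-!
helper35: geometric points lift along surjective morphisms of schemes locally of finite type.
-/

set_option autoImplicit false

universe u

open CategoryTheory AlgebraicGeometry Limits Topology

noncomputable section

namespace Groth.Agent.Hopf35.LiftPt

theorem exists_section {Ω : Type u} [Field Ω] [IsAlgClosed Ω] {P : Scheme.{u}} (g : P ⟶ Spec (CommRingCat.of Ω))
    [LocallyOfFiniteType g] [Nonempty P] : ∃ s : Spec (CommRingCat.of Ω) ⟶ P, s ≫ g = 𝟙 _ := by
  haveI : JacobsonSpace P := LocallyOfFiniteType.jacobsonSpace g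
  obtain ⟨p, -, hp⟩ := nonempty_inter_closedPoints (Z := (Set.univ : Set P)) Set.univ_nonempty
    isClosed_univ.isLocallyClosed
  exact ⟨pointOfClosedPoint g p hp, pointOfClosedPoint_comp g p hp⟩

theorem exists_lift {S : Scheme.{u}} {X Y T : Over S} (π : X ⟶ Y) [LocallyOfFiniteType X.hom]
    (hπ : Function.Surjective π.left.base) {Ω : Type u} [Field Ω] [IsAlgClosed Ω]
    (e : T.left ≅ Spec (CommRingCat.of Ω)) (y : T ⟶ Y) : ∃ x : T ⟶ X, x ≫ π = y := by
  haveI : LocallyOfFiniteType π.left := by
    have : LocallyOfFiniteType (π.left ≫ Y.hom) := by rw [Over.w π]; infer_instance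
    exact locallyOfFiniteType_of_comp π.left Y.hom
  haveI : Surjective π.left := ⟨hπ⟩
  haveI : Nonempty (pullback π.left y.left : Scheme) := by
    obtain ⟨p, -⟩ := (pullback.snd π.left y.left).surjective (e.inv.base (IsLocalRing.closedPoint Ω))
    exact ⟨p⟩
  obtain ⟨s, hs⟩ := exists_section (pullback.snd π.left y.left ≫ e.hom)
  have hs' : s ≫ pullback.snd π.left y.left = e.inv := by
    rw [← cancel_mono e.hom, Category.assoc, hs, e.inv_hom_id]
  have key : (e.hom ≫ s ≫ pullback.fst π.left y.left) ≫ π.left = y.left := by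
    rw [Category.assoc, Category.assoc, pullback.condition, reassoc_of% hs', e.hom_inv_id_assoc]
  refine ⟨Over.homMk (e.hom ≫ s ≫ pullback.fst π.left y.left) ?_, Over.OverMorphism.ext key⟩
  rw [← Over.w π, ← Category.assoc, key, Over.w y]

end Groth.Agent.Hopf35.LiftPt
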