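import Groth.Agent.Hopf35.NormSection
import Groth.Agent.Hopf35.ClopenGlue
import Groth.Agent.Hopf35.LiftPt
import Mathlib.AlgebraicGeometry.AlgClosed.Basic
import Mathlib

/-!
helper35: for a finite étale morphism the norm map on dual sheaves is an isomorphism.

The inverse is built from the clopen diagonal: a test object `Z` over `X'` is a clopen piece of its base change
`Z ×_X X'`, so a section over `Z` extends by zero to a section of the direct image.
-/

set_option autoImplicit false
set_option linter.style.haveILetI false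
set_option backward.isDefEq.respectTransparency.types false

universe u

open CategoryTheory CategoryTheory.Limits AlgebraicGeometry Opposite MonoidalCategory CartesianMonoidalCategory MonObj
open Groth.Agent.Hopf35.ClopenGlue Groth.Agent.Hopf35.Nm

noncomputable section

namespace Groth.Agent.Hopf35.DualNormIso

variable {X X' : Scheme.{u}} (f : X' ⟶ X)

/-- The unit `Z ⟶ Z ×_X X'`. -/
abbrev sg (Z : Over X') : Z ⟶ (Over.pullback f).obj ((Over.map f).obj Z) := (Over.mapPullbackAdj f).unit.app Z

theorem sg_prj (Z : Over X') : (sg f Z).left ≫ prj f ((Over.map f).obj Z) = 𝟙 _ := by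
  simp [sg, prj]
  exact pullback.lift_fst _ _ _

/-- Transpose. -/
abbrev adjHom {Z : Over X'} {T : Over X} (h : Z ⟶ (Over.pullback f).obj T) : (Over.map f).obj Z ⟶ T :=
  ((Over.mapPullbackAdj f).homEquiv Z T).symm h

theorem sg_adjHom {Z : Over X'} {T : Over X} (h : Z ⟶ (Over.pullback f).obj T) :
    sg f Z ≫ (Over.pullback f).map (adjHom f h) = h := by
  rw [← Adjunction.homEquiv_unit, Equiv.apply_symm_apply]

theorem adjHom_left {Z : Over X'} {T : Over X} (h : Z ⟶ (Over.pullback f).obj T) :
    (adjHom f h).left = h.left ≫ prj f T := by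
  simp [adjHom, Adjunction.homEquiv_counit, prj]

theorem adjHom_comp {Z' Z : Over X'} {T : Over X} (g : Z' ⟶ Z) (h : Z ⟶ (Over.pullback f).obj T) :
    adjHom f (g ≫ h) = (Over.map f).map g ≫ adjHom f h :=
  Adjunction.homEquiv_naturality_left_symm _ _ _

theorem adjHom_comp_right {Z : Over X'} {T T' : Over X} (h : Z ⟶ (Over.pullback f).obj T) (k : T ⟶ T') :
    adjHom f (h ≫ (Over.pullback f).map k) = adjHom f h ≫ k :=
  Adjunction.homEquiv_naturality_right_symm _ _ _

theorem isPullback_sg {Z' Z : Over X'} (g : Z' ⟶ Z) :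
    IsPullback (sg f Z').left g.left ((Over.pullback f).map ((Over.map f).map g)).left (sg f Z).left := by
  refine IsPullback.of_right ?_ (congrArg CommaMorphism.left ((Over.mapPullbackAdj f).unit.naturality g)).symm
    (isPullback_prj f ((Over.map f).map g)).flip
  rw [sg_prj, sg_prj]
  exact IsPullback.of_horiz_isIso ⟨by simp⟩

section Etale

variable [IsFinite f] [Etale f]

instance isOpenImmersion_sg (Z : Over X') : IsOpenImmersion (sg f Z).left := by
  haveI : Etale (prj f ((Over.map f).obj Z)) := MorphismProperty.pullback_fst _ _ inferInstance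
  haveI : Etale ((sg f Z).left ≫ prj f ((Over.map f).obj Z)) := by rw [sg_prj]; infer_instance
  haveI : Etale (sg f Z).left := Etale.of_comp _ (prj f ((Over.map f).obj Z))
  haveI : IsSplitMono (sg f Z).left := IsSplitMono.mk' ⟨prj f ((Over.map f).obj Z), sg_prj f Z⟩
  exact IsOpenImmersion.of_flat_of_mono _

instance isClosedImmersion_sg (Z : Over X') : IsClosedImmersion (sg f Z).left := by
  haveI : IsFinite (prj f ((Over.map f).obj Z)) := MorphismProperty.pullback_fst _ _ inferInstance
  haveI : IsClosedImmersion ((sg f Z).left ≫ prj f ((Over.map f).obj Z)) := by rw [sg_prj]; infer_instance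
  exact IsClosedImmersion.of_comp (sg f Z).left (prj f ((Over.map f).obj Z))

/-- The complement of the diagonal piece. -/
def off (Z : Over X') : ((Over.pullback f).obj ((Over.map f).obj Z)).left.Opens :=
  ⟨(Set.range (sg f Z).left.base)ᶜ, (sg f Z).left.isClosedEmbedding.isClosed_range.isOpen_compl⟩

/-- A morphism landing in the diagonal piece factors. -/
theorem exists_fac_sg {V Z : Over X'} (g : V ⟶ (Over.pullback f).obj ((Over.map f).obj Z))
    (hg : Set.range g.left.base ⊆ Set.range (sg f Z).left.base) : ∃ g' : V ⟶ Z, g' ≫ sg f Z = g := by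
  have e := IsOpenImmersion.lift_fac (sg f Z).left g.left hg
  refine ⟨Over.homMk (IsOpenImmersion.lift (sg f Z).left g.left hg) ?_, Over.OverMorphism.ext e⟩
  rw [← Over.w g, ← Over.w (sg f Z), reassoc_of% e]

end Etale

variable (F' : BigSite.Ab Scheme.fppfPrecoverage X')

/-- A section vanishing off a set. -/
def Vanish {W : Over X'} (s : F'.obj.obj (op W)) (S : Set W.left) : Prop :=
  ∀ (V : Over X') (g : V ⟶ W), Disjoint (Set.range g.left.base) S → F'.obj.map g.op s = 0

theorem map_map {A B C : Over X'} (g : A ⟶ B) (h : B ⟶ C) (s : F'.obj.obj (op C)) :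
    F'.obj.map g.op (F'.obj.map h.op s) = F'.obj.map (g ≫ h).op s := by
  rw [← Functor.map_comp_apply, ← op_comp]

section Ext

variable [IsFinite f] [Etale f]

theorem eq_of_sg (Z : Over X') {s s' : F'.obj.obj (op ((Over.pullback f).obj ((Over.map f).obj Z)))}
    (h₁ : F'.obj.map (sg f Z).op s = F'.obj.map (sg f Z).op s')
    (h₂ : F'.obj.map (opIncl _ (off f Z)).op s = F'.obj.map (opIncl _ (off f Z)).op s') : s = s' := by
  refine eq_of_restrict F' _ (sg f Z).left.opensRange (off f Z) disjoint_compl_right (fun w => em _) ?_ h₂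
  obtain ⟨g', hg'⟩ := exists_fac_sg f (opIncl _ (sg f Z).left.opensRange) (Scheme.Opens.range_ι _).le
  rw [← hg', ← map_map, ← map_map, h₁]

theorem exists_ext (Z : Over X') (x : F'.obj.obj (op Z)) :
    ∃ s : F'.obj.obj (op ((Over.pullback f).obj ((Over.map f).obj Z))),
      F'.obj.map (sg f Z).op s = x ∧ F'.obj.map (opIncl _ (off f Z)).op s = 0 := by
  obtain ⟨g', hg'⟩ := exists_fac_sg f (opIncl _ (sg f Z).left.opensRange) (Scheme.Opens.range_ι _).le
  obtain ⟨s, hs₁, hs₂⟩ := exists_extend F' _ (sg f Z).left.opensRange (off f Z) disjoint_compl_right (fun w => em _)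
    (F'.obj.map g'.op x)
  refine ⟨s, ?_, hs₂⟩
  have hr : Set.range (sg f Z).left.base ⊆ Set.range (sg f Z).left.opensRange.ι.base := by
    rw [Scheme.Opens.range_ι]; rfl
  have el := IsOpenImmersion.lift_fac (sg f Z).left.opensRange.ι (sg f Z).left hr
  let fwd : Z ⟶ opPart _ (sg f Z).left.opensRange :=
    Over.homMk (IsOpenImmersion.lift (sg f Z).left.opensRange.ι (sg f Z).left hr) (by
      show IsOpenImmersion.lift _ _ hr ≫ (sg f Z).left.opensRange.ι ≫ _ = Z.hom
      rw [reassoc_of% el, Over.w (sg f Z)])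
  have hf : fwd ≫ opIncl _ (sg f Z).left.opensRange = sg f Z := Over.OverMorphism.ext el
  have hinv : fwd ≫ g' = 𝟙 Z := by
    haveI : Mono (sg f Z) := Over.mono_of_mono_left _
    rw [← cancel_mono (sg f Z), Category.assoc, hg', hf, Category.id_comp]
  rw [← hf, ← map_map, hs₁, map_map, hinv]
  simp

/-- Extension by zero. -/
def ext (Z : Over X') (x : F'.obj.obj (op Z)) : F'.obj.obj (op ((Over.pullback f).obj ((Over.map f).obj Z))) :=
  (exists_ext f F' Z x).choose

theorem map_sg_ext (Z : Over X') (x : F'.obj.obj (op Z)) : F'.obj.map (sg f Z).op (ext f F' Z x) = x :=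
  (exists_ext f F' Z x).choose_spec.1

theorem map_off_ext (Z : Over X') (x : F'.obj.obj (op Z)) :
    F'.obj.map (opIncl _ (off f Z)).op (ext f F' Z x) = 0 :=
  (exists_ext f F' Z x).choose_spec.2

theorem vanish_ext (Z : Over X') (x : F'.obj.obj (op Z)) : Vanish F' (ext f F' Z x) (Set.range (sg f Z).left.base) := by
  intro V g hg
  have hr : Set.range g.left.base ⊆ Set.range (off f Z).ι.base := by
    rw [Scheme.Opens.range_ι]; exact Set.subset_compl_iff_disjoint_right.2 hg
  have el := IsOpenImmersion.lift_fac (off f Z).ι g.left hr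
  let g' : V ⟶ opPart _ (off f Z) := Over.homMk (IsOpenImmersion.lift (off f Z).ι g.left hr) (by
    show IsOpenImmersion.lift _ _ hr ≫ (off f Z).ι ≫ _ = V.hom
    rw [reassoc_of% el, Over.w g])
  rw [show g = g' ≫ opIncl _ (off f Z) from Over.OverMorphism.ext el.symm, ← map_map, map_off_ext, map_zero]

theorem ext_add (Z : Over X') (x y : F'.obj.obj (op Z)) : ext f F' Z (x + y) = ext f F' Z x + ext f F' Z y := by
  refine eq_of_sg f F' Z ?_ ?_
  · rw [map_add, map_sg_ext, map_sg_ext, map_sg_ext]
  · rw [map_add, map_off_ext, map_off_ext, map_off_ext, add_zero]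

theorem ext_natural {Z' Z : Over X'} (g : Z' ⟶ Z) (x : F'.obj.obj (op Z)) :
    F'.obj.map ((Over.pullback f).map ((Over.map f).map g)).op (ext f F' Z x) = ext f F' Z' (F'.obj.map g.op x) := by
  refine eq_of_sg f F' Z' ?_ ?_
  · rw [map_map, map_sg_ext]
    erw [← (Over.mapPullbackAdj f).unit.naturality g]
    rw [← map_map]
    exact congrArg _ (map_sg_ext f F' Z x)
  · rw [map_map, map_off_ext]
    refine vanish_ext f F' Z x _ _ (Set.disjoint_left.2 ?_)
    rintro _ ⟨p, rfl⟩ ⟨z, hz⟩
    obtain ⟨w, hw, -⟩ := Scheme.exists_preimage_of_isPullback (isPullback_sg f g)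
      ((off f Z').ι.base p) z hz.symm
    exact p.2 ⟨w, hw⟩

end Ext

section Gm

variable {S : Scheme.{u}} {T : Over S}

/-- The function of a section of `𝔾ₘ`. -/
def fn (s : (CGrpSh2.Gm Scheme.fppfPrecoverage S).obj.obj (op T)) : Γ(T.left, ⊤) := Red.gmFn s.down.toMul

theorem fn_injective {s s' : (CGrpSh2.Gm Scheme.fppfPrecoverage S).obj.obj (op T)} (h : fn s = fn s') : s = s' :=
  ULift.ext _ _ (congrArg Additive.ofMul (GmPts.gmFn_injective h : s.down.toMul = s'.down.toMul))

theorem fn_add (s s' : (CGrpSh2.Gm Scheme.fppfPrecoverage S).obj.obj (op T)) : fn (s + s') = fn s * fn s' :=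
  GmPts.gmFn_mul _ _

theorem fn_zero : fn (0 : (CGrpSh2.Gm Scheme.fppfPrecoverage S).obj.obj (op T)) = 1 := GmPts.gmFn_one

theorem fn_map {T' : Over S} (g : T' ⟶ T) (s : (CGrpSh2.Gm Scheme.fppfPrecoverage S).obj.obj (op T)) :
    fn ((CGrpSh2.Gm Scheme.fppfPrecoverage S).obj.map g.op s) = g.left.appTop (fn s) :=
  GmPts.gmFn_comp _ _

theorem germ_eq_of_appTop {W' : Scheme.{u}} (j : W' ⟶ T.left) [IsOpenImmersion j] {a b : Γ(T.left, ⊤)}
    (h : j.appTop a = j.appTop b) (w : W') :
    T.left.presheaf.germ ⊤ (j.base w) trivial a = T.left.presheaf.germ ⊤ (j.base w) trivial b := by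
  refine (ConcreteCategory.bijective_of_isIso (j.stalkMap w)).1 ?_
  rw [Scheme.Hom.germ_stalkMap_apply, Scheme.Hom.germ_stalkMap_apply]
  exact congrArg _ h

theorem stalkMap_injective {A B : Scheme.{u}} (g : A ⟶ B) [Flat g] (x : A) :
    Function.Injective (g.stalkMap x).hom := by
  algebraize [(g.stalkMap x).hom]
  haveI : Module.Flat (B.presheaf.stalk (g.base x)) (A.presheaf.stalk x) := Flat.stalkMap g x
  haveI : IsLocalHom (algebraMap (B.presheaf.stalk (g.base x)) (A.presheaf.stalk x)) :=
    inferInstanceAs (IsLocalHom (g.stalkMap x).hom)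
  haveI := Module.FaithfullyFlat.of_flat_of_isLocalHom (A := B.presheaf.stalk (g.base x)) (B := A.presheaf.stalk x)
  exact FaithfulSMul.algebraMap_injective (B.presheaf.stalk (g.base x)) (A.presheaf.stalk x)

theorem germ_eq_one {T' : Over S} (j : T' ⟶ T) [IsOpenImmersion j.left]
    (t : (CGrpSh2.Gm Scheme.fppfPrecoverage S).obj.obj (op T))
    (h : (CGrpSh2.Gm Scheme.fppfPrecoverage S).obj.map j.op t = 0) (w : T'.left) :
    T.left.presheaf.germ ⊤ (j.left.base w) trivial (fn t) = 1 := by
  have h1 : j.left.appTop (fn t) = j.left.appTop 1 := by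
    rw [map_one]
    exact (fn_map j t).symm.trans ((congrArg fn h).trans fn_zero)
  exact (germ_eq_of_appTop j.left h1 w).trans (map_one _)

/-- Change of the base scheme of the multiplicative group. -/
def convFun (Z : Over X') (s : (CGrpSh2.Gm Scheme.fppfPrecoverage X).obj.obj (op ((Over.map f).obj Z))) :
    (CGrpSh2.Gm Scheme.fppfPrecoverage X').obj.obj (op Z) :=
  ULift.up (Additive.ofMul (GmPts.ptOfUnit (T := Z) (GmPts.unitOfPt (T := (Over.map f).obj Z) s.down.toMul)))

theorem fn_convFun (Z : Over X') (s : (CGrpSh2.Gm Scheme.fppfPrecoverage X).obj.obj (op ((Over.map f).obj Z))) :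
    fn (convFun f Z s) = fn s :=
  (GmPts.gmFn_ptOfUnit _).trans (GmPts.val_unitOfPt _)

/-- Change of the base scheme of the multiplicative group, as a homomorphism. -/
def conv (Z : Over X') : (CGrpSh2.Gm Scheme.fppfPrecoverage X).obj.obj (op ((Over.map f).obj Z)) →+
    (CGrpSh2.Gm Scheme.fppfPrecoverage X').obj.obj (op Z) :=
  AddMonoidHom.mk' (convFun f Z) fun s s' => fn_injective
    ((fn_convFun f Z _).trans ((fn_add s s').trans
      ((congrArg₂ (· * ·) (fn_convFun f Z s).symm (fn_convFun f Z s').symm).trans (fn_add _ _).symm)))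

theorem fn_conv (Z : Over X') (s : (CGrpSh2.Gm Scheme.fppfPrecoverage X).obj.obj (op ((Over.map f).obj Z))) :
    fn (conv f Z s) = fn s :=
  fn_convFun f Z s

end Gm

variable [IsFinite f] [Etale f]

/-- The character over `X'` attached to a character of the direct image. -/
def unNorm {T : Over X}
    (ψ : ((BigSite.pushBig Scheme.fppfPrecoverage f AddCommGrpCat.{u + 1}).obj F').over T ⟶
      (CGrpSh2.Gm Scheme.fppfPrecoverage X).over T) :
    F'.over ((Over.pullback f).obj T) ⟶ (CGrpSh2.Gm Scheme.fppfPrecoverage X').over ((Over.pullback f).obj T) :=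
  ⟨{ app := fun U => AddCommGrpCat.ofHom (AddMonoidHom.mk'
        (fun x => conv f (unop U).left (ψ.hom.app (op (Over.mk (adjHom f (unop U).hom))) (ext f F' (unop U).left x)))
        fun x y => by
          exact (congrArg (fun s => conv f (unop U).left (ψ.hom.app (op (Over.mk (adjHom f (unop U).hom))) s))
            (ext_add f F' (unop U).left x y)).trans ((congrArg (conv f _) (map_add _ _ _)).trans (map_add _ _ _)))
     naturality := fun U U' g => AddCommGrpCat.ext fun x => fn_injective (by
       show fn (conv f (unop U').left (ψ.hom.app (op (Over.mk (adjHom f (unop U').hom)))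
           (ext f F' (unop U').left (F'.obj.map g.unop.left.op x)))) =
         fn ((CGrpSh2.Gm Scheme.fppfPrecoverage X').obj.map g.unop.left.op
           (conv f (unop U).left (ψ.hom.app (op (Over.mk (adjHom f (unop U).hom))) (ext f F' (unop U).left x))))
       rw [fn_map, fn_conv, fn_conv, ← ext_natural]
       let g₁ : Over.mk (adjHom f (unop U').hom) ⟶ Over.mk (adjHom f (unop U).hom) :=
         Over.homMk ((Over.map f).map g.unop.left) (by
           show (Over.map f).map g.unop.left ≫ adjHom f (unop U).hom = adjHom f (unop U').hom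
           rw [← adjHom_comp, Over.w g.unop])
       exact (congrArg fn (NatTrans.naturality_apply ψ.hom g₁.op _)).trans (fn_map _ _)) }⟩

theorem fn_unNorm {T : Over X}
    (ψ : ((BigSite.pushBig Scheme.fppfPrecoverage f AddCommGrpCat.{u + 1}).obj F').over T ⟶
      (CGrpSh2.Gm Scheme.fppfPrecoverage X).over T)
    {Z : Over X'} (h : Z ⟶ (Over.pullback f).obj T) (x : F'.obj.obj (op Z)) :
    fn ((unNorm f F' ψ).hom.app (op (Over.mk h)) x) =
      fn (ψ.hom.app (op (Over.mk (adjHom f h))) (ext f F' Z x)) :=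
  fn_conv f _ _

section Norm

variable (N : CGrpSh3.pushGm Scheme.fppfPrecoverage f ⟶ CGrpSh2.Gm Scheme.fppfPrecoverage X)
  (hN : CGrpSh3.IsNormMap Scheme.fppfPrecoverage f N)

/-- The value of a character under the norm. -/
def nval {T U : Over X} (χ : F'.over ((Over.pullback f).obj T) ⟶ (CGrpSh2.Gm Scheme.fppfPrecoverage X').over ((Over.pullback f).obj T))
    (k : U ⟶ T) (y : F'.obj.obj (op ((Over.pullback f).obj U))) : Γ(U.left, ⊤) :=
  fn (N.hom.app (op U) (χ.hom.app (op (Over.mk ((Over.pullback f).map k))) y))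

include hN in
theorem nval_ext {T : Over X} {Z : Over X'}
    (χ : F'.over ((Over.pullback f).obj T) ⟶ (CGrpSh2.Gm Scheme.fppfPrecoverage X').over ((Over.pullback f).obj T))
    (h : Z ⟶ (Over.pullback f).obj T) (x : F'.obj.obj (op Z)) :
    nval f F' N χ (adjHom f h) (ext f F' Z x) = fn (χ.hom.app (op (Over.mk h)) x) := by
  let H : Over ((Over.pullback f).obj T) := Over.mk ((Over.pullback f).map (adjHom f h))
  let t := χ.hom.app (op H) (ext f F' Z x)
  let j : Over.mk h ⟶ H := Over.homMk (sg f Z) (sg_adjHom f h)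
  have hj : χ.hom.app (op (Over.mk h)) x = (CGrpSh2.Gm Scheme.fppfPrecoverage X').obj.map (sg f Z).op t :=
    (congrArg (χ.hom.app (op (Over.mk h))) (map_sg_ext f F' Z x).symm).trans (NatTrans.naturality_apply χ.hom j.op _)
  refine Eq.trans ?_ ((congrArg fn hj).trans (fn_map (sg f Z) t)).symm
  refine NormSection.gmFn_normPt_section Scheme.fppfPrecoverage f N hN ((Over.map f).obj Z) t.down.toMul (sg f Z).left
    (sg_prj f Z) fun p hp => ?_
  let j₂ : Over.mk (opIncl _ (off f Z) ≫ H.hom) ⟶ H := Over.homMk (opIncl _ (off f Z)) rfl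
  have h0 : (CGrpSh2.Gm Scheme.fppfPrecoverage X').obj.map (opIncl _ (off f Z)).op t = 0 :=
    (NatTrans.naturality_apply χ.hom j₂.op _).symm.trans
      ((congrArg (χ.hom.app _) (map_off_ext f F' Z x)).trans (map_zero _))
  haveI : IsOpenImmersion (opIncl _ (off f Z)).left := inferInstanceAs (IsOpenImmersion (off f Z).ι)
  exact germ_eq_one (opIncl _ (off f Z)) t h0 ⟨p, hp⟩

variable {T : Over X}
  (ψ : ((BigSite.pushBig Scheme.fppfPrecoverage f AddCommGrpCat.{u + 1}).obj F').over T ⟶
    (CGrpSh2.Gm Scheme.fppfPrecoverage X).over T)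

/-- The value of a character of the direct image. -/
def pval {U : Over X} (k : U ⟶ T) (y : F'.obj.obj (op ((Over.pullback f).obj U))) : Γ(U.left, ⊤) :=
  fn (ψ.hom.app (op (Over.mk k)) y)

omit [IsFinite f] [Etale f] in
theorem nval_natural (χ : F'.over ((Over.pullback f).obj T) ⟶ (CGrpSh2.Gm Scheme.fppfPrecoverage X').over ((Over.pullback f).obj T))
    {U' U : Over X} (g : U' ⟶ U) (k : U ⟶ T) (y : F'.obj.obj (op ((Over.pullback f).obj U))) :
    nval f F' N χ (g ≫ k) (F'.obj.map ((Over.pullback f).map g).op y) = g.left.appTop (nval f F' N χ k y) := by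
  unfold nval
  rw [← fn_map]
  refine congrArg fn ?_
  let j : Over.mk ((Over.pullback f).map (g ≫ k)) ⟶ Over.mk ((Over.pullback f).map k) :=
    Over.homMk ((Over.pullback f).map g) ((Over.pullback f).map_comp g k).symm
  exact (congrArg (N.hom.app (op U')) (NatTrans.naturality_apply χ.hom j.op y)).trans
    (NatTrans.naturality_apply N.hom g.op _)

omit [IsFinite f] [Etale f] in
theorem pval_natural {U' U : Over X} (g : U' ⟶ U) (k : U ⟶ T) (y : F'.obj.obj (op ((Over.pullback f).obj U))) :
    pval f F' ψ (g ≫ k) (F'.obj.map ((Over.pullback f).map g).op y) = g.left.appTop (pval f F' ψ k y) := by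
  unfold pval
  rw [← fn_map]
  let j : Over.mk (g ≫ k) ⟶ Over.mk k := Over.homMk g rfl
  exact congrArg fn (NatTrans.naturality_apply ψ.hom j.op y)

omit [IsFinite f] [Etale f] in
theorem nval_add (χ : F'.over ((Over.pullback f).obj T) ⟶ (CGrpSh2.Gm Scheme.fppfPrecoverage X').over ((Over.pullback f).obj T))
    {U : Over X} (k : U ⟶ T) (y y' : F'.obj.obj (op ((Over.pullback f).obj U))) :
    nval f F' N χ k (y + y') = nval f F' N χ k y * nval f F' N χ k y' := by
  unfold nval
  rw [← fn_add]
  exact congrArg fn ((congrArg (N.hom.app (op U)) (map_add _ _ _)).trans (map_add _ _ _))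

omit [IsFinite f] [Etale f] in
theorem pval_add {U : Over X} (k : U ⟶ T) (y y' : F'.obj.obj (op ((Over.pullback f).obj U))) :
    pval f F' ψ k (y + y') = pval f F' ψ k y * pval f F' ψ k y' := by
  unfold pval
  rw [← fn_add]
  exact congrArg fn (map_add _ _ _)

omit [IsFinite f] [Etale f] in
theorem nval_zero (χ : F'.over ((Over.pullback f).obj T) ⟶ (CGrpSh2.Gm Scheme.fppfPrecoverage X').over ((Over.pullback f).obj T))
    {U : Over X} (k : U ⟶ T) : nval f F' N χ k 0 = 1 :=
  (congrArg fn ((congrArg (N.hom.app (op U)) (map_zero _)).trans (map_zero _))).trans fn_zero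

omit [IsFinite f] [Etale f] in
theorem pval_zero {U : Over X} (k : U ⟶ T) : pval f F' ψ k 0 = 1 :=
  (congrArg fn (map_zero _)).trans fn_zero

include hN in
/-- The induction on the number of geometric points of the support over a geometric point. -/
theorem key (n : ℕ) {U : Over X} (k : U ⟶ T) (y : F'.obj.obj (op ((Over.pullback f).obj U)))
    (W : ((Over.pullback f).obj U).left.Opens) (hW : IsClosed (W : Set ((Over.pullback f).obj U).left))
    (hy : Vanish F' y W) (Ω : Type u) [Field Ω] [IsAlgClosed Ω] (p : Spec (CommRingCat.of Ω) ⟶ U.left)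
    (hn : {l : Spec (CommRingCat.of Ω) ⟶ ((Over.pullback f).obj U).left |
      l ≫ prj f U = p ∧ Set.range l.base ⊆ W}.encard ≤ n) :
    U.left.presheaf.germ ⊤ (p.base (IsLocalRing.closedPoint Ω)) trivial (nval f F' N (unNorm f F' ψ) k y) =
      U.left.presheaf.germ ⊤ (p.base (IsLocalRing.closedPoint Ω)) trivial (pval f F' ψ k y) := by
  haveI : IsFinite (prj f U) := MorphismProperty.pullback_fst _ _ inferInstance
  haveI : Etale (prj f U) := MorphismProperty.pullback_fst _ _ inferInstance
  induction n generalizing U Ω with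
  | zero =>
    by_cases hu : p.base (IsLocalRing.closedPoint Ω) ∈ (prj f U).base '' W
    · exfalso
      obtain ⟨w, hw, hwu⟩ := hu
      obtain ⟨c, -, -⟩ := Scheme.Pullback.exists_preimage_pullback (f := W.ι ≫ prj f U) (g := p) ⟨w, hw⟩
        (IsLocalRing.closedPoint Ω) hwu
      haveI : Nonempty (pullback (W.ι ≫ prj f U) p : Scheme) := ⟨c⟩
      obtain ⟨s, hs⟩ := LiftPt.exists_section (pullback.snd (W.ι ≫ prj f U) p)
      have hl : (s ≫ pullback.fst (W.ι ≫ prj f U) p ≫ W.ι) ≫ prj f U = p := by
        rw [Category.assoc, Category.assoc, pullback.condition, reassoc_of% hs]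
      have : (0 : ℕ∞) < {l : Spec (CommRingCat.of Ω) ⟶ ((Over.pullback f).obj U).left |
          l ≫ prj f U = p ∧ Set.range l.base ⊆ W}.encard := Set.encard_pos.2 ⟨_, hl, by
        rintro _ ⟨z, rfl⟩
        exact ((s ≫ pullback.fst (W.ι ≫ prj f U) p).base z).2⟩
      exact absurd hn (not_le.2 (by exact_mod_cast this))
    · let V : U.left.Opens := ⟨((prj f U).base '' W)ᶜ, ((prj f U).isClosedMap _ hW).isOpen_compl⟩
      let g : opPart U V ⟶ U := opIncl U V
      have h0 : F'.obj.map ((Over.pullback f).map g).op y = 0 := hy _ _ (Set.disjoint_left.2 (by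
        rintro _ ⟨z, rfl⟩ hz
        refine ((prj f (opPart U V)).base z).2 ⟨_, hz, ?_⟩
        exact congrArg (fun m : _ ⟶ U.left => m.base z) (isPullback_prj f g).w))
      have hn' := nval_natural f F' N (unNorm f F' ψ) g k y
      have hp' := pval_natural f F' ψ g k y
      rw [h0, nval_zero] at hn'
      rw [h0, pval_zero] at hp'
      exact germ_eq_of_appTop V.ι (hn'.symm.trans hp') ⟨_, hu⟩
  | succ n ih =>
    by_cases hl : {l : Spec (CommRingCat.of Ω) ⟶ ((Over.pullback f).obj U).left |
      l ≫ prj f U = p ∧ Set.range l.base ⊆ W}.encard ≤ n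
    · exact ih k y W hW hy Ω p hl inferInstance inferInstance
    obtain ⟨l₀, hl₀, hl₀W⟩ : {l : Spec (CommRingCat.of Ω) ⟶ ((Over.pullback f).obj U).left |
        l ≫ prj f U = p ∧ Set.range l.base ⊆ W}.Nonempty :=
      Set.encard_pos.1 (lt_of_le_of_lt zero_le (not_le.1 hl))
    let Z : Over X' := opPart ((Over.pullback f).obj U) W
    let ι₀ : Z ⟶ (Over.pullback f).obj U := opIncl _ W
    let g : (Over.map f).obj Z ⟶ U := adjHom f ι₀
    haveI : Etale g.left := by rw [adjHom_left]; show Etale (W.ι ≫ prj f U); infer_instance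
    have hgσ : sg f Z ≫ (Over.pullback f).map g = ι₀ := sg_adjHom f ι₀
    let y' := F'.obj.map ((Over.pullback f).map g).op y
    let x := F'.obj.map ι₀.op y
    let y₂ := y' - ext f F' Z x
    let W₂ : ((Over.pullback f).obj ((Over.map f).obj Z)).left.Opens := ((Over.pullback f).map g).left ⁻¹ᵁ W ⊓ off f Z
    have hW₂ : IsClosed (W₂ : Set ((Over.pullback f).obj ((Over.map f).obj Z)).left) :=
      (hW.preimage ((Over.pullback f).map g).left.continuous).inter
        (sg f Z).left.isOpenEmbedding.isOpen_range.isClosed_compl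
    have hv : Vanish F' y₂ (W₂ : Set ((Over.pullback f).obj ((Over.map f).obj Z)).left) := by
      intro B b hb
      refine eq_of_restrict F' B (b.left ⁻¹ᵁ (sg f Z).left.opensRange) (b.left ⁻¹ᵁ off f Z)
        (Set.disjoint_left.2 fun z h h' => h' h) (fun z => em _) ?_ ?_
      · rw [map_zero, map_map]
        obtain ⟨b', hb'⟩ := exists_fac_sg f (opIncl B (b.left ⁻¹ᵁ (sg f Z).left.opensRange) ≫ b) (by
          rintro _ ⟨z, rfl⟩; exact z.2)
        rw [← hb', ← map_map, map_sub, map_sg_ext, map_map, hgσ, sub_self, map_zero]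
      · rw [map_zero, map_map, map_sub, vanish_ext f F' Z x _ _ (Set.disjoint_left.2 (by
          rintro _ ⟨z, rfl⟩ h; exact z.2 h)), sub_zero, map_map]
        refine hy _ _ (Set.disjoint_left.2 ?_)
        rintro _ ⟨z, rfl⟩ h
        exact Set.disjoint_left.1 hb ⟨((b.left ⁻¹ᵁ off f Z).ι.base z), rfl⟩ ⟨h, z.2⟩
    have hr : Set.range l₀.base ⊆ Set.range W.ι.base := by rw [Scheme.Opens.range_ι]; exact hl₀W
    let q : Spec (CommRingCat.of Ω) ⟶ ((Over.map f).obj Z).left := IsOpenImmersion.lift W.ι l₀ hr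
    have hq : q ≫ W.ι = l₀ := IsOpenImmersion.lift_fac _ _ hr
    have hqp : q ≫ g.left = p := by
      rw [adjHom_left]
      show q ≫ W.ι ≫ prj f U = p
      rw [reassoc_of% hq, hl₀]
    let S₂ := {l : Spec (CommRingCat.of Ω) ⟶ ((Over.pullback f).obj ((Over.map f).obj Z)).left |
      l ≫ prj f ((Over.map f).obj Z) = q ∧ Set.range l.base ⊆ W₂}
    let S₁ := {l : Spec (CommRingCat.of Ω) ⟶ ((Over.pullback f).obj U).left |
      l ≫ prj f U = p ∧ Set.range l.base ⊆ W}
    have hH := isPullback_prj f g
    have hle : S₂.encard ≤ (S₁ \ {l₀}).encard := by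
      refine Set.encard_le_encard_of_injOn (f := fun l => l ≫ ((Over.pullback f).map g).left) ?_ ?_
      · rintro l ⟨h1, h2⟩
        refine ⟨⟨?_, ?_⟩, ?_⟩
        · rw [Category.assoc, hH.w, reassoc_of% h1, hqp]
        · rintro _ ⟨z, rfl⟩
          exact (h2 ⟨z, rfl⟩).1
        · intro heq
          have : l = q ≫ (sg f Z).left := hH.hom_ext (by
            rw [Category.assoc, ← Over.comp_left, hgσ]
            exact (Set.mem_singleton_iff.1 heq).trans hq.symm) (by
            exact h1.trans ((Category.assoc _ _ _).trans ((congrArg (q ≫ ·) (sg_prj f Z)).trans (Category.comp_id _))).symm)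
          exact (h2 ⟨IsLocalRing.closedPoint Ω, rfl⟩).2 ⟨q.base (IsLocalRing.closedPoint Ω), by rw [this]; rfl⟩
      · intro l hl l' hl' e
        exact hH.hom_ext e (hl.1.trans hl'.1.symm)
    have hcard : S₂.encard ≤ n := by
      refine hle.trans ?_
      rw [← ENat.add_le_add_iff_right (k := 1) ENat.one_ne_top,
        Set.encard_diff_singleton_add_one (show l₀ ∈ S₁ from ⟨hl₀, hl₀W⟩)]
      exact_mod_cast hn
    have e2 := ih (g ≫ k) y₂ W₂ hW₂ hv Ω q hcard (MorphismProperty.pullback_fst _ _ inferInstance)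
      (MorphismProperty.pullback_fst _ _ inferInstance)
    have e1 : nval f F' N (unNorm f F' ψ) (g ≫ k) (ext f F' Z x) = pval f F' ψ (g ≫ k) (ext f F' Z x) := by
      have hk : g ≫ k = adjHom f (ι₀ ≫ (Over.pullback f).map k) := (adjHom_comp_right f ι₀ k).symm
      rw [hk, nval_ext f F' N hN, fn_unNorm]
      rfl
    have e : ((Over.map f).obj Z).left.presheaf.germ ⊤ (q.base (IsLocalRing.closedPoint Ω)) trivial
          (nval f F' N (unNorm f F' ψ) (g ≫ k) y') =
        ((Over.map f).obj Z).left.presheaf.germ ⊤ (q.base (IsLocalRing.closedPoint Ω)) trivial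
          (pval f F' ψ (g ≫ k) y') := by
      rw [show y' = ext f F' Z x + y₂ by simp [y₂], nval_add, pval_add, map_mul, map_mul, e1, e2]
    have hg : ∀ a : Γ(U.left, ⊤), ((Over.map f).obj Z).left.presheaf.germ ⊤ (q.base (IsLocalRing.closedPoint Ω)) trivial
        (g.left.appTop a) = (g.left.stalkMap (q.base (IsLocalRing.closedPoint Ω))).hom
          (U.left.presheaf.germ ⊤ (g.left.base (q.base (IsLocalRing.closedPoint Ω))) trivial a) := fun a =>
      (Scheme.Hom.germ_stalkMap_apply g.left ⊤ _ trivial a).symm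
    rw [nval_natural, pval_natural, hg, hg] at e
    have := stalkMap_injective g.left _ e
    rw [← hqp]
    exact this

include hN in
theorem nval_unNorm {U : Over X} (k : U ⟶ T) (y : F'.obj.obj (op ((Over.pullback f).obj U))) :
    nval f F' N (unNorm f F' ψ) k y = pval f F' ψ k y := by
  refine TopCat.Presheaf.section_ext U.left.sheaf ⊤ _ _ fun z _ => ?_
  let Ω := AlgebraicClosure (U.left.residueField z)
  let p : Spec (CommRingCat.of Ω) ⟶ U.left :=
    Spec.map (CommRingCat.ofHom (algebraMap (U.left.residueField z) Ω)) ≫ U.left.fromSpecResidueField z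
  have hp : p.base (IsLocalRing.closedPoint Ω) = z := U.left.fromSpecResidueField_apply z _
  haveI : IsFinite (prj f U) := MorphismProperty.pullback_fst _ _ inferInstance
  let c := pullback.snd (prj f U) p
  haveI : Finite (pullback (prj f U) p : Scheme) := by
    haveI : Subsingleton (Spec (CommRingCat.of Ω)) := inferInstanceAs (Subsingleton (PrimeSpectrum Ω))
    refine Set.finite_univ_iff.mp ((c.finite_preimage_singleton (IsLocalRing.closedPoint Ω)).subset fun _ _ => ?_)
    exact Subsingleton.elim _ _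
  haveI : JacobsonSpace (pullback (prj f U) p : Scheme) := LocallyOfFiniteType.jacobsonSpace c
  haveI : Finite {s : Spec (CommRingCat.of Ω) ⟶ pullback (prj f U) p // s ≫ c = 𝟙 _} :=
    Finite.of_equiv _ (pointEquivClosedPoint c).symm
  let S := {l : Spec (CommRingCat.of Ω) ⟶ ((Over.pullback f).obj U).left |
    l ≫ prj f U = p ∧ Set.range l.base ⊆ ((⊤ : ((Over.pullback f).obj U).left.Opens) : Set _)}
  have hS : S.Finite := by
    refine Set.finite_coe_iff.mp (Finite.of_injective (fun l : S =>
      (⟨pullback.lift l.1 (𝟙 _) (by rw [l.2.1, Category.id_comp]), pullback.lift_snd _ _ _⟩ :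
        {s : Spec (CommRingCat.of Ω) ⟶ pullback (prj f U) p // s ≫ c = 𝟙 _})) ?_)
    intro a b h
    have := congrArg (fun s => s.1 ≫ pullback.fst (prj f U) p) h
    exact Subtype.ext ((pullback.lift_fst _ _ _).symm.trans (this.trans (pullback.lift_fst _ _ _)))
  have hk := key f F' N hN ψ hS.toFinset.card k y ⊤ isClosed_univ (fun V b hb => by
    haveI : IsEmpty V.left := ⟨fun v => Set.disjoint_left.1 hb ⟨v, rfl⟩ (Set.mem_univ _)⟩
    exact (subsingleton_of_isEmpty F' V).elim _ _) Ω p (le_of_eq hS.encard_eq_coe_toFinset_card)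
  rw [hp] at hk
  exact hk

omit [IsFinite f] [Etale f] in
theorem fn_dualNormMap (T : Over X)
    (χ : F'.over ((Over.pullback f).obj T) ⟶ (CGrpSh2.Gm Scheme.fppfPrecoverage X').over ((Over.pullback f).obj T))
    (U : (Over T)ᵒᵖ) (y : F'.obj.obj (op ((Over.pullback f).obj (unop U).left))) :
    fn (T := (unop U).left) (((CGrpSh3.dualNormMap Scheme.fppfPrecoverage f N F').hom.app (op T) χ).hom.app U y) =
      nval f F' N χ (unop U).hom y := by
  rw [CGrpSh3.dualNormMap_app_apply]
  rfl

include hN in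
theorem bijective_app (T : Over X) :
    Function.Bijective ((CGrpSh3.dualNormMap Scheme.fppfPrecoverage f N F').hom.app (op T)) := by
  refine ⟨fun χ χ' e => ?_, fun ψ => ⟨unNorm f F' ψ, ?_⟩⟩
  · refine Sheaf.hom_ext (NatTrans.ext (funext fun V => AddCommGrpCat.ext fun x => fn_injective ?_))
    have h1 := fn_dualNormMap f F' N T χ (op (Over.mk (adjHom f (unop V).hom))) (ext f F' (unop V).left x)
    rw [e, fn_dualNormMap f F' N T χ' (op (Over.mk (adjHom f (unop V).hom))) (ext f F' (unop V).left x)] at h1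
    exact (nval_ext f F' N hN χ (unop V).hom x).symm.trans (h1.symm.trans (nval_ext f F' N hN χ' (unop V).hom x))
  · refine Sheaf.hom_ext (NatTrans.ext (funext fun V => AddCommGrpCat.ext fun y => fn_injective ?_))
    exact (fn_dualNormMap f F' N T _ V y).trans (nval_unNorm f F' N hN ψ (unop V).hom y)

include hN in
theorem isIso_dualNormMap : IsIso (CGrpSh3.dualNormMap Scheme.fppfPrecoverage f N F') := by
  haveI : ∀ T, IsIso ((CGrpSh3.dualNormMap Scheme.fppfPrecoverage f N F').hom.app T) := fun T =>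
    (ConcreteCategory.isIso_iff_bijective _).2 (bijective_app f F' N hN (unop T))
  haveI : IsIso ((sheafToPresheaf _ _).map (CGrpSh3.dualNormMap Scheme.fppfPrecoverage f N F')) :=
    NatIso.isIso_of_isIso_app (CGrpSh3.dualNormMap Scheme.fppfPrecoverage f N F').hom
  exact isIso_of_reflects_iso _ (sheafToPresheaf _ _)

end Norm

end Groth.Agent.Hopf35.DualNormIso
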