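import Groth.Agent.BiextSec7.Main
import Groth.Agent.Big45.LanExact
import Groth.Prelude.Def_CGrpSh2
import Mathlib.CategoryTheory.Sites.Over
import Mathlib.CategoryTheory.Sites.CoverLifting
import Mathlib.CategoryTheory.Limits.Constructions.Over.Connected
import Mathlib.Algebra.Homology.ShortComplex.ShortExact

/-!
helper35: the dual of a short exact sequence of abelian sheaves with vanishing `𝓔xt¹` is short exact, and
reflexivity passes to extensions.
-/

set_option autoImplicit false
universe u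

open CategoryTheory CategoryTheory.Limits Opposite

noncomputable section

namespace Groth.Agent.Hopf35.DualSeq

variable {C : Type (u + 1)} [Category.{u} C] {J : GrothendieckTopology C}
  [HasSheafify J AddCommGrpCat.{u + 1}]

theorem injective_over [HasPullbacks C] [HasEqualizers C] (T : C) [HasSheafify (J.over T) AddCommGrpCat.{u + 1}]
    (I : Sheaf J AddCommGrpCat.{u + 1}) [Injective I] :
    Injective ((J.overPullback AddCommGrpCat.{u + 1} T).obj I) := by
  haveI : Big45.HasPseudoFilteredComma (Over.forget T) :=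
    Big45.hasPseudoFilteredComma_of_preserves (Over.forget T)
  haveI := Big45.sheafPullback_preservesFiniteLimits (Over.forget T) (J.over T) J
  exact Injective.injective_of_adjoint
    ((Over.forget T).sheafAdjunctionContinuous AddCommGrpCat.{u + 1} (J.over T) J) I

variable {S : ShortComplex (Sheaf J AddCommGrpCat.{u + 1})} [∀ T : C, HasSheafify (J.over T) AddCommGrpCat.{u + 1}]

theorem map_shortExact (hS : S.ShortExact) (T : C) :
    (S.map (J.overPullback AddCommGrpCat.{u + 1} T)).ShortExact := by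
  haveI := ((Over.forget T).sheafAdjunctionContinuous AddCommGrpCat.{u + 1} (J.over T) J).isRightAdjoint
  haveI := ((Over.forget T).sheafAdjunctionCocontinuous AddCommGrpCat.{u + 1} (J.over T) J).isLeftAdjoint
  haveI : PreservesFiniteLimits (J.overPullback AddCommGrpCat.{u + 1} T) :=
    ⟨fun _ _ _ =>
      ((Over.forget T).sheafAdjunctionContinuous AddCommGrpCat.{u + 1} (J.over T) J).rightAdjoint_preservesLimits.preservesLimitsOfShape⟩
  haveI : PreservesFiniteColimits (J.overPullback AddCommGrpCat.{u + 1} T) :=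
    ⟨fun _ _ _ =>
      ((Over.forget T).sheafAdjunctionCocontinuous AddCommGrpCat.{u + 1} (J.over T) J).leftAdjoint_preservesColimits.preservesColimitsOfShape⟩
  exact hS.map_of_exact _

theorem sh_injective {A B : Sheaf J AddCommGrpCat.{u + 1}} (a : A ⟶ B) [Mono a] (U : C) :
    Function.Injective (a.hom.app (op U)) := by
  have : Mono a.hom := inferInstanceAs (Mono ((sheafToPresheaf _ _).map a))
  exact (AddCommGrpCat.mono_iff_injective (a.hom.app (op U))).1 inferInstance

theorem mono_of_sections {A B : Sheaf J AddCommGrpCat.{u + 1}} (a : A ⟶ B)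
    (h : ∀ T x, a.hom.app T x = 0 → x = 0) : Mono a := by
  refine ⟨fun {W} p q e => Sheaf.hom_ext (NatTrans.ext (funext fun T => AddCommGrpCat.ext fun x => ?_))⟩
  exact sub_eq_zero.1 (h T _ ((map_sub _ _ _).trans (sub_eq_zero.2
    (ConcreteCategory.congr_hom (NatTrans.congr_app (congrArg (fun φ => φ.hom) e) T) x))))

theorem exact_of_sections {A B D : Sheaf J AddCommGrpCat.{u + 1}} (a : A ⟶ B) (b : B ⟶ D) (w : a ≫ b = 0) [Mono a]
    (h : ∀ T x, b.hom.app T x = 0 → ∃ y, a.hom.app T y = x) : (ShortComplex.mk a b w).Exact := by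
  refine ShortComplex.exact_of_f_is_kernel _ (KernelFork.IsLimit.ofι' a w fun {W} c hc => ?_)
  choose y hy using fun T x => h T (c.hom.app T x)
    (ConcreteCategory.congr_hom (NatTrans.congr_app (congrArg (fun φ => φ.hom) hc) T) x)
  have hinj := fun T : Cᵒᵖ => sh_injective a (unop T)
  refine ⟨⟨{ app := fun T => AddCommGrpCat.ofHom (AddMonoidHom.mk' (y T) fun x x' => hinj T (by
               rw [hy, map_add, map_add, hy, hy]))
             naturality := fun T U g => AddCommGrpCat.ext fun x => hinj U ?_ }⟩, ?_⟩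
  · show a.hom.app U (y U (W.obj.map g x)) = a.hom.app U (A.obj.map g (y T x))
    exact (hy U _).trans ((NatTrans.naturality_apply c.hom g x).trans
      ((congrArg (B.obj.map g) (hy T x).symm).trans (NatTrans.naturality_apply a.hom g _).symm))
  · exact Sheaf.hom_ext (NatTrans.ext (funext fun T => AddCommGrpCat.ext fun x => hy T x))

variable (M : Sheaf J AddCommGrpCat.{u + 1})

theorem dual_w (S : ShortComplex (Sheaf J AddCommGrpCat.{u + 1})) :
    HomSh.homShMap J S.g (𝟙 M) ≫ HomSh.homShMap J S.f (𝟙 M) = 0 := by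
  rw [← HomSh.homShMap_comp, S.zero, Category.comp_id]
  refine Sheaf.hom_ext (NatTrans.ext (funext fun T => AddCommGrpCat.ext fun x => ?_))
  show (J.overPullback AddCommGrpCat.{u + 1} (unop T)).map (0 : S.X₁ ⟶ S.X₃) ≫ _ ≫ _ = 0
  rw [Functor.map_zero, zero_comp]

variable (S) in
/-- The dual sequence. -/
abbrev dual : ShortComplex (Sheaf J AddCommGrpCat.{u + 1}) :=
  ShortComplex.mk (HomSh.homShMap J S.g (𝟙 M)) (HomSh.homShMap J S.f (𝟙 M)) (dual_w M S)

theorem mono_dual (hS : S.ShortExact) : Mono (HomSh.homShMap J S.g (𝟙 M)) := by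
  refine mono_of_sections _ fun T x hx => ?_
  let P := J.overPullback AddCommGrpCat.{u + 1} (unop T)
  haveI := (map_shortExact hS (unop T)).epi_g
  let x' : P.obj S.X₃ ⟶ P.obj M := x
  have hx' : P.map S.g ≫ x' = 0 :=
    (congrArg (P.map S.g ≫ ·) ((congrArg (x' ≫ ·) (P.map_id M)).trans (Category.comp_id x'))).symm.trans hx
  exact (cancel_epi ((S.map P).g)).1 (hx'.trans comp_zero.symm)

theorem exact_dual (hS : S.ShortExact) : (dual S M).Exact := by
  haveI := mono_dual M hS
  refine exact_of_sections _ _ _ fun T x hx => ?_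
  let P := J.overPullback AddCommGrpCat.{u + 1} (unop T)
  have h := map_shortExact hS (unop T)
  haveI := h.epi_g
  let x' : P.obj S.X₂ ⟶ P.obj M := x
  have hx' : (S.map P).f ≫ x' = 0 :=
    (congrArg (P.map S.f ≫ ·) ((congrArg (x' ≫ ·) (P.map_id M)).trans (Category.comp_id x'))).symm.trans hx
  refine ⟨h.exact.desc x' hx', ?_⟩
  show P.map S.g ≫ h.exact.desc x' hx' ≫ P.map (𝟙 M) = x'
  exact (congrArg (P.map S.g ≫ ·) ((congrArg (_ ≫ ·) (P.map_id M)).trans (Category.comp_id _))).trans
    (h.exact.g_desc x' hx')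

variable [HasPullbacks C] [HasEqualizers C] [HasInjectiveResolutions (Sheaf J AddCommGrpCat.{u + 1})]

/-- Vanishing of `𝓔xt¹` makes restriction of homomorphisms locally surjective. -/
theorem epi_dual (hS : S.ShortExact) (hExt : IsZero ((HomSh.extSh J S.X₃ 1).obj M)) :
    Epi (HomSh.homShMap J S.f (𝟙 M)) := by
  obtain ⟨R⟩ := (inferInstance : HasInjectiveResolution M).out
  let F := HomSh.homShFunctor J S.X₃
  let I0 := R.cocomplex.X 0
  let I1 := R.cocomplex.X 1
  let j : M ⟶ I0 := R.ι.f 0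
  let d : I0 ⟶ I1 := R.cocomplex.d 0 1
  let d₁ : I1 ⟶ R.cocomplex.X 2 := R.cocomplex.d 1 2
  have hjd : j ≫ d = 0 := R.ι_f_zero_comp_complex_d
  let Q : ShortComplex (Sheaf J AddCommGrpCat.{u + 1}) :=
    ShortComplex.mk (F.map d) (F.map d₁) (by rw [← F.map_comp, R.cocomplex.d_comp_d, F.map_zero])
  have hQ : IsZero Q.homology := by
    refine IsZero.of_iso hExt (Iso.symm ?_)
    exact eqToIso (by rw [HomSh.extSh_def]) ≪≫ R.isoRightDerivedObj F 1 ≪≫
      ShortComplex.homologyMapIso
        (((F.mapHomologicalComplex _).obj R.cocomplex).isoSc' 0 1 2 (by simp) (by simp))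
  refine (Sheaf.isLocallySurjective_iff_epi' AddCommGrpCat.{u + 1} _).1 ⟨fun {T} e => ?_⟩
  let O := fun U : C => J.overPullback AddCommGrpCat.{u + 1} U
  let χ : (O T).obj S.X₁ ⟶ (O T).obj M := e
  have hmap := map_shortExact hS T
  haveI : Mono (S.map (O T)).f := hmap.mono_f
  haveI : Mono ((O T).map S.f) := hmap.mono_f
  haveI : Epi (S.map (O T)).g := hmap.epi_g
  haveI : Injective ((O T).obj I0) := injective_over T I0
  let ψ : (O T).obj S.X₂ ⟶ (O T).obj I0 :=
    Injective.factorThru (χ ≫ (O T).map j) ((O T).map S.f)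
  have hψ : (O T).map S.f ≫ ψ = χ ≫ (O T).map j :=
    Injective.comp_factorThru (χ ≫ (O T).map j) ((O T).map S.f)
  have hψd : (S.map (O T)).f ≫ (ψ ≫ (O T).map d) = 0 := by
    show (O T).map S.f ≫ ψ ≫ (O T).map d = 0
    rw [← Category.assoc, hψ, Category.assoc, ← Functor.map_comp, hjd, Functor.map_zero, comp_zero]
  let θ : (O T).obj S.X₃ ⟶ (O T).obj I1 := hmap.exact.desc _ hψd
  have hθ : (O T).map S.g ≫ θ = ψ ≫ (O T).map d := hmap.exact.g_desc _ hψd
  have hθd : θ ≫ (O T).map d₁ = 0 := by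
    refine (cancel_epi ((S.map (O T)).g)).1 ?_
    show (O T).map S.g ≫ θ ≫ (O T).map d₁ = _
    rw [← Category.assoc, hθ, Category.assoc, ← Functor.map_comp, R.cocomplex.d_comp_d, Functor.map_zero,
      comp_zero]
    exact comp_zero.symm
  have hcyc : Q.g.hom.app (op T) θ = 0 := by
    show (O T).map (𝟙 S.X₃) ≫ θ ≫ (O T).map d₁ = 0
    rw [hθd, comp_zero]
  obtain ⟨c, hc⟩ := BiextSec7.exists_cycle Q θ hcyc
  have hc0 : Q.homologyπ.hom.app (op T) c = 0 := by
    have := ConcreteCategory.congr_hom (NatTrans.congr_app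
      (congrArg (fun φ => φ.hom) (hQ.eq_of_tgt Q.homologyπ 0)) (op T)) c
    exact this
  obtain ⟨R', hR', hpre⟩ := BiextSec7.exists_local_preimage Q c hc0
  refine J.superset_covering ?_ hR'
  intro U g hg
  obtain ⟨η, hη⟩ := hpre g hg
  rw [hc] at hη
  let res := J.overMapPullback AddCommGrpCat.{u + 1} g
  let η' : (O U).obj S.X₃ ⟶ (O U).obj I0 := η
  have hη' : η' ≫ (O U).map d = res.map θ := by
    refine Eq.trans ?_ hη
    show _ = (O U).map (𝟙 S.X₃) ≫ η' ≫ (O U).map d
    rw [(O U).map_id, Category.id_comp]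
  let ψ₀ : (O U).obj S.X₂ ⟶ (O U).obj I0 := res.map ψ
  let ψU : (O U).obj S.X₂ ⟶ (O U).obj I0 := ψ₀ - (O U).map S.g ≫ η'
  have hψU : ψU ≫ (O U).map d = 0 := by
    show (ψ₀ - (O U).map S.g ≫ η') ≫ (O U).map d = 0
    rw [Preadditive.sub_comp, sub_eq_zero, Category.assoc, hη']
    exact ((res.map_comp _ _).symm.trans (congrArg (fun q => res.map q) hθ.symm)).trans (res.map_comp _ _)
  haveI hjm : Mono j := inferInstanceAs (Mono (R.ι.f 0))
  have hU := map_shortExact (S := S) hS U
  haveI : PreservesFiniteLimits (O U) :=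
    ⟨fun _ _ _ =>
      ((Over.forget U).sheafAdjunctionContinuous AddCommGrpCat.{u + 1} (J.over U) J).rightAdjoint_preservesLimits.preservesLimitsOfShape⟩
  have hlim := isLimitForkMapOfIsLimit' (O U) hjd R.isLimitKernelFork
  obtain ⟨χ', hχ'⟩ := KernelFork.IsLimit.lift' hlim ψU hψU
  refine ⟨χ', ?_⟩
  haveI : Mono ((O U).map j) := inferInstance
  show (O U).map S.f ≫ χ' ≫ (O U).map (𝟙 M) = res.map χ
  refine (congrArg ((O U).map S.f ≫ ·) ((congrArg (χ' ≫ ·) ((O U).map_id M)).trans (Category.comp_id χ'))).trans ?_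
  let χU : (O U).obj S.X₁ ⟶ (O U).obj M := res.map χ
  show (O U).map S.f ≫ χ' = χU
  rw [← cancel_mono ((O U).map j), Category.assoc, show χ' ≫ (O U).map j = ψU from hχ']
  show (O U).map S.f ≫ (ψ₀ - (O U).map S.g ≫ η') = χU ≫ (O U).map j
  rw [Preadditive.comp_sub, ← Category.assoc ((O U).map S.f) ((O U).map S.g), ← Functor.map_comp, S.zero,
    Functor.map_zero, zero_comp, sub_zero]
  exact ((res.map_comp _ _).symm.trans (congrArg (fun q => res.map q) hψ)).trans (res.map_comp _ _)

theorem shortExact_dual (hS : S.ShortExact) (hExt : IsZero ((HomSh.extSh J S.X₃ 1).obj M)) :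
    (dual S M).ShortExact :=
  { exact := exact_dual M hS, mono_f := mono_dual M hS, epi_g := epi_dual M hS hExt }

omit [HasSheafify J AddCommGrpCat.{u + 1}] [∀ T : C, HasSheafify (J.over T) AddCommGrpCat.{u + 1}]
  [HasPullbacks C] [HasEqualizers C] [HasInjectiveResolutions (Sheaf J AddCommGrpCat.{u + 1})] in
theorem bidualMap_natural {A B : Sheaf J AddCommGrpCat.{u + 1}} (a : A ⟶ B) :
    a ≫ HomSh.bidualMap J B M =
      HomSh.bidualMap J A M ≫ HomSh.homShMap J (HomSh.homShMap J a (𝟙 M)) (𝟙 M) := by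
  refine Sheaf.hom_ext (NatTrans.ext (funext fun X => AddCommGrpCat.ext fun s => ?_))
  refine Sheaf.hom_ext (NatTrans.ext (funext fun U => AddCommGrpCat.ext fun φ => ?_))
  exact congrArg (HomSh.ev J φ) (NatTrans.naturality_apply a.hom (unop U).hom.op s).symm

/-- Reflexivity passes to extensions. -/
theorem isIso_bidual (hS : S.ShortExact) (hExt : IsZero ((HomSh.extSh J S.X₃ 1).obj M))
    (h₁ : IsIso (HomSh.bidualMap J S.X₁ M)) (h₃ : IsIso (HomSh.bidualMap J S.X₃ M)) :
    IsIso (HomSh.bidualMap J S.X₂ M) := by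
  have hd := shortExact_dual M hS hExt
  let φ : S ⟶ dual (dual S M) M :=
    ShortComplex.homMk (HomSh.bidualMap J S.X₁ M) (HomSh.bidualMap J S.X₂ M) (HomSh.bidualMap J S.X₃ M)
      (bidualMap_natural M S.f).symm (bidualMap_natural M S.g).symm
  haveI := hS.epi_g
  haveI : Epi (dual (dual S M) M).g := by
    haveI : Epi (HomSh.bidualMap J S.X₂ M ≫ (dual (dual S M) M).g) := by
      rw [show HomSh.bidualMap J S.X₂ M ≫ (dual (dual S M) M).g = S.g ≫ HomSh.bidualMap J S.X₃ M from
        (bidualMap_natural M S.g).symm]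
      infer_instance
    exact epi_of_epi (HomSh.bidualMap J S.X₂ M) _
  have hdd : (dual (dual S M) M).ShortExact :=
    { exact := exact_dual M hd, mono_f := mono_dual M hd, epi_g := inferInstance }
  haveI : IsIso φ.τ₁ := h₁
  haveI : IsIso φ.τ₃ := h₃
  exact ShortComplex.isIso₂_of_shortExact_of_isIso₁₃ φ hS hdd

end Groth.Agent.Hopf35.DualSeq
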