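import Groth.Agent.Alb96.Hom
import Groth.Agent.Alb96.GeomInt
import Groth.Agent.WC97.Reduced
import Groth.Agent.AbSch7.SmoothFib
import Mathlib

/-!
helper35: factoring a homomorphism through an étale isogeny (algebraically closed base field).
-/

set_option autoImplicit false
set_option linter.style.haveILetI false

universe u

open CategoryTheory Limits AlgebraicGeometry MonoidalCategory CartesianMonoidalCategory MonObj

noncomputable section

namespace Groth.Agent.Hopf35.EtaleIsogeny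

variable {k : Type u} [Field k] [IsAlgClosed k] {E E' E'' : Over (Spec (CommRingCat.of k))}
  [GrpObj E] [GrpObj E'] [GrpObj E'']

theorem existsUnique_hom_comp_eq [Smooth E.hom] [IsProper E'.hom] [Smooth E'.hom] [ConnectedSpace E'.left]
    [IsSeparated E''.hom] [LocallyOfFiniteType E''.hom]
    (φ : E ⟶ E') [IsMonHom φ] [IsFinite φ.left] [Surjective φ.left] [Etale φ.left] (ψ : E ⟶ E'') [IsMonHom ψ]
    (hker : ∀ P : 𝟙_ (Over (Spec (CommRingCat.of k))) ⟶ E, P ≫ φ = η[E'] → P ≫ ψ = η[E'']) :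
    ∃! ρ : E' ⟶ E'', IsMonHom ρ ∧ φ ≫ ρ = ψ := by
  let p₁ := pullback.fst φ.left φ.left
  let p₂ := pullback.snd φ.left φ.left
  have hpts : ∀ P Q : 𝟙_ (Over (Spec (CommRingCat.of k))) ⟶ E, P ≫ φ = Q ≫ φ → P ≫ ψ = Q ≫ ψ := fun P Q h => by
    have h1 : (P * Q⁻¹) ≫ φ = η[E'] := by rw [MonObj.mul_comp, GrpObj.inv_comp, h, mul_inv_cancel, MonObj.one_eq_one]
    have h2 := hker _ h1
    rw [MonObj.mul_comp, GrpObj.inv_comp, MonObj.one_eq_one, mul_inv_eq_one] at h2
    exact h2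
  have hw : p₁ ≫ E.hom = p₂ ≫ E.hom := by
    rw [← Over.w φ]; exact pullback.condition_assoc _
  haveI : Smooth (p₁ ≫ E.hom) := inferInstance
  haveI : IsReduced (pullback φ.left φ.left) := WC97.isReduced_of_smooth (p₁ ≫ E.hom)
  have heq : p₁ ≫ ψ.left = p₂ ≫ ψ.left := by
    have hbase : (p₁ ≫ ψ.left) ≫ E''.hom = (p₂ ≫ ψ.left) ≫ E''.hom := by
      rw [Category.assoc, Category.assoc, Over.w]; exact hw
    haveI : LocallyOfFiniteType ((p₁ ≫ ψ.left) ≫ E''.hom) := by
      rw [Category.assoc, Over.w]; infer_instance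
    refine AlgebraicGeometry.ext_of_apply_eq E''.hom Set.univ isClosed_univ.isLocallyClosed dense_univ
      (fun z _ hz => ?_) hbase
    let t := pointOfClosedPoint (p₁ ≫ E.hom) z hz
    have ht : t ≫ p₁ ≫ E.hom = 𝟙 _ := pointOfClosedPoint_comp (p₁ ≫ E.hom) z hz
    have ht2 : t ≫ p₂ ≫ E.hom = 𝟙 _ := by rw [← hw]; exact ht
    let P : 𝟙_ (Over (Spec (CommRingCat.of k))) ⟶ E := Over.homMk (t ≫ p₁) ((Category.assoc _ _ _).trans ht)
    let Q : 𝟙_ (Over (Spec (CommRingCat.of k))) ⟶ E := Over.homMk (t ≫ p₂) ((Category.assoc _ _ _).trans ht2)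
    have hPQ : P ≫ φ = Q ≫ φ := Over.OverMorphism.ext (by
      show (t ≫ p₁) ≫ φ.left = (t ≫ p₂) ≫ φ.left
      rw [Category.assoc, Category.assoc, pullback.condition])
    have h0 : (t ≫ p₁) ≫ ψ.left = (t ≫ p₂) ≫ ψ.left := congrArg Over.Hom.left (hpts P Q hPQ)
    have h : ψ.left (p₁ (t (IsLocalRing.closedPoint k))) = ψ.left (p₂ (t (IsLocalRing.closedPoint k))) :=
      congrArg (fun f : Spec (CommRingCat.of k) ⟶ E''.left => f (IsLocalRing.closedPoint k)) h0
    rw [show t (IsLocalRing.closedPoint k) = z from pointOfClosedPoint_apply _ z hz _] at h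
    exact h
  have hcomp : ∀ {Z : Scheme.{u}} (a b : Z ⟶ E.left), a ≫ φ.left = b ≫ φ.left → a ≫ ψ.left = b ≫ ψ.left :=
    fun a b h => by
      have := congrArg (pullback.lift a b h ≫ ·) heq
      simpa only [p₁, p₂, pullback.lift_fst_assoc, pullback.lift_snd_assoc] using this
  haveI : EffectiveEpi φ.left := inferInstance
  let r := EffectiveEpi.desc φ.left ψ.left hcomp
  have hr : φ.left ≫ r = ψ.left := EffectiveEpi.fac φ.left ψ.left hcomp
  have hrw : r ≫ E''.hom = E'.hom := by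
    rw [← cancel_epi φ.left, ← Category.assoc, hr, Over.w, Over.w]
  let ρ : E' ⟶ E'' := Over.homMk r hrw
  have hρ : φ ≫ ρ = ψ := Over.OverMorphism.ext hr
  haveI : GeometricallyReduced E'.hom := AbSch7.geometricallyReduced_of_smooth E'.hom
  haveI : GeometricallyIntegral E'.hom := Alb96.geometricallyIntegral_of_connectedSpace E'
  have hη : η[E'] ≫ ρ = η[E''] := by
    rw [← IsMonHom.one_hom φ, Category.assoc, hρ, IsMonHom.one_hom ψ]
  refine ⟨ρ, ⟨Alb96.isMonHom_of_pointed ρ hη, hρ⟩, fun ρ' h => Over.OverMorphism.ext ?_⟩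
  rw [← cancel_epi φ.left]
  exact (congrArg Over.Hom.left h.2).trans hr.symm

end Groth.Agent.Hopf35.EtaleIsogeny
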