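import Groth.Agent.Hopf35.RelInv
import Mathlib

/-!
helper35: a Noetherian algebra with an action of a linearly reductive group is of finite type over its invariants.

`A` is the image of the invariants of `A ⊗ H` (diagonal action) under `id ⊗ ε`.
-/

set_option autoImplicit false
set_option linter.style.haveILetI false

universe u v w z

open TensorProduct WithConv HopfRep

noncomputable section

namespace Groth.Agent.Hopf35.FinTypeInv

variable {k : Type u} [Field k] {H : Type v} [CommRing H] [HopfAlgebra k H]
variable {A : Type w} [CommRing A] [Algebra k A] [Comod k H A] [GLin.IsCoactAlg k H A]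

/-- post-composition of points -/
def post {T : Type z} {T' : Type*} [CommRing T] [Algebra k T] [CommRing T'] [Algebra k T'] (f : T →ₐ[k] T') :
    WithConv (H →ₐ[k] T) →* WithConv (H →ₐ[k] T') where
  toFun s := toConv (f.comp s.ofConv)
  map_one' := by
    apply WithConv.ofConv_injective
    ext a
    simp [AlgHom.convOne_def]
  map_mul' a b := by
    apply WithConv.ofConv_injective
    exact AlgHom.comp_convMul_distrib f a b

/-- the group of points -/
instance ptGroup {T : Type z} [CommRing T] [Algebra k T] : Group (WithConv (H →ₐ[k] T)) :=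
  { (inferInstance : Monoid (WithConv (H →ₐ[k] T))) with
    inv := fun s => post s.ofConv (toConv (HopfAlgebra.antipodeAlgHom k H))
    inv_mul_cancel := fun s => by
      show post s.ofConv (toConv (HopfAlgebra.antipodeAlgHom k H)) * post s.ofConv (toConv (AlgHom.id k H)) = 1
      rw [← map_mul, AlgHom.antipode_id_cancel, map_one] }

/-- The action of points of the group on points of the space. -/
def act {T : Type z} [CommRing T] [Algebra k T] (f : A →ₐ[k] T) (σ : WithConv (H →ₐ[k] T)) : A →ₐ[k] T :=
  (Algebra.TensorProduct.lift f σ.ofConv fun _ _ => Commute.all _ _).comp (GLin.coactAlgHom k H A)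

theorem act_apply {T : Type z} [CommRing T] [Algebra k T] (f : A →ₐ[k] T) (σ : WithConv (H →ₐ[k] T)) (a : A) :
    act f σ a = Algebra.TensorProduct.lift f σ.ofConv (fun _ _ => Commute.all _ _)
      (Comod.coact (k := k) (A := H) a) := rfl

theorem act_one {T : Type z} [CommRing T] [Algebra k T] (f : A →ₐ[k] T) : act f (1 : WithConv (H →ₐ[k] T)) = f := by
  refine AlgHom.ext fun a => ?_
  rw [act_apply]
  have h2 := congrArg (TensorProduct.rid k A) (LinearMap.congr_fun (Comod.counit_comp (k := k) (A := H) (V := A)) a)
  simp at h2
  conv_rhs => rw [← h2]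
  generalize Comod.coact (k := k) (A := H) a = z
  induction z with
  | zero => simp
  | add x y hx hy => simp only [map_add, hx, hy]
  | tmul b h => simp [AlgHom.convOne_apply, Algebra.smul_def, mul_comm]

theorem act_act {T : Type z} [CommRing T] [Algebra k T] (f : A →ₐ[k] T) (σ τ : WithConv (H →ₐ[k] T)) :
    act (act f σ) τ = act f (σ * τ) := by
  refine AlgHom.ext fun a => ?_
  let L : A ⊗[k] (H ⊗[k] H) →ₐ[k] T :=
    Algebra.TensorProduct.lift f (Algebra.TensorProduct.lift σ.ofConv τ.ofConv fun _ _ => Commute.all _ _)
      fun _ _ => Commute.all _ _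
  have hc := congrArg L (LinearMap.congr_fun (Comod.coassoc (k := k) (A := H) (V := A)) a)
  simp only [LinearMap.comp_apply] at hc
  rw [act_apply, act_apply]
  refine Eq.trans ?_ (hc.trans ?_)
  · generalize Comod.coact (k := k) (A := H) a = z
    induction z with
    | zero => simp
    | add x y hx hy => simp only [map_add, hx, hy]
    | tmul b h =>
      rw [Algebra.TensorProduct.lift_tmul, act_apply, LinearMap.rTensor_tmul]
      generalize Comod.coact (k := k) (A := H) b = y
      induction y with
      | zero => simp
      | add x y hx hy => simp only [map_add, TensorProduct.add_tmul, add_mul, hx, hy]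
      | tmul c h' => simp [L, mul_assoc]
  · generalize Comod.coact (k := k) (A := H) a = z
    induction z with
    | zero => simp
    | add x y hx hy => simp only [map_add, hx, hy]
    | tmul b h =>
      rw [Algebra.TensorProduct.lift_tmul, LinearMap.lTensor_tmul, AlgHom.convMul_apply]
      generalize Coalgebra.comul (R := k) h = y
      induction y with
      | zero => simp
      | add x y hx hy => simp only [map_add, TensorProduct.tmul_add, mul_add, hx, hy]
      | tmul c h' => simp [L]

theorem act_cancel {T : Type z} [CommRing T] [Algebra k T] (f : A →ₐ[k] T) (σ τ : WithConv (H →ₐ[k] T)) :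
    act (act f τ) (σ * τ)⁻¹ = act f σ⁻¹ := by
  rw [mul_inv_rev, act_act, mul_inv_cancel_left]

theorem comp_act {T : Type z} {T' : Type*} [CommRing T] [Algebra k T] [CommRing T'] [Algebra k T']
    (g : T →ₐ[k] T') (f : A →ₐ[k] T) (σ : WithConv (H →ₐ[k] T)) :
    g.comp (act f σ) = act (g.comp f) (toConv (g.comp σ.ofConv)) := by
  refine AlgHom.ext fun a => ?_
  rw [AlgHom.comp_apply, act_apply, act_apply]
  generalize Comod.coact (k := k) (A := H) a = z
  induction z with
  | zero => simp
  | add x y hx hy => simp only [map_add, hx, hy]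
  | tmul b h => simp

variable (k H A) in
/-- The product of the space and the group. -/
abbrev C := A ⊗[k] H

variable (k H A) in
/-- The diagonal coaction. -/
def diag : C k H A →ₐ[k] C k H A ⊗[k] H :=
  Algebra.TensorProduct.lift
    ((Algebra.TensorProduct.map (Algebra.TensorProduct.includeLeft : A →ₐ[k] C k H A) (AlgHom.id k H)).comp
      (GLin.coactAlgHom k H A))
    ((Algebra.TensorProduct.map (Algebra.TensorProduct.includeRight : H →ₐ[k] C k H A) (AlgHom.id k H)).comp
      (Bialgebra.comulAlgHom k H)) fun _ _ => Commute.all _ _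

theorem map_coact {S : Type z} [CommRing S] [Algebra k S] (i : A →ₐ[k] S) :
    (Algebra.TensorProduct.map i (AlgHom.id k H)).comp (GLin.coactAlgHom k H A) =
      act ((Algebra.TensorProduct.includeLeft : S →ₐ[k] S ⊗[k] H).comp i)
        (toConv Algebra.TensorProduct.includeRight) := by
  refine AlgHom.ext fun a => ?_
  rw [AlgHom.comp_apply, act_apply, GLin.coactAlgHom_apply]
  generalize Comod.coact (k := k) (A := H) a = z
  induction z with
  | zero => simp
  | add x y hx hy => simp only [map_add, hx, hy]
  | tmul b h => simp

theorem map_comul {S : Type z} [CommRing S] [Algebra k S] (i : H →ₐ[k] S) :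
    toConv ((Algebra.TensorProduct.map i (AlgHom.id k H)).comp (Bialgebra.comulAlgHom k H)) =
      toConv ((Algebra.TensorProduct.includeLeft : S →ₐ[k] S ⊗[k] H).comp i) *
        toConv Algebra.TensorProduct.includeRight := by
  refine WithConv.ofConv_injective (AlgHom.ext fun a => ?_)
  rw [AlgHom.convMul_apply]
  show Algebra.TensorProduct.map i (AlgHom.id k H) (Coalgebra.comul (R := k) a) = _
  generalize Coalgebra.comul (R := k) a = z
  induction z with
  | zero => simp
  | add x y hx hy => simp only [map_add, hx, hy]
  | tmul b h => simp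

theorem diag_left :
    (diag k H A).comp (Algebra.TensorProduct.includeLeft : A →ₐ[k] C k H A) =
      act ((Algebra.TensorProduct.includeLeft : C k H A →ₐ[k] C k H A ⊗[k] H).comp Algebra.TensorProduct.includeLeft)
        (toConv Algebra.TensorProduct.includeRight) :=
  (Algebra.TensorProduct.lift_comp_includeLeft _ _ fun _ _ => Commute.all _ _).trans (map_coact _)

theorem diag_right :
    toConv ((diag k H A).comp (Algebra.TensorProduct.includeRight : H →ₐ[k] C k H A)) =
      post (Algebra.TensorProduct.includeLeft : C k H A →ₐ[k] C k H A ⊗[k] H)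
          (toConv Algebra.TensorProduct.includeRight) * toConv Algebra.TensorProduct.includeRight :=
  (congrArg toConv (Algebra.TensorProduct.lift_comp_includeRight _ _ fun _ _ => Commute.all _ _)).trans (map_comul _)

theorem diag_assoc :
    ((Algebra.TensorProduct.assoc k k k (C k H A) H H).toAlgHom.comp
        (Algebra.TensorProduct.map (diag k H A) (AlgHom.id k H))).comp (diag k H A) =
      (Algebra.TensorProduct.map (AlgHom.id k (C k H A)) (Bialgebra.comulAlgHom k H)).comp (diag k H A) := by
  let T := C k H A ⊗[k] (H ⊗[k] H)
  let i₀ : C k H A →ₐ[k] T := Algebra.TensorProduct.includeLeft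
  let w₂ : WithConv (H →ₐ[k] T) :=
    toConv ((Algebra.TensorProduct.includeRight : H ⊗[k] H →ₐ[k] T).comp Algebra.TensorProduct.includeLeft)
  let w₃ : WithConv (H →ₐ[k] T) :=
    toConv ((Algebra.TensorProduct.includeRight : H ⊗[k] H →ₐ[k] T).comp Algebra.TensorProduct.includeRight)
  let l : (C k H A ⊗[k] H) ⊗[k] H →ₐ[k] T := (Algebra.TensorProduct.assoc k k k (C k H A) H H).toAlgHom
  have e1 : toConv ((Algebra.TensorProduct.includeRight : H ⊗[k] H →ₐ[k] T).comp (Bialgebra.comulAlgHom k H)) =
      w₂ * w₃ := by
    refine WithConv.ofConv_injective (AlgHom.ext fun a => ?_)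
    rw [AlgHom.convMul_apply]
    show (Algebra.TensorProduct.includeRight : H ⊗[k] H →ₐ[k] T) (Coalgebra.comul (R := k) a) = _
    generalize Coalgebra.comul (R := k) a = z
    induction z with
    | zero => simp
    | add x y hx hy => simp only [map_add, hx, hy]
    | tmul b h =>
      show (1 : C k H A) ⊗ₜ[k] (b ⊗ₜ[k] h) =
        ((1 : C k H A) ⊗ₜ[k] (b ⊗ₜ[k] (1 : H))) * ((1 : C k H A) ⊗ₜ[k] ((1 : H) ⊗ₜ[k] h))
      rw [Algebra.TensorProduct.tmul_mul_tmul, Algebra.TensorProduct.tmul_mul_tmul, _root_.one_mul, _root_.mul_one,
        _root_.one_mul]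
  have hL2 : (((Algebra.TensorProduct.assoc k k k (C k H A) H H).toAlgHom.comp
      (Algebra.TensorProduct.map (diag k H A) (AlgHom.id k H))).comp
        (Algebra.TensorProduct.includeRight : H →ₐ[k] C k H A ⊗[k] H)) = w₃.ofConv := by
    refine AlgHom.ext fun h => ?_
    show l ((diag k H A 1) ⊗ₜ[k] h) = _
    rw [map_one, Algebra.TensorProduct.one_def]
    rfl
  have hL3 : (l.comp Algebra.TensorProduct.includeLeft).comp Algebra.TensorProduct.includeRight = w₂.ofConv :=
    AlgHom.ext fun h => rfl
  have hL4 : (l.comp Algebra.TensorProduct.includeLeft).comp Algebra.TensorProduct.includeLeft = i₀ :=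
    AlgHom.ext fun c => show c ⊗ₜ[k] ((1 : H) ⊗ₜ[k] (1 : H)) = c ⊗ₜ[k] (1 : H ⊗[k] H) from rfl
  have hL5 : ((Algebra.TensorProduct.assoc k k k (C k H A) H H).toAlgHom.comp
      (Algebra.TensorProduct.map (diag k H A) (AlgHom.id k H))).comp
        (Algebra.TensorProduct.includeLeft : C k H A →ₐ[k] C k H A ⊗[k] H) =
      (l.comp Algebra.TensorProduct.includeLeft).comp (diag k H A) := AlgHom.ext fun c => rfl
  have hR2 : (Algebra.TensorProduct.map (AlgHom.id k (C k H A)) (Bialgebra.comulAlgHom k H)).comp
      (Algebra.TensorProduct.includeRight : H →ₐ[k] C k H A ⊗[k] H) = (w₂ * w₃).ofConv := by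
    rw [← e1]
    exact AlgHom.ext fun h => rfl
  have hR4 : (Algebra.TensorProduct.map (AlgHom.id k (C k H A)) (Bialgebra.comulAlgHom k H)).comp
      (Algebra.TensorProduct.includeLeft : C k H A →ₐ[k] C k H A ⊗[k] H) = i₀ :=
    AlgHom.ext fun c => congrArg (c ⊗ₜ[k] ·) (map_one (Bialgebra.comulAlgHom k H))
  let iA : A →ₐ[k] C k H A := Algebra.TensorProduct.includeLeft
  let iH : WithConv (H →ₐ[k] C k H A) := toConv Algebra.TensorProduct.includeRight
  let F := (Algebra.TensorProduct.assoc k k k (C k H A) H H).toAlgHom.comp
        (Algebra.TensorProduct.map (diag k H A) (AlgHom.id k H))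
  let G := Algebra.TensorProduct.map (AlgHom.id k (C k H A)) (Bialgebra.comulAlgHom k H)
  let i1 : C k H A →ₐ[k] C k H A ⊗[k] H := Algebra.TensorProduct.includeLeft
  let w : WithConv (H →ₐ[k] C k H A ⊗[k] H) := toConv Algebra.TensorProduct.includeRight
  let l1 := l.comp Algebra.TensorProduct.includeLeft
  have hw3 : post F w = w₃ := WithConv.ofConv_injective hL2
  have hw2 : post l1 w = w₂ := WithConv.ofConv_injective hL3
  have hwR : post G w = w₂ * w₃ := WithConv.ofConv_injective hR2
  have hF : F.comp i1 = l1.comp (diag k H A) := hL5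
  have hG : G.comp i1 = i₀ := hR4
  have hl : l1.comp i1 = i₀ := hL4
  show F.comp (diag k H A) = G.comp (diag k H A)
  clear_value F G l1
  refine Algebra.TensorProduct.ext ?_ ?_
  · show (F.comp (diag k H A)).comp iA = (G.comp (diag k H A)).comp iA
    rw [AlgHom.comp_assoc, AlgHom.comp_assoc, diag_left, comp_act, comp_act]
    show act (F.comp (i1.comp iA)) (post F w) = act (G.comp (i1.comp iA)) (post G w)
    rw [hw3, hwR, ← AlgHom.comp_assoc, ← AlgHom.comp_assoc, hF,
      hG, AlgHom.comp_assoc, diag_left, comp_act]
    show act (act (l1.comp (i1.comp iA)) (post l1 w)) w₃ = _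
    rw [hw2, ← AlgHom.comp_assoc, hl, act_act]
  · show (F.comp (diag k H A)).comp iH.ofConv = (G.comp (diag k H A)).comp iH.ofConv
    apply WithConv.toConv_injective
    show post (F.comp (diag k H A)) iH = post (G.comp (diag k H A)) iH
    have hd : post (diag k H A) iH = post i1 iH * w := diag_right
    have c : ∀ {T' : Type (max w v)} [CommRing T'] [Algebra k T'] (f : C k H A ⊗[k] H →ₐ[k] T'),
        post (f.comp (diag k H A)) iH = post f (post i1 iH) * post f w := fun {T'} _ _ f => by
      rw [← map_mul, ← hd]; rfl
    rw [c F, c G, hw3, hwR, show post F (post i1 iH) = post (F.comp i1) iH from rfl,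
      show post G (post i1 iH) = post (G.comp i1) iH from rfl, hF,
      hG, show post (l1.comp (diag k H A)) iH = post l1 (post (diag k H A) iH) from rfl,
      hd, map_mul, hw2, show post l1 (post i1 iH) = post (l1.comp i1) iH from rfl,
      hl]
    exact @mul_assoc (WithConv (H →ₐ[k] T)) _ _ _ _

variable (k H A) in
/-- The diagonal comodule. -/
@[reducible] def comod : Comod k H (C k H A) where
  coact := (diag k H A).toLinearMap
  coassoc := by
    refine LinearMap.ext fun c => ?_
    have := AlgHom.congr_fun (diag_assoc (k := k) (H := H) (A := A)) c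
    refine Eq.trans ?_ (this.trans ?_)
    · show _ = (Algebra.TensorProduct.assoc k k k (C k H A) H H)
        (Algebra.TensorProduct.map (diag k H A) (AlgHom.id k H) (diag k H A c))
      simp only [LinearMap.comp_apply, AlgHom.toLinearMap_apply]
      generalize diag k H A c = z
      induction z with
      | zero => simp only [map_zero]
      | add x y hx hy => simp only [map_add, hx, hy]
      | tmul b h => rfl
    · rfl
  counit_comp := by
    have key : ((Algebra.TensorProduct.rid k k (C k H A)).toAlgHom.comp
        (Algebra.TensorProduct.map (AlgHom.id k (C k H A)) (Bialgebra.counitAlgHom k H))).comp (diag k H A) =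
        AlgHom.id k (C k H A) := by
      let g := (Algebra.TensorProduct.rid k k (C k H A)).toAlgHom.comp
        (Algebra.TensorProduct.map (AlgHom.id k (C k H A)) (Bialgebra.counitAlgHom k H))
      have h0 : g.comp Algebra.TensorProduct.includeLeft = AlgHom.id k (C k H A) := AlgHom.ext fun c => by
        simp [g]
      have h1 : toConv (g.comp Algebra.TensorProduct.includeRight) = 1 :=
        WithConv.ofConv_injective (AlgHom.ext fun h => by simp [g, AlgHom.convOne_apply, Algebra.smul_def])
      have h1' : post g (toConv Algebra.TensorProduct.includeRight) = 1 := h1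
      refine Algebra.TensorProduct.ext ?_ ?_
      · show (g.comp (diag k H A)).comp (Algebra.TensorProduct.includeLeft : A →ₐ[k] C k H A) = _
        rw [AlgHom.comp_assoc, diag_left, comp_act]
        show act (g.comp _) (post g (toConv Algebra.TensorProduct.includeRight)) = _
        rw [h1', act_one, ← AlgHom.comp_assoc, h0]
      · show (g.comp (diag k H A)).comp (Algebra.TensorProduct.includeRight : H →ₐ[k] C k H A) = _
        apply WithConv.toConv_injective
        show post g (toConv ((diag k H A).comp Algebra.TensorProduct.includeRight)) = _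
        rw [diag_right, map_mul, h1', _root_.mul_one]
        show toConv (g.comp ((Algebra.TensorProduct.includeLeft : C k H A →ₐ[k] _).comp _)) = _
        rw [← AlgHom.comp_assoc, h0]
        rfl
    refine LinearMap.ext fun c => (TensorProduct.rid k (C k H A)).injective ?_
    have := AlgHom.congr_fun key c
    refine Eq.trans ?_ (this.trans ?_)
    · show _ = Algebra.TensorProduct.rid k k (C k H A)
        (Algebra.TensorProduct.map (AlgHom.id k (C k H A)) (Bialgebra.counitAlgHom k H) (diag k H A c))
      simp only [LinearMap.comp_apply, AlgHom.toLinearMap_apply]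
      generalize diag k H A c = z
      induction z with
      | zero => simp only [map_zero]
      | add x y hx hy => simp only [map_add, hx, hy]
      | tmul b h => rfl
    · simp

attribute [local instance] comod

variable (k H A) in
theorem isCoactAlg : GLin.IsCoactAlg k H (C k H A) :=
  ⟨map_one (diag k H A), fun f g => map_mul (diag k H A) f g⟩

attribute [local instance] isCoactAlg

/-- Every function is the restriction of an invariant function on the product. -/
theorem exists_invariant (a : A) : ∃ x ∈ GLin.invariants k H (C k H A),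
    (Algebra.TensorProduct.rid k k A) (Algebra.TensorProduct.map (AlgHom.id k A) (Bialgebra.counitAlgHom k H) x)
      = a := by
  let iA : A →ₐ[k] C k H A := Algebra.TensorProduct.includeLeft
  let v : WithConv (H →ₐ[k] C k H A) := toConv Algebra.TensorProduct.includeRight
  refine ⟨act iA v⁻¹ a, ?_, ?_⟩
  · rw [GLin.mem_invariants_iff]
    show (diag k H A).comp (act iA v⁻¹) a = (Algebra.TensorProduct.includeLeft : C k H A →ₐ[k] C k H A ⊗[k] H) _
    have e1 : (diag k H A).comp (act iA v⁻¹) =
        (Algebra.TensorProduct.includeLeft : C k H A →ₐ[k] C k H A ⊗[k] H).comp (act iA v⁻¹) := by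
      rw [comp_act, comp_act]
      show act _ (post _ v⁻¹) = act _ (post _ v⁻¹)
      rw [map_inv, map_inv, diag_left, show post (diag k H A) v = _ from diag_right]
      exact act_cancel _ _ _
    exact AlgHom.congr_fun e1 a
  · let g := (Algebra.TensorProduct.rid k k A).toAlgHom.comp
      (Algebra.TensorProduct.map (AlgHom.id k A) (Bialgebra.counitAlgHom k H))
    show g.comp (act iA v⁻¹) a = a
    rw [comp_act]
    show act _ (post _ v⁻¹) a = a
    have h0 : g.comp iA = AlgHom.id k A := AlgHom.ext fun c => by simp [g, iA]
    have h1 : post g v = 1 :=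
      WithConv.ofConv_injective (AlgHom.ext fun h => by
        show g ((1 : A) ⊗ₜ[k] h) = _
        simp [g, AlgHom.convOne_apply, Algebra.smul_def])
    rw [map_inv, h1, inv_one, act_one, h0]
    rfl

theorem finiteType_over_invariants [Algebra.FiniteType k H] [IsNoetherianRing A]
    (hG : IsLinearlyReductive k H) : Algebra.FiniteType ↥(GLin.invariants k H A) A := by
  classical
  have hAC : Hoch.IsComodHom H (IsScalarTower.toAlgHom k A (C k H A)).toLinearMap := by
    refine LinearMap.ext fun a => ?_
    show diag k H A (a ⊗ₜ[k] (1 : H)) = LinearMap.rTensor H _ (Comod.coact (k := k) (A := H) a)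
    have h := AlgHom.congr_fun (Algebra.TensorProduct.lift_comp_includeLeft
      ((Algebra.TensorProduct.map (Algebra.TensorProduct.includeLeft : A →ₐ[k] C k H A) (AlgHom.id k H)).comp
        (GLin.coactAlgHom k H A))
      ((Algebra.TensorProduct.map (Algebra.TensorProduct.includeRight : H →ₐ[k] C k H A) (AlgHom.id k H)).comp
        (Bialgebra.comulAlgHom k H)) fun _ _ => Commute.all _ _) a
    refine h.trans ?_
    rw [AlgHom.comp_apply, GLin.coactAlgHom_apply]
    generalize Comod.coact (k := k) (A := H) a = z
    induction z with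
    | zero => simp
    | add x y hx hy => simp only [map_add, hx, hy]
    | tmul b h => rfl
  obtain ⟨s, hs⟩ := RelInv.exists_finset (A := A) (C := C k H A) hG hAC
  let g := (Algebra.TensorProduct.rid k k A).toAlgHom.comp
    (Algebra.TensorProduct.map (AlgHom.id k A) (Bialgebra.counitAlgHom k H))
  refine ⟨⟨s.image g, eq_top_iff.2 fun a _ => ?_⟩⟩
  obtain ⟨x, hx, rfl⟩ := exists_invariant (k := k) (H := H) a
  rw [hs] at hx
  show g x ∈ _
  clear * - hx
  induction hx using Algebra.adjoin_induction with
  | mem y hy =>
    rcases hy with ⟨b, hb, rfl⟩ | hy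
    · rw [show g (algebraMap A (C k H A) b) = algebraMap (GLin.invariants k H A) A ⟨b, hb⟩ by
        simp [g, Algebra.TensorProduct.algebraMap_apply, Subalgebra.algebraMap_def]]
      exact Subalgebra.algebraMap_mem _ _
    · exact Algebra.subset_adjoin (Finset.mem_coe.2 (Finset.mem_image_of_mem g hy))
  | algebraMap c =>
    rw [AlgHom.commutes, IsScalarTower.algebraMap_apply k (GLin.invariants k H A) A]
    exact Subalgebra.algebraMap_mem _ _
  | add y z _ _ hy hz => rw [map_add]; exact add_mem hy hz
  | mul y z _ _ hy hz => rw [map_mul]; exact mul_mem hy hz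

end Groth.Agent.Hopf35.FinTypeInv
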