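import Groth.Agent.FlatCrit65.Dev.Recursion
import Groth.Agent.FlatMor66.RelAssLocus
import Groth.Agent.S1227
import Mathlib

/-!
Along a complete dévissage, the flat locus of the base changes to local rings over a local algebra is
cut out by an ideal.
-/

set_option autoImplicit false
set_option linter.style.haveILetI false

universe u

open TensorProduct

namespace Groth.Agent.Hopf35.FlatLocus

open RG29 FlatCrit65.Dev

/-- `I` cuts out the locus over which the base changed module is flat at the points of the closed fibre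
over `Z₀`, and over which it is then free. -/
def IsFlatIdeal (R : Type u) [CommRing R] {Λ : Type u} [CommRing Λ] [IsLocalRing Λ] [Algebra R Λ] (S : Type u)
    [CommRing S] [Algebra R S] (N : Type u) [AddCommGroup N] [Module S N] (Z₀ : Set (PrimeSpectrum S))
    (I : Ideal Λ) : Prop :=
  ∀ (A : Type u) [CommRing A] [IsLocalRing A] [Algebra Λ A] [IsLocalHom (algebraMap Λ A)] [Algebra R A]
    [IsScalarTower R Λ A]
    (S'' : Type u) [CommRing S''] [Algebra S S''] [Algebra A S''] [Algebra R S''] [IsScalarTower R A S'']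
    [IsScalarTower R S S''] [Algebra.IsPushout R S A S''] (N'' : Type u) [AddCommGroup N''] [Module S'' N'']
    [Module S N''] [IsScalarTower S S'' N''] [Module A N''] [IsScalarTower A S'' N'']
    (i : N →ₗ[S] N''), IsBaseChange S'' i →
      ((∀ Q : PrimeSpectrum S'', Q.asIdeal.comap (algebraMap A S'') = IsLocalRing.maximalIdeal A →
          PrimeSpectrum.comap (algebraMap S S'') Q ∈ Z₀ → FlatCA.FlatAt A Q.asIdeal N'') →
        I.map (algebraMap Λ A) = ⊥) ∧
      (I.map (algebraMap Λ A) = ⊥ → Module.Free A N'')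

/-- A module with a subsingleton base is cut out by the zero ideal. -/
theorem isFlatIdeal_bot_of_subsingleton (R : Type u) [CommRing R] {Λ : Type u} [CommRing Λ] [IsLocalRing Λ]
    [Algebra R Λ] (S : Type u) [CommRing S] [Algebra R S] (N : Type u) [AddCommGroup N] [Module S N]
    [Subsingleton N] (Z₀ : Set (PrimeSpectrum S)) : IsFlatIdeal R S N Z₀ (⊥ : Ideal Λ) := by
  intro A _ _ _ _ _ _ S'' _ _ _ _ _ _ _ N'' _ _ _ _ _ _ i hi
  haveI : Subsingleton N'' := hi.equiv.symm.toEquiv.subsingleton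
  exact ⟨fun _ => Ideal.map_bot, fun _ => inferInstance⟩

/-- A local algebra over a quotient. -/
theorem map_eq_bot_iff_le_ker {Λ A : Type u} [CommRing Λ] [CommRing A] [Algebra Λ A] (I : Ideal Λ) :
    I.map (algebraMap Λ A) = ⊥ ↔ ∀ x ∈ I, algebraMap Λ A x = 0 :=
  ⟨fun h _ hx => (Ideal.mem_bot).1 (h ▸ Ideal.mem_map_of_mem _ hx),
    fun h => le_bot_iff.1 (Ideal.map_le_iff_le_comap.2 fun x hx => (Ideal.mem_bot).2 (h x hx))⟩

/-- A model of the base change of a module, with the scalars of the base. -/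
theorem exists_model {A D D₁ : Type u} [CommRing A] [CommRing D] [CommRing D₁] [Algebra D D₁] [Algebra A D₁]
    (G : Type u) [AddCommGroup G] [Module D G] :
    ∃ (G₁ : Type u) (_ : AddCommGroup G₁) (_ : Module D₁ G₁) (_ : Module D G₁) (_ : IsScalarTower D D₁ G₁)
      (_ : Module A G₁) (_ : IsScalarTower A D₁ G₁) (j : G →ₗ[D] G₁), IsBaseChange D₁ j :=
  ⟨D₁ ⊗[D] G, inferInstance, inferInstance, inferInstance, inferInstance, inferInstance,
    inferInstance, TensorProduct.mk D D₁ G 1, TensorProduct.isBaseChange D G D₁⟩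

set_option maxHeartbeats 1000000 in
/-- A model of the base change of a module along two squares. -/
theorem exists_model₂ {A S S'' C C₁ D D₁ : Type u} [CommRing A] [CommRing S] [CommRing S''] [CommRing C] [CommRing C₁]
    [CommRing D] [CommRing D₁] [Algebra S S''] [Algebra S C] [Algebra D C] [Algebra C C₁] [Algebra D D₁]
    [Algebra D₁ C₁] [Algebra S'' C₁] [Algebra S C₁] [Algebra D C₁] [Algebra A C₁] [Algebra A S''] [Algebra A D₁]
    [IsScalarTower S C C₁] [IsScalarTower S S'' C₁] [IsScalarTower D C C₁] [IsScalarTower D D₁ C₁]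
    [IsScalarTower A D₁ C₁] [IsScalarTower A S'' C₁] [Algebra.IsPushout S S'' C C₁] [Algebra.IsPushout D D₁ C C₁]
    (G : Type u) [AddCommGroup G] [Module C G] [Module S G] [Module D G] [IsScalarTower S C G] [IsScalarTower D C G]
    [Module.Finite C G] :
    ∃ (G₁ : Type u) (_ : AddCommGroup G₁) (_ : Module C₁ G₁) (_ : Module D₁ G₁) (_ : Module D G₁) (_ : Module S'' G₁)
      (_ : Module S G₁) (_ : Module A G₁) (_ : IsScalarTower D₁ C₁ G₁) (_ : IsScalarTower S'' C₁ G₁)
      (_ : IsScalarTower D D₁ G₁) (_ : IsScalarTower S S'' G₁) (_ : IsScalarTower A D₁ G₁) (_ : IsScalarTower A C₁ G₁)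
      (_ : IsScalarTower A S'' G₁) (_ : Module.Finite C₁ G₁) (jD : G →ₗ[D] G₁) (jS : G →ₗ[S] G₁),
      IsBaseChange D₁ jD ∧ IsBaseChange S'' jS := by
  haveI : SMulCommClass C D₁ C₁ := ⟨fun c d v => by rw [Algebra.smul_def c, Algebra.smul_def c, mul_smul_comm]⟩
  haveI : SMulCommClass C S'' C₁ := ⟨fun c d v => by rw [Algebra.smul_def c, Algebra.smul_def c, mul_smul_comm]⟩
  haveI : SMulCommClass C A C₁ := ⟨fun c d v => by rw [Algebra.smul_def c, Algebra.smul_def c, mul_smul_comm]⟩
  haveI : SMulCommClass C D C₁ := ⟨fun c d v => by rw [Algebra.smul_def c, Algebra.smul_def c, mul_smul_comm]⟩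
  haveI : SMulCommClass C S C₁ := ⟨fun c d v => by rw [Algebra.smul_def c, Algebra.smul_def c, mul_smul_comm]⟩
  exact ⟨C₁ ⊗[C] G, inferInstance, inferInstance, inferInstance, inferInstance, inferInstance, inferInstance,
    inferInstance, inferInstance, inferInstance, inferInstance, inferInstance, inferInstance, inferInstance,
    inferInstance, inferInstance, ((TensorProduct.mk C C₁ G) 1).restrictScalars D,
    ((TensorProduct.mk C C₁ G) 1).restrictScalars S,
    isBaseChange_of_pushout (S := D) (S₂ := D₁) (C := C) (C₂ := C₁) G,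
    isBaseChange_of_pushout (S := S) (S₂ := S'') (C := C) (C₂ := C₁) G⟩

/-- The base change of a presentation, in a model over the base changed algebra. -/
theorem exists_equivs {R A D D₁ G G₁ : Type u} [CommRing R] [CommRing A] [CommRing D] [CommRing D₁] [Algebra R A]
    [Algebra R D] [Algebra D D₁] [Algebra A D₁] [Algebra R D₁] [IsScalarTower R A D₁] [IsScalarTower R D D₁]
    [Algebra.IsPushout R D A D₁] [AddCommGroup G] [Module D G] [Module R G] [IsScalarTower R D G]
    [AddCommGroup G₁] [Module D₁ G₁] [Module D G₁] [IsScalarTower D D₁ G₁] [Module A G₁] [IsScalarTower A D₁ G₁]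
    {jD : G →ₗ[D] G₁} (hjD : IsBaseChange D₁ jD) {r : ℕ} (α : (Fin r → D) →ₗ[D] G)
    (α₁ : (Fin r → D₁) →ₗ[D₁] G₁) (hα₁ : ∀ i, α₁ (Pi.single i 1) = jD (α (Pi.single i 1))) :
    ∃ (eP : A ⊗[R] (Fin r → D) ≃ₗ[A] (Fin r → D₁)) (eG : A ⊗[R] G ≃ₗ[A] G₁),
      ∀ x, eG ((α.restrictScalars R).baseChange A x) = α₁ (eP x) := by
  haveI : Algebra.IsPushout R A D D₁ := Algebra.IsPushout.symm inferInstance
  let eP : A ⊗[R] (Fin r → D) ≃ₗ[A] (Fin r → D₁) :=
    (TensorProduct.piRight R A A (fun _ : Fin r => D)).trans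
      (LinearEquiv.piCongrRight fun _ => (Algebra.IsPushout.equiv R A D D₁).toLinearEquiv)
  let eG : A ⊗[R] G ≃ₗ[A] G₁ :=
    (Algebra.IsPushout.cancelBaseChange R A D D₁ G).symm.trans (hjD.equiv.restrictScalars A)
  refine ⟨eP, eG, fun x => ?_⟩
  induction x using TensorProduct.induction_on with
  | zero => simp
  | add x y hx hy => simp only [map_add, hx, hy]
  | tmul a v =>
    have h1 : ∀ w : Fin r → D₁, α₁ w = ∑ i, w i • jD (α (Pi.single i 1)) := fun w => by
      conv_lhs => rw [← (Pi.basisFun D₁ (Fin r)).sum_repr w]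
      simp [hα₁]
    have h2 : α v = ∑ i, v i • α (Pi.single i 1) := by
      conv_lhs => rw [← (Pi.basisFun D (Fin r)).sum_repr v]
      simp
    have hG : ∀ g : G, eG (a ⊗ₜ[R] g) = a • jD g := fun g => by
      simp [eG, IsBaseChange.equiv_tmul]
    rw [LinearMap.baseChange_tmul, LinearMap.restrictScalars_apply, hG, h1, h2, map_sum, Finset.smul_sum]
    refine Finset.sum_congr rfl fun i _ => ?_
    have hP : eP (a ⊗ₜ[R] v) i = algebraMap A D₁ a * algebraMap D D₁ (v i) := by
      simp [eP, Algebra.IsPushout.equiv_tmul]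
    rw [hP, mul_smul, algebraMap_smul, algebraMap_smul, map_smul]

set_option maxHeartbeats 1000000 in
/-- Flatness at the chosen points makes the presentation injective and keeps flatness of its cokernel. -/
theorem flat_step {R A : Type u} [CommRing R] [CommRing A] [IsLocalRing A] [Algebra R A]
    (p : Ideal R) [p.IsPrime] (hA : (IsLocalRing.maximalIdeal A).comap (algebraMap R A) = p)
    {S S'' : Type u} [CommRing S] [CommRing S''] [Algebra S S''] [Algebra A S'']
    {N'' : Type u} [AddCommGroup N''] [Module S'' N''] [Module A N''] [IsScalarTower A S'' N'']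
    {C D G C₁ D₁ G₁ : Type u} [CommRing C] [CommRing D] [CommRing C₁] [CommRing D₁] [Algebra S C] [Algebra R D]
    [Algebra D C] [AddCommGroup G] [Module D G] [hP : (p.map (algebraMap R D)).IsPrime]
    [Algebra D D₁] [Algebra A D₁] [Algebra R D₁]
    [IsScalarTower R A D₁] [IsScalarTower R D D₁] [Algebra.IsPushout R D A D₁] [Algebra C C₁] [Algebra D₁ C₁]
    [Algebra D C₁] [IsScalarTower D C C₁] [IsScalarTower D D₁ C₁] [Module.Finite D₁ C₁]
    [Algebra S'' C₁] [Algebra S C₁] [IsScalarTower S C C₁] [IsScalarTower S S'' C₁]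
    [Algebra A C₁] [IsScalarTower A D₁ C₁] [IsScalarTower A S'' C₁]
    [Algebra.Smooth A D₁] (hirr₁ : FlatCA.GeomIrredFibres A D₁)
    (hsurj : Function.Surjective (algebraMap S'' C₁))
    [AddCommGroup G₁] [Module C₁ G₁] [Module D₁ G₁] [Module D G₁] [Module S'' G₁] [Module A G₁]
    [IsScalarTower D₁ C₁ G₁] [IsScalarTower S'' C₁ G₁] [IsScalarTower A D₁ G₁] [IsScalarTower A C₁ G₁]
    [IsScalarTower A S'' G₁] [IsScalarTower D D₁ G₁] [Module.Finite D₁ G₁]
    {jD : G →ₗ[D] G₁} (hjD : IsBaseChange D₁ jD) (e₁ : N'' ≃ₗ[S''] G₁)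
    {r : ℕ} (α : (Fin r → D) →ₗ[D] G)
    (hα : Function.Bijective (α.baseChange (p.map (algebraMap R D)).ResidueField))
    (α₁ : (Fin r → D₁) →ₗ[D₁] G₁) (hα₁ : ∀ i, α₁ (Pi.single i 1) = jD (α (Pi.single i 1)))
    (Z₀ : Set (PrimeSpectrum S)) (Zd : Set (PrimeSpectrum D)) (hne : Zd.Nonempty)
    (hover : ∀ y ∈ Zd, y.asIdeal.comap (algebraMap R D) = p)
    (hchain : ∀ z : PrimeSpectrum C, PrimeSpectrum.comap (algebraMap D C) z ∈ Zd →
      PrimeSpectrum.comap (algebraMap S C) z ∈ Z₀)
    (hflat : ∀ Q : PrimeSpectrum S'', Q.asIdeal.comap (algebraMap A S'') = IsLocalRing.maximalIdeal A →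
      PrimeSpectrum.comap (algebraMap S S'') Q ∈ Z₀ → FlatCA.FlatAt A Q.asIdeal N'') :
    Function.Injective α₁ ∧
      ∀ y₁ : PrimeSpectrum D₁, y₁.asIdeal.comap (algebraMap A D₁) = IsLocalRing.maximalIdeal A →
        PrimeSpectrum.comap (algebraMap D D₁) y₁ ∈ Zd →
          FlatCA.FlatAt A y₁.asIdeal (G₁ ⧸ LinearMap.range α₁) := by
  haveI : Algebra.IsIntegral D₁ C₁ := Algebra.IsIntegral.of_finite D₁ C₁
  let m := IsLocalRing.maximalIdeal A
  haveI : (m.map (algebraMap A D₁)).IsPrime := isPrime_map m hirr₁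
  let w := p.map (algebraMap R D)
  let w₁ := m.map (algebraMap A D₁)
  have hpt : ∀ y : PrimeSpectrum D, y.asIdeal.comap (algebraMap R D) = p →
      ∃ y₁ : PrimeSpectrum D₁, y₁.asIdeal.comap (algebraMap D D₁) = y.asIdeal ∧
        y₁.asIdeal.comap (algebraMap A D₁) = m := fun y hy =>
    exists_prime_pushout (R := R) (S := D) (R' := A) y.asIdeal m (hy.trans hA.symm)
  obtain ⟨y₀, hy₀⟩ := hne
  haveI hwo : w₁.LiesOver w := by
    refine ⟨le_antisymm (Ideal.map_le_iff_le_comap.2 fun r hr => ?_) ?_⟩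
    · show algebraMap D D₁ (algebraMap R D r) ∈ w₁
      rw [← IsScalarTower.algebraMap_apply, IsScalarTower.algebraMap_apply R A D₁]
      exact Ideal.mem_map_of_mem _ (hA.ge hr)
    · have hwy : w.comap (algebraMap R D) = p :=
        le_antisymm ((Ideal.comap_mono (Ideal.map_le_iff_le_comap.2 (hover y₀ hy₀).ge)).trans (hover y₀ hy₀).le)
          Ideal.le_comap_map
      obtain ⟨y₁, h1, h2⟩ := hpt ⟨w, hP⟩ hwy
      exact (Ideal.comap_mono (Ideal.map_le_iff_le_comap.2 h2.ge)).trans h1.le
  have hbij : Function.Bijective (α₁.baseChange w₁.ResidueField) := bijective_at_extension w w₁ hjD hα₁ hα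
  have hfy : ∀ y₁ : PrimeSpectrum D₁, y₁.asIdeal.comap (algebraMap A D₁) = m →
      PrimeSpectrum.comap (algebraMap D D₁) y₁ ∈ Zd → FlatCA.FlatAt A y₁.asIdeal G₁ := fun y₁ hm hy => by
    refine flatAt_of_forall_over (C := C₁) y₁.asIdeal fun Q hQ hQy => ?_
    refine flatAt_of_surjective_algebra hsurj Q (FlatCrit65.flat_localized_equiv e₁ _
      (hflat ⟨Q.comap (algebraMap S'' C₁), inferInstance⟩ ?_ ?_))
    · show (Q.comap (algebraMap S'' C₁)).comap (algebraMap A S'') = _
      rw [Ideal.comap_comap, ← IsScalarTower.algebraMap_eq, IsScalarTower.algebraMap_eq A D₁ C₁, ← Ideal.comap_comap,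
        hQy, hm]
    · have hz := hchain ⟨Q.comap (algebraMap C C₁), inferInstance⟩ (by
        convert hy using 1
        apply PrimeSpectrum.ext
        show (Q.comap (algebraMap C C₁)).comap (algebraMap D C) = y₁.asIdeal.comap (algebraMap D D₁)
        rw [← hQy, Ideal.comap_comap, Ideal.comap_comap, ← IsScalarTower.algebraMap_eq, ← IsScalarTower.algebraMap_eq])
      convert hz using 1
      apply PrimeSpectrum.ext
      show (Q.comap (algebraMap S'' C₁)).comap (algebraMap S S'') = (Q.comap (algebraMap C C₁)).comap (algebraMap S C)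
      rw [Ideal.comap_comap, Ideal.comap_comap, ← IsScalarTower.algebraMap_eq, ← IsScalarTower.algebraMap_eq]
  have hfw : FlatCA.FlatAt A w₁ G₁ := by
    obtain ⟨y₁, h1, h2⟩ := hpt y₀ (hover y₀ hy₀)
    exact FlatCrit65.flat_localized_of_le (Ideal.map_le_iff_le_comap.2 h2.ge)
      (hfy y₁ h2 (by rwa [show PrimeSpectrum.comap (algebraMap D D₁) y₁ = y₀ from PrimeSpectrum.ext h1]))
  have hu : CAlgX.UniversallyInjective A (α₁.restrictScalars A) := univInj_of_flatAt hirr₁ w₁ rfl hfw α₁ hbij
  refine ⟨fun a b hab => (TensorProduct.rid A _).symm.injective (hu A (by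
    rw [TensorProduct.rid_symm_apply, TensorProduct.rid_symm_apply, LinearMap.rTensor_tmul, LinearMap.rTensor_tmul,
      LinearMap.restrictScalars_apply, LinearMap.restrictScalars_apply, hab])), fun y₁ hm hy => ?_⟩
  exact flatAt_coker y₁.asIdeal (hfy y₁ hm hy) (α₁.restrictScalars A) hu (LinearMap.range α₁).mkQ
    (Submodule.mkQ_surjective _) (LinearMap.exact_map_mkQ_range α₁)

set_option maxHeartbeats 1000000 in
/-- The base change of `α` is injective on the zero locus of an ideal, given that its cokernel is cut out. -/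
theorem exists_candidate {R Λ : Type u} [CommRing R] [CommRing Λ] [IsLocalRing Λ] [Algebra R Λ]
    {D G : Type u} [CommRing D] [Algebra R D] [AddCommGroup G] [Module D G] [Module R G] [IsScalarTower R D G]
    [Algebra.Smooth R D] (hirr : FlatCA.GeomIrredFibres R D) {r : ℕ} (α : (Fin r → D) →ₗ[D] G)
    (Zd : Set (PrimeSpectrum D)) (I₂ : Ideal Λ) (hI₂ : IsFlatIdeal R D (G ⧸ LinearMap.range α) Zd I₂) :
    ∃ I : Ideal Λ, I₂ ≤ I ∧
      (∀ (A : Type u) [CommRing A] [IsLocalRing A] [Algebra Λ A] [Algebra R A] [IsScalarTower R Λ A],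
        I.map (algebraMap Λ A) = ⊥ → Function.Injective ((α.restrictScalars R).baseChange A)) ∧
      (∀ (A : Type u) [CommRing A] [IsLocalRing A] [Algebra Λ A] [Algebra R A] [IsScalarTower R Λ A],
        I₂.map (algebraMap Λ A) = ⊥ → Function.Injective ((α.restrictScalars R).baseChange A) →
        I.map (algebraMap Λ A) = ⊥) := by
  classical
  by_cases htop : I₂ = ⊤
  · refine ⟨⊤, le_top, fun A _ _ _ _ _ h => ?_, fun A _ _ _ _ _ h _ => by rwa [htop] at h⟩
    have := (map_eq_bot_iff_le_ker _).1 h 1 trivial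
    rw [map_one] at this
    exact absurd this one_ne_zero
  let A₁ := Λ ⧸ I₂
  haveI : Nontrivial A₁ := Ideal.Quotient.nontrivial_iff.2 htop
  haveI : IsLocalRing A₁ := IsLocalRing.of_surjective' (Ideal.Quotient.mk I₂) Ideal.Quotient.mk_surjective
  haveI : IsLocalHom (algebraMap Λ A₁) := IsLocalHom.of_surjective (Ideal.Quotient.mk I₂) Ideal.Quotient.mk_surjective
  let D' := A₁ ⊗[R] D
  letI aDD' : Algebra D D' := Algebra.TensorProduct.rightAlgebra
  haveI : IsScalarTower R D D' := IsScalarTower.of_algebraMap_eq (R := R) (S := D) (A := D') fun r =>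
    ((Algebra.TensorProduct.includeRight : D →ₐ[R] D').commutes r).symm
  haveI : Algebra.IsPushout R D A₁ D' := TensorProduct.isPushout'
  haveI : Algebra.Smooth A₁ D' := inferInstance
  haveI : Module.Projective A₁ D' := projective_of_smooth_geomIrred (geomIrred_baseChange hirr)
  obtain ⟨G', _, _, _, _, _, _, j', hj'⟩ : ∃ (G' : Type u) (_ : AddCommGroup G') (_ : Module D' G') (_ : Module D G')
      (_ : IsScalarTower D D' G') (_ : Module A₁ G') (_ : IsScalarTower A₁ D' G') (j' : G →ₗ[D] G'),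
      IsBaseChange D' j' := exists_model G
  obtain ⟨α', hα'⟩ := exists_map_baseChange (D₂ := D') (G₂ := G') α j'
  obtain ⟨eP, eG, hnat⟩ := exists_equivs (R := R) (A := A₁) hj' α α' hα'
  let μ := (α.restrictScalars R).baseChange A₁
  let v := α'.restrictScalars A₁
  let W := LinearMap.range v
  let q : G' →ₗ[A₁] G' ⧸ LinearMap.range α' := (LinearMap.range α').mkQ.restrictScalars A₁
  have hfree : Module.Free A₁ (G' ⧸ LinearMap.range α') :=
    (hI₂ A₁ D' _ _ (isBaseChange_coker hj' hα')).2
      (Ideal.map_quotient_self I₂)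
  obtain ⟨s, hs⟩ := Module.projective_lifting_property q LinearMap.id (Submodule.mkQ_surjective _)
  have hqs : ∀ z, q (s z) = z := fun z => LinearMap.congr_fun hs z
  -- a retraction onto the range
  have hmem : ∀ g, g - s (q g) ∈ W := fun g => by
    have h0 : q (g - s (q g)) = 0 := by rw [map_sub, hqs, sub_self]
    obtain ⟨a, ha⟩ := (Submodule.Quotient.mk_eq_zero _).1 h0
    exact ⟨a, ha⟩
  let π : G' →ₗ[A₁] W := LinearMap.codRestrict W (LinearMap.id - s.comp q) hmem
  have hπ : π.comp W.subtype = LinearMap.id := LinearMap.ext fun w => Subtype.ext <| by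
    show (w : G') - s (q w) = w
    obtain ⟨a, ha⟩ := w.2
    have : q (w : G') = 0 := (Submodule.Quotient.mk_eq_zero _).2 ⟨a, ha⟩
    rw [this, map_zero, sub_zero]
  let u := v.rangeRestrict
  haveI : Module.Projective A₁ (Fin r → D') := .of_equiv (DFinsupp.linearEquivFunOnFintype (R := A₁) (M := fun _ : Fin r => D'))
  obtain ⟨J, hJ⟩ := Groth.Agent.S1227.result u v.surjective_rangeRestrict
  refine ⟨J.comap (Ideal.Quotient.mk I₂), fun x hx => ?_, ?_⟩
  · show Ideal.Quotient.mk I₂ x ∈ J
    rw [Ideal.Quotient.eq_zero_iff_mem.2 hx]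
    exact J.zero_mem
  have key : ∀ (A : Type u) [CommRing A] [Algebra A₁ A] [Algebra R A] [IsScalarTower R A₁ A],
      Function.Injective ((α.restrictScalars R).baseChange A) ↔ J.map (algebraMap A₁ A) = ⊥ := by
    intro A _ _ _ _
    rw [← hJ A, ← FlatMor66.RelAssLocus.baseChange_baseChange_injective_iff (D := A₁)]
    let EP := LinearEquiv.baseChange A₁ A _ _ eP
    let EG := LinearEquiv.baseChange A₁ A _ _ eG
    have hcomm : ∀ x, EG (μ.baseChange A x) = (W.subtype.baseChange A) (u.baseChange A (EP x)) := fun x => by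
      induction x using TensorProduct.induction_on with
      | zero => rw [LinearEquiv.map_zero EP, (μ.baseChange A).map_zero, LinearEquiv.map_zero EG, (u.baseChange A).map_zero, (W.subtype.baseChange A).map_zero]
      | add x y hx hy => simp only [map_add, hx, hy]
      | tmul a y =>
        simp only [EP, EG, LinearEquiv.baseChange_tmul, LinearMap.baseChange_tmul]
        congr 1
        exact hnat y
    have hsub : Function.Injective (W.subtype.baseChange A) := fun x y h => by
      have h' := congrArg (π.baseChange A) h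
      rwa [← LinearMap.comp_apply, ← LinearMap.comp_apply, ← LinearMap.baseChange_comp, hπ,
        LinearMap.baseChange_id, LinearMap.id_apply, LinearMap.id_apply] at h'
    have hsurju : Function.Surjective (u.baseChange A) :=
      LinearMap.lTensor_surjective A v.surjective_rangeRestrict
    constructor
    · intro h
      refine ⟨fun x y hxy => ?_, hsurju⟩
      obtain ⟨x, rfl⟩ := EP.surjective x
      obtain ⟨y, rfl⟩ := EP.surjective y
      exact congrArg EP (h (EG.injective (by rw [hcomm, hcomm, hxy])))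
    · intro h x y hxy
      refine EP.injective (h.injective (hsub ?_))
      rw [← hcomm, ← hcomm]
      exact congrArg EG hxy
  constructor
  · intro A _ _ _ _ _ hA
    have hI : ∀ x ∈ I₂, algebraMap Λ A x = 0 := fun x hx =>
      (map_eq_bot_iff_le_ker _).1 hA x
        (show Ideal.Quotient.mk I₂ x ∈ J by rw [Ideal.Quotient.eq_zero_iff_mem.2 hx]; exact J.zero_mem)
    letI : Algebra A₁ A := (Ideal.Quotient.lift I₂ (algebraMap Λ A) hI).toAlgebra
    haveI : IsScalarTower R A₁ A := IsScalarTower.of_algebraMap_eq fun t => IsScalarTower.algebraMap_apply R Λ A t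
    refine (key A).2 ((map_eq_bot_iff_le_ker _).2 fun z hz => ?_)
    obtain ⟨x, rfl⟩ := Ideal.Quotient.mk_surjective z
    exact (map_eq_bot_iff_le_ker _).1 hA x hz
  · intro A _ _ _ _ _ hA hinj
    letI : Algebra A₁ A :=
      (Ideal.Quotient.lift I₂ (algebraMap Λ A) ((map_eq_bot_iff_le_ker _).1 hA)).toAlgebra
    haveI : IsScalarTower R A₁ A := IsScalarTower.of_algebraMap_eq fun t => IsScalarTower.algebraMap_apply R Λ A t
    refine (map_eq_bot_iff_le_ker _).2 fun x hx => ?_
    exact (map_eq_bot_iff_le_ker _).1 ((key A).1 hinj) _ hx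

set_option maxHeartbeats 2000000 in
/-- One step of the construction of the ideal. -/
theorem step_ideal {R Λ : Type u} [CommRing R] [CommRing Λ] [IsLocalRing Λ] [Algebra R Λ]
    (p : Ideal R) [p.IsPrime] (hΛ : (IsLocalRing.maximalIdeal Λ).comap (algebraMap R Λ) = p)
    {S : Type u} [CommRing S] [Algebra R S] {N : Type u} [AddCommGroup N] [Module S N]
    {C D G : Type u} [CommRing C] [CommRing D] [Algebra S C] [Algebra R C] [IsScalarTower R S C] [Algebra R D]
    [Algebra D C] [IsScalarTower R D C] [AddCommGroup G] [Module C G] [Module S G] [IsScalarTower S C G] [Module D G]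
    [IsScalarTower D C G] [Module R G] [IsScalarTower R D G]
    [hP : (p.map (algebraMap R D)).IsPrime] (isoN : N ≃ₗ[S] G)
    (hsurjC : Function.Surjective (algebraMap S C)) [Module.Finite D C]
    [Module.Finite C G] [Algebra.Smooth R D] (hirr : FlatCA.GeomIrredFibres R D) {r : ℕ} (α : (Fin r → D) →ₗ[D] G)
    (hα : Function.Bijective (α.baseChange (p.map (algebraMap R D)).ResidueField))
    (Z₀ : Set (PrimeSpectrum S)) (Zd : Set (PrimeSpectrum D)) (hne : Zd.Nonempty)
    (hover : ∀ y ∈ Zd, y.asIdeal.comap (algebraMap R D) = p)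
    (hchain : ∀ z : PrimeSpectrum C, PrimeSpectrum.comap (algebraMap D C) z ∈ Zd →
      PrimeSpectrum.comap (algebraMap S C) z ∈ Z₀)
    (IH : ∃ I₂ : Ideal Λ, IsFlatIdeal R D (G ⧸ LinearMap.range α) Zd I₂) :
    ∃ I : Ideal Λ, IsFlatIdeal R S N Z₀ I := by
  classical
  obtain ⟨I₂, hI₂⟩ := IH
  obtain ⟨I, hIle, hIinj, hIrev⟩ := exists_candidate hirr α Zd I₂ hI₂
  refine ⟨I, ?_⟩
  intro A _ _ _ _ _ _ S'' _ _ _ _ _ _ _ N'' _ _ _ _ _ _ i hi
  have hA : (IsLocalRing.maximalIdeal A).comap (algebraMap R A) = p := by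
    rw [IsScalarTower.algebraMap_eq R Λ A, ← Ideal.comap_comap,
      IsLocalRing.maximalIdeal_comap (algebraMap Λ A), hΛ]
  haveI : Algebra.IsPushout R A S S'' := Algebra.IsPushout.symm inferInstance
  -- base changes
  let D₁ := A ⊗[R] D
  letI aDD₁ : Algebra D D₁ := Algebra.TensorProduct.rightAlgebra
  haveI : IsScalarTower R D D₁ := IsScalarTower.of_algebraMap_eq (R := R) (S := D) (A := D₁) fun r =>
    ((Algebra.TensorProduct.includeRight : D →ₐ[R] D₁).commutes r).symm
  haveI : Algebra.IsPushout R D A D₁ := TensorProduct.isPushout'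
  let C₁ := D₁ ⊗[D] C
  letI aCC₁ : Algebra C C₁ := Algebra.TensorProduct.rightAlgebra
  haveI : IsScalarTower D C C₁ := IsScalarTower.of_algebraMap_eq (R := D) (S := C) (A := C₁) fun d =>
    ((Algebra.TensorProduct.includeRight : C →ₐ[D] C₁).commutes d).symm
  haveI pDC : Algebra.IsPushout D C D₁ C₁ := TensorProduct.isPushout'
  haveI : IsScalarTower R D C₁ := IsScalarTower.of_algebraMap_eq (R := R) (S := D) (A := C₁) fun r => by
    exact ((IsScalarTower.algebraMap_apply R D₁ C₁ r).trans
      (congrArg (algebraMap D₁ C₁) (IsScalarTower.algebraMap_apply R D D₁ r))).trans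
      (IsScalarTower.algebraMap_apply D D₁ C₁ (algebraMap R D r)).symm
  haveI : IsScalarTower R C C₁ := IsScalarTower.of_algebraMap_eq (R := R) (S := C) (A := C₁) fun r => by
    rw [IsScalarTower.algebraMap_apply R D C, ← IsScalarTower.algebraMap_apply D C C₁,
      ← IsScalarTower.algebraMap_apply R D C₁]
  haveI : IsScalarTower R A C₁ := IsScalarTower.of_algebraMap_eq (R := R) (S := A) (A := C₁) fun r => by
    rw [IsScalarTower.algebraMap_apply A D₁ C₁, ← IsScalarTower.algebraMap_apply R A D₁,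
      ← IsScalarTower.algebraMap_apply R D₁ C₁]
  haveI pRC : Algebra.IsPushout R C A C₁ := (Algebra.IsPushout.comp_iff R D A D₁ (T := C) (T' := C₁)).2 pDC
  letI aSC₁ : Algebra S C₁ := ((algebraMap C C₁).comp (algebraMap S C)).toAlgebra
  haveI : IsScalarTower S C C₁ := IsScalarTower.of_algebraMap_eq (R := S) (S := C) (A := C₁) fun _ => rfl
  haveI : IsScalarTower R S C₁ := IsScalarTower.of_algebraMap_eq (R := R) (S := S) (A := C₁) fun r => by
    rw [IsScalarTower.algebraMap_apply R C C₁, IsScalarTower.algebraMap_apply R S C,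
      ← IsScalarTower.algebraMap_apply S C C₁]
  let ψ₁ : S'' →ₐ[S] C₁ := (Algebra.TensorProduct.lift (Algebra.ofId S C₁) (IsScalarTower.toAlgHom R A C₁)
    fun _ _ => .all _ _).comp (Algebra.IsPushout.equiv R S A S'').symm.toAlgHom
  letI aS''C₁ : Algebra S'' C₁ := ψ₁.toRingHom.toAlgebra
  haveI : IsScalarTower S S'' C₁ := IsScalarTower.of_algHom ψ₁
  have hψR : ∀ r, algebraMap S'' C₁ (algebraMap A S'' r) = algebraMap A C₁ r := fun r => by
    show (Algebra.TensorProduct.lift (Algebra.ofId S C₁) (IsScalarTower.toAlgHom R A C₁)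
      fun _ _ => .all _ _) ((Algebra.IsPushout.equiv R S A S'').symm (algebraMap A S'' r)) = _
    rw [Algebra.IsPushout.equiv_symm_algebraMap_right, Algebra.TensorProduct.lift_tmul, map_one, one_mul]
    rfl
  haveI : IsScalarTower A S'' C₁ := IsScalarTower.of_algebraMap_eq (R := A) (S := S'') (A := C₁) fun r => (hψR r).symm
  haveI : IsScalarTower R S'' C₁ := IsScalarTower.of_algebraMap_eq (R := R) (S := S'') (A := C₁) fun r => by
    rw [IsScalarTower.algebraMap_apply R S S'', ← IsScalarTower.algebraMap_apply S S'' C₁,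
      ← IsScalarTower.algebraMap_apply R S C₁]
  haveI pSC : Algebra.IsPushout S C S'' C₁ :=
    (Algebra.IsPushout.comp_iff R S A S'' (T := C) (T' := C₁)).1 pRC
  haveI : Algebra.IsPushout S S'' C C₁ := Algebra.IsPushout.symm pSC
  haveI : Algebra.IsPushout D D₁ C C₁ := Algebra.IsPushout.symm pDC
  have hsurj : Function.Surjective (algebraMap S'' C₁) := fun c => by
    obtain ⟨u, rfl⟩ := (Algebra.IsPushout.equiv S C S'' C₁).surjective c
    induction u using TensorProduct.induction_on with
    | zero => exact ⟨0, by simp⟩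
    | tmul c s =>
      obtain ⟨s', rfl⟩ := hsurjC c
      refine ⟨algebraMap S S'' s' * s, ?_⟩
      rw [Algebra.IsPushout.equiv_tmul, map_mul, ← IsScalarTower.algebraMap_apply, ← IsScalarTower.algebraMap_apply]
    | add u v hu hv =>
      obtain ⟨a, ha⟩ := hu
      obtain ⟨b, hb⟩ := hv
      exact ⟨a + b, by rw [map_add, map_add, ha, hb]⟩
  haveI : Algebra.Smooth A D₁ := inferInstance
  have hirr₁ : FlatCA.GeomIrredFibres A D₁ := geomIrred_baseChange hirr
  haveI : Module.Finite D₁ C₁ := Module.Finite.equiv (Algebra.IsPushout.equiv D D₁ C C₁).toLinearEquiv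
  obtain ⟨G₁, _, _, _, _, _, _, _, _, _, _, _, _, _, _, _, jD, jS, hjD, hjS⟩ :=
    exists_model₂ (A := A) (S := S) (S'' := S'') (C := C) (C₁ := C₁) (D := D) (D₁ := D₁) G
  haveI : Module.Finite D₁ G₁ := Module.Finite.trans C₁ G₁
  have hjN : IsBaseChange S'' (jS.comp isoN.toLinearMap) :=
    (IsBaseChange.ofEquiv isoN).comp hjS
  obtain ⟨e₁⟩ : Nonempty (N'' ≃ₗ[S''] G₁) := ⟨hi.equiv.symm.trans hjN.equiv⟩
  obtain ⟨α₁, hα₁⟩ := exists_map_baseChange (D₂ := D₁) (G₂ := G₁) α jD
  obtain ⟨eP, eG, hnat⟩ := exists_equivs (R := R) (A := A) hjD α α₁ hα₁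
  have hiff : Function.Injective α₁ ↔ Function.Injective ((α.restrictScalars R).baseChange A) := by
    constructor
    · intro h x y hxy
      exact eP.injective (h (by rw [← hnat, ← hnat, hxy]))
    · intro h x y hxy
      obtain ⟨x, rfl⟩ := eP.surjective x
      obtain ⟨y, rfl⟩ := eP.surjective y
      exact congrArg eP (h (eG.injective (by rw [hnat, hnat, hxy])))
  have hj₂ := isBaseChange_coker hjD hα₁
  constructor
  · intro hflat
    obtain ⟨hinj, hflatQ⟩ := flat_step p hA hirr₁ hsurj hjD e₁ α hα α₁ hα₁ Z₀ Zd hne hover hchain hflat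
    exact hIrev A ((hI₂ A D₁ _ _ hj₂).1 hflatQ) (hiff.1 hinj)
  · intro hI
    have hI₂A : I₂.map (algebraMap Λ A) = ⊥ := le_bot_iff.1 ((Ideal.map_mono hIle).trans hI.le)
    haveI := (hI₂ A D₁ _ _ hj₂).2 hI₂A
    have hinj : Function.Injective α₁ := hiff.2 (hIinj A hI)
    haveI : Module.Projective A D₁ := projective_of_smooth_geomIrred hirr₁
    haveI : Module.Free A D₁ := CAlg1.free_of_projective
    obtain ⟨e⟩ := exists_equiv_prod (α₁.restrictScalars A) ((LinearMap.range α₁).mkQ.restrictScalars A) hinj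
      (Submodule.mkQ_surjective _) (LinearMap.exact_map_mkQ_range α₁)
    haveI : Module.Free A G₁ := Module.Free.of_equiv e.symm
    exact Module.Free.of_equiv (e₁.restrictScalars A).symm

/-- The ideal of a complete dévissage. -/
theorem completeDevissage_ideal {R Λ : Type u} [CommRing R] [CommRing Λ] [IsLocalRing Λ] [Algebra R Λ]
    (p : Ideal R) [p.IsPrime] (hΛ : (IsLocalRing.maximalIdeal Λ).comap (algebraMap R Λ) = p) :
    ∀ (k : ℕ) {S : Type u} [CommRing S] [Algebra R S] {N : Type u} [AddCommGroup N] [Module S N]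
      (T : FlatCA.CompleteDevissage R S N p), T.n = k + 1 →
      ∀ (Z₀ : Set (PrimeSpectrum S)) (Zs : ∀ i, Set (PrimeSpectrum (T.B i))), (∀ i < T.n, (Zs i).Nonempty) →
      (∀ i < T.n, ∀ y ∈ Zs i, y.asIdeal.comap (algebraMap R (T.B i)) = p) →
      (∀ z : PrimeSpectrum (T.A 0), PrimeSpectrum.comap (algebraMap (T.B 0) (T.A 0)) z ∈ Zs 0 →
        PrimeSpectrum.comap (algebraMap S (T.A 0)) z ∈ Z₀) →
      (∀ i, i + 1 < T.n → ∀ z : PrimeSpectrum (T.A (i + 1)),
        PrimeSpectrum.comap (algebraMap (T.B (i + 1)) (T.A (i + 1))) z ∈ Zs (i + 1) →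
        PrimeSpectrum.comap (algebraMap (T.B i) (T.A (i + 1))) z ∈ Zs i) →
      ∃ I : Ideal Λ, IsFlatIdeal R S N Z₀ I := by
  intro k
  induction k with
  | zero =>
    intro S _ _ N _ _ T hn Z₀ Zs hne hover h0 hch
    haveI := T.finiteBA 0 (by omega)
    haveI := T.finiteM 0 (by omega)
    haveI := T.smooth 0 (by omega)
    refine step_ideal p hΛ (D := T.B 0) T.isoN T.surjSA (T.geomIrred 0 (by omega)) (T.α 0)
      (T.fibreIso 0 (by omega)) Z₀ (Zs 0) (hne 0 (by omega)) (hover 0 (by omega)) h0 ⟨⊥, ?_⟩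
    have h := T.cokerLast
    rw [show T.n - 1 = 0 by omega] at h
    haveI : Subsingleton (T.M 0 ⧸ LinearMap.range (T.α 0)) :=
      Submodule.Quotient.subsingleton_iff.2 (LinearMap.range_eq_top.2 h)
    exact isFlatIdeal_bot_of_subsingleton R (T.B 0) _ _
  | succ k IH =>
    intro S _ _ N _ _ T hn Z₀ Zs hne hover h0 hch
    haveI := T.finiteBA 0 (by omega)
    haveI := T.finiteM 0 (by omega)
    haveI := T.smooth 0 (by omega)
    let D := T.B 0
    let G := T.M 0
    let T' : FlatCA.CompleteDevissage R D (G ⧸ LinearMap.range (T.α 0)) p :=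
      { n := T.n - 1
        pos := by omega
        A := fun i => T.A (i + 1)
        B := fun i => T.B (i + 1)
        M := fun i => T.M (i + 1)
        r := fun i => T.r (i + 1)
        aSA := T.aBA' 0
        tRSA := T.tRBA' 0
        aBA' := fun i => T.aBA' (i + 1)
        tRBA' := fun i => T.tRBA' (i + 1)
        mSM := T.mB'M 0
        tSAM := T.tB'AM 0
        mB'M := fun i => T.mB'M (i + 1)
        tB'AM := fun i => T.tB'AM (i + 1)
        hp := fun i => T.hp (i + 1)
        α := fun i => T.α (i + 1)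
        surjSA := T.surjBA' 0 (by omega)
        fpSA := T.fpBA' 0 (by omega)
        surjBA' := fun i hi => T.surjBA' (i + 1) (by omega)
        fpBA' := fun i hi => T.fpBA' (i + 1) (by omega)
        finiteBA := fun i hi => T.finiteBA (i + 1) (by omega)
        smooth := fun i hi => T.smooth (i + 1) (by omega)
        geomIrred := fun i hi => T.geomIrred (i + 1) (by omega)
        finiteM := fun i hi => T.finiteM (i + 1) (by omega)
        isoN := T.isoCoker 0 (by omega)
        isoCoker := fun i hi => T.isoCoker (i + 1) (by omega)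
        fibreIso := fun i hi => T.fibreIso (i + 1) (by omega)
        cokerLast := by
          have h := T.cokerLast
          rw [show T.n - 1 = T.n - 1 - 1 + 1 by omega] at h
          exact h }
    exact step_ideal p hΛ (D := T.B 0) T.isoN T.surjSA (T.geomIrred 0 (by omega)) (T.α 0)
      (T.fibreIso 0 (by omega)) Z₀ (Zs 0) (hne 0 (by omega)) (hover 0 (by omega)) h0
      (IH T' (show T.n - 1 = k + 1 by omega) (Zs 0) (fun i => Zs (i + 1))
          (fun i hi' => hne (i + 1) (show i + 1 < T.n by have : i < T.n - 1 := hi'; omega))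
          (fun i hi' => hover (i + 1) (show i + 1 < T.n by have : i < T.n - 1 := hi'; omega))
          (hch 0 (by omega))
          (fun i hi' => hch (i + 1) (show i + 1 + 1 < T.n by have : i + 1 < T.n - 1 := hi'; omega)))

/-- The ideal of a complete dévissage at a point. -/
theorem exists_ideal_of_completeDevissageAt {R Λ S : Type u} [CommRing R] [CommRing Λ] [IsLocalRing Λ] [Algebra R Λ]
    [CommRing S] [Algebra R S] {N : Type u} [AddCommGroup N] [Module S N]
    {p : Ideal R} [p.IsPrime] (hΛ : (IsLocalRing.maximalIdeal Λ).comap (algebraMap R Λ) = p) {q : Ideal S} [q.IsPrime]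
    (h : FlatCA.HasCompleteDevissageAt R S N p q) :
    ∃ I : Ideal Λ, IsFlatIdeal R S N {⟨q, inferInstance⟩} I := by
  obtain ⟨T, ⟨hT⟩⟩ := h
  obtain ⟨k, hk⟩ := Nat.exists_eq_succ_of_ne_zero T.pos.ne'
  refine completeDevissage_ideal p hΛ k T hk {⟨q, inferInstance⟩}
    (fun i => {⟨hT.qB i, hT.hqB i⟩}) (fun i _ => Set.singleton_nonempty _) ?_ ?_ ?_
  · rintro i - y rfl
    haveI := hT.overB i
    exact ((hT.overB i).over).symm
  · intro z hz
    have hz' := hT.uniq 0 T.pos z.asIdeal ⟨(congrArg PrimeSpectrum.asIdeal hz).symm⟩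
    apply PrimeSpectrum.ext
    show z.asIdeal.comap (algebraMap S (T.A 0)) = q
    rw [hz', hT.q0]
  · intro i hi' z hz
    have hz' := hT.uniq (i + 1) hi' z.asIdeal ⟨(congrArg PrimeSpectrum.asIdeal hz).symm⟩
    apply PrimeSpectrum.ext
    show z.asIdeal.comap (algebraMap (T.B i) (T.A (i + 1))) = hT.qB i
    rw [hz', hT.qStep i hi']

end Groth.Agent.Hopf35.FlatLocus
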