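import Groth.Agent.Hopf35.FlatLocus
import Groth.Agent.FlatCrit65.Dev.HenselianML
import Groth.Agent.FlatCrit65.Dev.EtaleLoc
import Groth.Agent.FlatCrit65.Purity.Cover
import Groth.Agent.FlatCrit65.Purity.Basic
import Groth.Agent.FlatMor67.FlatAtStage
import Groth.Agent.FlatMor67.FlatAtDesc
import Mathlib

/-!
The ideal corepresenting the flat locus of a module over an algebra essentially of finite type over a
henselian local ring.
-/

set_option autoImplicit false
set_option linter.style.haveILetI false

universe u

open TensorProduct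

namespace Groth.Agent.Hopf35.FlatLocus

open RG29 IsLocalRing

/-- A model of finite type of a finite module over a localization. -/
theorem exists_finite_model {S B M : Type u} [CommRing S] [CommRing B] [Algebra S B] (W : Submonoid S)
    [IsLocalization W B] [AddCommGroup M] [Module B M] [Module.Finite B M] [Module S M] [IsScalarTower S B M] :
    ∃ (N : Submodule S M), Module.Finite S N ∧ IsBaseChange B N.subtype := by
  classical
  obtain ⟨s, hs⟩ := Module.finite_def.1 (inferInstance : Module.Finite B M)
  refine ⟨Submodule.span S (s : Set M), Module.Finite.span_of_finite S s.finite_toSet, ?_⟩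
  refine (isLocalizedModule_iff_isBaseChange W B _).1 ⟨fun w => ?_, fun m => ?_, fun h => ⟨1, ?_⟩⟩
  · obtain ⟨u, hu⟩ := IsLocalization.map_units B w
    refine (Module.End.isUnit_iff _).2 ⟨fun a b h => ?_, fun a => ⟨(↑u⁻¹ : B) • a, ?_⟩⟩
    · have h' : (u : B) • a = (u : B) • b := by rw [hu, algebraMap_smul, algebraMap_smul]; exact h
      exact u.isUnit.smul_left_cancel.1 h'
    · show (w : S) • (↑u⁻¹ : B) • a = a
      rw [← algebraMap_smul B (w : S), smul_smul, ← hu, Units.mul_inv, one_smul]
  · have hm : m ∈ Submodule.span B (s : Set M) := hs ▸ Submodule.mem_top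
    induction hm using Submodule.span_induction with
    | mem x hx => exact ⟨⟨⟨x, Submodule.subset_span hx⟩, 1⟩, by simp⟩
    | zero => exact ⟨⟨0, 1⟩, by simp⟩
    | add x y _ _ hx hy =>
      obtain ⟨⟨a, c⟩, ha⟩ := hx
      obtain ⟨⟨b, d⟩, hb⟩ := hy
      refine ⟨⟨(d : S) • a + (c : S) • b, c * d⟩, ?_⟩
      simp only [Submonoid.smul_def, Submonoid.coe_mul, map_add, map_smul] at ha hb ⊢
      rw [smul_add, ← ha, ← hb, mul_comm, mul_smul, mul_comm, mul_smul]
    | smul b x _ hx =>
      obtain ⟨⟨a, c⟩, ha⟩ := hx
      obtain ⟨⟨t, d⟩, hd⟩ := IsLocalization.surj W b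
      refine ⟨⟨t • a, c * d⟩, ?_⟩
      simp only [Submonoid.smul_def, Submonoid.coe_mul, map_smul] at ha hd ⊢
      rw [← ha, mul_comm, mul_smul, smul_comm (c : S) b x, ← algebraMap_smul B (d : S), smul_smul, mul_comm, hd,
        algebraMap_smul]
  · have h' := Subtype.ext h
    simp only [h']

/-- A model of a pushout of rings. -/
theorem exists_pushout {R S T : Type u} [CommRing R] [CommRing S] [CommRing T] [Algebra R S] [Algebra R T] :
    ∃ (U : Type u) (_ : CommRing U) (_ : Algebra S U) (_ : Algebra T U) (_ : Algebra R U) (_ : IsScalarTower R S U)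
      (_ : IsScalarTower R T U), Algebra.IsPushout R S T U ∧ (Module.Flat R T → Module.Flat S U) := by
  letI : Algebra T (S ⊗[R] T) := Algebra.TensorProduct.rightAlgebra
  haveI : IsScalarTower R T (S ⊗[R] T) := IsScalarTower.of_algebraMap_eq (R := R) (S := T) (A := S ⊗[R] T) fun r =>
    ((Algebra.TensorProduct.includeRight : T →ₐ[R] S ⊗[R] T).commutes r).symm
  exact ⟨S ⊗[R] T, inferInstance, inferInstance, inferInstance, inferInstance, inferInstance, inferInstance,
    TensorProduct.isPushout, fun _ => inferInstance⟩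

/-- Flatness at the primes over both closed points, read on a model of finite type. -/
theorem flat_above_iff {A S B A' P B' N M NP M' : Type u} [CommRing A] [CommRing S] [CommRing B] [CommRing A']
    [CommRing P] [CommRing B'] [IsLocalRing B] [IsLocalRing A'] [Algebra A S] [Algebra A B] [Algebra S B]
    [IsScalarTower A S B] (q : Ideal S) [q.IsPrime] [IsLocalization.AtPrime B q] [Algebra A A']
    [Algebra A P] [Algebra A' P] [Algebra S P] [IsScalarTower A A' P] [IsScalarTower A S P]
    [Algebra.IsPushout A S A' P]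
    [Algebra B B'] [Algebra A' B'] [Algebra A B'] [IsScalarTower A B B'] [IsScalarTower A A' B']
    [Algebra.IsPushout A B A' B']
    [AddCommGroup N] [Module S N] [AddCommGroup M] [Module B M] [Module S M] [IsScalarTower S B M]
    {ι : N →ₗ[S] M} (hι : IsBaseChange B ι)
    [AddCommGroup NP] [Module P NP] [Module S NP] [IsScalarTower S P NP] [Module A' NP] [IsScalarTower A' P NP]
    {g : N →ₗ[S] NP} (hg : IsBaseChange P g)
    [AddCommGroup M'] [Module B' M'] [Module B M'] [IsScalarTower B B' M'] [Module A' M'] [IsScalarTower A' B' M']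
    {f : M →ₗ[B] M'} (hf : IsBaseChange B' f) :
    (∀ (Q : Ideal B') [Q.IsPrime], (maximalIdeal A').map (algebraMap A' B') ⊔
        (maximalIdeal B).map (algebraMap B B') ≤ Q → FlatCA.FlatAt A' Q M') ↔
      ∀ (Q : Ideal P) [Q.IsPrime], Q.comap (algebraMap A' P) = maximalIdeal A' → Q.comap (algebraMap S P) = q →
        FlatCA.FlatAt A' Q NP := by
  let φ : P →ₐ[A] B' := (Algebra.TensorProduct.lift ((IsScalarTower.toAlgHom A B B').comp (IsScalarTower.toAlgHom A S B))
      (IsScalarTower.toAlgHom A A' B') fun _ _ => .all _ _).comp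
    ((Algebra.IsPushout.equiv A S A' P).restrictScalars A).symm.toAlgHom
  letI : Algebra P B' := φ.toRingHom.toAlgebra
  letI : Algebra S B' := ((algebraMap B B').comp (algebraMap S B)).toAlgebra
  haveI : IsScalarTower S B B' := IsScalarTower.of_algebraMap_eq fun _ => rfl
  haveI : IsScalarTower S P B' := IsScalarTower.of_algebraMap_eq fun s => by
    show algebraMap B B' (algebraMap S B s) = φ (algebraMap S P s)
    simp [φ, Algebra.IsPushout.equiv_symm_algebraMap_left]
  haveI : IsScalarTower A' P B' := IsScalarTower.of_algebraMap_eq fun a => by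
    show algebraMap A' B' a = φ (algebraMap A' P a)
    simp [φ, Algebra.IsPushout.equiv_symm_algebraMap_right]
  haveI : IsScalarTower A P B' := IsScalarTower.of_algHom φ
  haveI : IsScalarTower A S B' := IsScalarTower.of_algebraMap_eq fun a => by
    rw [IsScalarTower.algebraMap_apply S B B', ← IsScalarTower.algebraMap_apply A S B,
      ← IsScalarTower.algebraMap_apply A B B']
  haveI hpo : Algebra.IsPushout S B P B' :=
    (Algebra.IsPushout.comp_iff (R := A) (S := S) (T := B) (R' := A') (S' := P) (T' := B')).1 inferInstance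
  haveI hloc : IsLocalization (Algebra.algebraMapSubmonoid P q.primeCompl) B' :=
    (Algebra.isLocalization_iff_isPushout q.primeCompl B).2 hpo.symm
  letI : Module P M' := Module.compHom M' (algebraMap P B')
  haveI : IsScalarTower P B' M' := IsScalarTower.of_algebraMap_smul fun _ _ => rfl
  haveI : IsScalarTower A' P M' := IsScalarTower.of_algebraMap_smul fun a x => by
    show algebraMap P B' (algebraMap A' P a) • x = a • x
    rw [← IsScalarTower.algebraMap_apply, algebraMap_smul]
  letI : Module S M' := Module.compHom M' (algebraMap S B)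
  haveI : IsScalarTower S B M' := IsScalarTower.of_algebraMap_smul fun _ _ => rfl
  haveI : IsScalarTower S B' M' := IsScalarTower.of_algebraMap_smul fun c x => by
    rw [IsScalarTower.algebraMap_apply S B B', algebraMap_smul, algebraMap_smul]
  haveI : IsScalarTower S P M' := IsScalarTower.of_algebraMap_smul fun c x => by
    show algebraMap P B' (algebraMap S P c) • x = c • x
    rw [← IsScalarTower.algebraMap_apply, algebraMap_smul]
  have key : ∀ (Q : Ideal B') [Q.IsPrime],
      FlatCA.FlatAt A' Q M' ↔ FlatCA.FlatAt A' (Q.comap (algebraMap P B')) NP := by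
    intro Q _
    haveI : IsLocalization.AtPrime (Localization.AtPrime Q) (Q.comap (algebraMap P B')) :=
      IsLocalization.isLocalization_isLocalization_atPrime_isLocalization
        (Algebra.algebraMapSubmonoid P q.primeCompl) (Localization.AtPrime Q) Q
    exact (FlatMor67.flat_localizedModule_iff_of_atPrime (L := Localization.AtPrime Q)
      (Mq := LocalizedModule Q.primeCompl M') (Q.comap (algebraMap P B')) g hg
      ((LocalizedModule.mkLinearMap Q.primeCompl M').restrictScalars S ∘ₗ (f.restrictScalars S ∘ₗ ι))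
      ((hι.comp hf).comp (IsLocalizedModule.isBaseChange Q.primeCompl (Localization.AtPrime Q)
        (LocalizedModule.mkLinearMap Q.primeCompl M')))).symm
  have hmB : (maximalIdeal B).comap (algebraMap S B) = q := IsLocalization.AtPrime.comap_maximalIdeal B q
  constructor
  · intro h Q _ hQA hQS
    have hdisj : Disjoint (Algebra.algebraMapSubmonoid P q.primeCompl : Set P) (Q : Set P) := by
      rw [Set.disjoint_left]
      rintro _ ⟨w, hw, rfl⟩ hx
      exact hw (hQS ▸ hx)
    haveI hp : (Q.map (algebraMap P B')).IsPrime :=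
      IsLocalization.isPrime_of_isPrime_disjoint _ B' Q inferInstance hdisj
    have hcomap : (Q.map (algebraMap P B')).comap (algebraMap P B') = Q :=
      IsLocalization.under_map_of_isPrime_disjoint _ B' (I := Q) inferInstance hdisj
    refine FlatCrit65.Dev.flatAt_congr hcomap ((key _).1 (h _ (sup_le ?_ ?_)))
    · refine Ideal.map_le_iff_le_comap.2 fun a ha => ?_
      show algebraMap A' B' a ∈ Q.map (algebraMap P B')
      rw [IsScalarTower.algebraMap_apply A' P B']
      exact Ideal.mem_map_of_mem _ (hQA.ge ha)
    · rw [← IsLocalization.AtPrime.map_eq_maximalIdeal q B, Ideal.map_map, ← IsScalarTower.algebraMap_eq]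
      refine Ideal.map_le_iff_le_comap.2 fun s hs => ?_
      show algebraMap S B' s ∈ Q.map (algebraMap P B')
      rw [IsScalarTower.algebraMap_apply S P B']
      exact Ideal.mem_map_of_mem _ (hQS.ge hs)
  · intro h Q hQ hle
    have hA : Q.comap (algebraMap A' B') = maximalIdeal A' :=
      ((maximalIdeal.isMaximal A').eq_of_le (Ideal.IsPrime.ne_top inferInstance)
        (Ideal.map_le_iff_le_comap.1 (le_trans le_sup_left hle))).symm
    have hB : Q.comap (algebraMap B B') = maximalIdeal B :=
      ((maximalIdeal.isMaximal B).eq_of_le (Ideal.IsPrime.ne_top inferInstance)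
        (Ideal.map_le_iff_le_comap.1 (le_trans le_sup_right hle))).symm
    refine (key Q).2 (h _ ?_ ?_)
    · rw [Ideal.comap_comap, ← IsScalarTower.algebraMap_eq, hA]
    · rw [Ideal.comap_comap, ← IsScalarTower.algebraMap_eq, IsScalarTower.algebraMap_eq S B B', ← Ideal.comap_comap,
        hB, hmB]

set_option maxHeartbeats 1000000 in
/-- The ideal of the étale chart tests flatness on the model of finite type. -/
theorem flat_model_iff {A R' S S' N N' : Type u} [CommRing A] [IsLocalRing A] [CommRing R'] [Algebra A R']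
    [Algebra R' A] [IsScalarTower A R' A] [Algebra.Etale A R']
    [CommRing S] [Algebra A S] [CommRing S'] [Algebra S S'] [Algebra R' S'] [Algebra A S'] [IsScalarTower A R' S']
    [IsScalarTower A S S'] [Algebra.Etale S S'] {q : Ideal S} [q.IsPrime] {q' : Ideal S'} [q'.IsPrime]
    (hq' : q'.comap (algebraMap S S') = q)
    (hqp : q'.comap (algebraMap R' S') = (maximalIdeal A).comap (algebraMap R' A))
    [AddCommGroup N] [Module S N] [AddCommGroup N'] [Module S' N'] [Module S N'] [IsScalarTower S S' N']
    {f₀ : N →ₗ[S] N'} (hf₀ : IsBaseChange S' f₀)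
    {I : Ideal A} (hI : IsFlatIdeal R' S' N' {⟨q', inferInstance⟩} I)
    {A' P NP : Type u} [CommRing A'] [IsLocalRing A'] [Algebra A A'] [IsLocalHom (algebraMap A A')] [CommRing P]
    [Algebra A P] [Algebra A' P] [Algebra S P] [IsScalarTower A A' P] [IsScalarTower A S P]
    [Algebra.IsPushout A S A' P]
    [AddCommGroup NP] [Module P NP] [Module S NP] [IsScalarTower S P NP] [Module A' NP] [IsScalarTower A' P NP]
    {g : N →ₗ[S] NP} (hg : IsBaseChange P g) :
    (∀ (Q : Ideal P) [Q.IsPrime], Q.comap (algebraMap A' P) = maximalIdeal A' → Q.comap (algebraMap S P) = q →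
        FlatCA.FlatAt A' Q NP) ↔ I.map (algebraMap A A') = ⊥ := by
  haveI : Algebra.Etale R' A := Algebra.Etale.of_restrictScalars (R := A) (A := R') (B := A)
  haveI : Module.Flat R' A := inferInstance
  haveI : Module.Flat S S' := inferInstance
  -- the chart over the base
  obtain ⟨S₁, _, _, _, _, _, _, pA, hflat₁⟩ := exists_pushout (R := R') (S := S') (T := A)
  haveI := pA
  haveI : Module.Flat S' S₁ := hflat₁ inferInstance
  haveI : Algebra.IsPushout R' A S' S₁ := Algebra.IsPushout.symm pA
  letI : Algebra S S₁ := ((algebraMap S' S₁).comp (algebraMap S S')).toAlgebra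
  haveI : IsScalarTower S S' S₁ := IsScalarTower.of_algebraMap_eq fun _ => rfl
  haveI : IsScalarTower A S S₁ := IsScalarTower.of_algebraMap_eq fun a => by
    rw [IsScalarTower.algebraMap_apply S S' S₁, ← IsScalarTower.algebraMap_apply A S S',
      IsScalarTower.algebraMap_apply A R' S', ← IsScalarTower.algebraMap_apply R' S' S₁,
      IsScalarTower.algebraMap_apply R' A S₁, ← IsScalarTower.algebraMap_apply A R' A,
      Algebra.algebraMap_self, RingHom.id_apply]
  haveI : Module.Flat S S₁ := Module.Flat.trans S S' S₁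
  -- the chart over the test ring
  obtain ⟨S'', _, _, _, _, _, _, pS₁, -⟩ := exists_pushout (R := A) (S := A') (T := S₁)
  haveI := pS₁
  haveI : Algebra.IsPushout A S₁ A' S'' := Algebra.IsPushout.symm inferInstance
  letI : Algebra R' A' := ((algebraMap A A').comp (algebraMap R' A)).toAlgebra
  haveI : IsScalarTower R' A A' := IsScalarTower.of_algebraMap_eq fun _ => rfl
  letI : Algebra S' S'' := ((algebraMap S₁ S'').comp (algebraMap S' S₁)).toAlgebra
  haveI : IsScalarTower S' S₁ S'' := IsScalarTower.of_algebraMap_eq fun _ => rfl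
  letI : Algebra R' S'' := ((algebraMap A' S'').comp (algebraMap R' A')).toAlgebra
  haveI : IsScalarTower R' A' S'' := IsScalarTower.of_algebraMap_eq fun _ => rfl
  have hRA : ∀ r : R', algebraMap R' S'' r = algebraMap S₁ S'' (algebraMap A S₁ (algebraMap R' A r)) := fun r => by
    rw [IsScalarTower.algebraMap_apply R' A' S'', IsScalarTower.algebraMap_apply R' A A',
      ← IsScalarTower.algebraMap_apply A A' S'', ← IsScalarTower.algebraMap_apply A S₁ S'']
  haveI : IsScalarTower R' S' S'' := IsScalarTower.of_algebraMap_eq fun r => by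
    rw [hRA, ← IsScalarTower.algebraMap_apply R' A S₁, IsScalarTower.algebraMap_apply S' S₁ S'',
      ← IsScalarTower.algebraMap_apply R' S' S₁]
  haveI : IsScalarTower R' S₁ S'' := IsScalarTower.of_algebraMap_eq fun r => by
    rw [hRA, ← IsScalarTower.algebraMap_apply R' A S₁]
  haveI : IsScalarTower R' A S'' := IsScalarTower.of_algebraMap_eq fun r => by
    rw [hRA, ← IsScalarTower.algebraMap_apply A S₁ S'']
  haveI : Algebra.IsPushout R' A' S' S'' :=
    (Algebra.IsPushout.comp_iff (R := R') (S := A) (T := A') (R' := S') (S' := S₁) (T' := S'')).2 inferInstance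
  haveI : Algebra.IsPushout R' S' A' S'' := Algebra.IsPushout.symm inferInstance
  let φ : P →ₐ[A] S'' := (Algebra.TensorProduct.lift ((IsScalarTower.toAlgHom A S₁ S'').comp (IsScalarTower.toAlgHom A S S₁))
      (IsScalarTower.toAlgHom A A' S'') fun _ _ => .all _ _).comp
    ((Algebra.IsPushout.equiv A S A' P).restrictScalars A).symm.toAlgHom
  letI : Algebra P S'' := φ.toRingHom.toAlgebra
  letI : Algebra S S'' := ((algebraMap S₁ S'').comp (algebraMap S S₁)).toAlgebra
  haveI : IsScalarTower S S₁ S'' := IsScalarTower.of_algebraMap_eq fun _ => rfl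
  haveI : IsScalarTower S P S'' := IsScalarTower.of_algebraMap_eq fun s => by
    show algebraMap S₁ S'' (algebraMap S S₁ s) = φ (algebraMap S P s)
    simp [φ, Algebra.IsPushout.equiv_symm_algebraMap_left]
  haveI : IsScalarTower A' P S'' := IsScalarTower.of_algebraMap_eq fun a => by
    show algebraMap A' S'' a = φ (algebraMap A' P a)
    simp [φ, Algebra.IsPushout.equiv_symm_algebraMap_right]
  haveI : IsScalarTower A P S'' := IsScalarTower.of_algHom φ
  haveI : IsScalarTower S S' S'' := IsScalarTower.of_algebraMap_eq fun s => by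
    rw [IsScalarTower.algebraMap_apply S' S₁ S'', ← IsScalarTower.algebraMap_apply S S' S₁,
      ← IsScalarTower.algebraMap_apply S S₁ S'']
  haveI : IsScalarTower A S S'' := IsScalarTower.of_algebraMap_eq fun a => by
    rw [IsScalarTower.algebraMap_apply S S₁ S'', ← IsScalarTower.algebraMap_apply A S S₁,
      ← IsScalarTower.algebraMap_apply A S₁ S'']
  haveI pS : Algebra.IsPushout S S₁ P S'' :=
    (Algebra.IsPushout.comp_iff (R := A) (S := S) (T := S₁) (R' := A') (S' := P) (T' := S'')).1 inferInstance
  haveI : Algebra.IsPushout S P S₁ S'' := Algebra.IsPushout.symm inferInstance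
  haveI : Module.Flat P S'' :=
    Module.Flat.isBaseChange (R := S) (S := P) (M := S₁) S'' (Algebra.IsPushout.out (R := S) (S := P) (R' := S₁) (S' := S''))
  -- the module
  obtain ⟨N'', _, _, _, _, _, _, i, hi⟩ := exists_model (A := A') (D := S') (D₁ := S'') N'
  letI : Module S N'' := Module.compHom N'' (algebraMap S S')
  haveI : IsScalarTower S S' N'' := IsScalarTower.of_algebraMap_smul fun _ _ => rfl
  haveI : IsScalarTower S S'' N'' := IsScalarTower.of_algebraMap_smul fun c x => by
    rw [IsScalarTower.algebraMap_apply S S' S'', algebraMap_smul, algebraMap_smul]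
  letI : Module P N'' := Module.compHom N'' (algebraMap P S'')
  haveI : IsScalarTower P S'' N'' := IsScalarTower.of_algebraMap_smul fun _ _ => rfl
  haveI : IsScalarTower S P N'' := IsScalarTower.of_algebraMap_smul fun c x => by
    show algebraMap P S'' (algebraMap S P c) • x = c • x
    rw [← IsScalarTower.algebraMap_apply, algebraMap_smul]
  haveI : IsScalarTower A' P N'' := IsScalarTower.of_algebraMap_smul fun a x => by
    show algebraMap P S'' (algebraMap A' P a) • x = a • x
    rw [← IsScalarTower.algebraMap_apply, algebraMap_smul]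
  have hc : IsBaseChange S'' ((i.restrictScalars S).comp f₀) := hf₀.comp hi
  have hlift : IsBaseChange S'' (hg.lift ((i.restrictScalars S).comp f₀)) := by
    refine IsBaseChange.of_comp hg ?_
    convert hc using 1
    exact LinearMap.ext fun x => hg.lift_eq _ x
  obtain ⟨q₁, _, hq₁S, hq₁A⟩ := FlatMor67.FlatAtDesc.exists_prime_pushout (R := R') (S := S') (R' := A) (S' := S₁)
    q' (maximalIdeal A) hqp
  have hq₁q : q₁.comap (algebraMap S S₁) = q := by
    rw [IsScalarTower.algebraMap_eq S S' S₁, ← Ideal.comap_comap, hq₁S, hq']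
  obtain ⟨hforward, hback⟩ := hI A' S'' N'' i hi
  constructor
  · intro h
    refine hforward fun Q hQA hQq => ?_
    have hQ' : Q.asIdeal.comap (algebraMap S' S'') = q' := congrArg PrimeSpectrum.asIdeal (Set.mem_singleton_iff.1 hQq)
    refine FlatCrit65.Purity.flatAt_ascend hlift Q.asIdeal (h _ ?_ ?_)
    · rw [Ideal.comap_comap, ← IsScalarTower.algebraMap_eq, hQA]
    · rw [Ideal.comap_comap, ← IsScalarTower.algebraMap_eq, IsScalarTower.algebraMap_eq S S' S'', ← Ideal.comap_comap,
        hQ', hq']
  · intro h Q _ hQA hQS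
    obtain ⟨Q'', _, hQ''P, hQ''S⟩ := FlatMor67.FlatAtDesc.exists_prime_pushout (R := S) (S := P) (R' := S₁) (S' := S'')
      Q q₁ (hQS.trans hq₁q.symm)
    haveI : Q''.LiesOver Q := ⟨hQ''P.symm⟩
    haveI := hback h
    exact RG29.flatAt_of_baseChange hlift Q Q'' (FlatCrit65.Purity.flatAt_of_flat Q'')

set_option maxHeartbeats 1000000 in
/-- The ideal exists for a point of a finite type algebra over the closed point. -/
theorem exists_ideal_model {A S B M N : Type u} [CommRing A] [HenselianLocalRing A] [CommRing S] [CommRing B]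
    [IsLocalRing B] [Algebra A S] [Algebra.FiniteType A S] [Algebra A B] [Algebra S B] [IsScalarTower A S B]
    (q : Ideal S) [q.IsPrime] [q.LiesOver (maximalIdeal A)] [IsLocalization.AtPrime B q]
    [AddCommGroup M] [Module B M] [Module S M] [IsScalarTower S B M] [Nontrivial M]
    [AddCommGroup N] [Module S N] [Module.Finite S N] {ι : N →ₗ[S] M} (hι : IsBaseChange B ι) :
    ∃ I : Ideal A, ∀ (A' B' M' : Type u) [CommRing A'] [IsLocalRing A'] [Algebra A A'] [IsLocalHom (algebraMap A A')]
        [CommRing B'] [Algebra B B'] [Algebra A' B'] [Algebra A B'] [IsScalarTower A B B'] [IsScalarTower A A' B']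
        [Algebra.IsPushout A B A' B']
        [AddCommGroup M'] [Module B' M'] [Module B M'] [IsScalarTower B B' M'] [Module A' M'] [IsScalarTower A' B' M']
        (f : M →ₗ[B] M'), IsBaseChange B' f →
        ((∀ (Q : Ideal B') [Q.IsPrime], (maximalIdeal A').map (algebraMap A' B') ⊔ (maximalIdeal B).map (algebraMap B B') ≤ Q →
            FlatCA.FlatAt A' Q M') ↔ I.map (algebraMap A A') = ⊥) := by
  classical
  letI : Module A N := Module.compHom N (algebraMap A S)
  haveI : IsScalarTower A S N := IsScalarTower.of_algebraMap_smul fun _ _ => rfl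
  let p := maximalIdeal A
  have hmem : (⟨q, inferInstance⟩ : PrimeSpectrum S) ∈ Module.support S N := by
    by_contra h
    rw [Module.notMem_support_iff] at h
    haveI : Subsingleton (LocalizedModule q.primeCompl N) := h
    haveI : IsLocalizedModule q.primeCompl ι := (isLocalizedModule_iff_isBaseChange q.primeCompl B ι).2 hι
    haveI : Subsingleton M := (IsLocalizedModule.iso q.primeCompl ι).symm.toEquiv.subsingleton
    exact false_of_nontrivial_of_subsingleton M
  obtain ⟨x, hxq, hxc⟩ := exists_fiber_point p q
  have hx : x ∈ Module.support (p.Fiber S) (FlatCA.fiberMod p S N) := by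
    refine (mem_support_fiberMod_iff p N x).2 ?_
    convert hmem using 2
    exact hxc
  obtain ⟨R', S', _, _, _, _, _, _, _, _, p', q', _, _, hnR, hnS, hqp, hdev⟩ :=
    exists_hasCompleteDevissageAt N p q ⟨x, hx, hxq⟩
  obtain ⟨σ, hσ⟩ := FlatCrit65.Dev.exists_section_henselian hnR
  letI : Algebra R' A := σ.toRingHom.toAlgebra
  haveI : IsScalarTower A R' A := IsScalarTower.of_algebraMap_eq fun a => (σ.commutes a).symm
  haveI := hnR.1
  haveI := hnS.1
  have hdev' := hdev (S' ⊗[S] N) (TensorProduct.mk S S' N 1) (TensorProduct.isBaseChange S N S')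
  obtain ⟨I, hI⟩ := exists_ideal_of_completeDevissageAt (Λ := A) hσ hdev'
  refine ⟨I, fun A' B' M' _ _ _ _ _ _ _ _ _ _ _ _ _ _ _ _ _ f hf => ?_⟩
  obtain ⟨P, _, _, _, _, _, _, pP, -⟩ := exists_pushout (R := A) (S := S) (T := A')
  haveI := pP
  obtain ⟨NP, _, _, _, _, _, _, g, hg⟩ := exists_model (A := A') (D := S) (D₁ := P) N
  rw [flat_above_iff (A := A) (A' := A') q hι hg hf]
  refine flat_model_iff (q' := q') (hnS.2.1.over.symm) ?_ (TensorProduct.isBaseChange S N S') hI hg
  exact hqp.over.symm.trans hσ.symm

end Groth.Agent.Hopf35.FlatLocus
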