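import Groth.Agent.Prufer29.Saturated
import Groth.Agent.Stage62.Flat
import Groth.Agent.S4848
import Groth.Agent.RG29.DevBC
import Groth.Prelude.Def_FlatCA
import Groth.Prelude.Def_BlowUp2
import Mathlib

/-!
Flattening of finite modules over polynomial rings along a valuation ring dominating a domain.
-/

set_option autoImplicit false
set_option linter.style.haveILetI false

universe u

open TensorProduct MvPolynomial

namespace Groth.Agent.Hopf35.Flattening

open Prufer29.Saturated (Vec)

attribute [local instance] MvPolynomial.algebraMvPolynomial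

variable {n m : ℕ}

/-- Change of coefficients of vectors of polynomials. -/
noncomputable def mapV {R R' : Type u} [CommRing R] [CommRing R'] (φ : R →+* R') : Vec R n m →ₛₗ[(MvPolynomial.map (σ := Fin n) φ)] Vec R' n m where
  toFun v j := MvPolynomial.map φ (v j)
  map_add' v w := funext fun j => map_add _ _ _
  map_smul' p v := funext fun j => map_mul _ _ _

theorem mapV_apply {R R' : Type u} [CommRing R] [CommRing R'] (φ : R →+* R') (v : Vec R n m) (j : Fin m) :
    mapV φ v j = MvPolynomial.map φ (v j) := rfl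

theorem mapV_mapV {R R' R'' : Type u} [CommRing R] [CommRing R'] [CommRing R''] (φ : R →+* R') (ψ : R' →+* R'')
    (v : Vec R n m) : mapV ψ (mapV φ v) = mapV (ψ.comp φ) v :=
  funext fun j => MvPolynomial.map_map φ ψ (v j)

theorem mapV_injective {R R' : Type u} [CommRing R] [CommRing R'] {φ : R →+* R'} (h : Function.Injective φ) :
    Function.Injective (mapV (n := n) (m := m) φ) := fun v w e =>
  funext fun j => MvPolynomial.map_injective φ h (congrFun e j)

/-- The span of a finite family, as the range of a map from a free module. -/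
theorem range_constr_eq_span {R : Type u} [CommRing R] {r : ℕ} (f : Fin r → Vec R n m) :
    LinearMap.range ((Pi.basisFun (MvPolynomial (Fin n) R) (Fin r)).constr (MvPolynomial (Fin n) R) f) =
      Submodule.span (MvPolynomial (Fin n) R) (Set.range f) :=
  Module.Basis.constr_range _ _

/-- The quotient by a finite family commutes with change of coefficients. -/
theorem nonempty_baseChange_equiv {R R' : Type u} [CommRing R] [CommRing R'] [Algebra R R'] {r : ℕ}
    (f : Fin r → Vec R n m) :
    Nonempty (R' ⊗[R] (Vec R n m ⧸ Submodule.span (MvPolynomial (Fin n) R) (Set.range f)) ≃ₗ[R']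
      (Vec R' n m ⧸ Submodule.span (MvPolynomial (Fin n) R') (Set.range fun l => mapV (algebraMap R R') (f l)))) := by
  classical
  let P := MvPolynomial (Fin n) R
  let P' := MvPolynomial (Fin n) R'
  haveI : Algebra.IsPushout R R' P P' := inferInstance
  let j : Vec R n m →ₗ[P] Vec R' n m :=
    { toFun := mapV (algebraMap R R')
      map_add' := map_add _
      map_smul' := fun p v => funext fun k => by
        show MvPolynomial.map (algebraMap R R') (p * v k) = _
        rw [map_mul, Pi.smul_apply, Algebra.smul_def]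
        rfl }
  have hj : IsBaseChange P' j := by
    let e : P' ⊗[P] Vec R n m ≃ₗ[P'] Vec R' n m :=
      (TensorProduct.piRight P P' P' (fun _ : Fin m => P)).trans
        (LinearEquiv.piCongrRight fun _ => TensorProduct.AlgebraTensorModule.rid P P' P')
    refine IsBaseChange.of_equiv e fun v => funext fun k => ?_
    show e (1 ⊗ₜ v) k = MvPolynomial.map (algebraMap R R') (v k)
    simp [e, P, P', Algebra.smul_def]
  let α := (Pi.basisFun P (Fin r)).constr P f
  let α₂ := (Pi.basisFun P' (Fin r)).constr P' fun l => mapV (algebraMap R R') (f l)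
  have hα : ∀ l, α₂ (Pi.single l 1) = j (α (Pi.single l 1)) := fun l => by
    rw [← Pi.basisFun_apply, Module.Basis.constr_basis, ← Pi.basisFun_apply, Module.Basis.constr_basis]
    rfl
  have hb := RG29.isBaseChange_coker hj hα
  let e₁ : R' ⊗[R] (Vec R n m ⧸ LinearMap.range α) ≃ₗ[R'] (Vec R' n m ⧸ LinearMap.range α₂) :=
    (Algebra.IsPushout.cancelBaseChange R R' P P' (Vec R n m ⧸ LinearMap.range α)).symm.trans
      (hb.equiv.restrictScalars R')
  exact ⟨(LinearEquiv.baseChange R R' _ _
      ((Submodule.quotEquivOfEq _ _ (range_constr_eq_span f)).symm.restrictScalars R)).trans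
    (e₁.trans ((Submodule.quotEquivOfEq _ _ (range_constr_eq_span _)).restrictScalars R'))⟩

/-- Torsion free over a valuation ring means flat. -/
theorem flat_of_saturated {A : Type u} [CommRing A] [IsDomain A] [ValuationRing A]
    {M : Submodule (MvPolynomial (Fin n) A) (Vec A n m)} (hsat : ∀ r : A, r ≠ 0 → ∀ v : Vec A n m, r • v ∈ M → v ∈ M) :
    Module.Flat A (Vec A n m ⧸ M) := by
  rw [Module.Flat.flat_iff_torsion_eq_bot_of_isBezout]
  refine le_bot_iff.1 fun z hz => ?_
  obtain ⟨⟨r, hr⟩, hrz⟩ := hz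
  obtain ⟨v, rfl⟩ := Submodule.Quotient.mk_surjective M z
  have hmem : r • v ∈ M := (Submodule.Quotient.mk_eq_zero M).1 hrz
  exact (Submodule.mem_bot _).2 ((Submodule.Quotient.mk_eq_zero M).2 (hsat r (nonZeroDivisors.ne_zero hr) v hmem))

/-- Vectors with coefficients in a subalgebra. -/
theorem exists_mapV {R A : Type u} [CommRing R] [CommRing A] [Algebra R A] {T : Type u} [CommRing T] [Algebra R T]
    (φ : T →ₐ[R] A) (v : Vec A n m) (h : ∀ j a, (v j).coeff a ∈ φ.range) : ∃ w : Vec T n m, mapV φ.toRingHom w = v := by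
  have : ∀ j, ∃ w : MvPolynomial (Fin n) T, MvPolynomial.map φ.toRingHom w = v j := fun j => by
    have hmem : v j ∈ Set.range (MvPolynomial.map (σ := Fin n) φ.toRingHom) := by
      rw [MvPolynomial.mem_range_map_iff_coeffs_subset]
      intro c hc
      obtain ⟨a, -, rfl⟩ := MvPolynomial.mem_coeffs_iff.1 hc
      exact h j a
    exact hmem
  choose w hw using this
  exact ⟨w, funext hw⟩

/-- The finitely many coefficients of a vector. -/
theorem exists_coeff_finset {A : Type u} [CommRing A] (v : Vec A n m) :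
    ∃ T : Finset A, ∀ j a, (v j).coeff a ∈ T ∨ (v j).coeff a = 0 := by
  classical
  refine ⟨Finset.univ.biUnion fun j => (v j).support.image fun a => (v j).coeff a, fun j a => ?_⟩
  by_cases h : a ∈ (v j).support
  · exact Or.inl (Finset.mem_biUnion.2 ⟨j, Finset.mem_univ _, Finset.mem_image_of_mem _ h⟩)
  · exact Or.inr (MvPolynomial.notMem_support_iff.1 h)

/-- Membership in a span descends to a subring containing the coefficients. -/
theorem exists_finset_span {R A : Type u} [CommRing R] [CommRing A] [Algebra R A]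
    (N : Submodule (MvPolynomial (Fin n) R) (Vec R n m)) {v : Vec A n m}
    (hv : v ∈ Submodule.span (MvPolynomial (Fin n) A) (mapV (algebraMap R A) '' (N : Set (Vec R n m)))) :
    ∃ T : Finset A, ∀ (R₁ : Type u) [CommRing R₁] [Algebra R R₁] (ι : R₁ →ₐ[R] A), Function.Injective ι →
      (T : Set A) ⊆ Set.range ι → ∃ w, mapV ι.toRingHom w = v ∧
        w ∈ Submodule.span (MvPolynomial (Fin n) R₁) (mapV (algebraMap R R₁) '' (N : Set (Vec R n m))) := by
  classical
  induction hv using Submodule.span_induction with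
  | mem x hx =>
    obtain ⟨y, hy, rfl⟩ := hx
    refine ⟨∅, fun R₁ _ _ ι _ _ => ⟨mapV (algebraMap R R₁) y, ?_, Submodule.subset_span ⟨y, hy, rfl⟩⟩⟩
    rw [mapV_mapV, show ι.toRingHom.comp (algebraMap R R₁) = algebraMap R A from ι.comp_algebraMap]
  | zero => exact ⟨∅, fun R₁ _ _ ι _ _ => ⟨0, map_zero _, Submodule.zero_mem _⟩⟩
  | add x y _ _ hx hy =>
    obtain ⟨T, hT⟩ := hx
    obtain ⟨T', hT'⟩ := hy
    refine ⟨T ∪ T', fun R₁ _ _ ι hι hsub => ?_⟩
    rw [Finset.coe_union, Set.union_subset_iff] at hsub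
    obtain ⟨w, hw, hwm⟩ := hT R₁ ι hι hsub.1
    obtain ⟨w', hw', hwm'⟩ := hT' R₁ ι hι hsub.2
    exact ⟨w + w', by rw [map_add, hw, hw'], add_mem hwm hwm'⟩
  | smul p x _ hx =>
    obtain ⟨T, hT⟩ := hx
    refine ⟨T ∪ p.support.image fun a => p.coeff a, fun R₁ _ _ ι hι hsub => ?_⟩
    rw [Finset.coe_union, Set.union_subset_iff] at hsub
    obtain ⟨w, hw, hwm⟩ := hT R₁ ι hι hsub.1
    obtain ⟨q, hq⟩ : p ∈ Set.range (MvPolynomial.map (σ := Fin n) ι.toRingHom) := by
      rw [MvPolynomial.mem_range_map_iff_coeffs_subset]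
      intro c hc
      obtain ⟨a, ha, rfl⟩ := MvPolynomial.mem_coeffs_iff.1 hc
      exact hsub.2 (Finset.mem_coe.2 (Finset.mem_image_of_mem _ ha))
    exact ⟨q • w, by rw [map_smulₛₗ, hq, hw], Submodule.smul_mem _ q hwm⟩

/-- Flatness of a finitely presented quotient is reached at a finitely generated stage. -/
theorem exists_finset_flat {R A : Type u} [CommRing R] [CommRing A] [Algebra R A] {r : ℕ} (f : Fin r → Vec A n m)
    (hflat : Module.Flat A (Vec A n m ⧸ Submodule.span (MvPolynomial (Fin n) A) (Set.range f))) :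
    ∃ T : Finset A, ∀ (R₁ : Type u) [CommRing R₁] [Algebra R R₁] (ι : R₁ →ₐ[R] A), Function.Injective ι →
      (T : Set A) ⊆ Set.range ι → ∃ g : Fin r → Vec R₁ n m, (∀ l, mapV ι.toRingHom (g l) = f l) ∧
        Module.Flat R₁ (Vec R₁ n m ⧸ Submodule.span (MvPolynomial (Fin n) R₁) (Set.range g)) := by
  classical
  choose Tl hTl using fun l => exists_coeff_finset (f l)
  let T₀ := Finset.univ.biUnion Tl
  let R₀ := Algebra.adjoin R (T₀ : Set A)
  have hf₀ : ∀ l j a, (f l j).coeff a ∈ R₀ := fun l j a => by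
    rcases hTl l j a with h | h
    · exact Algebra.subset_adjoin (Finset.mem_coe.2 (Finset.mem_biUnion.2 ⟨l, Finset.mem_univ _, h⟩))
    · rw [h]; exact R₀.zero_mem
  choose g₀ hg₀ using fun l => exists_mapV R₀.val (f l) fun j a => ⟨⟨_, hf₀ l j a⟩, rfl⟩
  let P₀ := MvPolynomial (Fin n) R₀
  let M₀ := Vec R₀ n m ⧸ Submodule.span P₀ (Set.range g₀)
  haveI : Module.FinitePresentation P₀ M₀ :=
    Module.finitePresentation_of_surjective (Submodule.span P₀ (Set.range g₀)).mkQ (Submodule.mkQ_surjective _)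
      (by rw [Submodule.ker_mkQ]; exact Submodule.fg_span (Set.finite_range g₀))
  let G : Finset A → Type u := fun s => Algebra.adjoin R₀ (s : Set A)
  let g : ∀ s t : Finset A, s ≤ t → G s →ₐ[R₀] G t := fun s t h =>
    Subalgebra.inclusion (Algebra.adjoin_mono (Finset.coe_subset.2 h))
  letI : ∀ s, Algebra (G s) A := fun s => (Algebra.adjoin R₀ (s : Set A)).toAlgebra
  haveI : ∀ s, IsScalarTower R₀ (G s) A := fun s => IsScalarTower.of_algebraMap_eq fun _ => rfl
  have hcolim : FlatCA.IsDirectedColimitRing G (fun i j h => (g i j h).toRingHom) A := by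
    refine ⟨⟨fun s t => ⟨s ∪ t, Finset.subset_union_left, Finset.subset_union_right⟩⟩, ⟨∅⟩, fun s => ?_, ?_, ?_, ?_, ?_⟩
    · exact RingHom.ext fun x => rfl
    · intro s t v _ _
      exact RingHom.ext fun x => rfl
    · intro s t _
      exact RingHom.ext fun x => rfl
    · intro a
      exact ⟨{a}, ⟨a, Algebra.subset_adjoin (by simp)⟩, rfl⟩
    · intro s x hx
      exact ⟨s, le_rfl, Subtype.ext hx⟩
  obtain ⟨eA⟩ := nonempty_baseChange_equiv (R' := A) g₀
  have hgA : (fun l => mapV (algebraMap R₀ A) (g₀ l)) = f := funext hg₀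
  rw [hgA] at eA
  haveI := hflat
  obtain ⟨s, hs⟩ := (Groth.Agent.S4848.result G g A hcolim (B₀ := P₀) M₀).1 (Module.Flat.of_linearEquiv eA)
  refine ⟨T₀ ∪ s, fun R₁ _ _ ι hι hsub => ?_⟩
  rw [Finset.coe_union, Set.union_subset_iff] at hsub
  have hR₀ : R₀ ≤ ι.range := Algebra.adjoin_le fun x hx => hsub.1 hx
  have hG : ∀ x ∈ Algebra.adjoin R₀ (s : Set A), x ∈ ι.range := fun x hx => by
    induction hx using Algebra.adjoin_induction with
    | mem x hx => exact hsub.2 hx
    | algebraMap t => exact hR₀ t.2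
    | add x y _ _ hx hy => exact add_mem hx hy
    | mul x y _ _ hx hy => exact mul_mem hx hy
  let e := AlgEquiv.ofInjective ι hι
  letI : Algebra (G s) R₁ := (e.symm.toRingEquiv.toRingHom.comp
    ((Algebra.adjoin R₀ (s : Set A)).val.toRingHom.codRestrict ι.range fun x => hG x.1 x.2)).toAlgebra
  have hmap : ∀ x : G s, ι (algebraMap (G s) R₁ x) = x.1 := fun x =>
    congrArg Subtype.val (e.apply_symm_apply ⟨x.1, hG x.1 x.2⟩)
  obtain ⟨eG⟩ := nonempty_baseChange_equiv (R' := G s) g₀
  haveI := hs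
  haveI := Module.Flat.of_linearEquiv eG.symm
  obtain ⟨e₁⟩ := nonempty_baseChange_equiv (R' := R₁) (fun l => mapV (algebraMap R₀ (G s)) (g₀ l))
  refine ⟨_, fun l => ?_, Module.Flat.of_linearEquiv e₁.symm⟩
  show mapV ι.toRingHom (mapV (algebraMap (G s) R₁) (mapV (algebraMap R₀ (G s)) (g₀ l))) = f l
  rw [mapV_mapV, mapV_mapV, ← hg₀ l]
  have heq : (ι.toRingHom.comp (algebraMap (G s) R₁)).comp (algebraMap R₀ (G s)) = R₀.val.toRingHom :=
    RingHom.ext fun x => hmap (algebraMap R₀ (G s) x)
  rw [heq]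

/-- Over a domain, clearing denominators in a valuation ring with the same fraction field. -/
theorem exists_mul_eq {R A K : Type u} [CommRing R] [IsDomain R] [Field K] [Algebra R K] [IsFractionRing R K]
    [CommRing A] [IsDomain A] [Algebra A K] [IsFractionRing A K] [Algebra R A] [IsScalarTower R A K] (c : A) :
    ∃ q p : R, q ≠ 0 ∧ (c ≠ 0 → p ≠ 0) ∧ algebraMap R A q * c = algebraMap R A p := by
  obtain ⟨⟨p, q⟩, hpq⟩ := IsLocalization.surj (nonZeroDivisors R) (algebraMap A K c)
  have h : algebraMap R A q * c = algebraMap R A p := by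
    apply IsFractionRing.injective A K
    rw [map_mul, ← IsScalarTower.algebraMap_apply, ← IsScalarTower.algebraMap_apply, mul_comm, hpq]
  refine ⟨q, p, nonZeroDivisors.ne_zero q.2, fun hc hp => hc ?_, h⟩
  have hp' : algebraMap R A (q : R) * c = 0 := by rw [h, hp, map_zero]
  refine (mul_eq_zero.1 hp').resolve_left fun h0 => nonZeroDivisors.ne_zero q.2 (IsFractionRing.injective R K ?_)
  rw [IsScalarTower.algebraMap_apply R A K, h0, map_zero, map_zero]

/-- A finite module over a polynomial ring: over every large enough subring of the valuation ring its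
strict transform is flat and finitely presented. -/
theorem exists_flattening {R A K : Type u} [CommRing R] [IsDomain R] [Field K] [Algebra R K] [IsFractionRing R K]
    [CommRing A] [IsDomain A] [ValuationRing A] [Algebra A K] [IsFractionRing A K] [Algebra R A] [IsScalarTower R A K]
    (N : Submodule (MvPolynomial (Fin n) R) (Vec R n m)) :
    ∃ (T : Finset A) (c : R), c ≠ 0 ∧ ∀ (R₁ : Type u) [CommRing R₁] [Algebra R R₁] (ι : R₁ →ₐ[R] A),
      Function.Injective ι → (T : Set A) ⊆ Set.range ι →
      ∃ F : Submodule (MvPolynomial (Fin n) R₁) (Vec R₁ n m), F.FG ∧ Module.Flat R₁ (Vec R₁ n m ⧸ F) ∧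
        (∀ v ∈ N, mapV (algebraMap R R₁) v ∈ F) ∧
        ∀ v ∈ F, algebraMap R R₁ c • v ∈
          Submodule.span (MvPolynomial (Fin n) R₁) (mapV (algebraMap R R₁) '' (N : Set (Vec R n m))) := by
  classical
  let PA := MvPolynomial (Fin n) A
  let NA := Submodule.span PA (mapV (algebraMap R A) '' (N : Set (Vec R n m)))
  let Ms : Submodule PA (Vec A n m) :=
    { carrier := {v | ∃ r : A, r ≠ 0 ∧ r • v ∈ NA}
      zero_mem' := ⟨1, one_ne_zero, by simp⟩
      add_mem' := by
        rintro v w ⟨r, hr, hv⟩ ⟨s, hs, hw⟩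
        refine ⟨r * s, mul_ne_zero hr hs, ?_⟩
        rw [smul_add, mul_comm r s, mul_smul, mul_comm s r, mul_smul]
        exact add_mem (NA.smul_of_tower_mem s hv) (NA.smul_of_tower_mem r hw)
      smul_mem' := by
        rintro p v ⟨r, hr, hv⟩
        exact ⟨r, hr, by rw [smul_comm]; exact NA.smul_mem p hv⟩ }
  have hsat : ∀ r : A, r ≠ 0 → ∀ v : Vec A n m, r • v ∈ Ms → v ∈ Ms := by
    rintro r hr v ⟨s, hs, h⟩
    exact ⟨s * r, mul_ne_zero hs hr, by rwa [mul_smul]⟩
  have hR : ∀ (p : Ideal A) [p.IsPrime], ValuationRing (Localization.AtPrime p) := fun p hp' =>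
    (Prufer29.valuationRing_atPrime_iff _).2 fun a b => by
      rcases ValuationRing.cond a b with ⟨c, hc | hc⟩
      · exact ⟨c, 1, fun h => hp'.ne_top ((Ideal.eq_top_iff_one _).2 h), Or.inr (by rw [one_mul, ← hc, mul_comm])⟩
      · exact ⟨c, 1, fun h => hp'.ne_top ((Ideal.eq_top_iff_one _).2 h), Or.inl (by rw [one_mul, ← hc, mul_comm])⟩
  obtain ⟨r, f, hf⟩ := Submodule.fg_iff_exists_fin_generating_family.1
    (Prufer29.Saturated.fg_of_saturated (M := Ms) hsat hR)
  have hflat : Module.Flat A (Vec A n m ⧸ Submodule.span PA (Set.range f)) := by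
    rw [hf]; exact flat_of_saturated hsat
  obtain ⟨T₁, hT₁⟩ := exists_finset_flat (R := R) f hflat
  have hfl : ∀ l, ∃ cA : A, cA ≠ 0 ∧ cA • f l ∈ NA := fun l => by
    have : f l ∈ Ms := hf ▸ Submodule.subset_span ⟨l, rfl⟩
    exact this
  choose cA hcA0 hcA using hfl
  choose Tl hTl using fun l => exists_finset_span N (hcA l)
  choose q p hq hp hqp using fun l => exists_mul_eq (R := R) (K := K) (cA l)
  refine ⟨T₁ ∪ Finset.univ.biUnion Tl, ∏ l, p l,
    Finset.prod_ne_zero_iff.2 fun l _ => hp l (hcA0 l), fun R₁ _ _ ι hι hsub => ?_⟩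
  rw [Finset.coe_union, Set.union_subset_iff] at hsub
  obtain ⟨g, hg, hgflat⟩ := hT₁ R₁ ι hι hsub.1
  haveI : IsDomain R₁ := hι.isDomain ι.toRingHom
  haveI := hgflat
  let P₁ := MvPolynomial (Fin n) R₁
  let F := Submodule.span P₁ (Set.range g)
  let N₁ := Submodule.span P₁ (mapV (algebraMap R R₁) '' (N : Set (Vec R n m)))
  refine ⟨F, Submodule.fg_span (Set.finite_range g), hgflat, fun v hv => ?_, fun v hv => ?_⟩
  · -- torsion freeness of the quotient
    have hmem : mapV (algebraMap R A) v ∈ Submodule.span PA (Set.range f) :=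
      hf.symm ▸ (⟨1, one_ne_zero, by rw [one_smul]; exact Submodule.subset_span ⟨v, hv, rfl⟩⟩ :
        mapV (algebraMap R A) v ∈ Ms)
    obtain ⟨h, hh⟩ := Submodule.mem_span_range_iff_exists_fun PA |>.1 hmem
    choose Th hTh using fun l => exists_coeff_finset (m := 1) (fun _ => h l)
    let Tall := Finset.univ.biUnion Th
    choose qt pt hqt _ hqpt using fun t : A => exists_mul_eq (R := R) (K := K) t
    let d : R := ∏ t ∈ Tall, qt t
    have hd : d ≠ 0 := Finset.prod_ne_zero_iff.2 fun t _ => hqt t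
    have hdh : ∀ l, ∃ k : MvPolynomial (Fin n) R₁,
        MvPolynomial.map ι.toRingHom k = MvPolynomial.C (algebraMap R A d) * h l := fun l => by
      have hmem : MvPolynomial.C (algebraMap R A d) * h l ∈ Set.range (MvPolynomial.map (σ := Fin n) ι.toRingHom) := by
        rw [MvPolynomial.mem_range_map_iff_coeffs_subset]
        intro x hx
        obtain ⟨a, -, rfl⟩ := MvPolynomial.mem_coeffs_iff.1 hx
        rw [MvPolynomial.coeff_C_mul]
        rcases hTh l 0 a with ht | ht
        · have ht' : (h l).coeff a ∈ Tall := Finset.mem_biUnion.2 ⟨l, Finset.mem_univ _, ht⟩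
          refine ⟨algebraMap R R₁ ((∏ t ∈ Tall.erase ((h l).coeff a), qt t) * pt ((h l).coeff a)), ?_⟩
          show ι (algebraMap R R₁ _) = _
          rw [ι.commutes, map_mul, ← hqpt, ← mul_assoc, ← map_mul, Finset.prod_erase_mul _ _ ht']
        · exact ⟨0, by rw [ht, mul_zero]; exact map_zero _⟩
      exact hmem
    choose k hk using hdh
    have hdv : algebraMap R R₁ d • mapV (algebraMap R R₁) v = ∑ l, k l • g l := by
      apply mapV_injective (n := n) (m := m) (φ := ι.toRingHom) hι
      rw [← algebraMap_smul (MvPolynomial (Fin n) R₁) (algebraMap R R₁ d) (mapV (algebraMap R R₁) v), map_smulₛₗ,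
        map_sum, mapV_mapV, show ι.toRingHom.comp (algebraMap R R₁) = algebraMap R A from ι.comp_algebraMap, ← hh, Finset.smul_sum]
      refine Finset.sum_congr rfl fun l _ => ?_
      rw [map_smulₛₗ, hg, hk, smul_smul, MvPolynomial.algebraMap_eq, MvPolynomial.map_C]
      congr 2
      show MvPolynomial.C (ι (algebraMap R R₁ d)) = _
      rw [ι.commutes]
    have hd₁ : algebraMap R R₁ d ≠ 0 := fun h0 => hd (by
      have : algebraMap R A d = 0 := by rw [← ι.commutes, h0, map_zero]
      exact IsFractionRing.injective R K (by rw [IsScalarTower.algebraMap_apply R A K, this, map_zero, map_zero]))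
    have h0 : algebraMap R R₁ d • (Submodule.Quotient.mk (mapV (algebraMap R R₁) v) : Vec R₁ n m ⧸ F) = 0 := by
      rw [← Submodule.Quotient.mk_smul, hdv, Submodule.Quotient.mk_eq_zero]
      exact Submodule.sum_mem _ fun l _ => Submodule.smul_mem _ _ (Submodule.subset_span ⟨l, rfl⟩)
    haveI := Module.Flat.isTorsionFree (R := R₁) (M := Vec R₁ n m ⧸ F)
    exact (Submodule.Quotient.mk_eq_zero F).1 ((smul_eq_zero_iff_right hd₁).1 h0)
  · induction hv using Submodule.span_induction with
    | mem x hx =>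
      obtain ⟨l, rfl⟩ := hx
      obtain ⟨w, hw, hwN⟩ := hTl l R₁ ι hι fun t ht =>
        hsub.2 (Finset.mem_biUnion.2 ⟨l, Finset.mem_univ _, ht⟩)
      have hpl : algebraMap R R₁ (p l) • g l = algebraMap R R₁ (q l) • w := by
        apply mapV_injective (n := n) (m := m) (φ := ι.toRingHom) hι
        rw [← algebraMap_smul P₁ (algebraMap R R₁ (p l)) (g l), ← algebraMap_smul P₁ (algebraMap R R₁ (q l)) w,
          map_smulₛₗ, map_smulₛₗ, hg, hw, MvPolynomial.algebraMap_eq, MvPolynomial.map_C, MvPolynomial.map_C,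
          ← algebraMap_smul PA (cA l) (f l), smul_smul, MvPolynomial.algebraMap_eq, ← map_mul]
        congr 2
        show ι (algebraMap R R₁ (p l)) = ι (algebraMap R R₁ (q l)) * cA l
        rw [ι.commutes, ι.commutes, hqp]
      rw [← Finset.prod_erase_mul _ _ (Finset.mem_univ l), map_mul, mul_smul, hpl]
      exact N₁.smul_of_tower_mem _ (N₁.smul_of_tower_mem _ hwN)
    | zero => rw [smul_zero]; exact N₁.zero_mem
    | add x y _ _ hx hy => rw [smul_add]; exact add_mem hx hy
    | smul t x _ hx => rw [smul_comm]; exact N₁.smul_mem t hx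

/-- The torsion of a surjective image. -/
theorem nonempty_quotient_powTorsion_equiv {R₁ V W : Type u} [CommRing R₁] [IsDomain R₁] [AddCommGroup V]
    [Module R₁ V] [AddCommGroup W] [Module R₁ W] (Ψ : V →ₗ[R₁] W) (hΨ : Function.Surjective Ψ) (F : Submodule R₁ V)
    (hker : LinearMap.ker Ψ ≤ F) {a : R₁} (ha : a ≠ 0) (haF : ∀ v ∈ F, Ψ (a • v) = 0) [Module.Flat R₁ (V ⧸ F)] :
    Nonempty ((W ⧸ FlatCA.powTorsion R₁ a W) ≃ₗ[R₁] (V ⧸ F)) ∧
      ∀ v : V, Ψ v ∈ FlatCA.powTorsion R₁ a W ↔ v ∈ F := by
  haveI := Module.Flat.isTorsionFree (R := R₁) (M := V ⧸ F)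
  have hmem : ∀ v : V, Ψ v ∈ FlatCA.powTorsion R₁ a W ↔ v ∈ F := by
    intro v
    constructor
    · intro h
      have hle : FlatCA.powTorsion R₁ a W ≤ F.map Ψ := by
        refine iSup_le fun k w hw => ?_
        obtain ⟨v', rfl⟩ := hΨ w
        refine ⟨v', ?_, rfl⟩
        rw [Submodule.mem_torsionBy_iff, ← map_smul] at hw
        have h1 : a ^ k • (Submodule.Quotient.mk v' : V ⧸ F) = 0 := by
          rw [← Submodule.Quotient.mk_smul, Submodule.Quotient.mk_eq_zero]
          exact hker hw
        exact (Submodule.Quotient.mk_eq_zero F).1 ((smul_eq_zero_iff_right (pow_ne_zero k ha)).1 h1)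
      obtain ⟨v', hv', he⟩ := hle h
      have : v - v' ∈ F := hker (by rw [LinearMap.mem_ker, map_sub, he, sub_self])
      simpa using add_mem this hv'
    · intro h
      refine Submodule.mem_iSup_of_mem 1 ?_
      rw [Submodule.mem_torsionBy_iff, pow_one, ← map_smul, haF v h]
  refine ⟨⟨LinearEquiv.symm ((Submodule.quotEquivOfEq _ _ ?_).trans
    (LinearMap.quotKerEquivOfSurjective ((FlatCA.powTorsion R₁ a W).mkQ.comp Ψ)
      ((Submodule.mkQ_surjective _).comp hΨ)))⟩, hmem⟩
  rw [LinearMap.ker_comp, Submodule.ker_mkQ]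
  exact Submodule.ext fun v => (hmem v).symm

end Groth.Agent.Hopf35.Flattening

namespace Groth.Agent.Hopf35.Flattening

open Prufer29.Saturated (Vec)

/-- Membership in the power torsion. -/
theorem mem_powTorsion_iff {S M : Type u} [CommRing S] (x : S) [AddCommGroup M] [Module S M] (z : M) :
    z ∈ FlatCA.powTorsion S x M ↔ ∃ k : ℕ, x ^ k • z = 0 := by
  have hmono : Monotone fun k : ℕ => Submodule.torsionBy S M (x ^ k) := fun k l hkl z hz => by
    rw [Submodule.mem_torsionBy_iff] at hz ⊢
    obtain ⟨d, rfl⟩ := Nat.exists_eq_add_of_le hkl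
    rw [pow_add, mul_comm, mul_smul, hz, smul_zero]
  rw [FlatCA.powTorsion, Submodule.mem_iSup_of_directed _ hmono.directed_le]
  simp only [Submodule.mem_torsionBy_iff]

/-- The base change of a presentation with polynomial coefficients. -/
theorem exists_baseChange_presentation {R R₁ M : Type u} [CommRing R] [CommRing R₁] [Algebra R R₁] {n m : ℕ}
    [AddCommGroup M] [Module (MvPolynomial (Fin n) R) M] [Module R M] [IsScalarTower R (MvPolynomial (Fin n) R) M]
    (pres : Vec R n m →ₗ[MvPolynomial (Fin n) R] M) (hpres : Function.Surjective pres) :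
    ∃ Ψ : Vec R₁ n m →ₗ[R₁] R₁ ⊗[R] M, Function.Surjective Ψ ∧
      (∀ v, Ψ (mapV (algebraMap R R₁) v) = 1 ⊗ₜ pres v) ∧
      (∀ w, Ψ w = 0 → w ∈ Submodule.span R₁ (mapV (algebraMap R R₁) '' (LinearMap.ker pres : Set (Vec R n m)))) ∧
      ∀ w ∈ Submodule.span (MvPolynomial (Fin n) R₁) (mapV (algebraMap R R₁) '' (LinearMap.ker pres : Set (Vec R n m))),
        Ψ w = 0 := by
  classical
  let eV : R₁ ⊗[R] Vec R n m ≃ₗ[R₁] Vec R₁ n m :=
    (TensorProduct.piRight R R₁ R₁ (fun _ : Fin m => MvPolynomial (Fin n) R)).trans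
      (LinearEquiv.piCongrRight fun _ => (MvPolynomial.algebraTensorAlgEquiv R R₁).toLinearEquiv)
  have heV : ∀ (t : R₁) (v : Vec R n m), eV (t ⊗ₜ v) = t • mapV (algebraMap R R₁) v := fun t v =>
    funext fun k => by simp [eV, mapV_apply]
  let Ψ : Vec R₁ n m →ₗ[R₁] R₁ ⊗[R] M := (pres.restrictScalars R).baseChange R₁ ∘ₗ eV.symm.toLinearMap
  have hΨ1 : ∀ v, Ψ (mapV (algebraMap R R₁) v) = 1 ⊗ₜ pres v := fun v => by
    have : eV.symm (mapV (algebraMap R R₁) v) = 1 ⊗ₜ v := by
      rw [eV.symm_apply_eq, heV, one_smul]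
    show (pres.restrictScalars R).baseChange R₁ (eV.symm (mapV (algebraMap R R₁) v)) = _
    rw [this]
    rfl
  refine ⟨Ψ, (LinearMap.lTensor_surjective R₁ (g := pres.restrictScalars R) hpres).comp eV.symm.surjective, hΨ1, fun w hw => ?_, fun w hw => ?_⟩
  · let K : Submodule R (Vec R n m) := LinearMap.ker (pres.restrictScalars R)
    obtain ⟨z, hz⟩ := (lTensor_exact R₁ (f := K.subtype) (g := pres.restrictScalars R) (LinearMap.exact_subtype_ker_map _) hpres (eV.symm w)).1 hw
    suffices h : eV (K.subtype.lTensor R₁ z) ∈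
        Submodule.span R₁ (mapV (algebraMap R R₁) '' (LinearMap.ker pres : Set (Vec R n m))) by
      rwa [hz, LinearEquiv.apply_symm_apply] at h
    clear hz
    induction z using TensorProduct.induction_on with
    | zero => simp
    | tmul t k =>
      rw [LinearMap.lTensor_tmul, heV]
      exact Submodule.smul_mem _ _ (Submodule.subset_span ⟨k.1, k.2, rfl⟩)
    | add x y hx hy => simpa only [map_add] using add_mem hx hy
  · induction hw using Submodule.span_induction with
    | mem x hx =>
      obtain ⟨v, hv, rfl⟩ := hx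
      rw [hΨ1, LinearMap.mem_ker.1 hv, tmul_zero]
    | zero => exact map_zero Ψ
    | add x y _ _ hx hy => rw [map_add, hx, hy, add_zero]
    | smul p x hx hxΨ =>
      -- the span is stable under the polynomial ring
      clear hxΨ
      induction p using MvPolynomial.induction_on' generalizing x with
      | add p q hp hq => rw [add_smul, map_add, hp x hx, hq x hx, add_zero]
      | monomial u t =>
        induction hx using Submodule.span_induction generalizing u t with
        | mem x hx =>
          obtain ⟨v, hv, rfl⟩ := hx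
          have : monomial u t • mapV (algebraMap R R₁) v = t • mapV (algebraMap R R₁) (monomial u (1 : R) • v) := by
            rw [map_smulₛₗ, ← algebraMap_smul (MvPolynomial (Fin n) R₁) t, smul_smul, MvPolynomial.map_monomial,
              map_one, MvPolynomial.algebraMap_eq, MvPolynomial.C_mul_monomial, mul_one]
          rw [this, map_smul, hΨ1, map_smul, LinearMap.mem_ker.1 hv, smul_zero, tmul_zero, smul_zero]
        | zero => rw [smul_zero, map_zero]
        | add x y _ _ hx hy => rw [smul_add, map_add, hx, hy, add_zero]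
        | smul q x hx hx' =>
          rw [smul_smul]
          induction q using MvPolynomial.induction_on' with
          | monomial u' t' => rw [MvPolynomial.monomial_mul]; exact hx' _ _
          | add q r hq hr => rw [mul_add, add_smul, map_add, hq, hr, add_zero]

/-- The strict transform of a presented module is flat. -/
theorem flat_strictTransform {R R₁ M : Type u} [CommRing R] [CommRing R₁] [IsDomain R₁] [Algebra R R₁] {n m : ℕ}
    [AddCommGroup M] [Module (MvPolynomial (Fin n) R) M] [Module R M] [IsScalarTower R (MvPolynomial (Fin n) R) M]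
    (pres : Vec R n m →ₗ[MvPolynomial (Fin n) R] M) (hpres : Function.Surjective pres) {c a : R}
    (ha : algebraMap R R₁ a ≠ 0) (hca : c ∣ a)
    (F : Submodule (MvPolynomial (Fin n) R₁) (Vec R₁ n m)) (hFflat : Module.Flat R₁ (Vec R₁ n m ⧸ F))
    (hN : ∀ v ∈ LinearMap.ker pres, mapV (algebraMap R R₁) v ∈ F)
    (hF : ∀ v ∈ F, algebraMap R R₁ c • v ∈
      Submodule.span (MvPolynomial (Fin n) R₁) (mapV (algebraMap R R₁) '' (LinearMap.ker pres : Set (Vec R n m)))) :
    Module.Flat R₁ ((R₁ ⊗[R] M) ⧸ FlatCA.powTorsion R₁ (algebraMap R R₁ a) (R₁ ⊗[R] M)) ∧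
      ∃ Ψ : Vec R₁ n m →ₗ[R₁] R₁ ⊗[R] M, Function.Surjective Ψ ∧
        (∀ v, Ψ (mapV (algebraMap R R₁) v) = 1 ⊗ₜ pres v) ∧
        ∀ v, Ψ v ∈ FlatCA.powTorsion R₁ (algebraMap R R₁ a) (R₁ ⊗[R] M) ↔ v ∈ F := by
  obtain ⟨Ψ, hΨ, hΨ1, hker, hspan⟩ := exists_baseChange_presentation (R₁ := R₁) pres hpres
  haveI := hFflat
  let F' := F.restrictScalars R₁
  haveI : Module.Flat R₁ (Vec R₁ n m ⧸ F') := Module.Flat.of_linearEquiv (Submodule.Quotient.restrictScalarsEquiv R₁ F)
  have hle : LinearMap.ker Ψ ≤ F' := fun w hw => by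
    refine (Submodule.span_le.2 ?_) (hker w hw)
    rintro _ ⟨v, hv, rfl⟩
    exact hN v hv
  have haF : ∀ v ∈ F', Ψ (algebraMap R R₁ a • v) = 0 := fun v hv => by
    obtain ⟨d, rfl⟩ := hca
    rw [mul_comm, map_mul, mul_smul, map_smul, hspan _ (hF v hv), smul_zero]
  obtain ⟨⟨e⟩, hmem⟩ := nonempty_quotient_powTorsion_equiv Ψ hΨ F' hle ha haF
  exact ⟨Module.Flat.of_linearEquiv e, Ψ, hΨ, hΨ1, hmem⟩

end Groth.Agent.Hopf35.Flattening
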