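import Groth.Agent.GMod80.CharPts
import Groth.Agent.GMod80.Dict
import Groth.Agent.Deligne57.Affine
import Groth.Prelude.Def_CGrpSh2

/-!
helper35: characters of affine commutative groups as morphisms of fppf sheaves and as group-like
functions.
-/

set_option autoImplicit false

universe u

open CategoryTheory MonoidalCategory CartesianMonoidalCategory MonObj GrpObj AlgebraicGeometry
open Opposite WithConv

noncomputable section

namespace Groth.Agent.Hopf35.GL

section Yoneda

variable {S : Scheme.{u}} (K : Precoverage Scheme.{u}) [(QuotSh.J K S).Subcanonical]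
  {G H : Over S} [GrpObj G] [IsCommMonObj G] [GrpObj H] [IsCommMonObj H]

/-- A morphism of sheaves of points comes from a homomorphism of groups. -/
theorem exists_ptsMap_eq (φ : CGrpSh.pts K G ⟶ CGrpSh.pts K H) :
    ∃ (χ : G ⟶ H) (_ : IsMonHom χ), CGrpSh.ptsMap K χ = φ := by
  let χ : G ⟶ H := (φ.hom.app (op G) ⟨Additive.ofMul (𝟙 G)⟩).down.toMul
  have happ : ∀ (T : Over S) (x : T ⟶ G),
      (φ.hom.app (op T) ⟨Additive.ofMul x⟩).down.toMul = x ≫ χ := fun T x => by
    have h := congrArg (fun q => (q (ULift.up (Additive.ofMul (𝟙 G)))).down.toMul)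
      (φ.hom.naturality x.op)
    refine Eq.trans ?_ h
    show _ = (φ.hom.app (op T) ⟨Additive.ofMul (x ≫ 𝟙 G)⟩).down.toMul
    rw [Category.comp_id]
  have hmul : ∀ (T : Over S) (x y : T ⟶ G), (x * y) ≫ χ = (x ≫ χ) * (y ≫ χ) := fun T x y => by
    rw [← happ, ← happ, ← happ]
    exact congrArg (fun z => z.down.toMul)
      (map_add (φ.hom.app (op T)).hom ⟨Additive.ofMul x⟩ ⟨Additive.ofMul y⟩)
  have hone : η[G] ≫ χ = η[H] := by
    have h1 := hmul _ (1 : 𝟙_ (Over S) ⟶ G) 1
    rw [_root_.one_mul] at h1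
    have h2 := left_eq_mul.mp h1
    rwa [Hom.one_def, Hom.one_def, toUnit_unique (toUnit (𝟙_ (Over S))) (𝟙 _), Category.id_comp,
      Category.id_comp] at h2
  haveI : IsMonHom χ :=
    { one_hom := hone
      mul_hom := by
        have h1 := hmul _ (fst G G) (snd G G)
        rw [← MonObj.mul_eq_mul G] at h1
        rw [h1, Hom.mul_def]
        congr 1 }
  refine ⟨χ, inferInstance, Sheaf.hom_ext (NatTrans.ext (funext fun T =>
    AddCommGrpCat.ext fun x => ULift.ext _ _ (congrArg Additive.ofMul ?_)))⟩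
  exact (happ (unop T) x.down.toMul).symm

end Yoneda

variable {k : Type u} [Field k] {A : Type u} [CommRing A] [HopfAlgebra k A]
  {G : Over (Spec (CommRingCat.of k))} [GrpObj G] (ψ : GMod80.sp k A ≅ G) [IsMonHom ψ.hom]

include ψ in
theorem isCocomm [IsCommMonObj G] : Coalgebra.IsCocomm k A :=
  Deligne57.isCocomm_of_commute (C := CommRingCat.of k) (H := CommRingCat.of A) fun X a b =>
    (GMod80.post ψ X).injective (by rw [map_mul, map_mul, mul_comm])

/-- A character is determined by its function. -/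
theorem charFn_injective {χ χ' : G ⟶ Red.Gm (Spec (CommRingCat.of k))}
    (h : GMod80.charFn ψ χ = GMod80.charFn ψ χ') : χ = χ' :=
  RedPts82.gmFn_injective ((GMod80.fn ψ).symm.injective h)

theorem charFn_mul (χ χ' : G ⟶ Red.Gm (Spec (CommRingCat.of k))) :
    GMod80.charFn ψ (χ * χ') = GMod80.charFn ψ χ * GMod80.charFn ψ χ' := by
  rw [GMod80.charFn, RedPts82.gmFn_mul, map_mul]
  rfl

/-- A group-like function is the function of a character. -/
theorem exists_char_eq {a : A} (ha : IsGroupLikeElem k a) :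
    ∃ (χ : G ⟶ Red.Gm (Spec (CommRingCat.of k))) (_ : IsMonHom χ), GMod80.charFn ψ χ = a := by
  obtain ⟨χ, hχ, hval⟩ := GMod80.exists_char ψ a ha.comul_eq_tmul_self ha.counit_eq_one
  refine ⟨χ, hχ, ?_⟩
  have := hval A (toConv (AlgHom.id k A))
  rw [GMod80.chiVal_e] at this
  exact this

variable {A' : Type u} [CommRing A'] [HopfAlgebra k A'] {H : Over (Spec (CommRingCat.of k))}
  [GrpObj H] (ψ' : GMod80.sp k A' ≅ H) [IsMonHom ψ'.hom] (i : H ⟶ G) [IsMonHom i]

/-- Restriction of characters is the pull-back of functions. -/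
theorem charFn_comp (χ : G ⟶ Red.Gm (Spec (CommRingCat.of k))) :
    GMod80.charFn ψ' (i ≫ χ) = GMod80.pull ψ ψ' i (GMod80.charFn ψ χ) := by
  have h1 := GMod80.chiVal_e ψ' (i ≫ χ) A' (toConv (AlgHom.id k A'))
  have h2 := GMod80.chiVal_e ψ χ A' (toConv (GMod80.pull ψ ψ' i))
  have h3 := GMod80.e_comp ψ ψ' i (toConv (AlgHom.id k A'))
  rw [ofConv_toConv, AlgHom.id_comp] at h3
  rw [← h3, VecGrp.chiVal, Category.assoc, ← VecGrp.chiVal] at h2
  exact h1.symm.trans h2

end Groth.Agent.Hopf35.GL
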