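import Groth.Prelude.Def_GLin
import Mathlib

/-!
Diagonal actions of the multiplicative group on affine space: semistable and stable vectors.
-/

universe u w

open TensorProduct LaurentPolynomial

namespace Groth.Agent.Hopf35.GmVec

variable {k : Type u} [Field k] {ι : Type w} [Fintype ι]
  [HopfRep.Comod k k[T;T⁻¹] (MvPolynomial ι k)] [GLin.IsCoactAlg k k[T;T⁻¹] (MvPolynomial ι k)]
  (r : ι → ℤ)
  (hr : ∀ i : ι, HopfRep.Comod.coact (k := k) (A := k[T;T⁻¹]) (MvPolynomial.X i : MvPolynomial ι k) =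
    (MvPolynomial.X i : MvPolynomial ι k) ⊗ₜ[k] (T (r i) : k[T;T⁻¹]))
  (v : ι → k)

include hr

theorem orbitHom_X (i : ι) :
    GLin.orbitHom k k[T;T⁻¹] (GLin.vecPt k ι v) (MvPolynomial.X i) = C (v i) * T (r i) := by
  show (Algebra.TensorProduct.lid k k[T;T⁻¹]) (Algebra.TensorProduct.map (GLin.vecPt k ι v) (AlgHom.id k _)
    (HopfRep.Comod.coact (k := k) (A := k[T;T⁻¹]) (MvPolynomial.X i : MvPolynomial ι k))) = _
  rw [hr, Algebra.TensorProduct.map_tmul, Algebra.TensorProduct.lid_tmul, smul_eq_C_mul]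
  simp [GLin.vecPt]

omit hr [Fintype ι] in
/-- embeddings of the polynomial ring by a power of `T` of given sign -/
theorem exists_emb (s : Bool) : ∃ e : Polynomial k →ₐ[k] k[T;T⁻¹], Function.Injective e ∧
    ∀ (c : k) (n : ℕ), e (Polynomial.C c * Polynomial.X ^ n) = C c * T (cond s (n : ℤ) (-(n : ℤ))) := by
  cases s with
  | true => exact ⟨Polynomial.toLaurentAlg, Polynomial.toLaurent_injective, fun c n => by
      rw [Polynomial.toLaurentAlg_apply, Polynomial.toLaurent_C_mul_X_pow]; rfl⟩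
  | false => exact ⟨(LaurentPolynomial.invert.toAlgHom).comp Polynomial.toLaurentAlg,
      LaurentPolynomial.invert.injective.comp Polynomial.toLaurent_injective, fun c n => by
      rw [AlgHom.comp_apply, Polynomial.toLaurentAlg_apply, Polynomial.toLaurent_C_mul_X_pow]
      simp [LaurentPolynomial.invert_C, LaurentPolynomial.invert_T]⟩

/-- If all weights of `v` have one sign, the orbit extends to the affine line. -/
theorem exists_extend (s : Bool) (h : ∀ i, v i ≠ 0 → cond s (0 ≤ r i) (r i ≤ 0)) :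
    ∃ (e : Polynomial k →ₐ[k] k[T;T⁻¹]) (q : MvPolynomial ι k →ₐ[k] Polynomial k), Function.Injective e ∧
      e.comp q = GLin.orbitHom k k[T;T⁻¹] (GLin.vecPt k ι v) ∧
      ∀ i, (Polynomial.aeval (0 : k)) (q (MvPolynomial.X i)) = if r i = 0 then v i else 0 := by
  obtain ⟨e, he, hc⟩ := exists_emb (k := k) s
  refine ⟨e, MvPolynomial.aeval fun i => Polynomial.C (v i) * Polynomial.X ^ (r i).natAbs, he,
    MvPolynomial.algHom_ext fun i => ?_, fun i => ?_⟩
  · rw [AlgHom.comp_apply, MvPolynomial.aeval_X, hc, orbitHom_X r hr]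
    by_cases hv : v i = 0
    · simp [hv]
    · have := h i hv
      congr 2
      cases s <;> simp only [cond_true, cond_false] at this ⊢ <;> omega
  · rw [MvPolynomial.aeval_X]
    split_ifs with h0
    · simp [h0]
    · simp [Int.natAbs_ne_zero.2 h0]

theorem isSemistableVec_iff :
    GLin.IsSemistableVec k k[T;T⁻¹] v ↔ ∃ i j : ι, v i ≠ 0 ∧ v j ≠ 0 ∧ r i ≤ 0 ∧ 0 ≤ r j := by
  constructor
  · intro hss
    by_contra hno
    push Not at hno
    obtain ⟨s, hs⟩ : ∃ s : Bool, ∀ i, v i ≠ 0 → cond s (0 < r i) (r i < 0) := by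
      by_cases hex : ∃ i, v i ≠ 0 ∧ r i ≤ 0
      · obtain ⟨i, hi, hri⟩ := hex
        exact ⟨false, fun j hj => hno i j hi hj hri⟩
      · push Not at hex
        exact ⟨true, fun j hj => hex j hj⟩
    obtain ⟨e, q, he, hq, hq0⟩ := exists_extend r hr v s fun i hi => by
      have := hs i hi; cases s <;> simp only [cond_true, cond_false] at this ⊢ <;> omega
    refine hss fun F hF d hd hhom => ?_
    have h1 : GLin.orbitHom k k[T;T⁻¹] (GLin.vecPt k ι v) F = algebraMap k _ (GLin.vecPt k ι v F) := by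
      show (Algebra.TensorProduct.lid k k[T;T⁻¹]) (Algebra.TensorProduct.map (GLin.vecPt k ι v) (AlgHom.id k _)
        (HopfRep.Comod.coact (k := k) (A := k[T;T⁻¹]) F)) = _
      rw [show HopfRep.Comod.coact (k := k) (A := k[T;T⁻¹]) F = F ⊗ₜ[k] (1 : k[T;T⁻¹]) from hF,
        Algebra.TensorProduct.map_tmul, Algebra.TensorProduct.lid_tmul]
      simp [Algebra.smul_def]
    rw [← hq, AlgHom.comp_apply, ← e.commutes] at h1
    have h2 := congrArg (Polynomial.aeval (0 : k)) (he h1)
    have h3 : ((Polynomial.aeval (0 : k)).comp q) = MvPolynomial.aeval (fun _ => (0 : k)) := by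
      refine MvPolynomial.algHom_ext fun i => ?_
      rw [AlgHom.comp_apply, hq0, MvPolynomial.aeval_X]
      split_ifs with h0
      · by_contra hv
        have := hs i hv
        cases s <;> simp only [cond_true, cond_false] at this <;> omega
      · rfl
    have h4 : MvPolynomial.eval v F = MvPolynomial.coeff 0 F := by
      have := AlgHom.congr_fun h3 F
      rw [AlgHom.comp_apply, MvPolynomial.aeval_zero'] at this
      simp only [MvPolynomial.constantCoeff_eq, Algebra.algebraMap_self, RingHom.id_apply] at this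
      rw [← this, he h1, ← MvPolynomial.coe_aeval_eq_eval v]
      simp [GLin.vecPt]
    rw [h4, hhom.coeff_eq_zero]
    simp; omega
  · rintro ⟨i, j, hi, hj, hri, hrj⟩ hnull
    classical
    have hpow : ∀ (i : ι) (n : ℕ), HopfRep.Comod.coact (k := k) (A := k[T;T⁻¹]) ((MvPolynomial.X i : MvPolynomial ι k) ^ n)
        = ((MvPolynomial.X i : MvPolynomial ι k) ^ n) ⊗ₜ[k] (T ((n : ℤ) * r i) : k[T;T⁻¹]) := by
      intro i n
      induction n with
      | zero => simp [GLin.IsCoactAlg.coact_one (k := k), Algebra.TensorProduct.one_def]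
      | succ n ih =>
        rw [pow_succ, GLin.IsCoactAlg.coact_mul, ih, hr, Algebra.TensorProduct.tmul_mul_tmul, ← T_add]
        congr 2; push_cast; ring
    obtain ⟨a, b, hpos, hab⟩ : ∃ a b : ℕ, 0 < a + b ∧ (a : ℤ) * r i + (b : ℤ) * r j = 0 := by
      by_cases h0 : r i = 0
      · exact ⟨1, 0, one_pos, by simp [h0]⟩
      · refine ⟨(r j).natAbs, (r i).natAbs, ?_, ?_⟩
        · have := Int.natAbs_ne_zero.2 h0; omega
        · rw [Int.natCast_natAbs, Int.natCast_natAbs, abs_of_nonneg hrj, abs_of_nonpos hri]; ring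
    have h := hnull (MvPolynomial.X i ^ a * MvPolynomial.X j ^ b) (by
      rw [GLin.mem_invariants_iff, GLin.IsCoactAlg.coact_mul, hpow, hpow, Algebra.TensorProduct.tmul_mul_tmul,
        ← T_add, hab, T_zero]) (a + b) hpos
      ((MvPolynomial.isHomogeneous_X_pow i a).mul (MvPolynomial.isHomogeneous_X_pow j b))
    rw [map_mul, map_pow, map_pow, MvPolynomial.eval_X, MvPolynomial.eval_X] at h
    exact mul_ne_zero (pow_ne_zero _ hi) (pow_ne_zero _ hj) h

theorem finite_orbitHom {i j : ι} (hi : v i ≠ 0) (hj : v j ≠ 0) (hri : r i < 0) (hrj : 0 < r j) :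
    (GLin.orbitHom k k[T;T⁻¹] (GLin.vecPt k ι v)).toRingHom.Finite := by
  set φ := GLin.orbitHom k k[T;T⁻¹] (GLin.vecPt k ι v) with hφ
  letI := φ.toRingHom.toAlgebra
  haveI : IsScalarTower k (MvPolynomial ι k) k[T;T⁻¹] := IsScalarTower.of_algebraMap_eq fun c => (φ.commutes c).symm
  have hT : ∀ (l : ι), v l ≠ 0 → IsIntegral (MvPolynomial ι k) (T (r l) : k[T;T⁻¹]) := fun l hl => by
    have : (T (r l) : k[T;T⁻¹]) = algebraMap (MvPolynomial ι k) k[T;T⁻¹] (MvPolynomial.C (v l)⁻¹ * MvPolynomial.X l) := by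
      show _ = φ (MvPolynomial.C (v l)⁻¹ * MvPolynomial.X l)
      rw [map_mul, hφ, orbitHom_X r hr v, show (MvPolynomial.C (v l)⁻¹ : MvPolynomial ι k) = algebraMap k _ (v l)⁻¹ from rfl,
        AlgHom.commutes, ← C_eq_algebraMap, ← mul_assoc, ← map_mul, inv_mul_cancel₀ hl, map_one, one_mul]
    rw [this]; exact isIntegral_algebraMap
  have h1 : IsIntegral (MvPolynomial ι k) (T 1 : k[T;T⁻¹]) := by
    refine IsIntegral.of_pow (n := (r j).natAbs) (Int.natAbs_pos.2 hrj.ne') ?_
    rw [T_pow, mul_one, Int.natCast_natAbs, abs_of_pos hrj]; exact hT j hj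
  have h2 : IsIntegral (MvPolynomial ι k) (T (-1) : k[T;T⁻¹]) := by
    refine IsIntegral.of_pow (n := (r i).natAbs) (Int.natAbs_pos.2 hri.ne) ?_
    rw [T_pow, Int.natCast_natAbs, abs_of_neg hri, mul_neg_one, neg_neg]; exact hT i hi
  have hall : ∀ z : k[T;T⁻¹], IsIntegral (MvPolynomial ι k) z := by
    intro z
    induction z using LaurentPolynomial.induction_on' with
    | add p q hp hq => exact hp.add hq
    | C_mul_T n c =>
      refine IsIntegral.mul ?_ ?_
      · rw [C_eq_algebraMap, IsScalarTower.algebraMap_apply k (MvPolynomial ι k)]; exact isIntegral_algebraMap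
      · obtain ⟨N, rfl | rfl⟩ := Int.eq_nat_or_neg n
        · simpa [T_pow] using h1.pow N
        · simpa [T_pow] using h2.pow N
  haveI : Algebra.IsIntegral (MvPolynomial ι k) k[T;T⁻¹] := ⟨hall⟩
  haveI : Algebra.FiniteType k k[T;T⁻¹] := inferInstanceAs (Algebra.FiniteType k (AddMonoidAlgebra k ℤ))
  haveI : Algebra.FiniteType (MvPolynomial ι k) k[T;T⁻¹] :=
    Algebra.FiniteType.of_restrictScalars_finiteType k _ _
  exact RingHom.finite_algebraMap.2 Algebra.IsIntegral.finite

theorem isStableVec_iff :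
    GLin.IsStableVec k k[T;T⁻¹] v ↔ ∃ i j : ι, v i ≠ 0 ∧ v j ≠ 0 ∧ r i < 0 ∧ 0 < r j := by
  constructor
  · rintro ⟨hcl, hfin⟩
    by_contra hno
    push Not at hno
    obtain ⟨s, hs⟩ : ∃ s : Bool, ∀ i, v i ≠ 0 → cond s (0 ≤ r i) (r i ≤ 0) := by
      by_cases hex : ∃ i, v i ≠ 0 ∧ r i < 0
      · obtain ⟨i, hi, hri⟩ := hex
        exact ⟨false, fun j hj => hno i j hi hj hri⟩
      · push Not at hex
        exact ⟨true, fun j hj => hex j hj⟩
    obtain ⟨e, q, he, hq, hq0⟩ := exists_extend r hr v s hs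
    set φ := GLin.orbitHom k k[T;T⁻¹] (GLin.vecPt k ι v) with hφ
    let y : MvPolynomial ι k →ₐ[k] k := (Polynomial.aeval (0 : k)).comp q
    haveI hmax : (RingHom.ker y.toRingHom).IsMaximal :=
      RingHom.ker_isMaximal_of_surjective _ fun c => ⟨algebraMap k _ c, y.commutes c⟩
    let m : PrimeSpectrum (MvPolynomial ι k) := ⟨RingHom.ker y.toRingHom, hmax.isPrime⟩
    have hm : m ∈ closure (Set.range (PrimeSpectrum.comap φ.toRingHom)) := by
      rw [PrimeSpectrum.closure_range_comap, PrimeSpectrum.mem_zeroLocus]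
      intro f hf
      have h0 : e (q f) = 0 := (AlgHom.congr_fun hq f).trans hf
      show y f = 0
      rw [AlgHom.comp_apply, (map_eq_zero_iff _ he).1 h0, map_zero]
    rw [IsClosed.closure_eq hcl] at hm
    obtain ⟨P, hP⟩ := hm
    have hzero : ∀ i, v i ≠ 0 → r i = 0 := by
      intro i hi
      by_contra h0
      have hmem : (MvPolynomial.X i : MvPolynomial ι k) ∈ m.asIdeal := by
        show y (MvPolynomial.X i) = 0
        rw [AlgHom.comp_apply, hq0, if_neg h0]
      rw [← hP, PrimeSpectrum.comap_asIdeal, Ideal.mem_comap] at hmem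
      rw [show φ.toRingHom (MvPolynomial.X i) = C (v i) * T (r i) from orbitHom_X r hr v i] at hmem
      refine P.isPrime.ne_top (Ideal.eq_top_of_isUnit_mem _ hmem (IsUnit.mul ?_ (isUnit_T _)))
      rw [C_eq_algebraMap]; exact (IsUnit.mk0 _ hi).map _
    have hconst : φ = (Algebra.ofId k _).comp (GLin.vecPt k ι v) := by
      refine MvPolynomial.algHom_ext fun i => ?_
      rw [hφ, orbitHom_X r hr v, AlgHom.comp_apply, Algebra.ofId_apply, GLin.vecPt, MvPolynomial.aeval_X, C_eq_algebraMap]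
      by_cases hi : v i = 0
      · simp [hi]
      · rw [hzero i hi, T_zero, mul_one]
    have hstab : GLin.stabIdeal k k[T;T⁻¹] (GLin.vecPt k ι v) = ⊥ := by
      rw [GLin.stabIdeal, Ideal.map_eq_bot_iff_le_ker]
      intro f hf
      rw [RingHom.mem_ker, ← hφ, hconst, AlgHom.comp_apply, RingHom.mem_ker.1 hf, map_zero]
    haveI : Module.Finite k (k[T;T⁻¹] ⧸ GLin.stabIdeal k k[T;T⁻¹] (GLin.vecPt k ι v)) := hfin
    have hfin' : Module.Finite k k[T;T⁻¹] :=
      Module.Finite.equiv ((Ideal.quotientEquivAlgOfEq k hstab).trans (AlgEquiv.quotientBot k _)).toLinearEquiv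
    haveI := hfin'
    haveI := Module.Finite.finite_basis (AddMonoidAlgebra.basis ℤ k)
    exact not_finite ℤ
  · rintro ⟨i, j, hi, hj, hri, hrj⟩
    have hfin := finite_orbitHom r hr v hi hj hri hrj
    refine ⟨(PrimeSpectrum.isClosedMap_comap_of_isIntegral _ hfin.to_isIntegral).isClosed_range, ?_⟩
    set φ := GLin.orbitHom k k[T;T⁻¹] (GLin.vecPt k ι v)
    letI := φ.toRingHom.toAlgebra
    haveI : IsScalarTower k (MvPolynomial ι k) k[T;T⁻¹] := IsScalarTower.of_algebraMap_eq fun c => (φ.commutes c).symm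
    haveI : Module.Finite (MvPolynomial ι k) k[T;T⁻¹] := hfin
    let x := GLin.vecPt k ι v
    obtain ⟨S, hS⟩ := Module.Finite.fg_top (R := MvPolynomial ι k) (M := k[T;T⁻¹])
    classical
    let I := GLin.stabIdeal k k[T;T⁻¹] x
    refine ⟨⟨S.image (Ideal.Quotient.mk I), ?_⟩⟩
    rw [eq_top_iff, Finset.coe_image]
    intro z hz0
    clear hz0
    obtain ⟨z, rfl⟩ := Ideal.Quotient.mk_surjective z
    have hz : z ∈ Submodule.span (MvPolynomial ι k) (S : Set k[T;T⁻¹]) := hS ▸ trivial
    induction hz using Submodule.span_induction with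
    | mem a ha => exact Submodule.subset_span ⟨a, ha, rfl⟩
    | zero => simp
    | add a b _ _ ha hb => rw [map_add]; exact add_mem ha hb
    | smul c a _ ha =>
      have hc : φ c * a - x c • a ∈ I := by
        have hmem : φ (c - algebraMap k _ (x c)) ∈ I :=
          Ideal.mem_map_of_mem _ (by rw [RingHom.mem_ker, map_sub, AlgHom.commutes]; simp)
        rw [map_sub, AlgHom.commutes] at hmem
        rw [Algebra.smul_def, ← sub_mul]
        exact I.mul_mem_right a hmem
      rw [show c • a = φ c * a from rfl, Ideal.Quotient.eq.2 hc]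
      exact Submodule.smul_mem _ (x c) ha

end Groth.Agent.Hopf35.GmVec
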