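import Mathlib
import Groth.Prelude.Def_W4c6equivkfinstabCyc

/-!
Group rings of finite commutative groups and their cyclotomic quotients.
-/

universe u v w

open Finset W4c6equivkfinstab

namespace Groth.Agent.Hopf35.GrpAlg

variable {Λ : Type u} [CommRing Λ]

/-- The map to a cyclotomic quotient induced by a group homomorphism. -/
noncomputable def cmap {M : Type v} [AddCommGroup M] {C : Type w} [AddCommGroup C] (f : M →+ C) :
    AddMonoidAlgebra Λ M →+* CycQuot Λ C :=
  (Ideal.Quotient.mk (cycIdeal Λ C)).comp (AddMonoidAlgebra.mapDomainRingHom Λ f)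

theorem cmap_surjective {M : Type v} [AddCommGroup M] {C : Type w} [AddCommGroup C] {f : M →+ C}
    (hf : Function.Surjective f) : Function.Surjective (cmap (Λ := Λ) f) := by
  refine Ideal.Quotient.mk_surjective.comp fun x => ?_
  induction x using AddMonoidAlgebra.induction_linear with
  | zero => exact ⟨0, map_zero _⟩
  | add a b ha hb =>
    obtain ⟨a', ha'⟩ := ha
    obtain ⟨b', hb'⟩ := hb
    exact ⟨a' + b', by rw [map_add, ha', hb']⟩
  | single c r =>
    obtain ⟨a, rfl⟩ := hf c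
    exact ⟨AddMonoidAlgebra.single a r, by simp⟩

section Maximal

variable {M : Type v} [AddCommGroup M] {C : Type w} [AddCommGroup C] [Finite C] [IsAddCyclic C]

/-- The group elements congruent to one at a maximal ideal above a cyclotomic kernel. -/
theorem single_sub_one_mem_iff (f : M →+ C) (hf : Function.Surjective f) (hC : IsUnit ((Nat.card C : ℕ) : Λ))
    {m : Ideal (AddMonoidAlgebra Λ M)} [m.IsMaximal] (hm : RingHom.ker (cmap (Λ := Λ) f) ≤ m) (a : M) :
    AddMonoidAlgebra.single a (1 : Λ) - 1 ∈ m ↔ f a = 0 := by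
  letI := Ideal.Quotient.field m
  let ρ : CycQuot Λ C →+* AddMonoidAlgebra Λ M ⧸ m :=
    (cmap (Λ := Λ) f).liftOfSurjective (cmap_surjective hf) ⟨Ideal.Quotient.mk m, by rw [Ideal.mk_ker]; exact hm⟩
  have hρ : ∀ x, ρ (cmap f x) = Ideal.Quotient.mk m x := fun x => RingHom.liftOfSurjective_comp_apply _ _ _ x
  obtain ⟨g, hg⟩ := IsAddCyclic.exists_generator (α := C)
  have hgt : AddSubgroup.zmultiples g = ⊤ := top_le_iff.mp fun x _ => hg x
  set d := Nat.card C
  have hgd : addOrderOf g = d := addOrderOf_eq_card_of_forall_mem_zmultiples hg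
  let σ : AddMonoidAlgebra Λ C →+* AddMonoidAlgebra Λ M ⧸ m := ρ.comp (Ideal.Quotient.mk (cycIdeal Λ C))
  let ξ := σ (AddMonoidAlgebra.single g 1)
  have h0 : σ (Polynomial.aeval (AddMonoidAlgebra.single g (1 : Λ)) (Polynomial.cyclotomic d Λ)) = 0 := by
    show ρ (Ideal.Quotient.mk _ _) = 0
    have hmem : Polynomial.aeval (AddMonoidAlgebra.single g (1 : Λ)) (Polynomial.cyclotomic d Λ) ∈ cycIdeal Λ C :=
      Ideal.subset_span ⟨g, hgt, rfl⟩
    rw [Ideal.Quotient.eq_zero_iff_mem.mpr hmem, map_zero]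
  have hroot : (Polynomial.cyclotomic d (AddMonoidAlgebra Λ M ⧸ m)).IsRoot ξ := by
    rw [Polynomial.aeval_def, Polynomial.hom_eval₂] at h0
    rwa [← Polynomial.map_cyclotomic d (σ.comp (algebraMap Λ _)), Polynomial.IsRoot, Polynomial.eval_map]
  haveI : NeZero ((d : ℕ) : AddMonoidAlgebra Λ M ⧸ m) :=
    ⟨by simpa using (hC.map (algebraMap Λ (AddMonoidAlgebra Λ M ⧸ m))).ne_zero⟩
  have hprim : IsPrimitiveRoot ξ d := Polynomial.isRoot_cyclotomic_iff.mp hroot
  have hmem : f a ∈ AddSubgroup.zmultiples g := hg _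
  rw [← mem_multiples_iff_mem_zmultiples] at hmem
  obtain ⟨j, hj : j • g = f a⟩ := hmem
  have hχ : Ideal.Quotient.mk m (AddMonoidAlgebra.single a (1 : Λ)) = ξ ^ j := by
    rw [← hρ, ← map_pow, AddMonoidAlgebra.single_pow, one_pow, hj]
    simp [σ, cmap]
  rw [← Ideal.Quotient.eq_zero_iff_mem, map_sub, map_one, sub_eq_zero, hχ, hprim.pow_eq_one_iff_dvd, ← hgd,
    addOrderOf_dvd_iff_nsmul_eq_zero, hj]

end Maximal

section Comax

variable {M : Type v} [AddCommGroup M] {C : Type w} [AddCommGroup C] [Finite C] [IsAddCyclic C]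

theorem sup_ker_cmap_eq_top (f : M →+ C) (hf : Function.Surjective f) (hC : IsUnit ((Nat.card C : ℕ) : Λ))
    {C' : Type*} [AddCommGroup C'] [Finite C'] [IsAddCyclic C'] (f' : M →+ C') (hf' : Function.Surjective f')
    (hC' : IsUnit ((Nat.card C' : ℕ) : Λ)) (hne : f.ker ≠ f'.ker) :
    RingHom.ker (cmap (Λ := Λ) f) ⊔ RingHom.ker (cmap (Λ := Λ) f') = ⊤ := by
  by_contra h
  obtain ⟨m, hm, hle⟩ := Ideal.exists_le_maximal _ h
  refine hne (AddSubgroup.ext fun a => ?_)
  rw [AddMonoidHom.mem_ker, AddMonoidHom.mem_ker, ← single_sub_one_mem_iff f hf hC (le_sup_left.trans hle) a,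
    single_sub_one_mem_iff f' hf' hC' (le_sup_right.trans hle) a]

theorem sup_ker_quotMap_eq_top (f : M →+ C) (hf : Function.Surjective f) (hC : IsUnit ((Nat.card C : ℕ) : Λ))
    (B₀ : AddSubgroup M) (hle : ¬ B₀ ≤ f.ker) :
    RingHom.ker (cmap (Λ := Λ) f) ⊔ RingHom.ker (quotMap Λ M B₀) = ⊤ := by
  by_contra h
  obtain ⟨m, hm, hm'⟩ := Ideal.exists_le_maximal _ h
  refine hle fun b hb => ?_
  rw [AddMonoidHom.mem_ker, ← single_sub_one_mem_iff f hf hC (le_sup_left.trans hm') b]
  refine le_sup_right.trans hm' ?_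
  rw [RingHom.mem_ker, map_sub, map_one, quotMap, AddMonoidAlgebra.mapDomainRingHom_apply,
    AddMonoidAlgebra.mapDomain_single, QuotientAddGroup.mk'_apply, (QuotientAddGroup.eq_zero_iff b).mpr hb,
    AddMonoidAlgebra.one_def, sub_self]

end Comax

section Roots

variable {e : ℕ} [NeZero e] (he : IsUnit ((e : ℕ) : Λ))

/-- The base ring with a primitive `e`-th root of one adjoined. -/
noncomputable abbrev Cyc (Λ : Type u) [CommRing Λ] (e : ℕ) : Type u := AdjoinRoot (Polynomial.cyclotomic e Λ)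

/-- The root. -/
noncomputable abbrev zeta (Λ : Type u) [CommRing Λ] (e : ℕ) : Cyc Λ e := AdjoinRoot.root _

theorem eval_cyclotomic_zeta (d : ℕ) :
    (Polynomial.cyclotomic d (Cyc Λ e)).eval (zeta Λ e) = AdjoinRoot.mk _ (Polynomial.cyclotomic d Λ) := by
  rw [← Polynomial.map_cyclotomic d (AdjoinRoot.of (Polynomial.cyclotomic e Λ)), Polynomial.eval_map,
    ← AdjoinRoot.algebraMap_eq, ← Polynomial.aeval_def, AdjoinRoot.aeval_eq]

theorem zeta_pow : zeta Λ e ^ e = 1 := by
  have h := congrArg (Polynomial.eval (zeta Λ e)) (Polynomial.prod_cyclotomic_eq_X_pow_sub_one (NeZero.pos e) (Cyc Λ e))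
  rw [Polynomial.eval_prod, Finset.prod_eq_zero (Nat.mem_divisors_self e (NeZero.ne e))
    (by rw [eval_cyclotomic_zeta, AdjoinRoot.mk_self])] at h
  simp at h
  exact sub_eq_zero.mp h.symm

include he in
theorem isUnit_pow_sub_one {d : ℕ} (hd : d ∣ e) (hlt : d ≠ e) : IsUnit (zeta Λ e ^ d - 1) := by
  have hd0 : 0 < d := Nat.pos_of_ne_zero fun h => NeZero.ne e (by simpa [h] using hd)
  have hsep : (Polynomial.X ^ e - 1 : Polynomial Λ).Separable := by
    simpa using Polynomial.separable_X_pow_sub_C_unit (R := Λ) (n := e) 1 he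
  have hdvd : (Polynomial.X ^ d - 1 : Polynomial Λ) * Polynomial.cyclotomic e Λ ∣ Polynomial.X ^ e - 1 :=
    Polynomial.X_pow_sub_one_mul_cyclotomic_dvd_X_pow_sub_one_of_dvd Λ
      (Nat.mem_properDivisors.mpr ⟨hd, lt_of_le_of_ne (Nat.le_of_dvd (NeZero.pos e) hd) hlt⟩)
  obtain ⟨a, b, hab⟩ := (Polynomial.Separable.of_dvd hsep hdvd).isCoprime
  have h := congrArg (AdjoinRoot.mk (Polynomial.cyclotomic e Λ)) hab
  rw [map_add, map_mul, map_mul, map_one, AdjoinRoot.mk_self, mul_zero, add_zero, map_sub, map_pow, map_one,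
    AdjoinRoot.mk_X] at h
  exact IsUnit.of_mul_eq_one_right _ h

/-- The character `ZMod e → Cyc Λ e`. -/
noncomputable def w (x : ZMod e) : Cyc Λ e := zeta Λ e ^ x.val

theorem w_zero : w (Λ := Λ) (0 : ZMod e) = 1 := by simp [w]

theorem w_natCast (n : ℕ) : w (Λ := Λ) (n : ZMod e) = zeta Λ e ^ n := by
  conv_rhs => rw [← Nat.mod_add_div n e, pow_add, pow_mul, zeta_pow, one_pow, mul_one]
  rw [w, ZMod.val_natCast]

theorem w_add (x y : ZMod e) : w (Λ := Λ) (x + y) = w x * w y := by
  conv_lhs => rw [← ZMod.natCast_zmod_val x, ← ZMod.natCast_zmod_val y, ← Nat.cast_add, w_natCast, pow_add]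
  rfl

theorem w_nsmul (n : ℕ) (x : ZMod e) : w (Λ := Λ) (n • x) = w x ^ n := by
  induction n with
  | zero => simp [w_zero]
  | succ n ih => rw [succ_nsmul, w_add, ih, pow_succ]

include he in
theorem isUnit_w_sub_one {x : ZMod e} (hx : x ≠ 0) : IsUnit (w (Λ := Λ) x - 1) := by
  set g := Nat.gcd x.val e
  have hg : g ∣ e := Nat.gcd_dvd_right _ _
  have hge : g ≠ e := by
    intro h
    have h1 : e ∣ x.val := (dvd_of_eq h.symm).trans (Nat.gcd_dvd_left x.val e)
    exact hx (by rw [← ZMod.natCast_zmod_val x, (ZMod.natCast_eq_zero_iff _ _).mpr h1])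
  refine isUnit_of_dvd_unit ?_ (isUnit_pow_sub_one he hg hge)
  obtain ⟨k, hk⟩ : ∃ k : ℕ, (k : ZMod e) * x = (g : ℕ) := by
    refine ⟨((Nat.gcdA x.val e : ℤ) : ZMod e).val, ?_⟩
    have h := congrArg (fun z : ℤ => (z : ZMod e)) (Nat.gcd_eq_gcd_ab x.val e)
    simp only [Int.cast_natCast, Int.cast_add, Int.cast_mul, ZMod.natCast_zmod_val, ZMod.natCast_self, zero_mul, add_zero] at h
    rw [ZMod.natCast_zmod_val, h, mul_comm]
  have hk2 : zeta Λ e ^ g = w x ^ k := by rw [← w_natCast, ← hk, ← nsmul_eq_mul, w_nsmul]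
  rw [hk2]
  exact sub_one_dvd_pow_sub_one _ _

end Roots

section Finite

variable {A : Type v} [AddCommGroup A] [Finite A]

theorem exists_hom_ne_zero {e : ℕ} [NeZero e] (he : AddMonoid.exponent A ∣ e) {a : A} (ha : a ≠ 0) :
    ∃ ψ : A →+ ZMod e, ψ a ≠ 0 := by
  classical
  obtain ⟨ι, hι, q, hq, ⟨E⟩⟩ := AddCommGroup.equiv_directSum_zmod_of_finite' A
  obtain ⟨i, hi⟩ : ∃ i, E a i ≠ 0 := by
    by_contra! h
    exact ha (E.injective (by rw [map_zero]; exact DFinsupp.ext h))
  haveI : NeZero (q i) := ⟨by have := hq i; omega⟩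
  have hdvd : q i ∣ e := by
    refine dvd_trans ?_ he
    have h := AddMonoid.exponent_nsmul_eq_zero (E.symm (DirectSum.of _ i 1) : A)
    apply_fun E at h
    rw [map_nsmul, map_zero, AddEquiv.apply_symm_apply, ← map_nsmul] at h
    have h2 := DirectSum.of_injective i (h.trans (map_zero (DirectSum.of (fun i => ZMod (q i)) i)).symm)
    rwa [nsmul_one, ZMod.natCast_eq_zero_iff] at h2
  obtain ⟨c, hc⟩ := hdvd
  have hc0 : c ≠ 0 := fun h => NeZero.ne e (by rw [hc, h, mul_zero])
  let φ : ZMod (q i) →+ ZMod e := ZMod.lift (q i) ⟨zmultiplesHom (ZMod e) ((c : ℕ) : ZMod e), by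
    rw [zmultiplesHom_apply, natCast_zsmul, nsmul_eq_mul, ← Nat.cast_mul, ← hc, ZMod.natCast_self]⟩
  refine ⟨φ.comp ((DFinsupp.evalAddMonoidHom i).comp E.toAddMonoidHom), fun h => hi ?_⟩
  change φ (E a i) = 0 at h
  rw [← ZMod.natCast_zmod_val (E a i)] at h ⊢
  have h2 : φ (((E a i).val : ℕ) : ZMod (q i)) = (((E a i).val * c : ℕ) : ZMod e) := by
    rw [← Int.cast_natCast, ZMod.lift_coe]
    simp [zmultiplesHom_apply]
  rw [h2, ZMod.natCast_eq_zero_iff, hc, Nat.mul_dvd_mul_iff_right (Nat.pos_of_ne_zero hc0)] at h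
  exact (ZMod.natCast_eq_zero_iff _ _).mpr h

omit [Finite A] in
theorem isUnit_card_of_nsmul {H : Type*} [AddCommGroup H] [Finite H] {e : ℕ} (he : IsUnit ((e : ℕ) : Λ))
    (h : ∀ x : H, e • x = 0) : IsUnit ((Nat.card H : ℕ) : Λ) := by
  have hp : ∀ p, p.Prime → p ∣ Nat.card H → IsUnit ((p : ℕ) : Λ) := by
    intro p hp hdvd
    haveI := Fact.mk hp
    obtain ⟨x, hx⟩ := exists_prime_addOrderOf_dvd_card' p hdvd
    obtain ⟨c, hc⟩ : p ∣ e := hx ▸ addOrderOf_dvd_of_nsmul_eq_zero (h x)
    rw [hc, Nat.cast_mul] at he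
    exact isUnit_of_mul_isUnit_left he
  have key : ∀ n : ℕ, n ∣ Nat.card H → IsUnit ((n : ℕ) : Λ) := by
    intro n
    induction n using Nat.recOnMul with
    | zero => intro h0; exact absurd (zero_dvd_iff.mp h0) Nat.card_pos.ne'
    | one => intro; simp
    | prime p hp' => exact hp p hp'
    | mul a b ha hb =>
      intro hab
      rw [Nat.cast_mul]
      exact (ha (dvd_of_mul_right_dvd hab)).mul (hb (dvd_of_mul_left_dvd hab))
  exact key _ dvd_rfl

theorem bijective_pi (hA : IsUnit ((Nat.card A : ℕ) : Λ)) {κ : Type*} (C : κ → Type w) [∀ i, AddCommGroup (C i)]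
    [∀ i, Finite (C i)] [∀ i, IsAddCyclic (C i)] (f : ∀ i, A →+ C i) (hf : ∀ i, Function.Surjective (f i))
    (hinj : Function.Injective fun i => (f i).ker)
    (hall : ∀ B : AddSubgroup A, IsAddCyclic (A ⧸ B) → ∃ i, (f i).ker = B) :
    Function.Bijective (RingHom.pi fun i => cmap (Λ := Λ) (f i)) := by
  classical
  haveI : Finite κ := Finite.of_injective _ hinj
  have hC : ∀ i, IsUnit ((Nat.card (C i) : ℕ) : Λ) := fun i => by
    obtain ⟨c, hc⟩ := AddSubgroup.card_dvd_of_surjective (f i) (hf i)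
    rw [hc, Nat.cast_mul] at hA
    exact isUnit_of_mul_isUnit_left hA
  refine ⟨?_, fun y => ?_⟩
  · rw [injective_iff_map_eq_zero]
    intro x hx
    set e := AddMonoid.exponent A with he_def
    haveI : NeZero e := ⟨AddMonoid.exponent_ne_zero_of_finite⟩
    have he : IsUnit ((e : ℕ) : Λ) := by
      obtain ⟨c, hc⟩ := AddGroup.exponent_dvd_nat_card (G := A)
      rw [hc, Nat.cast_mul] at hA
      exact isUnit_of_mul_isUnit_left hA
    let ev : (A →+ ZMod e) → (AddMonoidAlgebra Λ A →ₐ[Λ] Cyc Λ e) := fun ψ =>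
      AddMonoidAlgebra.lift Λ (Cyc Λ e) A
        { toFun := fun a => w (ψ (Multiplicative.toAdd a))
          map_one' := by simp [w_zero]
          map_mul' := fun a b => by simp [w_add] }
    have hev : ∀ ψ a r, ev ψ (AddMonoidAlgebra.single a r) = r • w (ψ a) := fun ψ a r => by
      simp [ev, AddMonoidAlgebra.lift_single]
    have hzero : ∀ ψ, ev ψ x = 0 := by
      intro ψ
      obtain ⟨i, hi⟩ := hall ψ.ker (by
        have : IsAddCyclic (ψ.range) := inferInstance
        exact isAddCyclic_of_surjective (QuotientAddGroup.quotientKerEquivRange ψ).symm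
          (QuotientAddGroup.quotientKerEquivRange ψ).symm.surjective)
      obtain ⟨ψ', hψ'⟩ : ∃ ψ' : C i →+ ZMod e, ψ'.comp (f i) = ψ :=
        ⟨AddMonoidHom.liftOfSurjective (f i) (hf i) ⟨ψ, hi.le⟩, AddMonoidHom.liftOfRightInverse_comp _ _ _ _⟩
      have hψi : Function.Injective ψ' := by
        rw [injective_iff_map_eq_zero]
        intro c hc
        obtain ⟨a, rfl⟩ := hf i c
        have : a ∈ ψ.ker := by rw [AddMonoidHom.mem_ker, ← hψ']; exact hc
        rwa [← hi, AddMonoidHom.mem_ker] at this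
      let σ : AddMonoidAlgebra Λ (C i) →ₐ[Λ] Cyc Λ e :=
        AddMonoidAlgebra.lift Λ (Cyc Λ e) (C i)
          { toFun := fun a => w (ψ' (Multiplicative.toAdd a))
            map_one' := by simp [w_zero]
            map_mul' := fun a b => by simp [w_add] }
      have hσ : ∀ a r, σ (AddMonoidAlgebra.single a r) = r • w (ψ' a) := fun a r => by
        simp [σ, AddMonoidAlgebra.lift_single]
      have hcomp : ∀ z, ev ψ z = σ (AddMonoidAlgebra.mapDomainRingHom Λ (f i) z) := by
        intro z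
        induction z using AddMonoidAlgebra.induction_linear with
        | zero => simp
        | add a b ha hb => simp only [map_add, ha, hb]
        | single a r =>
          rw [AddMonoidAlgebra.mapDomainRingHom_apply, AddMonoidAlgebra.mapDomain_single, hev, hσ, ← hψ']
          rfl
      have hker : cycIdeal Λ (C i) ≤ RingHom.ker σ := by
        refine Ideal.span_le.mpr ?_
        rintro _ ⟨g, hg, rfl⟩
        rw [SetLike.mem_coe, RingHom.mem_ker, ← Polynomial.aeval_algHom_apply, hσ, one_smul]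
        have hd0 : 0 < Nat.card (C i) := Nat.card_pos
        have hgd : addOrderOf g = Nat.card (C i) :=
          addOrderOf_eq_card_of_forall_mem_zmultiples fun c => hg ▸ AddSubgroup.mem_top c
        have h1 := congrArg (Polynomial.aeval (w (Λ := Λ) (ψ' g)))
          (Polynomial.prod_cyclotomic_eq_X_pow_sub_one hd0 Λ)
        rw [map_sub, map_pow, Polynomial.aeval_X, map_one, ← w_nsmul, ← map_nsmul, ← hgd, addOrderOf_nsmul_eq_zero,
          map_zero, w_zero, sub_self, map_prod, hgd, ← Finset.mul_prod_erase _ _ (Nat.mem_divisors_self _ hd0.ne')] at h1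
        have hu : IsUnit (∏ d ∈ (Nat.card (C i)).divisors.erase (Nat.card (C i)),
            Polynomial.aeval (w (Λ := Λ) (ψ' g)) (Polynomial.cyclotomic d Λ)) := by
          rw [IsUnit.prod_iff]
          intro d hd
          rw [Finset.mem_erase, Nat.mem_divisors] at hd
          have hd1 : 0 < d := Nat.pos_of_dvd_of_pos hd.2.1 hd0
          refine isUnit_of_dvd_unit (map_dvd (Polynomial.aeval (w (Λ := Λ) (ψ' g)))
            ((Finset.dvd_prod_of_mem _ (Nat.mem_divisors_self d hd1.ne')).trans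
              (Polynomial.prod_cyclotomic_eq_X_pow_sub_one hd1 Λ).dvd)) ?_
          rw [map_sub, map_pow, Polynomial.aeval_X, map_one, ← w_nsmul, ← map_nsmul]
          refine isUnit_w_sub_one he fun h0 => hd.1 ?_
          have := addOrderOf_dvd_of_nsmul_eq_zero (hψi (h0.trans (map_zero ψ').symm))
          rw [hgd] at this
          exact Nat.dvd_antisymm hd.2.1 this
        exact hu.mul_left_eq_zero.mp h1
      rw [hcomp]
      exact hker (Ideal.Quotient.eq_zero_iff_mem.mp (congrFun hx i))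
    haveI : Finite (A →+ ZMod e) := Finite.of_injective _ DFunLike.coe_injective
    haveI : Fintype (A →+ ZMod e) := Fintype.ofFinite _
    haveI := Fintype.ofFinite A
    apply AddMonoidAlgebra.coeff_injective
    ext a
    have hsum : ∀ c : A, c ≠ 0 → ∑ ψ : A →+ ZMod e, w (Λ := Λ) (ψ c) = 0 := by
      intro c hc
      obtain ⟨ψ₀, hψ₀⟩ := exists_hom_ne_zero (A := A) (e := e) dvd_rfl hc
      have h : w (Λ := Λ) (ψ₀ c) * ∑ ψ : A →+ ZMod e, w (ψ c) = ∑ ψ : A →+ ZMod e, w (ψ c) := by
        rw [Finset.mul_sum]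
        exact Fintype.sum_equiv (Equiv.addLeft ψ₀) _ _ fun ψ => (w_add (ψ₀ c) (ψ c)).symm
      exact (isUnit_w_sub_one he hψ₀).mul_right_eq_zero.mp (by rw [sub_mul, one_mul, h, sub_self])
    have h2 : ∀ z : AddMonoidAlgebra Λ A, ∑ ψ : A →+ ZMod e, ev ψ z * w (ψ (-a)) = z.coeff a • (Nat.card (A →+ ZMod e) : Cyc Λ e) := by
      intro z
      induction z using AddMonoidAlgebra.induction_linear with
      | zero => simp
      | add z z' hz hz' =>
        simp only [map_add, add_mul, Finset.sum_add_distrib, hz, hz', AddMonoidAlgebra.coeff_add, Finsupp.add_apply, add_smul]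
      | single b r =>
        simp only [hev, smul_mul_assoc, ← w_add, ← map_add, ← Finset.smul_sum]
        by_cases hb : b = a
        · subst hb
          simp [w_zero, Nat.card_eq_fintype_card]
        · rw [hsum _ (by rwa [← sub_eq_add_neg, sub_ne_zero]), smul_zero, AddMonoidAlgebra.coeff_single, Finsupp.single_eq_of_ne (Ne.symm hb), zero_smul]
    have h3 := h2 x
    simp only [hzero, zero_mul, Finset.sum_const_zero] at h3
    have hN : IsUnit ((Nat.card (A →+ ZMod e) : ℕ) : Λ) :=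
      isUnit_card_of_nsmul he fun ψ => AddMonoidHom.ext fun c => by
        rw [AddMonoidHom.nsmul_apply, AddMonoidHom.zero_apply, nsmul_eq_mul, ZMod.natCast_self, zero_mul]
    have hinjΛ : Function.Injective (algebraMap Λ (Cyc Λ e)) := by
      rw [injective_iff_map_eq_zero]
      intro r hr
      rw [AdjoinRoot.algebraMap_eq, ← AdjoinRoot.mk_C, AdjoinRoot.mk_eq_zero] at hr
      by_contra hr0
      haveI : Nontrivial Λ := ⟨⟨r, 0, hr0⟩⟩
      refine Polynomial.Monic.not_dvd_of_degree_lt (Polynomial.cyclotomic.monic e Λ) (Polynomial.C_ne_zero.mpr hr0) ?_ hr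
      rw [Polynomial.degree_C hr0, Polynomial.degree_cyclotomic]
      exact_mod_cast Nat.totient_pos.mpr (NeZero.pos e)
    rw [Algebra.smul_def, ← map_natCast (algebraMap Λ (Cyc Λ e)), ← map_mul, eq_comm] at h3
    exact hN.mul_left_eq_zero.mp ((injective_iff_map_eq_zero _).mp hinjΛ _ h3)
  · have hcop : Pairwise fun i j => IsCoprime (RingHom.ker (cmap (Λ := Λ) (f i))) (RingHom.ker (cmap (Λ := Λ) (f j))) :=
      fun i j hij => Ideal.isCoprime_iff_sup_eq.mpr
        (sup_ker_cmap_eq_top (f i) (hf i) (hC i) (f j) (hf j) (hC j) fun h => hij (hinj h))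
    choose g hg using fun i => cmap_surjective (Λ := Λ) (hf i) (y i)
    obtain ⟨z, hz⟩ := Ideal.exists_forall_sub_mem_ideal hcop g
    refine ⟨z, funext fun i => ?_⟩
    show cmap (f i) z = y i
    rw [← hg i, ← sub_eq_zero, ← map_sub]
    exact hz i

end Finite

section Localization

variable {M : Type v} [AddCommGroup M]

theorem subsingleton_localizedModule {B : AddSubgroup M} {R' : Type*} [CommRing R'] [Algebra (AddMonoidAlgebra Λ M) R']
    (h : RingHom.ker (cycQuotMap Λ M B) ⊔ RingHom.ker (algebraMap (AddMonoidAlgebra Λ M) R') = ⊤) :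
    Subsingleton (LocalizedModule (locSubmonoid Λ M B) R') := by
  obtain ⟨a, ha, b, hb, hab⟩ := Submodule.mem_sup.mp ((Ideal.eq_top_iff_one _).mp h)
  rw [LocalizedModule.subsingleton_iff]
  intro m
  refine ⟨b, ?_, ?_⟩
  · show cycQuotMap Λ M B b = 1
    have := congrArg (cycQuotMap Λ M B) hab
    rwa [map_add, RingHom.mem_ker.mp ha, zero_add, map_one] at this
  · rw [Algebra.smul_def, RingHom.mem_ker.mp hb, zero_mul]

theorem bijective_pi_localized {R' : Type*} [CommRing R'] [Algebra (AddMonoidAlgebra Λ M) R']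
    (hs : Function.Surjective (algebraMap (AddMonoidAlgebra Λ M) R'))
    {κ : Type*} (S : κ → Submonoid (AddMonoidAlgebra Λ M)) (Q : κ → Type*) [∀ i, CommRing (Q i)]
    (π : ∀ i, R' →+* Q i) (hπ : Function.Bijective (RingHom.pi π))
    (hS : ∀ i x, x ∈ S i ↔ π i (algebraMap _ R' x) = 1) :
    Function.Bijective (LinearMap.pi (R := AddMonoidAlgebra Λ M) fun i => LocalizedModule.mkLinearMap (S i) R') := by
  classical
  refine ⟨?_, fun y => ?_⟩
  · rw [injective_iff_map_eq_zero]
    intro x hx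
    apply hπ.1
    rw [map_zero]
    ext i
    obtain ⟨t, ht⟩ := (IsLocalizedModule.eq_zero_iff (S i) (LocalizedModule.mkLinearMap (S i) R')).mp (congrFun hx i)
    have h2 := congrArg (π i) ((Algebra.smul_def (t : AddMonoidAlgebra Λ M) x).symm.trans ht)
    rw [map_mul, (hS i _).mp t.2, one_mul, map_zero] at h2
    exact h2
  · have hy : ∀ i, ∃ (x : R') (s : S i), y i = LocalizedModule.mk x s := fun i => by
      induction y i using LocalizedModule.induction_on with
      | h x s => exact ⟨x, s, rfl⟩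
    choose x s hxs using hy
    obtain ⟨z, hz⟩ := hπ.2 (fun i => π i (x i))
    choose e he using fun i => hπ.2 (Pi.single i 1)
    choose t ht using fun i => hs (e i)
    refine ⟨z, funext fun i => ?_⟩
    show LocalizedModule.mk z 1 = y i
    rw [hxs, LocalizedModule.mk_eq]
    refine ⟨⟨t i, (hS i _).mpr (by rw [ht]; simpa using congrFun (he i) i)⟩, ?_⟩
    simp only [Submonoid.smul_def, Submonoid.coe_one, one_smul, Algebra.smul_def, ht]
    apply hπ.1
    ext j
    have h1 : π j (e i) = (Pi.single i (1 : Q i) : ∀ k, Q k) j := congrFun (he i) j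
    have h2 : π j z = π j (x j) := congrFun hz j
    simp only [RingHom.pi_apply, map_mul, h1]
    by_cases hij : j = i
    · subst hij
      rw [Pi.single_eq_same, one_mul, one_mul, (hS j _).mp (s j).2, one_mul, h2]
    · rw [Pi.single_eq_of_ne hij, zero_mul, zero_mul]

end Localization

end Groth.Agent.Hopf35.GrpAlg
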