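import Groth.Agent.Comod33.Finite
import Mathlib.RingTheory.Bialgebra.Hom
import Mathlib.RingTheory.Coalgebra.Convolution
import Mathlib.RingTheory.Coalgebra.GroupLike
import Mathlib.RingTheory.Ideal.GoingUp
import Mathlib.FieldTheory.IsAlgClosed.Basic
import Mathlib.RingTheory.IntegralClosure.Algebra.Basic

/-!
helper35: group-like elements lift along surjections of cocommutative coalgebras over an
algebraically closed field.
-/

set_option autoImplicit false

universe u v w

open TensorProduct WithConv CoalgebraStruct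

noncomputable section

namespace Groth.Agent.Hopf35.GL

open Comod33

variable {k : Type u} [Field k] {A : Type v} [AddCommGroup A] [Module k A] [Coalgebra k A]

/-- Elements determined by all linear forms applied to both legs. -/
theorem eq_of_forms {x y : A ⊗[k] A}
    (h : ∀ f g : A →ₗ[k] k, f (rc g x) = f (rc g y)) : x = y :=
  eq_of_rc fun g => by
    rw [← sub_eq_zero, ← Module.forall_dual_apply_eq_zero_iff k]
    exact fun f => by rw [map_sub, h f g, sub_self]

theorem convMul_eq_rc (f g : A →ₗ[k] k) (a : A) :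
    (toConv f * toConv g).ofConv a = f (rc g (comul (R := k) a)) := by
  rw [LinearMap.convMul_def]
  simp only [LinearMap.comp_apply]
  generalize comul (R := k) a = y
  induction y with
  | zero => simp
  | tmul p q => simp [mul_comm]
  | add p q hp hq => simp [map_add, hp, hq]

/-- A functional multiplicative for convolution which is a combination of finitely many
evaluations is evaluation at a group-like element. -/
theorem exists_grouplike_of_mult (θ : (A →ₗ[k] k) →ₗ[k] k)
    (h1 : θ (counit (R := k) (A := A)) = 1)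
    (hmul : ∀ f g, θ (toConv f * toConv g).ofConv = θ f * θ g)
    (a : A) (ha : ∀ f, θ f = f a) :
    IsGroupLikeElem k a := by
  refine ⟨(ha _).symm.trans h1, eq_of_forms fun f g => ?_⟩
  rw [← convMul_eq_rc, ← ha, hmul, ha, ha, rc_tmul, map_smul, smul_eq_mul, mul_comm]

variable [Coalgebra.IsCocomm k A]

omit [Coalgebra.IsCocomm k A] in
theorem rc_comm_aux (f g : A →ₗ[k] k) (y : A ⊗[k] A) :
    f (rc g (TensorProduct.comm k A A y)) = g (rc f y) := by
  induction y with
  | zero => simp
  | tmul p q => simp [mul_comm]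
  | add p q hp hq => simp [map_add, hp, hq]

theorem conv_comm (f g : A →ₗ[k] k) :
    (toConv f * toConv g).ofConv = (toConv g * toConv f).ofConv := by
  ext a
  rw [convMul_eq_rc, convMul_eq_rc, ← rc_comm_aux g f, Coalgebra.comm_comul]

variable [IsAlgClosed k] {B : Type w} [AddCommGroup B] [Module k B] [Coalgebra k B]

set_option maxHeartbeats 1600000 in
/-- Group-like elements lift along surjective maps of coalgebras. -/
theorem exists_grouplike_lift (π : A →ₗc[k] B) (hπ : Function.Surjective π) {b : B}
    (hb : IsGroupLikeElem k b) : ∃ a : A, IsGroupLikeElem k a ∧ π a = b := by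
  classical
  obtain ⟨a0, rfl⟩ := hπ b
  let U : Submodule k A := gen (k := k) (A := A) a0
  have hU : ∀ (f : A →ₗ[k] k), ∀ u ∈ U, dact f u ∈ U := (isSubcomod_iff U).1 (isSubcomod_gen a0)
  let L : (A →ₗ[k] k) →ₗ[k] Module.End k U :=
    { toFun := fun f => (dact f).restrict (hU f)
      map_add' := fun f g => LinearMap.ext fun u => Subtype.ext (LinearMap.congr_fun (dact_add f g) u.1)
      map_smul' := fun c f => LinearMap.ext fun u => Subtype.ext (LinearMap.congr_fun (dact_smul c f) u.1) }
  have hL1 : L (counit (R := k) (A := A)) = 1 :=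
    LinearMap.ext fun u => Subtype.ext (dact_counit u.1)
  have hLmul : ∀ f g, L (toConv f * toConv g).ofConv = L f * L g := fun f g =>
    LinearMap.ext fun u => Subtype.ext (dact_dact f g u.1).symm
  -- linear forms pulled back from the quotient
  let P : (B →ₗ[k] k) →ₗ[k] (A →ₗ[k] k) :=
    { toFun := fun f => f ∘ₗ π.toLinearMap
      map_add' := fun _ _ => rfl
      map_smul' := fun _ _ => rfl }
  have hPmul : ∀ f g : B →ₗ[k] k,
      (toConv (P f) * toConv (P g)).ofConv = P (toConv f * toConv g).ofConv := fun f g =>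
    (LinearMap.convMul_comp_coalgHom_distrib (toConv f) (toConv g) π).symm
  have hP1 : P (counit (R := k) (A := B)) = counit (R := k) (A := A) := π.counit_comp
  let SA : Subalgebra k (Module.End k U) :=
    (LinearMap.range L).toSubalgebra ⟨_, hL1⟩ (by
      rintro _ _ ⟨f, rfl⟩ ⟨g, rfl⟩; exact ⟨_, hLmul f g⟩)
  let SB : Subalgebra k (Module.End k U) :=
    (LinearMap.range (L ∘ₗ P)).toSubalgebra ⟨counit, by simp [hP1, hL1]⟩ (by
      rintro _ _ ⟨f, rfl⟩ ⟨g, rfl⟩
      exact ⟨_, (congrArg L (hPmul f g)).symm.trans (hLmul _ _)⟩)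
  have hle : SB ≤ SA := by rintro _ ⟨f, rfl⟩; exact ⟨P f, rfl⟩
  letI : CommRing SA :=
    { (inferInstance : Ring SA) with
      mul_comm := by
        rintro ⟨_, f, rfl⟩ ⟨_, g, rfl⟩
        refine Subtype.ext ?_
        show L f * L g = L g * L f
        rw [← hLmul, ← hLmul, conv_comm] }
  letI : CommRing SB :=
    { (inferInstance : Ring SB) with
      mul_comm := fun x y => (Subalgebra.inclusion_injective hle) (by
        rw [map_mul, map_mul, mul_comm]) }
  -- the character given by b
  have hval : ∀ f : B →ₗ[k] k, L (P f) = 0 → f (π a0) = 0 := fun f hf => by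
    have h := congrArg (fun e : Module.End k U => counit (R := k) (e ⟨a0, mem_gen a0⟩).1) hf
    simp only [LinearMap.zero_apply, ZeroMemClass.coe_zero, map_zero] at h
    rw [← h]
    show f (π a0) = counit (R := k) (dact (P f) a0)
    rw [dact_apply]
    show _ = counit (R := k) (rc (P f) (comul (R := k) a0))
    rw [← convMul_eq_rc]
    have e1 : toConv (counit (R := k) (A := A)) = 1 := by
      apply WithConv.ofConv_injective; ext a; simp [LinearMap.convOne_def]
    rw [e1, one_mul]
    rfl
  choose σ hσ using fun x : SB => (x.2 : (x : Module.End k U) ∈ LinearMap.range (L ∘ₗ P))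
  have hwd : ∀ (x : SB) (f : B →ₗ[k] k), L (P f) = x → σ x (π a0) = f (π a0) := fun x f hf =>
    sub_eq_zero.1 (hval (σ x - f) (by rw [map_sub, map_sub, hf, ← hσ x]; exact sub_self _))
  let χ : SB →ₐ[k] k :=
    { toFun := fun x => σ x (π a0)
      map_one' := by rw [hwd 1 counit (by rw [hP1, hL1]; rfl)]; exact hb.counit_eq_one
      map_mul' := fun x y => by
        rw [hwd (x * y) (toConv (σ x) * toConv (σ y)).ofConv (by
          rw [← hPmul, hLmul, MulMemClass.coe_mul, ← hσ x, ← hσ y]; rfl)]
        rw [convMul_eq_rc, hb.comul_eq_tmul_self, rc_tmul, map_smul, smul_eq_mul, mul_comm]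
      map_zero' := by rw [hwd 0 0 (by simp)]; rfl
      map_add' := fun x y => by
        rw [hwd (x + y) (σ x + σ y) (by
          rw [map_add, map_add, AddMemClass.coe_add, ← hσ x, ← hσ y]; rfl)]
        rfl
      commutes' := fun c => by
        rw [hwd _ (c • counit) (by rw [map_smul, map_smul, hP1, hL1]; exact (Algebra.algebraMap_eq_smul_one c).symm)]
        simp [hb.counit_eq_one] }
  -- extend it to the larger algebra
  letI : Algebra SB SA := (Subalgebra.inclusion hle).toRingHom.toAlgebra
  haveI : IsScalarTower k SB SA := IsScalarTower.of_algebraMap_eq fun c => rfl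
  haveI : Algebra.IsIntegral SB SA := Algebra.IsIntegral.tower_top k
  haveI hM : (RingHom.ker χ).IsMaximal := RingHom.ker_isMaximal_of_surjective χ fun c =>
    ⟨algebraMap k SB c, χ.commutes c⟩
  obtain ⟨N, hN, hNc⟩ := Ideal.exists_ideal_over_maximal_of_isIntegral (S := SA) (RingHom.ker χ) (by
    intro x hx
    rw [RingHom.mem_ker] at hx ⊢
    have : x = 0 := Subalgebra.inclusion_injective hle (by rw [map_zero]; exact hx)
    rw [this, map_zero])
  haveI := hN
  letI : Field (SA ⧸ N) := Ideal.Quotient.field N
  let χ' : SA →ₐ[k] k :=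
    (AlgEquiv.ofBijective (Algebra.ofId k (SA ⧸ N))
      (IsAlgClosed.algebraMap_bijective_of_isIntegral (k := k) (K := SA ⧸ N))).symm.toAlgHom.comp
        (Ideal.Quotient.mkₐ k N)
  have hχ' : ∀ x : SB, χ' (algebraMap SB SA x) = χ x := fun x => by
    have h1 : x - algebraMap k SB (χ x) ∈ RingHom.ker χ := by simp [RingHom.mem_ker]
    rw [← hNc, Ideal.mem_comap, map_sub, ← IsScalarTower.algebraMap_apply] at h1
    have h2 : χ' (algebraMap SB SA x - algebraMap k SA (χ x)) = 0 := by
      simp only [χ', AlgHom.comp_apply, Ideal.Quotient.mkₐ_eq_mk, Ideal.Quotient.eq_zero_iff_mem.2 h1,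
        map_zero]
    rwa [map_sub, AlgHom.commutes, sub_eq_zero] at h2
  let L' : (A →ₗ[k] k) →ₗ[k] SA := L.codRestrict (Subalgebra.toSubmodule SA) fun f => ⟨f, rfl⟩
  let θ : (A →ₗ[k] k) →ₗ[k] k := χ'.toLinearMap ∘ₗ L'
  have hθ1 : θ (counit (R := k) (A := A)) = 1 := by
    show χ' _ = 1
    rw [show L' counit = 1 from Subtype.ext hL1, map_one]
  have hθm : ∀ f g, θ (toConv f * toConv g).ofConv = θ f * θ g := fun f g => by
    show χ' _ = χ' _ * χ' _
    rw [← map_mul]
    exact congrArg χ' (Subtype.ext (hLmul f g))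
  -- it is an evaluation
  obtain ⟨Φ, hΦ⟩ := LinearMap.exists_extend (p := Subalgebra.toSubmodule SA) χ'.toLinearMap
  let e := Module.finBasis k U
  choose φ hφ using fun i => LinearMap.exists_extend (e.coord i)
  let c : Fin (Module.finrank k U) → Fin (Module.finrank k U) → A := fun i j =>
    TensorProduct.lid k A ((φ i).rTensor A (comul (R := k) (e j).1))
  have hc : ∀ (f : A →ₗ[k] k) i j, f (c i j) = e.repr (L f (e j)) i := fun f i j => by
    have : e.repr (L f (e j)) i = φ i (dact f (e j).1) := by
      rw [← Module.Basis.coord_apply, ← hφ i]; rfl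
    rw [this, dact_apply]
    show f (TensorProduct.lid k A ((φ i).rTensor A (comul (R := k) (e j).1))) = φ i (rc f (comul (R := k) (e j).1))
    generalize comul (R := k) (e j).1 = y
    induction y with
    | zero => simp
    | tmul p q => simp [mul_comm]
    | add p q hp hq => simp [map_add, hp, hq]
  let E : Fin (Module.finrank k U) → Fin (Module.finrank k U) → Module.End k U := fun i j =>
    (e.coord j).smulRight (e i)
  let a : A := ∑ i, ∑ j, Φ (E i j) • c i j
  have ha : ∀ f, θ f = f a := fun f => by
    have h1 : θ f = Φ (L f) := (LinearMap.congr_fun hΦ (L' f)).symm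
    have h2 : L f = ∑ i, ∑ j, e.repr (L f (e j)) i • E i j := e.ext fun l => by
      simp only [LinearMap.sum_apply, LinearMap.smul_apply, E, LinearMap.smulRight_apply,
        Module.Basis.coord_apply, Module.Basis.repr_self, Finsupp.single_apply]
      simp [e.sum_repr]
    rw [h1]
    conv_lhs => rw [h2]
    simp only [map_sum, map_smul, a, hc, smul_eq_mul]
    exact Finset.sum_congr rfl fun i _ => Finset.sum_congr rfl fun j _ => mul_comm _ _
  refine ⟨a, exists_grouplike_of_mult θ hθ1 hθm a ha, ?_⟩
  rw [← sub_eq_zero, ← Module.forall_dual_apply_eq_zero_iff k]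
  intro f
  rw [map_sub, sub_eq_zero]
  show (P f) a = f (π a0)
  rw [← ha]
  let x : SB := ⟨L (P f), f, rfl⟩
  refine Eq.trans ?_ ((hχ' x).trans (hwd x f rfl))
  rfl

end Groth.Agent.Hopf35.GL
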