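import Mathlib

/-! Row reduced (Hermite) forms of square matrices over `k[[t]]`. -/

set_option autoImplicit false

namespace Groth.Agent.Hopf35.Hermite

open Matrix PowerSeries

universe u
variable {k : Type u} [Field k] {r : ℕ}

local notation "X" => PowerSeries.X

/-- Upper triangular with diagonal entries powers of the variable. -/
def IsTri (H : Matrix (Fin r) (Fin r) k⟦X⟧) (e : Fin r → ℕ) : Prop :=
  (∀ i, H i i = X ^ e i) ∧ ∀ i j, j < i → H i j = 0

open Classical in
theorem exists_high (f : k⟦X⟧) (e : ℕ) (P : ℕ → Prop) :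
    ∃ q : k⟦X⟧, (∀ n, ¬ P n → coeff n q = 0) ∧
      ∀ n, coeff n (f - q * X ^ e) = if e ≤ n ∧ P (n - e) then 0 else coeff n f := by
  classical
  refine ⟨PowerSeries.mk fun n => if P n then coeff (n + e) f else 0, fun n hn => by simp [hn], fun n => ?_⟩
  rw [map_sub, coeff_mul_X_pow']
  by_cases h : e ≤ n
  · by_cases hP : P (n - e)
    · simp [h, hP, Nat.sub_add_cancel h]
    · simp [h, hP]
  · simp [h]

theorem exists_tri (M : Matrix (Fin r) (Fin r) k⟦X⟧) (hM : M.det ≠ 0) :
    ∃ (N : Matrix (Fin r) (Fin r) k⟦X⟧) (e : Fin r → ℕ), IsUnit N ∧ IsTri (N * M) e := by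
  classical
  let L : Submodule k⟦X⟧ (Fin r → k⟦X⟧) := LinearMap.range M.vecMulLinear
  let Lj : Fin r → Submodule k⟦X⟧ (Fin r → k⟦X⟧) := fun j =>
    L ⊓ ⨅ i ∈ {i : Fin r | i < j}, LinearMap.ker (LinearMap.proj i)
  have hLj : ∀ j v, v ∈ Lj j ↔ v ∈ L ∧ ∀ i, i < j → v i = 0 := fun j v => by
    simp [Lj, Submodule.mem_iInf]
  have hgen : ∀ j, ∃ (n : ℕ) (v : Fin r → k⟦X⟧), v ∈ Lj j ∧ v j = X ^ n ∧
      ∀ w ∈ Lj j, ∃ q, w j = q * X ^ n := by
    intro j
    let I : Ideal k⟦X⟧ := (Lj j).map (LinearMap.proj j)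
    have hdet : M.det ∈ I := by
      refine ⟨Pi.single j M.det, (hLj _ _).mpr ⟨⟨M.adjugate j, ?_⟩, fun i hi => Pi.single_eq_of_ne hi.ne _⟩, by simp⟩
      funext i
      change (M.adjugate j ᵥ* M) i = _
      have := congrFun (congrFun (Matrix.adjugate_mul M) j) i
      simp only [Matrix.vecMul, dotProduct]
      rw [Matrix.mul_apply] at this
      rw [this]
      by_cases h : i = j
      · subst h; simp
      · simp [Pi.single_eq_of_ne h, Matrix.one_apply, Ne.symm h]
    have hI : I ≠ ⊥ := fun h => hM (by rw [h] at hdet; exact hdet)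
    obtain ⟨n, hn⟩ := IsDiscreteValuationRing.ideal_eq_span_pow_irreducible hI PowerSeries.X_irreducible
    have hmem : (X : k⟦X⟧) ^ n ∈ I := by rw [hn]; exact Ideal.mem_span_singleton_self _
    obtain ⟨v, hv, hvj⟩ := hmem
    refine ⟨n, v, hv, hvj, fun w hw => ?_⟩
    have : w j ∈ I := ⟨w, hw, rfl⟩
    rw [hn, Ideal.mem_span_singleton'] at this
    obtain ⟨q, hq⟩ := this
    exact ⟨q, hq.symm⟩
  choose e h hh he hdiv using hgen
  choose N hN using fun j => ((hLj _ _).mp (hh j)).1
  have hspan : ∀ (d : ℕ) (v : Fin r → k⟦X⟧), v ∈ L → (∀ i : Fin r, i.val + d < r → v i = 0) →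
      v ∈ Submodule.span k⟦X⟧ (Set.range h) := by
    intro d
    induction d with
    | zero =>
      intro v _ h0
      have : v = 0 := funext fun i => h0 i (by have := i.isLt; omega)
      simp [this]
    | succ d ih =>
      intro v hv h0
      by_cases hd : d + 1 ≤ r
      · let j : Fin r := ⟨r - (d + 1), by omega⟩
        have hvj : v ∈ Lj j := (hLj _ _).mpr ⟨hv, fun i hi => h0 i (by simp [j, Fin.lt_def] at hi; omega)⟩
        obtain ⟨q, hq⟩ := hdiv j v hvj
        have h1 := ih (v - q • h j) (L.sub_mem hv (L.smul_mem q ((hLj _ _).mp (hh j)).1)) (fun i hi => by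
          rcases lt_trichotomy i j with hij | hij | hij
          · simp [h0 i (by simp [j, Fin.lt_def] at hij; omega), ((hLj _ _).mp (hh j)).2 i hij]
          · subst hij; simp [he, hq]
          · simp [j, Fin.lt_def] at hij; omega)
        simpa using Submodule.add_mem _ h1 (Submodule.smul_mem _ q (Submodule.subset_span ⟨j, rfl⟩))
      · exact ih v hv fun i hi => by omega
  have hNM : ∀ i, (Matrix.of N * M) i = h i := fun i => by
    rw [← hN]; funext l; simp [Matrix.mul_apply, Matrix.vecMul, dotProduct]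
  refine ⟨Matrix.of N, e, ?_, fun i => by rw [hNM]; exact he i, fun i j hij => by
    rw [hNM]; exact ((hLj _ _).mp (hh i)).2 j hij⟩
  have hrow : ∀ i, M i ∈ Submodule.span k⟦X⟧ (Set.range h) := fun i =>
    hspan r (M i) ⟨Pi.single i 1, by simp [Matrix.single_vecMul]; rfl⟩ (fun l hl => absurd hl (by omega))
  choose c hc using fun i => (Submodule.mem_span_range_iff_exists_fun _).mp (hrow i)
  have h2 : Matrix.of c * (Matrix.of N * M) = M := by
    refine Matrix.ext fun i l => ?_
    rw [Matrix.mul_apply]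
    simp only [hNM]
    rw [← congrFun (hc i) l]
    simp
  rw [Matrix.isUnit_iff_isUnit_det]
  have h3 := congrArg Matrix.det h2
  rw [Matrix.det_mul, Matrix.det_mul, ← mul_assoc] at h3
  exact IsUnit.of_mul_eq_one_right _ (mul_right_cancel₀ hM (h3.trans (one_mul _).symm))

/-- Matrices supported on the entries above the diagonal of one column. -/
def IsCol (j : Fin r) (Q : Matrix (Fin r) (Fin r) k⟦X⟧) : Prop := ∀ a b, Q a b ≠ 0 → b = j ∧ a < j

theorem IsCol.isUnit {j : Fin r} {Q : Matrix (Fin r) (Fin r) k⟦X⟧} (hQ : IsCol j Q) : IsUnit (1 + Q) := by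
  refine IsUnit.of_mul_eq_one (1 - Q) ?_
  have : Q * Q = 0 := by
    refine Matrix.ext fun a b => ?_
    rw [Matrix.mul_apply, Finset.sum_eq_zero fun l _ => ?_, Matrix.zero_apply]
    by_contra h
    obtain ⟨h1, h2⟩ := mul_ne_zero_iff.mp h
    exact ((hQ _ _ h2).2).ne ((hQ _ _ h1).1)
  rw [mul_sub, mul_one, add_mul, one_mul, this]; abel

/-- Left multiplication by `1 + Q` changes the columns `≥ j` only. -/
theorem IsCol.mul_apply {j : Fin r} {Q : Matrix (Fin r) (Fin r) k⟦X⟧} (hQ : IsCol j Q)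
    (A : Matrix (Fin r) (Fin r) k⟦X⟧) (a b : Fin r) : ((1 + Q) * A) a b = A a b + Q a j * A j b := by
  rw [add_mul, one_mul, Matrix.add_apply, Matrix.mul_apply, Finset.sum_eq_single j]
  · intro l _ hl
    have : Q a l = 0 := by_contra fun h => hl (hQ _ _ h).1
    simp [this]
  · simp

/-- Reduce column `j` modulo its diagonal entry by row operations. -/
theorem exists_row_step {A : Matrix (Fin r) (Fin r) k⟦X⟧} {e : Fin r → ℕ} (hA : IsTri A e) (j : Fin r) :
    ∃ Q, IsCol j Q ∧ IsTri ((1 + Q) * A) e ∧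
      (∀ a b, b < j → ((1 + Q) * A) a b = A a b) ∧
      ∀ a, a < j → ∀ n, coeff n (((1 + Q) * A) a j) = if e j ≤ n then 0 else coeff n (A a j) := by
  classical
  choose q _ hq using fun a => exists_high (A a j) (e j) fun _ => True
  let Q : Matrix (Fin r) (Fin r) k⟦X⟧ := Matrix.of fun a b => if b = j ∧ a < j then - q a else 0
  have hQ : IsCol j Q := fun a b h => by by_contra h'; simp [Q, h'] at h
  have hlt : ∀ a b, b < j → ((1 + Q) * A) a b = A a b := fun a b hb => by
    rw [hQ.mul_apply, hA.2 j b hb, mul_zero, add_zero]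
  refine ⟨Q, hQ, ⟨fun i => ?_, fun i l hl => ?_⟩, hlt, fun a ha n => ?_⟩
  · rw [hQ.mul_apply]
    rcases lt_or_ge i j with h | h
    · rw [hA.2 j i h, mul_zero, add_zero, hA.1]
    · simp [Q, not_lt.mpr h, hA.1]
  · rw [hQ.mul_apply]
    rcases lt_or_ge i j with h | h
    · rw [hA.2 j l (hl.trans h), hA.2 i l hl, mul_zero, add_zero]
    · simp [Q, not_lt.mpr h, hA.2 i l hl]
  · rw [hQ.mul_apply, hA.1]
    simpa [Q, ha, sub_eq_add_neg] using hq a n

variable (p : ℕ)

/-- Power series in `t ^ p`. -/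
def IsPth (f : k⟦X⟧) : Prop := ∀ n, ¬ p ∣ n → coeff n f = 0

theorem IsPth.add {f g : k⟦X⟧} (hf : IsPth p f) (hg : IsPth p g) : IsPth p (f + g) := fun n hn => by
  rw [map_add, hf n hn, hg n hn, add_zero]

theorem IsPth.sum {ι : Type*} (s : Finset ι) {f : ι → k⟦X⟧} (hf : ∀ i ∈ s, IsPth p (f i)) :
    IsPth p (∑ i ∈ s, f i) := fun n hn => by
  rw [map_sum]; exact Finset.sum_eq_zero fun i hi => hf i hi n hn

theorem IsPth.mul {f g : k⟦X⟧} (hf : IsPth p f) (hg : IsPth p g) : IsPth p (f * g) := fun n hn => by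
  rw [coeff_mul]
  refine Finset.sum_eq_zero fun x hx => ?_
  replace hx := Finset.HasAntidiagonal.mem_antidiagonal.mp hx
  by_cases h : p ∣ x.1
  · rw [hg x.2 fun h' => hn (hx ▸ dvd_add h h'), mul_zero]
  · rw [hf x.1 h, zero_mul]

theorem IsPth.one : IsPth p (1 : k⟦X⟧) := fun n hn => by
  rw [coeff_one, if_neg]; rintro rfl; exact hn (dvd_zero p)

theorem IsPth.zero : IsPth p (0 : k⟦X⟧) := fun _ _ => map_zero _

/-- Remove from column `j` the terms congruent to the diagonal exponents. -/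
theorem exists_col_step {A : Matrix (Fin r) (Fin r) k⟦X⟧} {e : Fin r → ℕ} (hA : IsTri A e) (j : Fin r) :
    ∃ C, IsCol j C ∧ (∀ a b, IsPth p (C a b)) ∧ IsTri (A * (1 + C)) e ∧
      (∀ a b, b ≠ j → (A * (1 + C)) a b = A a b) ∧
      ∀ a, a < j → ∀ n, e a ≤ n → n % p = e a % p → coeff n ((A * (1 + C)) a j) = 0 := by
  classical
  suffices H : ∀ d : ℕ, ∃ c : Fin r → k⟦X⟧, (∀ i, IsPth p (c i)) ∧ (∀ i, ¬ i < j → c i = 0) ∧
      ∀ a : Fin r, a < j → j.val ≤ a.val + d → ∀ n, e a ≤ n → n % p = e a % p →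
        coeff n (A a j + ∑ i, A a i * c i) = 0 by
    obtain ⟨c, hc, hc0, hgood⟩ := H r
    let C : Matrix (Fin r) (Fin r) k⟦X⟧ := Matrix.of fun a b => if b = j then c a else 0
    have hmul : ∀ a b, (A * (1 + C)) a b = A a b + if b = j then ∑ i, A a i * c i else 0 := fun a b => by
      rw [mul_add, mul_one, Matrix.add_apply, Matrix.mul_apply]
      split_ifs with h <;> simp [C, h]
    refine ⟨C, fun a b h => ?_, fun a b => ?_, ⟨fun i => ?_, fun i l hl => ?_⟩, fun a b hb => ?_, fun a ha n => ?_⟩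
    · simp [C] at h
      exact ⟨h.1, by_contra fun h' => h.2 (hc0 a h')⟩
    · simp only [C, Matrix.of_apply]; split_ifs
      · exact hc a
      · exact IsPth.zero p
    · rw [hmul, hA.1]
      split_ifs with h
      · subst h
        rw [Finset.sum_eq_zero fun l _ => ?_, add_zero]
        rcases lt_or_ge l i with h | h
        · simp [hA.2 i l h]
        · simp [hc0 l (not_lt.mpr h)]
      · simp
    · rw [hmul, hA.2 i l hl]
      split_ifs with h
      · subst h
        rw [Finset.sum_eq_zero fun b _ => ?_, add_zero]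
        rcases lt_or_ge b l with h | h
        · simp [hA.2 i b (h.trans hl)]
        · simp [hc0 b (not_lt.mpr h)]
      · simp
    · rw [hmul, if_neg hb, add_zero]
    · rw [hmul, if_pos rfl]
      exact hgood a ha (by have := j.isLt; omega) n
  intro d
  induction d with
  | zero => exact ⟨0, fun _ => IsPth.zero p, fun _ _ => rfl, fun a ha h => absurd h (by omega)⟩
  | succ d ih =>
    obtain ⟨c, hc, hc0, hgood⟩ := ih
    by_cases hd : d + 1 ≤ j.val
    · let a₀ : Fin r := ⟨j.val - (d + 1), by omega⟩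
      obtain ⟨q, hq0, hq⟩ := exists_high (A a₀ j + ∑ i, A a₀ i * c i) (e a₀) fun n => p ∣ n
      refine ⟨(c + Pi.single a₀ (-q) : Fin r → k⟦X⟧), fun i => ?_, fun i hi => ?_, fun a ha had n hn hmod => ?_⟩
      · refine IsPth.add p (hc i) ?_
        by_cases h : i = a₀
        · subst h; intro n hn; simp [hq0 n hn]
        · rw [Pi.single_eq_of_ne h]; exact IsPth.zero p
      · have : i ≠ a₀ := by intro h; subst h; exact hi (by simp [a₀, Fin.lt_def]; omega)
        simp [hc0 i hi, Pi.single_eq_of_ne this]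
      · have hs : ∑ i, A a i * (c + Pi.single a₀ (-q) : Fin r → k⟦X⟧) i = (∑ i, A a i * c i) + A a a₀ * (-q) := by
          simp [mul_add, Finset.sum_add_distrib, Pi.single_apply]
        rw [hs, ← add_assoc]
        by_cases h : a = a₀
        · subst h
          rw [hA.1, mul_neg, ← sub_eq_add_neg, mul_comm, hq, if_pos]
          exact ⟨hn, (Nat.modEq_iff_dvd' hn).mp hmod.symm⟩
        · have hlt : a₀ < a := by
            have : a.val ≠ a₀.val := fun h' => h (Fin.ext h')
            have : a₀.val = j.val - (d + 1) := rfl; omega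
          rw [hA.2 a a₀ hlt, zero_mul, add_zero]
          exact hgood a ha (by have : a₀.val = j.val - (d + 1) := rfl; omega) n hn hmod
    · exact ⟨c, hc, hc0, fun a ha _ => hgood a ha (by omega)⟩

/-- Reduced form using row operations, and column operations over `k[[t ^ p]]` when `cong`. -/
theorem exists_reduced (cong : Prop) (M : Matrix (Fin r) (Fin r) k⟦X⟧) (hM : M.det ≠ 0) :
    ∃ (N P : Matrix (Fin r) (Fin r) k⟦X⟧) (e : Fin r → ℕ), IsUnit N ∧ IsUnit P ∧ (∀ a b, IsPth p (P a b)) ∧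
      (¬ cong → P = 1) ∧ IsTri (N * M * P) e ∧
      ∀ i j, i < j → ∀ n, (e j ≤ n ∨ (cong ∧ e i ≤ n ∧ n % p = e i % p)) → coeff n ((N * M * P) i j) = 0 := by
  classical
  suffices H : ∀ m : ℕ, ∃ (N P : Matrix (Fin r) (Fin r) k⟦X⟧) (e : Fin r → ℕ), IsUnit N ∧ IsUnit P ∧
      (∀ a b, IsPth p (P a b)) ∧ (¬ cong → P = 1) ∧ IsTri (N * M * P) e ∧
      ∀ i j, i < j → j.val < m → ∀ n, (e j ≤ n ∨ (cong ∧ e i ≤ n ∧ n % p = e i % p)) →
        coeff n ((N * M * P) i j) = 0 by
    obtain ⟨N, P, e, h1, h2, h3, h4, h5, h6⟩ := H r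
    exact ⟨N, P, e, h1, h2, h3, h4, h5, fun i j h => h6 i j h j.isLt⟩
  intro m
  induction m with
  | zero =>
    obtain ⟨N, e, hN, hT⟩ := exists_tri M hM
    refine ⟨N, 1, e, hN, isUnit_one, fun a b => ?_, fun _ => rfl, by rwa [mul_one], fun i j _ h => absurd h (by omega)⟩
    rw [Matrix.one_apply]; split_ifs
    · exact IsPth.one p
    · exact IsPth.zero p
  | succ m ih =>
    obtain ⟨N, P, e, hN, hP, hPp, hP1, hT, hgood⟩ := ih
    by_cases hm : m < r
    · let j : Fin r := ⟨m, hm⟩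
      obtain ⟨C, hC1, hC2, hC3, hC4, hC5⟩ : ∃ C, IsUnit (1 + C) ∧ ((∀ a b, IsPth p (C a b)) ∧ (¬ cong → C = 0)) ∧
          IsTri (N * M * P * (1 + C)) e ∧ (∀ a b, b ≠ j → (N * M * P * (1 + C)) a b = (N * M * P) a b) ∧
          (cong → ∀ a, a < j → ∀ n, e a ≤ n → n % p = e a % p → coeff n ((N * M * P * (1 + C)) a j) = 0) := by
        by_cases hc : cong
        · obtain ⟨C, h1, h2, h3, h4, h5⟩ := exists_col_step p hT j
          exact ⟨C, h1.isUnit, ⟨h2, fun h => absurd hc h⟩, h3, h4, fun _ => h5⟩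
        · exact ⟨0, by simp, ⟨fun _ _ => IsPth.zero p, fun _ => rfl⟩, by simpa using hT, by simp, fun h => absurd h hc⟩
      obtain ⟨Q, hQ1, hQ3, hQ4, hQ5⟩ := exists_row_step hC3 j
      have heq : (1 + Q) * (N * M * P * (1 + C)) = (1 + Q) * N * M * (P * (1 + C)) := by
        simp only [mul_assoc]
      rw [heq] at hQ3 hQ4 hQ5
      refine ⟨(1 + Q) * N, P * (1 + C), e, hQ1.isUnit.mul hN, hP.mul hC1, fun a b => ?_, fun h => ?_, hQ3,
        fun a b hab hb n hn => ?_⟩
      · rw [Matrix.mul_apply]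
        refine IsPth.sum p _ fun l _ => IsPth.mul p (hPp a l) (IsPth.add p ?_ (hC2.1 l b))
        rw [Matrix.one_apply]; split_ifs
        · exact IsPth.one p
        · exact IsPth.zero p
      · rw [hP1 h, hC2.2 h, add_zero, mul_one]
      · rcases eq_or_ne b j with rfl | hbj
        · rw [hQ5 a hab]
          split_ifs with hej
          · rfl
          · rcases hn with hn | ⟨hc, h1, h2⟩
            · exact absurd hn hej
            · exact hC5 hc a hab n h1 h2
        · have hbj' : b < j := lt_of_le_of_ne (by simp [j, Fin.le_def]; omega) hbj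
          rw [hQ4 a b hbj', hC4 a b hbj]
          exact hgood a b hab hbj' n hn
    · exact ⟨N, P, e, hN, hP, hPp, hP1, hT, fun a b hab _ => hgood a b hab (by have := b.isLt; omega)⟩

/-- Row reduced. -/
def IsRed (H : Matrix (Fin r) (Fin r) k⟦X⟧) (e : Fin r → ℕ) : Prop :=
  IsTri H e ∧ ∀ i j, i < j → ∀ n, e j ≤ n → coeff n (H i j) = 0

theorem red_unique {H H' U V : Matrix (Fin r) (Fin r) k⟦X⟧} {e e' : Fin r → ℕ}
    (hH : IsRed H e) (hH' : IsRed H' e') (hU : U * H = H') (hV : V * H' = H) : H = H' := by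
  have col : ∀ (H H' U : Matrix (Fin r) (Fin r) k⟦X⟧) (e : Fin r → ℕ), IsTri H e → U * H = H' →
      ∀ k₀ : Fin r, (∀ l < k₀, ∀ i, U i l = (1 : Matrix (Fin r) (Fin r) k⟦X⟧) i l) →
      ∀ i, H' i k₀ = (if i < k₀ then H i k₀ else 0) + U i k₀ * X ^ e k₀ := by
    intro H H' U e hH hU k₀ hk i
    rw [← hU, Matrix.mul_apply, ← Finset.sum_filter_add_sum_filter_not _ (fun l => l < k₀)]
    congr 1
    · rw [Finset.sum_congr rfl fun l hl => by rw [hk l (Finset.mem_filter.mp hl).2 i, Matrix.one_apply, ite_mul, one_mul, zero_mul]]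
      rw [Finset.sum_ite_eq]
      simp
    · rw [Finset.sum_eq_single k₀, hH.1]
      · intro l hl hlk
        rw [hH.2 l k₀ (lt_of_le_of_ne (not_lt.mp (Finset.mem_filter.mp hl).2) hlk.symm), mul_zero]
      · simp
  suffices key : ∀ n : ℕ, ∀ k₀ : Fin r, k₀.val < n → ∀ i,
      U i k₀ = (1 : Matrix (Fin r) (Fin r) k⟦X⟧) i k₀ ∧ V i k₀ = (1 : Matrix (Fin r) (Fin r) k⟦X⟧) i k₀ by
    have hU1 : U = 1 := Matrix.ext fun i l => (key r l l.isLt i).1
    rw [← hU, hU1, one_mul]
  intro n
  induction n with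
  | zero => intro k₀ h; omega
  | succ n ih =>
    intro k₀ hk₀ i
    have a := col H H' U e hH.1 hU k₀ fun l hl i => (ih l (by omega) i).1
    have b := col H' H V e' hH'.1 hV k₀ fun l hl i => (ih l (by omega) i).2
    have aa := a k₀
    have bb := b k₀
    rw [hH'.1.1, if_neg (lt_irrefl _), zero_add] at aa
    rw [hH.1.1, if_neg (lt_irrefl _), zero_add] at bb
    have ee : e k₀ = e' k₀ := by
      refine le_antisymm ?_ ?_
      · have := congrArg (coeff (e' k₀)) aa
        rw [coeff_X_pow_self, coeff_mul_X_pow'] at this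
        by_contra hcon
        rw [if_neg hcon] at this
        exact one_ne_zero this
      · have := congrArg (coeff (e k₀)) bb
        rw [coeff_X_pow_self, coeff_mul_X_pow'] at this
        by_contra hcon
        rw [if_neg hcon] at this
        exact one_ne_zero this
    have hX : (X : k⟦X⟧) ^ e k₀ ≠ 0 := pow_ne_zero _ PowerSeries.X_ne_zero
    rcases lt_trichotomy i k₀ with h | h | h
    · have hz : ∀ (G G' W : k⟦X⟧) (E : ℕ), (∀ n, E ≤ n → coeff n G = 0) → (∀ n, E ≤ n → coeff n G' = 0) →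
          G' = G + W * X ^ E → W = 0 := by
        intro G G' W E h1 h2 h3
        ext m
        have := congrArg (coeff (m + E)) h3
        rw [map_add, h1 _ (by omega), h2 _ (by omega), zero_add, coeff_mul_X_pow] at this
        simpa using this.symm
      have a' := a i
      have b' := b i
      rw [if_pos h] at a' b'
      rw [Matrix.one_apply_ne h.ne]
      exact ⟨hz _ _ _ _ (hH.2 i k₀ h) (fun m hm => hH'.2 i k₀ h m (ee ▸ hm)) a',
        hz _ _ _ _ (hH'.2 i k₀ h) (fun m hm => hH.2 i k₀ h m (ee.symm ▸ hm)) b'⟩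
    · subst h
      rw [Matrix.one_apply_eq]
      constructor
      · refine mul_right_cancel₀ hX ?_
        rw [one_mul, ← aa, ee]
      · refine mul_right_cancel₀ hX ?_
        rw [one_mul]
        conv_lhs => rw [ee]
        rw [← bb]
    · have a' := a i
      have b' := b i
      rw [if_neg (asymm h), zero_add] at a' b'
      rw [hH'.1.2 i k₀ h] at a'
      rw [hH.1.2 i k₀ h] at b'
      rw [Matrix.one_apply_ne h.ne']
      exact ⟨(mul_eq_zero.mp a'.symm).resolve_right hX,
        (mul_eq_zero.mp b'.symm).resolve_right (pow_ne_zero _ PowerSeries.X_ne_zero)⟩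

end Groth.Agent.Hopf35.Hermite
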