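import Mathlib
import Groth.Agent.Hopf35.Basic
import Groth.Prelude.Def_Hoch
import Groth.Prelude.Def_ComodTens
import Groth.Prelude.Def_ComodDual

/-!
Invariants of `B ⊗ M^*` are the comodule maps `M → B`, over a commutative base ring.
-/

universe u v w w'

open TensorProduct

noncomputable section

namespace Groth.Agent.Hopf35.HomInv

variable {k : Type u} [CommRing k] {A : Type v} [CommRing A] [HopfAlgebra k A]
variable {V : Type w'} [AddCommGroup V] [Module k V] {W : Type w} [AddCommGroup W] [Module k W]

/-- multiply the two algebra components -/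
def mulR (W : Type*) [AddCommGroup W] [Module k W] : (W ⊗[k] A) ⊗[k] A →ₗ[k] W ⊗[k] A :=
  (LinearMap.mul' k A).lTensor W ∘ₗ (TensorProduct.assoc k W A A).toLinearMap

@[simp] theorem mulR_tmul {W : Type*} [AddCommGroup W] [Module k W] (w : W) (a b : A) :
    mulR (k := k) W ((w ⊗ₜ[k] a) ⊗ₜ[k] b) = w ⊗ₜ[k] (a * b) := by
  simp [mulR]

variable (cV : HopfRep.Comod k A V) (cW : HopfRep.Comod k A W)

/-- `v ↦ Σ φ(v₀)₀ ⊗ φ(v₀)₁ S(v₁)` -/
def conjFun (φ : V →ₗ[k] W) : V →ₗ[k] W ⊗[k] A :=
  mulR W ∘ₗ TensorProduct.map (cW.coact ∘ₗ φ) (HopfAlgebraStruct.antipode (R := k) (A := A)) ∘ₗ cV.coact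

theorem mulR_map_coact_antipode (v : V) :
    mulR V (TensorProduct.map cV.coact (HopfAlgebraStruct.antipode (R := k) (A := A)) (cV.coact v)) =
      v ⊗ₜ[k] (1 : A) := by
  let μ := LinearMap.mul' k A ∘ₗ (HopfAlgebraStruct.antipode (R := k) (A := A)).lTensor A
  have h1 : ∀ t : V ⊗[k] A, mulR V (TensorProduct.map cV.coact
      (HopfAlgebraStruct.antipode (R := k) (A := A)) t) =
      μ.lTensor V (TensorProduct.assoc k V A A (cV.coact.rTensor A t)) := by
    intro t
    induction t with
    | zero => simp
    | add x y hx hy => simp only [map_add, hx, hy]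
    | tmul n b =>
      simp only [map_tmul, LinearMap.rTensor_tmul]
      generalize cV.coact n = s
      induction s with
      | zero => simp
      | add x y hx hy => simp only [map_add, add_tmul, hx, hy]
      | tmul m a => simp [μ]
  have hco := LinearMap.congr_fun cV.coassoc v
  simp only [LinearMap.comp_apply, LinearEquiv.coe_coe] at hco
  have hcu := LinearMap.congr_fun cV.counit_comp v
  simp only [LinearMap.comp_apply, LinearMap.flip_apply, TensorProduct.mk_apply] at hcu
  rw [h1, hco]
  have hμ : μ ∘ₗ CoalgebraStruct.comul (R := k) (A := A) =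
      Algebra.linearMap k A ∘ₗ CoalgebraStruct.counit := by
    ext a
    simp [μ, HopfAlgebra.mul_antipode_lTensor_comul_apply]
  rw [← LinearMap.comp_apply, ← LinearMap.lTensor_comp, hμ, LinearMap.lTensor_comp,
    LinearMap.comp_apply, hcu]
  simp

theorem mulR_rTensor (g : V →ₗ[k] W) (t : (V ⊗[k] A) ⊗[k] A) :
    mulR (k := k) W ((g.rTensor A).rTensor A t) = g.rTensor A (mulR (k := k) V t) := by
  induction t with
  | zero => simp
  | add x y hx hy => simp only [map_add, hx, hy]
  | tmul x b =>
    induction x with
    | zero => simp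
    | add x y hx hy => simp only [map_add, add_tmul, hx, hy]
    | tmul m a => simp

theorem isComodHom_iff (φ : V →ₗ[k] W) :
    cW.coact ∘ₗ φ = φ.rTensor A ∘ₗ cV.coact ↔ ∀ v, conjFun cV cW φ v = φ v ⊗ₜ[k] (1 : A) := by
  constructor
  · intro hφ v
    simp only [conjFun, LinearMap.comp_apply, hφ]
    have : ∀ t : V ⊗[k] A, TensorProduct.map (φ.rTensor A ∘ₗ cV.coact)
        (HopfAlgebraStruct.antipode (R := k) (A := A)) t = (φ.rTensor A).rTensor A
          (TensorProduct.map cV.coact (HopfAlgebraStruct.antipode (R := k) (A := A)) t) := by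
      intro t
      induction t with
      | zero => simp
      | add x y hx hy => simp only [map_add, hx, hy]
      | tmul n b => simp
    rw [this, mulR_rTensor, mulR_map_coact_antipode]
    simp
  · intro h
    refine LinearMap.ext fun v => ?_
    simp only [LinearMap.comp_apply]
    let ν := LinearMap.mul' k A ∘ₗ (HopfAlgebraStruct.antipode (R := k) (A := A)).rTensor A
    let G : V ⊗[k] (A ⊗[k] A) →ₗ[k] W ⊗[k] A := mulR W ∘ₗ TensorProduct.map (cW.coact ∘ₗ φ) ν
    have hco := LinearMap.congr_fun cV.coassoc v
    simp only [LinearMap.comp_apply, LinearEquiv.coe_coe] at hco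
    have hcu := LinearMap.congr_fun cV.counit_comp v
    simp only [LinearMap.comp_apply, LinearMap.flip_apply, TensorProduct.mk_apply] at hcu
    have h2 : mulR W ((conjFun cV cW φ).rTensor A (cV.coact v)) =
        G (TensorProduct.assoc k V A A (cV.coact.rTensor A (cV.coact v))) := by
      generalize cV.coact v = t
      induction t with
      | zero => simp
      | add x y hx hy => simp only [map_add, hx, hy]
      | tmul n b =>
        simp only [LinearMap.rTensor_tmul, conjFun, LinearMap.comp_apply]
        generalize cV.coact n = s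
        induction s with
        | zero => simp
        | add x y hx hy => simp only [map_add, add_tmul, hx, hy]
        | tmul m a =>
          simp only [G, ν, assoc_tmul, map_tmul, LinearMap.comp_apply, LinearMap.rTensor_tmul,
            LinearMap.mul'_apply]
          generalize cW.coact (φ m) = r
          induction r with
          | zero => simp
          | add x y hx hy => simp only [map_add, add_tmul, hx, hy]
          | tmul p q => simp [mul_assoc]
    have h3 : mulR W ((conjFun cV cW φ).rTensor A (cV.coact v)) = φ.rTensor A (cV.coact v) := by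
      generalize cV.coact v = t
      induction t with
      | zero => simp
      | add x y hx hy => simp only [map_add, hx, hy]
      | tmul n b => simp [h]
    rw [← h3, h2, hco]
    have h4 : ∀ t : V ⊗[k] A, G ((CoalgebraStruct.comul (R := k) (A := A)).lTensor V t) =
        cW.coact (φ (TensorProduct.rid k V
          ((CoalgebraStruct.counit (R := k) (A := A)).lTensor V t))) := by
      intro t
      induction t with
      | zero => simp
      | add x y hx hy => simp only [map_add, hx, hy]
      | tmul n a =>
        simp only [G, ν, LinearMap.lTensor_tmul, LinearMap.comp_apply, map_tmul,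
          HopfAlgebra.mul_antipode_rTensor_comul_apply, rid_tmul, map_smul]
        generalize cW.coact (φ n) = r
        induction r with
        | zero => simp
        | add x y hx hy => simp only [map_add, add_tmul, smul_add, hx, hy]
        | tmul p q => simp [Algebra.algebraMap_eq_smul_one, smul_tmul']
    rw [h4, hcu]
    simp

theorem bijOn_fixedPts [Module.Flat k A] [Module.Flat k W] [Module.FinitePresentation k V]
    (d : HopfRep.Comod k A (Module.Dual k V)) (hd : ComodTens.Comod.IsDual cV d) :
    Set.BijOn
      (fun x : W ⊗[k] Module.Dual k V => dualTensorHom k V W (TensorProduct.comm k W (Module.Dual k V) x))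
      ((@HopfRep.fixedPts k A _ _ _ (W ⊗[k] Module.Dual k V) _ _ (ComodTens.Comod.tensor cW d)) :
        Set (W ⊗[k] Module.Dual k V))
      {h : V →ₗ[k] W | @Hoch.IsComodHom k _ A _ _ _ V _ _ cV W _ _ cW h} := by
  have hbij : Function.Bijective fun x : W ⊗[k] Module.Dual k V =>
      dualTensorHom k V W (TensorProduct.comm k W (Module.Dual k V) x) :=
    (dualTensorHom_bijective_of_flat (R := k) V W).comp (TensorProduct.comm k W (Module.Dual k V)).bijective
  let e : (W ⊗[k] Module.Dual k V) ⊗[k] A ≃ₗ[k] Module.Dual k V ⊗[k] (W ⊗[k] A) :=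
    TensorProduct.congr (TensorProduct.comm k W (Module.Dual k V)) (LinearEquiv.refl k A) ≪≫ₗ
      TensorProduct.assoc k (Module.Dual k V) W A
  have he : Function.Injective fun z => dualTensorHom k V (W ⊗[k] A) (e z) :=
    (dualTensorHom_bijective_of_flat (R := k) V (W ⊗[k] A)).1.comp e.injective
  have key : ∀ x, dualTensorHom k V (W ⊗[k] A) (e ((ComodTens.Comod.tensor cW d).coact x)) =
      conjFun cV cW (dualTensorHom k V W (TensorProduct.comm k W (Module.Dual k V) x)) := by
    intro x
    induction x with
    | zero => simp [conjFun]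
    | add x y hx hy =>
      simp only [map_add, hx, hy]
      refine LinearMap.ext fun v => ?_
      simp only [conjFun, LinearMap.add_apply, LinearMap.comp_apply, LinearMap.comp_add,
        TensorProduct.map_add_left, map_add]
    | tmul w f =>
      refine LinearMap.ext fun v => ?_
      rw [ComodTens.tensor_coact_tmul]
      have key' : ∀ (y : W ⊗[k] A) (z : Module.Dual k V ⊗[k] A),
          dualTensorHom k V (W ⊗[k] A) (e (TensorProduct.map LinearMap.id (LinearMap.mul' k A)
            (AlgebraTensorModule.tensorTensorTensorComm k k k k W A (Module.Dual k V) A (y ⊗ₜ[k] z)))) v =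
          mulR W (y ⊗ₜ[k] dualTensorHom k V A z v) := by
        intro y z
        induction y with
        | zero => simp
        | add y y' hy hy' => simp only [map_add, add_tmul, LinearMap.add_apply, hy, hy']
        | tmul m b =>
          induction z with
          | zero => simp
          | add z z' hz hz' => simp only [map_add, tmul_add, LinearMap.add_apply, hz, hz']
          | tmul g a => simp [e, smul_tmul, tmul_smul]
      rw [key', hd f, ComodTens.dualCoactFun_apply]
      simp only [conjFun, LinearMap.comp_apply]
      generalize cV.coact v = t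
      induction t with
      | zero => simp
      | add p q hp hq => simp only [map_add, tmul_add, hp, hq]
      | tmul n b => simp [smul_tmul', tmul_smul]
  have hone : ∀ x v, dualTensorHom k V (W ⊗[k] A) (e (x ⊗ₜ[k] (1 : A))) v =
      dualTensorHom k V W (TensorProduct.comm k W (Module.Dual k V) x) v ⊗ₜ[k] (1 : A) := by
    intro x v
    induction x with
    | zero => simp
    | add x y hx hy => simp only [map_add, add_tmul, LinearMap.add_apply, hx, hy]
    | tmul w f => simp [e, smul_tmul']
  have hiff : ∀ x, x ∈ @HopfRep.fixedPts k A _ _ _ (W ⊗[k] Module.Dual k V) _ _ (ComodTens.Comod.tensor cW d) ↔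
      @Hoch.IsComodHom k _ A _ _ _ V _ _ cV W _ _ cW (dualTensorHom k V W (TensorProduct.comm k W (Module.Dual k V) x)) := by
    intro x
    rw [Hoch.IsComodHom, isComodHom_iff cV cW]
    change (ComodTens.Comod.tensor cW d).coact x = x ⊗ₜ[k] (1 : A) ↔ _
    rw [← he.eq_iff, LinearMap.ext_iff]
    simp only [key, hone]
  exact ⟨fun x hx => (hiff x).1 hx, hbij.1.injOn, fun h hh => by
    obtain ⟨x, rfl⟩ := hbij.2 h
    exact ⟨x, (hiff x).2 hh, rfl⟩⟩

end Groth.Agent.Hopf35.HomInv
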