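import Mathlib
import Groth.Prelude.Def_ComodTens
import Groth.Prelude.Def_GLin5
import Groth.Agent.Comod33.TensorGen
import Groth.Agent.Comod33.Avg
import Groth.Agent.Hopf35.CayleyInt

/-! Homogeneous representations of `GLₙ` are summands of twisted tensor powers (characteristic zero). -/

set_option autoImplicit false

noncomputable section

open TensorProduct
open Groth.Agent.Comod33 Groth.Agent.Comod33.TensorGen

namespace Groth.Agent.Hopf35.HomogRep

universe u w

section general

variable {k : Type u} [Field k] {A : Type u} [CommRing A] [HopfAlgebra k A]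
variable {M : Type w} [AddCommGroup M] [Module k M] (c : HopfRep.Comod k A M)

theorem co_add (ψ : M →ₗ[k] k) (x y : M) : co c ψ (x + y) = co c ψ x + co c ψ y := by simp [co]

/-- matrix coefficients as a map to `A` -/
def coHom (ψ : M →ₗ[k] k) : M →ₗ[k] A := lc ψ ∘ₗ c.coact

theorem coHom_apply (ψ : M →ₗ[k] k) (x : M) : coHom c ψ x = co c ψ x := rfl

theorem counit_co (ψ : M →ₗ[k] k) (x : M) : CoalgebraStruct.counit (R := k) (co c ψ x) = ψ x := by
  have h : ∀ t : M ⊗[k] A, CoalgebraStruct.counit (R := k) (lc ψ t) =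
      ψ (TensorProduct.rid k M ((CoalgebraStruct.counit (R := k) (A := A)).lTensor M t)) := by
    intro t
    induction t with
    | zero => simp
    | tmul m a => simp [mul_comm]
    | add p q hp hq => simp only [map_add, hp, hq]
  rw [co, h]
  letI := c
  rw [counit_apply]
  simp

theorem comul_co (ψ : M →ₗ[k] k) (x : M) :
    CoalgebraStruct.comul (R := k) (co c ψ x) = (coHom c ψ).rTensor A (c.coact x) := by
  letI := c
  have h : ∀ t : M ⊗[k] A, CoalgebraStruct.comul (R := k) (lc ψ t) =
      lc ψ ((CoalgebraStruct.comul (R := k) (A := A)).lTensor M t) := by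
    intro t
    induction t with
    | zero => simp
    | tmul m a => simp
    | add p q hp hq => simp only [map_add, hp, hq]
  rw [co, h, ← coassoc_apply]
  generalize c.coact x = y
  induction y with
  | zero => simp
  | tmul p a =>
    rw [LinearMap.rTensor_tmul, LinearMap.rTensor_tmul, coHom_apply, co]
    generalize c.coact p = z
    induction z with
    | zero => simp
    | tmul q b => simp [TensorProduct.smul_tmul']
    | add z z' hz hz' => simp only [TensorProduct.add_tmul, map_add, hz, hz']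
  | add p q hp hq => simp only [map_add, hp, hq]

theorem hopfMod_trivial : (letI : HopfRep.Comod k A k := HopfRep.Comod.trivial k A k; letI := c; TameAct.IsHopfMod k A k M) := by
  letI : HopfRep.Comod k A k := HopfRep.Comod.trivial k A k
  letI := c
  exact ⟨fun b m => by
    show HopfRep.Comod.coact (k := k) (A := A) (b • m) = TameAct.hmSMul k A k M (b ⊗ₜ[k] (1 : A)) _
    rw [map_smul]
    generalize HopfRep.Comod.coact (k := k) (A := A) m = x
    induction x with
    | zero => simp
    | tmul p q => simp [TensorProduct.smul_tmul']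
    | add p q hp hq => simp only [map_add, smul_add, hp, hq]⟩

variable {N : Type w} [AddCommGroup N] [Module k N]

theorem avg_natural {X : Type*} [AddCommGroup X] [Module k X] [HopfRep.Comod k A k] [HopfRep.Comod k A M] [HopfRep.Comod k A X] (α : A →ₗ[k] k) {F : M →ₗ[k] X}
    (hF : Hoch.IsComodHom A F) (x : M ⊗[k] A) : Avg.avg α (F.rTensor A x) = F (Avg.avg α x) := by
  induction x with
  | zero => simp
  | add p q hp hq => simp only [map_add, hp, hq]
  | tmul m a =>
    rw [LinearMap.rTensor_tmul, Avg.avg_tmul, Avg.avg_tmul,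
      show HopfRep.Comod.coact (k := k) (A := A) (F m) = F.rTensor A (HopfRep.Comod.coact (k := k) (A := A) m)
        from LinearMap.congr_fun hF m]
    generalize HopfRep.Comod.coact (k := k) (A := A) m = y
    induction y with
    | zero => simp
    | tmul n b => simp
    | add p q hp hq => simp only [map_add, hp, hq]

theorem exists_retract (α : A →ₗ[k] k)
    (hα : @Hoch.IsComodHom k _ A _ _ _ A _ _ _ k _ _ (HopfRep.Comod.trivial k A k) α) (h1 : α 1 = 1)
    (d : HopfRep.Comod k A N) {ι : Type*} (Φ : ι → (M →ₗ[k] k)) (η : ι → (N →ₗ[k] k))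
    (hsep : ∀ v, (∀ i, η i v = 0) → v = 0) (s : N →ₗ[k] M) (hs : ∀ i v, co c (Φ i) (s v) = co d (η i) v) :
    ∃ (i : N →ₗ[k] M) (p : M →ₗ[k] N), p ∘ₗ i = LinearMap.id ∧
      @Hoch.IsComodHom k _ A _ _ _ N _ _ d M _ _ c i ∧ @Hoch.IsComodHom k _ A _ _ _ M _ _ c N _ _ d p := by
  letI : HopfRep.Comod k A k := HopfRep.Comod.trivial k A k
  letI := c
  letI := d
  haveI := hopfMod_trivial c
  haveI := hopfMod_trivial d
  letI creg : HopfRep.Comod k A A := HopfRep.Comod.regular k A
  let i : N →ₗ[k] M := Avg.avgMap α s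
  have hi : Hoch.IsComodHom A i := Avg.isComodHom_avgMap hα s
  have hco : ∀ (ψ : M →ₗ[k] k), Hoch.IsComodHom A (coHom c ψ) := fun ψ =>
    LinearMap.ext fun x => comul_co c ψ x
  have hcod : ∀ (ψ : N →ₗ[k] k), Hoch.IsComodHom A (coHom d ψ) := fun ψ =>
    LinearMap.ext fun x => comul_co d ψ x
  have hiv : ∀ j v, co c (Φ j) (i v) = co d (η j) v := by
    intro j v
    rw [← coHom_apply, ← coHom_apply]
    show coHom c (Φ j) (Avg.avg α (s.rTensor A (d.coact v))) = _
    rw [← avg_natural α (hco (Φ j)), ← LinearMap.rTensor_comp_apply,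
      show coHom c (Φ j) ∘ₗ s = coHom d (η j) from LinearMap.ext fun v => hs j v, avg_natural α (hcod (η j)),
      Avg.avg_coact h1]
  have hinj : LinearMap.ker i = ⊥ := LinearMap.ker_eq_bot'.2 fun v hv => hsep v fun j => by
    have := hiv j v
    rw [hv, show co c (Φ j) 0 = 0 by simp [co]] at this
    rw [← counit_co d, ← this, map_zero]
  obtain ⟨p₀, hp₀⟩ := LinearMap.exists_leftInverse_of_injective i hinj
  refine ⟨i, Avg.avgMap α p₀, LinearMap.ext fun v => ?_, hi, Avg.isComodHom_avgMap hα p₀⟩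
  show Avg.avg α (p₀.rTensor A (c.coact (i v))) = v
  rw [show c.coact (i v) = i.rTensor A (d.coact v) from LinearMap.congr_fun hi v,
    ← LinearMap.rTensor_comp_apply, hp₀, LinearMap.rTensor_id, LinearMap.id_apply]
  exact Avg.avg_coact h1 v

theorem co_twist (g : A) (hg : IsGroupLikeElem k g) (ψ : M →ₗ[k] k) (x : M) :
    co (ComodTens.Comod.twist c g hg) ψ x = co c ψ x * g := by
  show lc ψ ((LinearMap.mulRight k g).lTensor M (c.coact x)) = _
  rw [lc_lTensor]
  rfl

theorem co_pi_single {ι : Type*} [Fintype ι] [DecidableEq ι] (cs : ι → HopfRep.Comod k A M)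
    (Φ : (ι → M) →ₗ[k] k) (i : ι) (x : M) :
    co (ComodTens.Comod.pi cs) Φ (Pi.single i x) = co (cs i) (Φ ∘ₗ LinearMap.single k (fun _ => M) i) x := by
  show lc Φ ((ComodTens.Comod.pi cs).coact (Pi.single i x)) = _
  rw [ComodTens.pi_coact_single, lc_rTensor]
  rfl

/-- coefficients of the `m`-th tensor power -/
def spanDeg (m : ℕ) : Submodule k A :=
  Submodule.span k {a | ∃ (ψ : TensorPower k m M →ₗ[k] k) (x : TensorPower k m M),
    co (ComodTens.Comod.tpow c m) ψ x = a}

theorem one_mem_spanDeg : (1 : A) ∈ spanDeg c 0 := by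
  refine Submodule.subset_span ⟨(PiTensorProduct.isEmptyEquiv (Fin 0)).toLinearMap,
    (PiTensorProduct.isEmptyEquiv (Fin 0)).symm 1, ?_⟩
  have h := co_ofEquiv (HopfRep.Comod.trivial k A k)
    (PiTensorProduct.isEmptyEquiv (R := k) (s := fun _ : Fin 0 => M) (Fin 0)).symm LinearMap.id 1
  refine h.trans ?_
  show lc LinearMap.id ((1 : k) ⊗ₜ[k] (1 : A)) = 1
  simp

theorem mul_mem_spanDeg {m : ℕ} {a : A} (ha : a ∈ spanDeg c m) (η : M →ₗ[k] k) (y : M) :
    a * co c η y ∈ spanDeg c (m + 1) := by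
  induction ha using Submodule.span_induction with
  | zero => simp
  | add p q _ _ hp hq => rw [add_mul]; exact Submodule.add_mem _ hp hq
  | smul r p _ hp => rw [smul_mul_assoc]; exact Submodule.smul_mem _ r hp
  | mem p hp =>
    obtain ⟨ψ, x, rfl⟩ := hp
    refine Submodule.subset_span ⟨
      ((TensorProduct.lid k k).toLinearMap ∘ₗ TensorProduct.map ψ
        (η ∘ₗ (PiTensorProduct.subsingletonEquiv (R := k) (s := fun _ : Fin 1 => M) (0 : Fin 1)).toLinearMap)) ∘ₗ
        (TensorPower.mulEquiv (R := k) (M := M) (n := m) (m := 1)).symm.toLinearMap,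
      TensorPower.mulEquiv (x ⊗ₜ[k]
        (PiTensorProduct.subsingletonEquiv (R := k) (s := fun _ : Fin 1 => M) (0 : Fin 1)).symm y), ?_⟩
    rw [ComodTens.tpow_succ, co_ofEquiv, co_tensor]
    congr 1
    exact co_ofEquiv c _ η y

end general

section gl

open MvPolynomial Groth.Agent.Hopf35.CayleyInt LaurentPolynomial

variable {k : Type u} [Field k] {n : ℕ}

local notation "𝔸" => CoordGrp.GLn n k

/-- the standard representation -/
abbrev std (n : ℕ) (k : Type u) [Field k] : HopfRep.Comod k (CoordGrp.GLn n k) (Fin n → k) :=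
  GLin.comodAlong (CoordGrp.Mat.toGLn n k) (ComodTens.stdVec n k)

theorem co_std (i j : Fin n) :
    co (std n k) (LinearMap.proj i) (Pi.basisFun k (Fin n) j) = (CoordGrp.GLn.X i j : 𝔸) := by
  classical
  show lc (LinearMap.proj i) (TensorProduct.map LinearMap.id _ ((ComodTens.stdVec n k).coact _)) = _
  rw [ComodTens.stdVec_coact_basisFun, map_sum, map_sum, Finset.sum_eq_single i]
  · simp [CoordGrp.Mat.toGLn_X]
  · intro l _ hl; simp [hl.symm]
  · simp

theorem iota_mem_spanDeg (m : ℕ) {f : MvPolynomial (Fin n × Fin n) k} (hf : f.IsHomogeneous m) :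
    iotaGL n k f ∈ spanDeg (std n k) m := by
  classical
  have key : ∀ (m : ℕ) (e : Fin n × Fin n →₀ ℕ), e.degree = m → iotaGL n k (monomial e 1) ∈ spanDeg (std n k) m := by
    intro m
    induction m with
    | zero =>
      intro e he
      rw [(Finsupp.degree_eq_zero_iff e).1 he]
      simpa using one_mem_spanDeg (std n k)
    | succ m ih =>
      intro e he
      obtain ⟨⟨i, j⟩, hij⟩ : ∃ s, e s ≠ 0 := by
        by_contra h
        push Not at h
        rw [show e = 0 from Finsupp.ext h, map_zero] at he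
        omega
      have hle : Finsupp.single (i, j) 1 ≤ e := Finsupp.single_le_iff.2 (Nat.one_le_iff_ne_zero.2 hij)
      have he' : (e - Finsupp.single (i, j) 1).degree = m := by
        have h := congrArg Finsupp.degree (tsub_add_cancel_of_le hle)
        rw [map_add, Finsupp.degree_single, he] at h
        omega
      rw [← tsub_add_cancel_of_le hle, monomial_add_single, pow_one, map_mul,
        show iotaGL n k (MvPolynomial.X (i, j)) = CoordGrp.GLn.X i j from CoordGrp.Mat.toGLn_X i j, ← co_std]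
      exact mul_mem_spanDeg _ (ih _ he') _ _
  rw [f.as_sum, map_sum]
  refine Submodule.sum_mem _ fun e he => ?_
  rw [show monomial e (coeff e f) = coeff e f • monomial e 1 by rw [smul_monomial, smul_eq_mul, mul_one], map_smul]
  exact Submodule.smul_mem _ _ (key m e (by
    by_contra hne; exact mem_support_iff.1 he (hf.coeff_eq_zero hne)))

local notation "lam" => CoordGrp.GLn.diag n k (fun _ => (1 : ℤ))

/-- right translation by scalars -/
def θ : 𝔸 →ₐ[k] 𝔸 ⊗[k] k[T;T⁻¹] :=
  (Algebra.TensorProduct.map (AlgHom.id k 𝔸) (lam : 𝔸 →ₐ[k] k[T;T⁻¹])).comp (Bialgebra.comulAlgHom k 𝔸)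

theorem θ_iota {m : ℕ} {f : MvPolynomial (Fin n × Fin n) k} (hf : f.IsHomogeneous m) :
    θ (iotaGL n k f) = iotaGL n k f ⊗ₜ[k] LaurentPolynomial.T (m : ℤ) := by
  classical
  have hX : ∀ i j : Fin n, θ (CoordGrp.GLn.X i j : 𝔸) = (CoordGrp.GLn.X i j : 𝔸) ⊗ₜ[k] LaurentPolynomial.T 1 := by
    intro i j
    simp [θ, CoordGrp.GLn.comul_X, apply_ite, TensorProduct.tmul_ite]
  have key : ∀ (e : Fin n × Fin n →₀ ℕ), θ (iotaGL n k (monomial e 1)) =
      iotaGL n k (monomial e 1) ⊗ₜ[k] LaurentPolynomial.T (e.degree : ℤ) := by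
    intro e
    induction e using Finsupp.induction with
    | zero => simp [Algebra.TensorProduct.one_def]
    | single_add a b e _ _ ih =>
      obtain ⟨i, j⟩ := a
      rw [add_comm, monomial_add_single, map_mul, map_pow, map_mul, map_pow, ih,
        show iotaGL n k (MvPolynomial.X (i, j)) = CoordGrp.GLn.X i j from CoordGrp.Mat.toGLn_X i j, hX,
        Algebra.TensorProduct.tmul_pow, Algebra.TensorProduct.tmul_mul_tmul, map_add, Finsupp.degree_single,
        LaurentPolynomial.T_pow, ← LaurentPolynomial.T_add]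
      push_cast
      ring_nf
  rw [f.as_sum, map_sum, map_sum, sum_tmul]
  refine Finset.sum_congr rfl fun e he => ?_
  rw [show monomial e (coeff e f) = coeff e f • monomial e 1 by rw [smul_monomial, smul_eq_mul, mul_one], map_smul,
    map_smul, key, smul_tmul']
  congr
  by_contra hne; exact mem_support_iff.1 he (hf.coeff_eq_zero hne)

theorem θ_Dinv_pow (q : ℕ) : θ ((CoordGrp.GLn.Dinv : 𝔸) ^ q) =
    ((CoordGrp.GLn.Dinv : 𝔸) ^ q) ⊗ₜ[k] LaurentPolynomial.T (-((n * q : ℕ) : ℤ)) := by
  rw [map_pow, show θ (CoordGrp.GLn.Dinv : 𝔸) = (CoordGrp.GLn.Dinv : 𝔸) ⊗ₜ[k] LaurentPolynomial.T (-(n : ℤ)) by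
      simp [θ, CoordGrp.GLn.comul_Dinv],
    Algebra.TensorProduct.tmul_pow, LaurentPolynomial.T_pow]
  congr 2
  push_cast; ring

theorem exists_bound {ι : Type*} [Finite ι] (g : ι → 𝔸) :
    ∃ C : ℕ, ∀ i (c : ℕ), C ≤ c → ∃ P : MvPolynomial (Fin n × Fin n) k,
      g i = iotaGL n k P * (CoordGrp.GLn.Dinv : 𝔸) ^ c := by
  have hone : ∀ a : 𝔸, ∃ C : ℕ, ∀ c : ℕ, C ≤ c → ∃ P : MvPolynomial (Fin n × Fin n) k,
      a = iotaGL n k P * (CoordGrp.GLn.Dinv : 𝔸) ^ c := by
    intro a
    have ha : a ∈ Submodule.span k (Set.range fun x : MvPolynomial (Fin n × Fin n) k × ℕ =>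
        iotaGL n k x.1 * CoordGrp.GLn.Dinv ^ x.2) := by rw [span_GL]; trivial
    induction ha using Submodule.span_induction with
    | mem z hz =>
      obtain ⟨⟨f, q⟩, rfl⟩ := hz
      refine ⟨q, fun c hc => ⟨f * dt n k ^ (c - q), ?_⟩⟩
      rw [map_mul, map_pow, iotaGL_dt]
      conv_rhs => rw [show c = q + (c - q) by omega, pow_add]
      rw [show q + (c - q) - q = c - q by omega]
      have := congrArg (fun t : 𝔸 => t ^ (c - q)) (CoordGrp.GLn.det_mul_Dinv (n := n) (k := k))
      simp only [mul_pow, one_pow] at this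
      calc iotaGL n k f * (CoordGrp.GLn.Dinv : 𝔸) ^ q = iotaGL n k f * (CoordGrp.GLn.Dinv : 𝔸) ^ q * 1 := (mul_one _).symm
        _ = _ := by rw [← this]; ring
    | zero => exact ⟨0, fun c _ => ⟨0, by simp⟩⟩
    | add x y _ _ hx hy =>
      obtain ⟨C, hC⟩ := hx; obtain ⟨C', hC'⟩ := hy
      refine ⟨max C C', fun c hc => ?_⟩
      obtain ⟨P, hP⟩ := hC c (le_of_max_le_left hc); obtain ⟨P', hP'⟩ := hC' c (le_of_max_le_right hc)
      exact ⟨P + P', by rw [map_add, add_mul, hP, hP']⟩
    | smul r x _ hx =>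
      obtain ⟨C, hC⟩ := hx
      refine ⟨C, fun c hc => ?_⟩
      obtain ⟨P, hP⟩ := hC c hc
      exact ⟨r • P, by rw [map_smul, smul_mul_assoc, hP]⟩
  choose C hC using fun i => hone (g i)
  haveI := Fintype.ofFinite ι
  exact ⟨Finset.univ.sup C, fun i c hc => hC i c ((Finset.le_sup (Finset.mem_univ i)).trans hc)⟩

theorem mem_of_weight {h : ℤ} {a c : ℕ} (ha : (a : ℤ) = h + n * c) {g : 𝔸}
    (hg : θ g = g ⊗ₜ[k] LaurentPolynomial.T h) {P : MvPolynomial (Fin n × Fin n) k}
    (hP : g = iotaGL n k P * (CoordGrp.GLn.Dinv : 𝔸) ^ c) :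
    g = iotaGL n k (homogeneousComponent a P) * (CoordGrp.GLn.Dinv : 𝔸) ^ c := by
  classical
  let cf : k[T;T⁻¹] →ₗ[k] k := Finsupp.lapply h ∘ₗ (AddMonoidAlgebra.coeffLinearEquiv k).toLinearMap
  have hcf : ∀ j : ℤ, cf (LaurentPolynomial.T j) = if j = h then 1 else 0 := fun j => by
    show (AddMonoidAlgebra.single j (1 : k)).coeff h = _
    rw [AddMonoidAlgebra.coeff_single, Finsupp.single_apply]
  have h1 := congrArg (fun t => TensorProduct.rid k 𝔸 (cf.lTensor 𝔸 t)) hg
  simp only [LinearMap.lTensor_tmul, TensorProduct.rid_tmul, hcf, if_true, one_smul] at h1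
  rw [hP] at h1
  conv_lhs at h1 => rw [← sum_homogeneousComponent P, map_sum, Finset.sum_mul, map_sum, map_sum, map_sum]
  rw [← hP] at h1
  rw [← h1, Finset.sum_eq_single a]
  · rw [map_mul, θ_iota (homogeneousComponent_isHomogeneous a P), θ_Dinv_pow, Algebra.TensorProduct.tmul_mul_tmul,
      ← LaurentPolynomial.T_add, LinearMap.lTensor_tmul, TensorProduct.rid_tmul, hcf,
      if_pos (by push_cast; omega), one_smul]
  · intro b _ hb
    rw [map_mul, θ_iota (homogeneousComponent_isHomogeneous b P), θ_Dinv_pow, Algebra.TensorProduct.tmul_mul_tmul,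
      ← LaurentPolynomial.T_add, LinearMap.lTensor_tmul, TensorProduct.rid_tmul, hcf,
      if_neg (by push_cast; omega), zero_smul]
  · intro hmem
    rw [homogeneousComponent_eq_zero _ _ (by simpa using hmem)]
    simp

theorem exists_summand [CharZero k] (hn : 0 < n) (V : Type u) [AddCommGroup V] [Module k V] [Module.Finite k V]
    (ρ : HopfRep.Comod k 𝔸 V) (h : ℤ)
    (hh : @HopfRep.eigenspace k k[T;T⁻¹] _ _ _ V _ _ (GLin.comodAlong lam ρ) (LaurentPolynomial.T h) = ⊤) :
    ∃ (a b c : ℕ), 0 < c ∧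
      ∃ (i : V →ₗ[k] (Fin b → TensorPower k a (Fin n → k)))
        (p : (Fin b → TensorPower k a (Fin n → k)) →ₗ[k] V),
        p ∘ₗ i = LinearMap.id ∧
        @Hoch.IsComodHom k _ 𝔸 _ _ _ V _ _ ρ (Fin b → TensorPower k a (Fin n → k)) _ _
          (ComodTens.Comod.twist (ComodTens.Comod.pi fun _ : Fin b => ComodTens.Comod.tpow (std n k) a)
            (CoordGrp.GLn.Dinv ^ c) (IsGroupLikeElem.pow ⟨CoordGrp.GLn.counit_Dinv, CoordGrp.GLn.comul_Dinv⟩)) i ∧
        @Hoch.IsComodHom k _ 𝔸 _ _ _ (Fin b → TensorPower k a (Fin n → k)) _ _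
          (ComodTens.Comod.twist (ComodTens.Comod.pi fun _ : Fin b => ComodTens.Comod.tpow (std n k) a)
            (CoordGrp.GLn.Dinv ^ c) (IsGroupLikeElem.pow ⟨CoordGrp.GLn.counit_Dinv, CoordGrp.GLn.comul_Dinv⟩)) V _ _ ρ p := by
  classical
  let bV := Module.finBasis k V
  obtain ⟨C, hC⟩ := exists_bound (ι := Fin (Module.finrank k V) × Fin (Module.finrank k V))
    fun x => co ρ (bV.coord x.1) (bV x.2)
  let c : ℕ := max C (h.natAbs + 1)
  let a : ℕ := (h + n * c).toNat
  have hc : 0 < c := lt_of_lt_of_le (Nat.succ_pos _) (le_max_right _ _)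
  have hnc : (h.natAbs : ℤ) + 1 ≤ (c : ℤ) := by exact_mod_cast le_max_right C (h.natAbs + 1)
  have ha : (a : ℤ) = h + n * c := Int.toNat_of_nonneg (by
    have : (c : ℤ) ≤ (n : ℤ) * c := le_mul_of_one_le_left (by positivity) (by exact_mod_cast hn)
    omega)
  have hθ : ∀ (ξ : V →ₗ[k] k) (v : V), θ (co ρ ξ v) = co ρ ξ v ⊗ₜ[k] LaurentPolynomial.T h := by
    intro ξ v
    have hv : TensorProduct.map LinearMap.id (lam : 𝔸 →ₗ[k] k[T;T⁻¹]) (ρ.coact v) = v ⊗ₜ[k] LaurentPolynomial.T h := by
      have : v ∈ @HopfRep.eigenspace k k[T;T⁻¹] _ _ _ V _ _ (GLin.comodAlong lam ρ) (LaurentPolynomial.T h) := by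
        rw [hh]; trivial
      exact this
    show TensorProduct.map LinearMap.id (lam : 𝔸 →ₗ[k] k[T;T⁻¹]) (CoalgebraStruct.comul (R := k) (co ρ ξ v)) = _
    rw [comul_co]
    have := congrArg ((coHom ρ ξ).rTensor k[T;T⁻¹]) hv
    rw [LinearMap.rTensor_tmul, coHom_apply] at this
    rw [← this]
    generalize ρ.coact v = t
    induction t with
    | zero => simp
    | tmul p q => rfl
    | add p q hp hq => simp only [map_add, hp, hq]
  let T' := TensorPower k a (Fin n → k)
  let bT := Module.finBasis k T'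
  let q := Module.finrank k T'
  let ct := ComodTens.Comod.tpow (std n k) a
  have hmem : ∀ x : Fin (Module.finrank k V) × Fin (Module.finrank k V), ∃ y : Fin q → T',
      co ρ (bV.coord x.1) (bV x.2) = ∑ t, co ct (bT.coord t) (y t) * (CoordGrp.GLn.Dinv : 𝔸) ^ c := by
    intro x
    obtain ⟨P, hP⟩ := hC x c (le_max_left _ _)
    rw [mem_of_weight ha (hθ _ _) hP]
    have hsp := iota_mem_spanDeg a (homogeneousComponent_isHomogeneous a P)
    generalize iotaGL n k (homogeneousComponent a P) = z at hsp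
    induction hsp using Submodule.span_induction with
    | mem z hz =>
      obtain ⟨ψ, y, rfl⟩ := hz
      refine ⟨fun t => ψ (bT t) • y, ?_⟩
      rw [← Finset.sum_mul]
      congr 1
      have hψ : ψ = ∑ t, ψ (bT t) • bT.coord t := bT.ext fun s => by
        simp [Finset.sum_eq_single s, Module.Basis.coord_apply, Finsupp.single_apply]
      conv_lhs => rw [hψ]
      simp only [co, map_smul]
      generalize ct.coact y = w
      induction w with
      | zero => simp
      | tmul p q =>
        simp [smul_smul, ← Finset.sum_smul]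
        congr 1
        conv_lhs => rw [← bT.sum_repr p]
        rw [map_sum]
        exact Finset.sum_congr rfl fun x _ => by rw [map_smul, smul_eq_mul, mul_comm]
      | add p q hp hq => simp only [map_add, smul_add, Finset.sum_add_distrib, hp, hq]
    | zero => exact ⟨0, by simp [co]⟩
    | add z z' _ _ hz hz' =>
      obtain ⟨y, hy⟩ := hz; obtain ⟨y', hy'⟩ := hz'
      exact ⟨y + y', by simp only [Pi.add_apply, co_add, add_mul, Finset.sum_add_distrib, hy, hy']⟩
    | smul r z _ hz =>
      obtain ⟨y, hy⟩ := hz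
      exact ⟨r • y, by simp only [smul_mul_assoc, hy, Finset.smul_sum, Pi.smul_apply, co, map_smul]⟩
  choose y hy using hmem
  let N := Module.finrank k V
  let e : Fin N × Fin q ≃ Fin (N * q) := finProdFinEquiv
  let s : V →ₗ[k] (Fin (N * q) → T') := bV.constr k fun j => fun l => y ((e.symm l).1, j) (e.symm l).2
  let Φ : Fin N → ((Fin (N * q) → T') →ₗ[k] k) := fun i => ∑ t, bT.coord t ∘ₗ LinearMap.proj (e (i, t))
  refine ⟨a, N * q, c, hc, exists_retract _ (intGL n k)
    (isComodHom_of_leftA _ intGL_invariant) intGL_one ρ Φ (fun i => bV.coord i)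
    (fun v hv => bV.repr.injective (Finsupp.ext fun i => by simpa using hv i)) s fun i v => ?_⟩
  rw [← coHom_apply, ← coHom_apply, ← LinearMap.comp_apply]
  congr 1
  refine bV.ext fun j => ?_
  show co _ (Φ i) (s (bV j)) = co ρ (bV.coord i) (bV j)
  rw [co_twist, hy (i, j), ← Finset.sum_mul]
  congr 1
  rw [Module.Basis.constr_basis]
  conv_lhs => rw [← Finset.univ_sum_single (fun l => y ((e.symm l).1, j) (e.symm l).2)]
  rw [← coHom_apply, map_sum]
  have hterm : ∀ (p : Fin N × Fin q) (w : T'),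
      coHom (ComodTens.Comod.pi fun _ : Fin (N * q) => ct) (Φ i) (Pi.single (e p) w) =
        if p.1 = i then co ct (bT.coord p.2) w else 0 := by
    intro p w
    rw [coHom_apply, co_pi_single]
    have : Φ i ∘ₗ LinearMap.single k (fun _ => T') (e p) = if p.1 = i then bT.coord p.2 else 0 := by
      refine LinearMap.ext fun w => ?_
      obtain ⟨i', t'⟩ := p
      simp only [Φ, LinearMap.comp_apply, LinearMap.sum_apply, LinearMap.coe_single, LinearMap.proj_apply]
      by_cases h' : i' = i
      · subst h'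
        rw [Finset.sum_eq_single t', if_pos rfl, Pi.single_eq_same]
        · intro t _ ht; rw [Pi.single_eq_of_ne fun he => ht (congrArg Prod.snd (e.injective he)), map_zero]
        · simp
      · rw [if_neg h', LinearMap.zero_apply]
        refine Finset.sum_eq_zero fun t _ => ?_
        rw [Pi.single_eq_of_ne fun he => h' (congrArg Prod.fst (e.injective he)).symm, map_zero]
    rw [this]
    split_ifs
    · rfl
    · simp [co, lc]
  rw [← e.sum_comp]
  simp only [hterm, Equiv.symm_apply_apply]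
  rw [Fintype.sum_prod_type, Finset.sum_eq_single i]
  · simp
    rfl
  · intro b _ hb; simp [hb]
  · simp

end gl

end Groth.Agent.Hopf35.HomogRep
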