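import Groth.Prelude.Def_Hoch
import Mathlib

/-!
Invariants and contracting homotopy of the cochain complex of an induced comodule.
-/

universe u v w

open TensorProduct

namespace Groth.Agent.Hopf35.IndHomotopy

variable (k : Type u) [CommRing k] (A : Type v) [CommRing A] [Bialgebra k A]

/-- `id ⊗ ε` on `P ⊗ A`. -/
noncomputable def cu (P : Type w) [AddCommGroup P] [Module k P] : P ⊗[k] A →ₗ[k] P :=
  (TensorProduct.rid k P).toLinearMap ∘ₗ (Coalgebra.counit (R := k) (A := A)).lTensor P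

theorem cu_rTensor_coactAux (P : Type w) [AddCommGroup P] [Module k P] :
    (cu k A P).rTensor A ∘ₗ Hoch.Ind.coactAux k A P = LinearMap.id := by
  refine TensorProduct.ext' fun p a => ?_
  have h : ∀ y : A ⊗[k] A, (cu k A P).rTensor A ((TensorProduct.assoc k P A A).symm (p ⊗ₜ[k] y)) =
      p ⊗ₜ[k] (TensorProduct.lid k A ((Coalgebra.counit (R := k) (A := A)).rTensor A y)) := by
    intro y
    induction y using TensorProduct.induction_on with
    | zero => simp
    | tmul b c => simp [cu, TensorProduct.smul_tmul]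
    | add y z hy hz => simp only [TensorProduct.tmul_add, map_add, hy, hz]
  simp [h]

theorem fixed_ind (P : Type w) [AddCommGroup P] [Module k P] :
    Function.Injective ((Hoch.Ind.equiv k A P).toLinearMap ∘ₗ (TensorProduct.mk k P A).flip (1 : A)) ∧
    LinearMap.range ((Hoch.Ind.equiv k A P).toLinearMap ∘ₗ (TensorProduct.mk k P A).flip (1 : A)) =
      HopfRep.fixedPts k A (Hoch.Ind k A P) := by
  have hcu : ∀ p : P, cu k A P (p ⊗ₜ[k] (1 : A)) = p := fun p => by simp [cu]
  constructor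
  · intro p q h
    have h' : p ⊗ₜ[k] (1 : A) = q ⊗ₜ[k] (1 : A) := h
    rw [← hcu p, h', hcu]
  · refine le_antisymm ?_ ?_
    · rintro _ ⟨p, rfl⟩
      change Hoch.Ind.coactAux k A P (p ⊗ₜ[k] (1 : A)) = (p ⊗ₜ[k] (1 : A)) ⊗ₜ[k] (1 : A)
      rw [Hoch.Ind.coactAux_tmul, Bialgebra.comul_one, Algebra.TensorProduct.one_def, TensorProduct.assoc_symm_tmul]
    · intro (x : P ⊗[k] A) hx
      have hx' : Hoch.Ind.coactAux k A P x = x ⊗ₜ[k] (1 : A) := hx
      refine ⟨cu k A P x, ?_⟩
      have h := congrArg ((cu k A P).rTensor A) hx'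
      rw [← LinearMap.comp_apply, cu_rTensor_coactAux, LinearMap.id_apply, LinearMap.rTensor_tmul] at h
      exact h.symm

section Complex

variable (P : Type v) [AddCommGroup P] [Module k P]

/-- The homotopy: the counit on the induced factor. -/
noncomputable def hom : (n : ℕ) → ((Hoch.cochain k A (Hoch.Ind k A P) (n + 1) : Type v) →ₗ[k]
    (Hoch.cochain k A (Hoch.Ind k A P) n : Type v))
  | 0 => (Hoch.Ind.equiv k A P).toLinearMap ∘ₗ
      ((cu k A P ∘ₗ (Hoch.Ind.equiv k A P).symm.toLinearMap).rTensor A)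
  | n + 1 => (hom n).rTensor A

theorem tail_natural {M N : Type v} [AddCommGroup M] [Module k M] [AddCommGroup N] [Module k N]
    (f : M →ₗ[k] N) : (f.rTensor A).rTensor A ∘ₗ Hoch.tail k A M = Hoch.tail k A N ∘ₗ f.rTensor A := by
  refine TensorProduct.ext' fun m a => ?_
  simp only [LinearMap.comp_apply, Hoch.tail_tmul, LinearMap.rTensor_tmul]
  generalize Coalgebra.comul (R := k) a - a ⊗ₜ[k] (1 : A) - (1 : A) ⊗ₜ[k] a = y
  induction y using TensorProduct.induction_on with
  | zero => simp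
  | tmul b c => simp
  | add y z hy hz => simp only [TensorProduct.tmul_add, map_add, hy, hz]

theorem hom_d : ∀ n, hom k A P (n + 1) ∘ₗ Hoch.d k A (Hoch.Ind k A P) (n + 1) +
    Hoch.d k A (Hoch.Ind k A P) n ∘ₗ hom k A P n = LinearMap.id
  | 0 => by
    refine TensorProduct.ext' fun (x : P ⊗[k] A) a => ?_
    let c := cu k A P
    change (c.rTensor A).rTensor A ((Hoch.Ind.coactAux k A P x - x ⊗ₜ[k] (1 : A)) ⊗ₜ[k] a +
        ((-1 : k) ^ 1) • Hoch.tail k A (P ⊗[k] A) (x ⊗ₜ[k] a)) +
      (Hoch.Ind.coactAux k A P (c x ⊗ₜ[k] a) - (c x ⊗ₜ[k] a) ⊗ₜ[k] (1 : A)) = x ⊗ₜ[k] a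
    have h0 : c.rTensor A (Hoch.Ind.coactAux k A P x) = x := LinearMap.congr_fun (cu_rTensor_coactAux k A P) x
    have h1 := LinearMap.congr_fun (tail_natural k A c) (x ⊗ₜ[k] a)
    simp only [LinearMap.comp_apply, LinearMap.rTensor_tmul] at h1
    rw [map_add, map_smul, h1, LinearMap.rTensor_tmul, map_sub, h0, LinearMap.rTensor_tmul, pow_one]
    rw [Hoch.Ind.coactAux_tmul, Hoch.tail_tmul]
    simp only [TensorProduct.tmul_sub, map_sub, TensorProduct.assoc_symm_tmul, TensorProduct.sub_tmul]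
    module
  | n + 1 => by
    have ih := hom_d n
    rw [Hoch.d_succ k A (Hoch.Ind k A P) (n + 1), show hom k A P (n + 2) = (hom k A P (n + 1)).rTensor A from rfl,
      LinearMap.comp_add, LinearMap.comp_smul, ← LinearMap.rTensor_comp]
    have e1 : hom k A P (n + 1) = (hom k A P n).rTensor A := rfl
    have h2 := tail_natural k A (hom k A P n)
    rw [← e1] at h2
    rw [h2]
    conv_lhs => rw [Hoch.d_succ k A (Hoch.Ind k A P) n, LinearMap.add_comp, LinearMap.smul_comp]
    conv_lhs => enter [2, 1]; rw [e1, ← LinearMap.rTensor_comp]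
    rw [← LinearMap.rTensor_id, ← ih, LinearMap.rTensor_add, pow_succ (-1 : k) (n + 1)]
    rw [← Hoch.d_succ k A (Hoch.Ind k A P) n]
    rw [mul_neg_one, neg_smul]
    abel

theorem acyclic (n : ℕ) :
    Hoch.cocycles k A (Hoch.Ind k A P) (n + 1) ≤ Hoch.coboundaries k A (Hoch.Ind k A P) (n + 1) := by
  intro z hz
  refine ⟨hom k A P n z, ?_⟩
  have h := LinearMap.congr_fun (hom_d k A P n) z
  rw [LinearMap.add_apply, LinearMap.comp_apply, LinearMap.comp_apply, LinearMap.mem_ker.1 hz, map_zero, zero_add] at h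
  exact h

end Complex

end Groth.Agent.Hopf35.IndHomotopy
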