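import Groth.Agent.LC15.ExtCompare
import Mathlib

/-!
helper35: vanishing of local cohomology in degrees zero and one from extension of homomorphisms.
-/

set_option autoImplicit false
set_option linter.style.haveILetI false

universe u

open CategoryTheory Limits Opposite

noncomputable section

namespace Groth.Agent.Hopf35.LocCohLow

variable {R : Type u} [CommRing R] (𝔞 : Ideal R) (M : Type u) [AddCommGroup M] [Module R M]

theorem isZero_localCohomology_of (i : ℕ)
    (h : ∀ t : ℕ, Subsingleton (Abelian.Ext (ModuleCat.of R (R ⧸ 𝔞 ^ t)) (ModuleCat.of R M) i)) :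
    IsZero ((localCohomology 𝔞 i).obj (ModuleCat.of R M)) := by
  let F := localCohomology.diagram (localCohomology.idealPowersDiagram 𝔞) i
  let c : Cocone F := colimit.cocone F
  have hc := isColimitOfPreserves ((evaluation _ _).obj (ModuleCat.of R M)) (colimit.isColimit F)
  rw [IsZero.iff_id_eq_zero]
  refine hc.hom_ext fun t => ?_
  refine IsZero.eq_of_src ?_ _ _
  haveI := h (unop (unop t))
  haveI : Subsingleton ↑(((Ext R (ModuleCat.{u} R) i).obj (op (ModuleCat.of R (R ⧸ 𝔞 ^ unop (unop t))))).obj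
      (ModuleCat.of R M)) := (LC15.extEquiv _ (ModuleCat.of R M) i).toEquiv.subsingleton
  exact @ModuleCat.isZero_of_subsingleton R _ _ ‹Subsingleton _›

theorem subsingleton_ext_zero (J : Ideal R) (h : ∀ m : M, (∀ a ∈ J, a • m = 0) → m = 0) :
    Subsingleton (Abelian.Ext (ModuleCat.of R (R ⧸ J)) (ModuleCat.of R M) 0) := by
  refine (Abelian.Ext.addEquiv₀.toEquiv.trans (ModuleCat.homLinearEquiv (S := R)).toEquiv).subsingleton_congr.2 ?_
  refine subsingleton_of_forall_eq 0 fun φ => Submodule.linearMap_qext J (LinearMap.ext_ring ?_)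
  refine h _ fun a ha => ?_
  show a • φ (Submodule.Quotient.mk 1) = 0
  rw [← map_smul, ← Submodule.Quotient.mk_smul, smul_eq_mul, mul_one, (Submodule.Quotient.mk_eq_zero J).2 ha, map_zero]

theorem subsingleton_ext_one (J : Ideal R) (h : ∀ φ : J →ₗ[R] M, ∃ m : M, ∀ x : J, φ x = (x : R) • m) :
    Subsingleton (Abelian.Ext (ModuleCat.of R (R ⧸ J)) (ModuleCat.of R M) 1) := by
  let S : ShortComplex (ModuleCat.{u} R) :=
    ShortComplex.mk (ModuleCat.ofHom J.subtype) (ModuleCat.ofHom J.mkQ)
      (ModuleCat.hom_ext (LinearMap.ext fun x => (Submodule.Quotient.mk_eq_zero J).2 x.2))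
  have hS : S.ShortExact := by
    haveI : Mono S.f := (ModuleCat.mono_iff_injective _).2 J.subtype_injective
    haveI : Epi S.g := (ModuleCat.epi_iff_surjective _).2 J.mkQ_surjective
    exact ⟨(ShortComplex.ShortExact.moduleCat_exact_iff_function_exact S).2 (LinearMap.exact_subtype_mkQ J)⟩
  refine subsingleton_of_forall_eq 0 fun x => ?_
  haveI : Projective S.X₂ := inferInstanceAs (Projective (ModuleCat.of R R))
  obtain ⟨y, hy⟩ := Abelian.Ext.contravariant_sequence_exact₃ hS _ x (Abelian.Ext.eq_zero_of_projective _) (n₀ := 0) rfl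
  obtain ⟨φ, rfl⟩ := (Abelian.Ext.mk₀_bijective _ _).2 y
  obtain ⟨m, hm⟩ := h φ.hom
  have hφ : φ = S.f ≫ ModuleCat.ofHom (LinearMap.toSpanSingleton R M m) :=
    ModuleCat.hom_ext (LinearMap.ext fun x => hm x)
  rw [← hy, hφ, ← Abelian.Ext.mk₀_comp_mk₀]
  exact hS.extClass_comp_assoc _

end Groth.Agent.Hopf35.LocCohLow
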