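import Groth.Prelude.Def_W4bk4git07Quot
import Groth.Prelude.Def_GLinSh
import Mathlib.AlgebraicGeometry.PullbackCarrier
import Mathlib.AlgebraicGeometry.ResidueField
import Mathlib.AlgebraicGeometry.Morphisms.UnderlyingMap
import Mathlib

/-!
helper35: orbits upstairs and downstairs for the quotient by a normal subgroup.
-/

set_option autoImplicit false

universe u

open CategoryTheory MonoidalCategory CartesianMonoidalCategory MonObj AlgebraicGeometry Topology Limits

noncomputable section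

namespace Groth.Agent.Hopf35.NQuot

variable {S : Scheme.{u}}

/-- The point of `X` over an `S`-scheme supported on a single field point. -/
abbrev fieldPt (Y : Over S) (y : Y.left) : Over S := Over.mk (Y.left.fromSpecResidueField y ≫ Y.hom)

/-- The tautological morphism. -/
abbrev fieldPtHom (Y : Over S) (y : Y.left) : fieldPt Y y ⟶ Y := Over.homMk (Y.left.fromSpecResidueField y)

theorem range_fieldPtHom (Y : Over S) (y : Y.left) (p : (fieldPt Y y).left) : (fieldPtHom Y y).left.base p = y := by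
  have := Scheme.range_fromSpecResidueField y
  have h2 : (fieldPtHom Y y).left.base p ∈ Set.range (Y.left.fromSpecResidueField y).base := ⟨p, rfl⟩
  rw [show Set.range (Y.left.fromSpecResidueField y).base = {y} from this] at h2
  exact h2

variable {H N Q X Y : Over S} [GrpObj H] [GrpObj N] [GrpObj Q]

theorem act_comp {T : Over S} {G X : Over S} [GrpObj G] (a : AlgGrp.Action G X) (g h : T ⟶ G) (x : T ⟶ X) :
    lift g (lift h x ≫ a.act) ≫ a.act = lift (g * h) x ≫ a.act := by
  have e := congrArg (lift (lift g h) x ≫ ·) a.mul_act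
  rw [lift_whiskerRight_assoc] at e
  rw [Hom.mul_def, e, lift_lift_associator_hom_assoc, lift_whiskerLeft_assoc]

variable (i : N ⟶ H) (q : H ⟶ Q) (a : AlgGrp.Action H X) (aN : AlgGrp.Action N X) (π : X ⟶ Y)
  (aQ : AlgGrp.Action Q Y)

theorem psi_comp (hequiv : (q ⊗ₘ π) ≫ aQ.act = a.act ≫ π) {T : Over S} (x : T ⟶ X) :
    GIT.psi a x ≫ (π ▷ T) = (q ▷ T) ≫ GIT.psi aQ (x ≫ π) := by
  apply CartesianMonoidalCategory.hom_ext
  · simp only [GIT.psi, Category.assoc, whiskerRight_fst, lift_fst_assoc, lift_fst]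
    rw [← hequiv, tensorHom_def']
    simp [MonoidalCategory.whiskerLeft_comp, whisker_exchange_assoc]
  · simp [GIT.psi]

variable (haN : aN.act = (i ▷ X) ≫ a.act) (hequiv : (q ⊗ₘ π) ≫ aQ.act = a.act ≫ π)

include haN in
theorem act_translate {P : Over S} (n : P ⟶ N) (h : P ⟶ H) (x : P ⟶ X) :
    lift n (lift h x ≫ a.act) ≫ aN.act = lift ((n ≫ i) * h) x ≫ a.act := by
  rw [haN, lift_whiskerRight_assoc]
  exact act_comp a _ _ _

theorem lift_psi {G X : Over S} [GrpObj G] (a : AlgGrp.Action G X) {T P : Over S} (x : T ⟶ X) (g : P ⟶ G)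
    (t : P ⟶ T) : lift g t ≫ GIT.psi a x = lift (lift g (t ≫ x) ≫ a.act) t := by
  apply CartesianMonoidalCategory.hom_ext <;> simp [GIT.psi, lift_whiskerLeft_assoc]

theorem isPullback_whisker {A B : Over S} (f : A ⟶ B) (T : Over S) :
    IsPullback (f ▷ T).left (fst A T).left (fst B T).left f.left := by
  refine IsPullback.of_right (h₁₂ := (snd B T).left) (h₂₂ := B.hom) (v₁₃ := T.hom) ?_
    (congrArg CommaMorphism.left (whiskerRight_fst f T)) (IsPullback.of_hasPullback B.hom T.hom).flip
  rw [Over.w f, show (f ▷ T).left ≫ (snd B T).left = (snd A T).left from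
    congrArg CommaMorphism.left (whiskerRight_snd f T)]
  exact (IsPullback.of_hasPullback A.hom T.hom).flip

include haN hequiv in
/-- The orbit upstairs is the preimage of the orbit downstairs. -/
theorem range_psi (hπ : GIT.IsGeomQuot aN π) [Surjective q.left] {T : Over S} (x : T ⟶ X) :
    Set.range (GIT.psi a x).left.base = (π ▷ T).left.base ⁻¹' Set.range (GIT.psi aQ (x ≫ π)).left.base := by
  haveI : Surjective (q ▷ T).left :=
    MorphismProperty.of_isPullback (P := @Surjective) (isPullback_whisker q T).flip inferInstance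
  have hc : (GIT.psi a x).left ≫ (π ▷ T).left = (q ▷ T).left ≫ (GIT.psi aQ (x ≫ π)).left :=
    congrArg CommaMorphism.left (psi_comp q a π aQ hequiv x)
  refine Set.Subset.antisymm ?_ fun z hz => ?_
  · rintro _ ⟨w, rfl⟩
    exact ⟨(q ▷ T).left.base w, by
      have := congrArg (fun f => (Scheme.Hom.toLRSHom f).base w) hc
      exact this.symm⟩
  obtain ⟨v, hv⟩ := hz
  obtain ⟨w, rfl⟩ := (q ▷ T).left.surjective v
  have hwz : (π ▷ T).left.base ((GIT.psi a x).left.base w) = (π ▷ T).left.base z := by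
    rw [← hv]
    exact congrArg (fun f => (Scheme.Hom.toLRSHom f).base w) hc
  obtain ⟨p, hp1, hp2⟩ := Scheme.Pullback.exists_preimage_pullback
    (f := (GIT.psi a x).left ≫ (π ▷ T).left) (g := (π ▷ T).left) w z hwz
  let B : Over S := Over.mk (pullback.snd ((GIT.psi a x).left ≫ (π ▷ T).left) (π ▷ T).left ≫ (X ⊗ T).hom)
  let P := fieldPt B p
  let β₂ : B ⟶ X ⊗ T := Over.homMk (pullback.snd _ _) rfl
  let β₁ : B ⟶ H ⊗ T := Over.homMk (pullback.fst _ _) (by
    show pullback.fst _ _ ≫ (H ⊗ T).hom = pullback.snd _ _ ≫ (X ⊗ T).hom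
    have e := pullback.condition (f := (GIT.psi a x).left ≫ (π ▷ T).left) (g := (π ▷ T).left)
    have := congrArg (· ≫ (Y ⊗ T).hom) e
    simpa only [Category.assoc, Over.w] using this)
  have hβ : β₁ ≫ GIT.psi a x ≫ (π ▷ T) = β₂ ≫ (π ▷ T) := Over.OverMorphism.ext (by
    simp only [Over.comp_left]
    exact pullback.condition)
  let hh : P ⟶ H := fieldPtHom B p ≫ β₁ ≫ fst H T
  let t : P ⟶ T := fieldPtHom B p ≫ β₁ ≫ snd H T
  let z1 : P ⟶ X := fieldPtHom B p ≫ β₂ ≫ fst X T
  let x' : P ⟶ X := lift hh (t ≫ x) ≫ a.act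
  have hlift : fieldPtHom B p ≫ β₁ = lift hh t := by
    apply CartesianMonoidalCategory.hom_ext <;> simp [hh, t]
  have hβ' : lift hh t ≫ GIT.psi a x ≫ (π ▷ T) = fieldPtHom B p ≫ β₂ ≫ (π ▷ T) := by
    rw [← hlift, Category.assoc, hβ]
  rw [← Category.assoc, lift_psi a, lift_whiskerRight] at hβ'
  have hz1 : z1 ≫ π = x' ≫ π := by
    have := congrArg (· ≫ fst Y T) hβ'
    simp only [lift_fst, Category.assoc, whiskerRight_fst] at this
    simpa [z1, x'] using this.symm
  have hzt : fieldPtHom B p ≫ β₂ ≫ snd X T = t := by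
    have := congrArg (· ≫ snd Y T) hβ'
    simp only [lift_snd, Category.assoc, whiskerRight_snd] at this
    exact this.symm
  have hcond : z1.left ≫ π.left = x'.left ≫ π.left := by rw [← Over.comp_left, hz1, Over.comp_left]
  let w₀ : P.left ⟶ pullback π.left π.left := pullback.lift z1.left x'.left hcond
  obtain ⟨p₀⟩ : Nonempty P.left := inferInstanceAs (Nonempty (PrimeSpectrum (B.left.residueField p)))
  obtain ⟨m, hm⟩ := hπ.orbit (w₀.base p₀)
  obtain ⟨c, hc1, hc2⟩ := Scheme.Pullback.exists_preimage_pullback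
    (f := GIT.PsiY aN π hπ.inv) (g := w₀) m p₀ hm
  let B' : Over S := Over.mk (pullback.snd (GIT.PsiY aN π hπ.inv) w₀ ≫ P.hom)
  let ℓ : B' ⟶ P := Over.homMk (pullback.snd _ _) rfl
  have hcnd := pullback.condition (f := GIT.PsiY aN π hπ.inv) (g := w₀)
  have hfst : pullback.fst (GIT.PsiY aN π hπ.inv) w₀ ≫ (snd N X).left = pullback.snd _ _ ≫ x'.left := by
    have := congrArg (· ≫ pullback.snd π.left π.left) hcnd
    dsimp only [GIT.PsiY, w₀] at this
    rw [Category.assoc, Category.assoc] at this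
    erw [pullback.lift_snd, pullback.lift_snd] at this
    exact this
  have hact : pullback.fst (GIT.PsiY aN π hπ.inv) w₀ ≫ aN.act.left = pullback.snd _ _ ≫ z1.left := by
    have := congrArg (· ≫ pullback.fst π.left π.left) hcnd
    dsimp only [GIT.PsiY, w₀] at this
    rw [Category.assoc, Category.assoc] at this
    erw [pullback.lift_fst, pullback.lift_fst] at this
    exact this
  let ν : B' ⟶ N ⊗ X := Over.homMk (pullback.fst _ _) (by
    show pullback.fst _ _ ≫ (N ⊗ X).hom = pullback.snd _ _ ≫ P.hom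
    rw [← Over.w (snd N X), ← Category.assoc, hfst, Category.assoc, Over.w])
  have hν1 : ν ≫ aN.act = ℓ ≫ z1 := Over.OverMorphism.ext (by simpa [ν, ℓ] using hact)
  have hν2 : ν ≫ snd N X = ℓ ≫ x' := Over.OverMorphism.ext (by simpa [ν, ℓ] using hfst)
  have key : lift ((ν ≫ fst N X ≫ i) * (ℓ ≫ hh)) (ℓ ≫ t) ≫ GIT.psi a x = ℓ ≫ fieldPtHom B p ≫ β₂ := by
    apply CartesianMonoidalCategory.hom_ext
    · rw [lift_psi a, lift_fst]
      have h1 := act_translate i a aN haN (ν ≫ fst N X) (ℓ ≫ hh) ((ℓ ≫ t) ≫ x)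
      simp only [Category.assoc] at h1 ⊢
      rw [← h1, show lift (ℓ ≫ hh) (ℓ ≫ t ≫ x) ≫ a.act = ℓ ≫ x' from (comp_lift_assoc ℓ hh (t ≫ x) a.act).symm, ← hν2,
        show lift (ν ≫ fst N X) (ν ≫ snd N X) = ν by simp, hν1]
    · rw [lift_psi a, lift_snd, Category.assoc, Category.assoc, hzt]
  have hb := congrArg (fun f => (Scheme.Hom.toLRSHom (CommaMorphism.left f)).base c) key
  refine ⟨(lift ((ν ≫ fst N X ≫ i) * (ℓ ≫ hh)) (ℓ ≫ t)).left.base c, hb.trans ?_⟩
  show (pullback.snd ((GIT.psi a x).left ≫ (π ▷ T).left) (π ▷ T).left).base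
    ((fieldPtHom B p).left.base ((ℓ).left.base c)) = z
  rw [range_fieldPtHom]
  exact hp2

theorem isQuotientMap_whisker (hπ : GIT.IsUnivSubmersive π.left) (T : Over S) :
    IsQuotientMap (π ▷ T).left.base :=
  hπ (fst X T).left (fst Y T).left (π ▷ T).left (isPullback_whisker π T)

include haN hequiv in
/-- Orbits are closed upstairs exactly when they are closed downstairs. -/
theorem isClosed_range_psi_iff (hπ : GIT.IsGeomQuot aN π) [Surjective q.left] {T : Over S} (x : T ⟶ X) :
    IsClosed (Set.range (GIT.psi a x).left.base) ↔ IsClosed (Set.range (GIT.psi aQ (x ≫ π)).left.base) := by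
  rw [range_psi i q a aN π aQ haN hequiv hπ x]
  exact (isQuotientMap_whisker π hπ.subm T).isClosed_preimage

end Groth.Agent.Hopf35.NQuot
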