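import Groth.Agent.Hopf35.StabPtsGen
import Groth.Agent.Hopf35.NQuotOrbit
import Groth.Agent.Hopf35.LiftPt

/-!
helper35: stabilisers upstairs and downstairs for the quotient by a normal subgroup.
-/

set_option autoImplicit false
set_option linter.style.haveILetI false

universe u

open CategoryTheory MonoidalCategory CartesianMonoidalCategory MonObj AlgebraicGeometry Topology Limits
open Groth.Agent.Hopf35.NQuot Groth.Agent.Hopf35.StabPtsGen

noncomputable section

namespace Groth.Agent.Hopf35.NQuotStab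

variable {S : Scheme.{u}} {H N Q X Y : Over S} [GrpObj H] [GrpObj N] [GrpObj Q]

theorem exists_lift_scheme {A B T : Scheme.{u}} (f : A ⟶ B) [LocallyOfFiniteType f]
    (hf : Function.Surjective f.base) {Ω : Type u} [Field Ω] [IsAlgClosed Ω]
    (e : T ≅ Spec (CommRingCat.of Ω)) (w : T ⟶ B) : ∃ m : T ⟶ A, m ≫ f = w := by
  haveI : LocallyOfFiniteType (Over.mk f).hom := inferInstanceAs (LocallyOfFiniteType f)
  obtain ⟨m, hm⟩ := LiftPt.exists_lift (T := Over.mk w) (Y := Over.mk (𝟙 B))
    (Over.homMk f (Category.comp_id _) : Over.mk f ⟶ Over.mk (𝟙 B)) hf e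
    (Over.homMk w (Category.comp_id _))
  exact ⟨m.left, congrArg CommaMorphism.left hm⟩

variable (i : N ⟶ H) [IsMonHom i] (q : H ⟶ Q) [IsMonHom q] (a : AlgGrp.Action H X) (aN : AlgGrp.Action N X)
  (π : X ⟶ Y) (aQ : AlgGrp.Action Q Y)
  (haN : aN.act = (i ▷ X) ≫ a.act) (hequiv : (q ⊗ₘ π) ≫ aQ.act = a.act ≫ π)

theorem lift_one_act {T : Over S} {G X : Over S} [GrpObj G] (a : AlgGrp.Action G X) (x : T ⟶ X) :
    lift (1 : T ⟶ G) x ≫ a.act = x := by
  have e := congrArg (lift (toUnit T) x ≫ ·) a.one_act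
  rw [lift_whiskerRight_assoc] at e
  rw [Hom.one_def, e]
  simp

include haN in
theorem aN_act {T : Over S} (n : T ⟶ N) (x : T ⟶ X) : lift n x ≫ aN.act = lift (n ≫ i) x ≫ a.act := by
  rw [haN, lift_whiskerRight_assoc]

include hequiv in
theorem act_π {T : Over S} (g : T ⟶ H) (x : T ⟶ X) :
    lift (g ≫ q) (x ≫ π) ≫ aQ.act = lift g x ≫ a.act ≫ π := by
  rw [← hequiv, lift_map_assoc]

include haN hequiv in
theorem fixers_finite_iff (hker : AlgGrp.IsKernel i q) [Surjective q.left] [LocallyOfFiniteType H.hom]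
    [LocallyOfFiniteType N.hom] (hπ : GIT.IsGeomQuot aN π) {T : Over S} {Ω : Type u} [Field Ω] [IsAlgClosed Ω]
    (e : T.left ≅ Spec (CommRingCat.of Ω)) (x : T ⟶ X) (hfin : (fixers aN x).Finite) :
    (fixers aQ (x ≫ π)).Finite ↔ (fixers a x).Finite := by
  let φ : (T ⟶ H) → (T ⟶ Q) := fun g => g ≫ q
  have himg : φ '' fixers a x = fixers aQ (x ≫ π) := by
    refine Set.Subset.antisymm ?_ fun g' hg' => ?_
    · rintro _ ⟨g, hg, rfl⟩
      show lift (g ≫ q) (x ≫ π) ≫ aQ.act = x ≫ π
      rw [act_π q a π aQ hequiv, ← Category.assoc, show lift g x ≫ a.act = x from hg]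
    obtain ⟨h, rfl⟩ := LiftPt.exists_lift q q.left.surjective e g'
    have hx : (lift h x ≫ a.act) ≫ π = x ≫ π := by
      rw [Category.assoc, ← act_π q a π aQ hequiv]
      exact hg'
    haveI : LocallyOfFiniteType (GIT.PsiY aN π hπ.inv) := by
      have hs : GIT.PsiY aN π hπ.inv ≫ pullback.snd π.left π.left = (snd N X).left := pullback.lift_snd _ _ _
      haveI : LocallyOfFiniteType (snd N X).left := inferInstanceAs (LocallyOfFiniteType (pullback.snd N.hom X.hom))
      haveI : LocallyOfFiniteType (GIT.PsiY aN π hπ.inv ≫ pullback.snd π.left π.left) := hs ▸ inferInstance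
      exact locallyOfFiniteType_of_comp _ (pullback.snd π.left π.left)
    let w : T.left ⟶ pullback π.left π.left := pullback.lift (lift h x ≫ a.act).left x.left
      (by rw [← Over.comp_left, hx, Over.comp_left])
    obtain ⟨m, hm⟩ := exists_lift_scheme (GIT.PsiY aN π hπ.inv) hπ.orbit e w
    have hfst : m ≫ aN.act.left = (lift h x ≫ a.act).left :=
      (congrArg (m ≫ ·) (pullback.lift_fst _ _ _).symm).trans <| (Category.assoc _ _ _).symm.trans <|
        (congrArg (· ≫ pullback.fst π.left π.left) hm).trans (pullback.lift_fst _ _ _)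
    have hsnd : m ≫ (snd N X).left = x.left :=
      (congrArg (m ≫ ·) (pullback.lift_snd _ _ _).symm).trans <| (Category.assoc _ _ _).symm.trans <|
        (congrArg (· ≫ pullback.snd π.left π.left) hm).trans (pullback.lift_snd _ _ _)
    let ν : T ⟶ N ⊗ X := Over.homMk m (by rw [← Over.w (snd N X), reassoc_of% hsnd, Over.w])
    have hν2 : ν ≫ snd N X = x := Over.OverMorphism.ext hsnd
    have hν1 : lift (ν ≫ fst N X) x ≫ aN.act = lift h x ≫ a.act := by
      rw [show lift (ν ≫ fst N X) x = ν by rw [← hν2]; simp]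
      exact Over.OverMorphism.ext hfst
    refine ⟨((ν ≫ fst N X) ≫ i)⁻¹ * h, ?_, ?_⟩
    · show lift _ x ≫ a.act = x
      rw [← act_comp, ← hν1, aN_act i a aN haN, act_comp, inv_mul_cancel, lift_one_act]
    · show (_ * h) ≫ q = h ≫ q
      have h1 : ((ν ≫ fst N X) ≫ i) ≫ q = 1 := by
        rw [Category.assoc, hker.w, Hom.one_def, ← Category.assoc]
        congr 1
        exact toUnit_unique _ _
      rw [MonObj.mul_comp, GrpObj.inv_comp, h1, inv_one, _root_.one_mul]
  constructor
  · intro hQ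
    refine Set.Finite.of_finite_fibers φ (himg ▸ hQ) ?_
    rintro _ ⟨g₀, hg₀, rfl⟩
    refine (hfin.image fun n => (n ≫ i) * g₀).subset ?_
    rintro g ⟨hg, hq : g ≫ q = g₀ ≫ q⟩
    have h1 : (g * g₀⁻¹) ≫ q = toUnit T ≫ η[Q] := by
      rw [MonObj.mul_comp, GrpObj.inv_comp, hq, mul_inv_cancel, Hom.one_def]
    refine ⟨hker.lift (g * g₀⁻¹) (toUnit T) h1, ?_, ?_⟩
    · show lift _ x ≫ aN.act = x
      rw [aN_act i a aN haN, hker.lift_fst]
      have hg0 : lift (g₀⁻¹) x ≫ a.act = x := by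
        conv_lhs => rw [← show lift g₀ x ≫ a.act = x from hg₀, act_comp, inv_mul_cancel, lift_one_act]
      rw [← act_comp, hg0]
      exact hg
    · show (_ ≫ i) * g₀ = g
      rw [hker.lift_fst, inv_mul_cancel_right]
  · intro hH
    exact himg ▸ hH.image φ

end Groth.Agent.Hopf35.NQuotStab
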