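import Mathlib
import Groth.Prelude.Def_W4c2brnrinvarInvFld

/-! The no-name lemma for fields of invariants of finite linear groups, and the symmetric field. -/

set_option autoImplicit false

noncomputable section

open MvPolynomial IntermediateField

namespace Groth.Agent.Hopf35.NoName

universe u v

section general

variable {k : Type u} [Field k] {L : Type v} [Field L] [Algebra k L] [CharZero L]

/-- `∑_σ σ x` -/
def avg (G : Subgroup (L ≃ₐ[k] L)) [Fintype G] : L →ₗ[k] L := ∑ g : G, (g : L ≃ₐ[k] L).toLinearMap

omit [CharZero L] in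
theorem avg_apply (G : Subgroup (L ≃ₐ[k] L)) [Fintype G] (x : L) : avg G x = ∑ g : G, (g : L ≃ₐ[k] L) x := by
  simp [avg]

omit [CharZero L] in
theorem apply_avg (G : Subgroup (L ≃ₐ[k] L)) [Fintype G] {σ : L ≃ₐ[k] L} (hσ : σ ∈ G) (x : L) : σ (avg G x) = avg G x := by
  rw [avg_apply, map_sum]
  refine Fintype.sum_equiv (Equiv.mulLeft (⟨σ, hσ⟩ : G)) _ _ fun g => ?_
  simp [Equiv.coe_mulLeft]

omit [CharZero L] in
theorem mem_fixedField' {G : Subgroup (L ≃ₐ[k] L)} {x : L} : x ∈ fixedField G ↔ ∀ g ∈ G, g x = x :=
  ⟨fun h g hg => h ⟨g, hg⟩, fun h g => h g.1 g.2⟩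

omit [CharZero L] in
/-- Speiser's lemma: stable subspaces are spanned by fixed vectors. -/
theorem le_span_fixed (K : IntermediateField k L) (G : Subgroup (L ≃ₐ[k] L)) [Fintype G]
    (hK : ∀ σ ∈ G, ∀ x ∈ K, σ x ∈ K) (hfaith : ∀ σ ∈ G, (∀ x ∈ K, σ x = x) → σ = 1)
    (V : Submodule K L) (hV : ∀ σ ∈ G, ∀ v ∈ V, σ v ∈ V) :
    V ≤ Submodule.span K {w | w ∈ V ∧ w ∈ fixedField G} := by
  classical
  intro v hv
  let χ : G → (K →* K) := fun g =>
    { toFun := fun x => ⟨(g : L ≃ₐ[k] L) (x : L), hK g g.2 x x.2⟩
      map_one' := Subtype.ext (map_one (g : L ≃ₐ[k] L))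
      map_mul' := fun x y => Subtype.ext (map_mul (g : L ≃ₐ[k] L) (x : L) (y : L)) }
  have hχ : Function.Injective χ := by
    intro g h hgh
    have := hfaith ((h : L ≃ₐ[k] L)⁻¹ * g) (G.mul_mem (G.inv_mem h.2) g.2) fun x hx => by
      rw [AlgEquiv.mul_apply, show (g : L ≃ₐ[k] L) x = (h : L ≃ₐ[k] L) x from
        congrArg Subtype.val (DFunLike.congr_fun hgh (⟨x, hx⟩ : K))]
      exact AlgEquiv.symm_apply_apply _ _
    exact Subtype.ext (inv_mul_eq_one.1 this).symm
  have hli : LinearIndependent K fun g : G => (χ g : K → K) := (linearIndependent_monoidHom K K).comp χ hχ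
  have htop : Submodule.span K (Set.range fun c : K => fun g : G => χ g c) = ⊤ := by
    by_contra hne
    obtain ⟨f, hf0, hf⟩ := Submodule.exists_le_ker_of_lt_top _ (lt_top_iff_ne_top.2 hne)
    refine hf0 (LinearMap.pi_ext' fun g => LinearMap.ext_ring ?_)
    have h0 : ∑ g : G, f (Pi.single g 1) • (χ g : K → K) = 0 := by
      funext c
      have hc : f (fun g => χ g c) = 0 := hf (Submodule.subset_span ⟨c, rfl⟩)
      rw [← Finset.univ_sum_single (fun g : G => χ g c), map_sum] at hc
      rw [Finset.sum_apply, Pi.zero_apply, ← hc]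
      refine Finset.sum_congr rfl fun g _ => ?_
      rw [Pi.smul_apply, smul_eq_mul, mul_comm, ← smul_eq_mul, ← map_smul, ← Pi.single_smul, smul_eq_mul, mul_one]
    simpa using (Fintype.linearIndependent_iff.1 hli _ h0 g)
  let F : (G → K) →ₗ[K] L := ∑ g : G, (LinearMap.proj g).smulRight ((g : L ≃ₐ[k] L) v)
  have hF : ∀ z, F z = ∑ g : G, z g • (g : L ≃ₐ[k] L) v := fun z => by simp [F]
  have hmem : ∀ z, F z ∈ Submodule.span K {w | w ∈ V ∧ w ∈ fixedField G} := by
    intro z
    have hz : z ∈ Submodule.span K (Set.range fun c : K => fun g : G => χ g c) := by rw [htop]; trivial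
    induction hz using Submodule.span_induction with
    | mem z hz =>
      obtain ⟨c, rfl⟩ := hz
      have hsum : F (fun g => χ g c) = avg G ((c : L) * v) := by
        rw [hF, avg_apply]
        exact Finset.sum_congr rfl fun g _ => by rw [map_mul, IntermediateField.smul_def]; rfl
      refine Submodule.subset_span ⟨?_, mem_fixedField'.2 fun g hg => by rw [hsum, apply_avg G hg]⟩
      rw [hF]
      exact V.sum_mem fun g _ => V.smul_mem _ (hV g g.2 v hv)
    | zero => simp
    | add x y _ _ hx hy => rw [map_add]; exact add_mem hx hy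
    | smul a x _ hx => rw [map_smul]; exact Submodule.smul_mem _ a hx
  have h1 := hmem (Pi.single 1 1)
  rwa [hF, Finset.sum_eq_single 1, Pi.single_eq_same, one_smul, OneMemClass.coe_one, AlgEquiv.one_apply] at h1
  · intro g _ hg; rw [Pi.single_eq_of_ne hg, zero_smul]
  · simp

omit [CharZero L] in
theorem algebraicIndependent_of_le {F K : IntermediateField k L} (h : F ≤ K) {ι : Type*} {t : ι → L}
    (ht : AlgebraicIndependent K t) : AlgebraicIndependent F t := by
  rw [algebraicIndependent_iff_injective_aeval] at ht ⊢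
  have e : ∀ p : MvPolynomial ι F, aeval t p = aeval t (map (inclusion h).toRingHom p) := by
    intro p
    induction p using MvPolynomial.induction_on with
    | C a => simp [algebraMap_eq, IntermediateField.algebraMap_apply]
    | add p q hp hq => simp only [map_add, hp, hq]
    | mul_X p i hp => simp only [map_mul, hp, map_X, aeval_X]
  intro p q hpq
  rw [e, e] at hpq
  exact map_injective _ (inclusion h).toRingHom.injective (ht hpq)

theorem mem_of_fixed (K : IntermediateField k L) (G : Subgroup (L ≃ₐ[k] L)) [Fintype G]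
    (hK : ∀ σ ∈ G, ∀ x ∈ K, σ x ∈ K) (T : Set L) (hT : T ⊆ fixedField G) (hgen : IntermediateField.adjoin K T = ⊤)
    {x : L} (hx : x ∈ fixedField G) :
    x ∈ IntermediateField.adjoin (↥(K ⊓ fixedField G)) T := by
  obtain ⟨r, hr, d, hd, rfl⟩ := IntermediateField.mem_adjoin_iff_div.1
    (show x ∈ IntermediateField.adjoin K T by rw [hgen]; trivial)
  have hconj : ∀ σ ∈ G, ∀ z ∈ Algebra.adjoin K T, σ z ∈ Algebra.adjoin K T := by
    intro σ hσ z hz
    induction hz using Algebra.adjoin_induction with
    | mem y hy => rw [mem_fixedField'.1 (hT hy) σ hσ]; exact Algebra.subset_adjoin hy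
    | algebraMap c => exact Subalgebra.algebraMap_mem (Algebra.adjoin K T) (⟨σ c, hK σ hσ c c.2⟩ : K)
    | add y z _ _ hy hz => rw [map_add]; exact add_mem hy hz
    | mul y z _ _ hy hz => rw [map_mul]; exact mul_mem hy hz
  have hfix : ∀ z ∈ Algebra.adjoin K T, z ∈ fixedField G → z ∈ IntermediateField.adjoin (↥(K ⊓ fixedField G)) T := by
    intro z hz hzf
    have hlin : ∀ w ∈ Submodule.span K (Submonoid.closure T : Set L),
        avg G w ∈ IntermediateField.adjoin (↥(K ⊓ fixedField G)) T := by
      intro w hw
      suffices h : ∀ c : K, avg G (c • w) ∈ IntermediateField.adjoin (↥(K ⊓ fixedField G)) T by simpa using h 1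
      induction hw using Submodule.span_induction with
      | mem w hw =>
        intro c
        have hwf : ∀ g ∈ G, g w = w := by
          intro g hg
          induction hw using Submonoid.closure_induction with
          | mem y hy => exact mem_fixedField'.1 (hT hy) g hg
          | one => exact map_one g
          | mul y z _ _ hy hz => rw [map_mul, hy, hz]
        have e : avg G (c • w) = avg G (c : L) * w := by
          rw [avg_apply, avg_apply, Finset.sum_mul]
          exact Finset.sum_congr rfl fun g _ => by rw [IntermediateField.smul_def, smul_eq_mul, map_mul, hwf g g.2]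
        rw [e]
        refine mul_mem ((IntermediateField.adjoin (↥(K ⊓ fixedField G)) T).algebraMap_mem
          (⟨avg G (c : L), ?_, mem_fixedField'.2 fun g hg => apply_avg G hg _⟩ : ↥(K ⊓ fixedField G))) ?_
        · rw [avg_apply]; exact sum_mem fun g _ => hK g g.2 c c.2
        · clear e hwf
          induction hw using Submonoid.closure_induction with
          | mem y hy => exact IntermediateField.subset_adjoin _ _ hy
          | one => exact one_mem _
          | mul y z _ _ hy hz => exact mul_mem hy hz
      | zero => intro c; rw [smul_zero, map_zero]; exact zero_mem _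
      | add y z _ _ hy hz => intro c; rw [smul_add, map_add]; exact add_mem (hy c) (hz c)
      | smul a y _ hy => intro c; rw [smul_smul]; exact hy _
    have h1 := hlin z (by rw [← Algebra.adjoin_eq_span]; exact hz)
    have h2 : avg G z = (Fintype.card G : L) * z := by
      rw [avg_apply, Finset.sum_congr rfl fun (g : G) _ => mem_fixedField'.1 hzf g g.2, Finset.sum_const,
        Finset.card_univ, nsmul_eq_mul]
    have hc : (Fintype.card G : L) ≠ 0 := Nat.cast_ne_zero.2 Fintype.card_ne_zero
    rw [h2] at h1
    have := mul_mem (inv_mem (_root_.natCast_mem (IntermediateField.adjoin (↥(K ⊓ fixedField G)) T) (Fintype.card G))) h1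
    rwa [inv_mul_cancel_left₀ hc] at this
  classical
  by_cases hd0 : d = 0
  · subst hd0; rw [div_zero]; exact zero_mem _
  let N : L := ∏ g : G, (g : L ≃ₐ[k] L) d
  have hN : N ∈ Algebra.adjoin K T := Subalgebra.prod_mem _ fun g _ => hconj g g.2 d hd
  have hN0 : N ≠ 0 := Finset.prod_ne_zero_iff.2 fun g _ => by
    simpa using hd0
  have hNf : N ∈ fixedField G := mem_fixedField'.2 fun σ hσ => by
    rw [map_prod]
    exact Fintype.prod_equiv (Equiv.mulLeft (⟨σ, hσ⟩ : G)) _ _ fun g => by simp [Equiv.coe_mulLeft]
  have hM : r * ∏ g ∈ Finset.univ.erase (1 : G), (g : L ≃ₐ[k] L) d = r / d * N := by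
    show _ = r / d * ∏ g : G, (g : L ≃ₐ[k] L) d
    rw [← Finset.mul_prod_erase _ _ (Finset.mem_univ (1 : G)), OneMemClass.coe_one, AlgEquiv.one_apply, ← mul_assoc,
      div_mul_cancel₀ _ hd0]
  have h1 := hfix (r / d * N) (hM ▸ mul_mem hr (Subalgebra.prod_mem _ fun g _ => hconj g g.2 d hd)) (mul_mem hx hNf)
  have := div_mem h1 (hfix N hN hNf)
  rwa [mul_div_cancel_right₀ _ hN0] at this

/-- The no-name lemma. -/
theorem noName (K : IntermediateField k L) (G : Subgroup (L ≃ₐ[k] L)) [Fintype G]
    (hK : ∀ σ ∈ G, ∀ x ∈ K, σ x ∈ K) (hfaith : ∀ σ ∈ G, (∀ x ∈ K, σ x = x) → σ = 1)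
    {m : ℕ} (y : Fin m → L) (hy : AlgebraicIndependent K y) (hgen : IntermediateField.adjoin K (Set.range y) = ⊤)
    (hlin : ∀ σ ∈ G, ∀ j, σ (y j) ∈ Submodule.span K (Set.range y)) :
    ∃ t : Fin m → L, AlgebraicIndependent (↥(K ⊓ fixedField G)) t ∧
      IntermediateField.restrictScalars k (IntermediateField.adjoin (↥(K ⊓ fixedField G)) (Set.range t)) =
        fixedField G := by
  classical
  have hV : ∀ σ ∈ G, ∀ v ∈ Submodule.span K (Set.range y), σ v ∈ Submodule.span K (Set.range y) := by
    intro σ hσ v hv
    induction hv using Submodule.span_induction with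
    | mem v hv => obtain ⟨j, rfl⟩ := hv; exact hlin σ hσ j
    | zero => simp
    | add a b _ _ ha hb => rw [map_add]; exact add_mem ha hb
    | smul c a _ ha =>
      rw [IntermediateField.smul_def, smul_eq_mul, map_mul]
      exact Submodule.smul_mem _ (⟨σ c, hK σ hσ c c.2⟩ : K) ha
  let W : Set L := {w | w ∈ Submodule.span K (Set.range y) ∧ w ∈ fixedField G}
  have hW : Submodule.span K W = Submodule.span K (Set.range y) :=
    le_antisymm (Submodule.span_le.2 fun w hw => hw.1) (le_span_fixed K G hK hfaith _ hV)
  obtain ⟨b, hbW, hbspan, hbli⟩ := exists_linearIndependent K W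
  have hyli : LinearIndependent K y := hy.linearIndependent
  let By := Module.Basis.span hyli
  haveI : Module.Finite K (Submodule.span K (Set.range y)) := Module.Finite.of_basis By
  haveI hfinspan : Module.Finite K (Submodule.span K b) := by rw [hbspan, hW]; infer_instance
  haveI : Finite b := hbli.finite_of_le_span_finite _ (Set.range y) (by
    rw [← hW, ← hbspan]; intro z hz; obtain ⟨z', rfl⟩ := hz; exact Submodule.subset_span z'.2)
  haveI := Fintype.ofFinite b
  have hcard : Fintype.card b = m := by
    have h1 := finrank_span_set_eq_card hbli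
    rw [hbspan, hW, finrank_span_eq_card hyli, Fintype.card_fin, Set.toFinset_card] at h1
    exact h1.symm
  let e : Fin m ≃ b := (Fintype.equivFinOfCardEq hcard).symm
  let t : Fin m → L := fun i => (e i : L)
  have hrange : Set.range t = b := by
    ext z
    exact ⟨fun ⟨i, hi⟩ => hi ▸ (e i).2, fun hz => ⟨e.symm ⟨z, hz⟩, by simp [t]⟩⟩
  have htfix : Set.range t ⊆ fixedField G := by rw [hrange]; exact fun z hz => (hbW hz).2
  have htspan : Submodule.span K (Set.range t) = Submodule.span K (Set.range y) := by rw [hrange, hbspan, hW]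
  have htli : LinearIndependent K t := hbli.comp e e.injective
  have hgen' : IntermediateField.adjoin K (Set.range t) = ⊤ := by
    rw [eq_top_iff, ← hgen, IntermediateField.adjoin_le_iff]
    rintro _ ⟨j, rfl⟩
    have hj : y j ∈ Submodule.span K (Set.range t) := htspan ▸ Submodule.subset_span ⟨j, rfl⟩
    exact (Submodule.span_le.2 (IntermediateField.subset_adjoin K (Set.range t)) :
      Submodule.span K (Set.range t) ≤ Subalgebra.toSubmodule (IntermediateField.adjoin K (Set.range t)).toSubalgebra) hj
  have ht : AlgebraicIndependent K t := by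
    have hM : ∀ i, ∃ c : Fin m → K, ∑ j, c j • y j = t i := fun i =>
      (Submodule.mem_span_range_iff_exists_fun K).1 (htspan ▸ Submodule.subset_span ⟨i, rfl⟩)
    have hN : ∀ j, ∃ c : Fin m → K, ∑ i, c i • t i = y j := fun j =>
      (Submodule.mem_span_range_iff_exists_fun K).1 (htspan ▸ Submodule.subset_span ⟨j, rfl⟩)
    choose M hM using hM
    choose N hN using hN
    have hMN : ∀ i l, ∑ j, M i j * N j l = if i = l then 1 else 0 := by
      intro i l
      have h0 : ∑ l, ((∑ j, M i j * N j l) - if i = l then 1 else 0) • t l = 0 := by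
        simp only [sub_smul, Finset.sum_sub_distrib, Finset.sum_smul, mul_smul, ite_smul, one_smul, zero_smul,
          Finset.sum_ite_eq, Finset.mem_univ, if_true]
        rw [Finset.sum_comm]
        simp only [← Finset.smul_sum, hN, hM, sub_self]
      exact sub_eq_zero.1 (Fintype.linearIndependent_iff.1 htli _ h0 l)
    let φ : MvPolynomial (Fin m) K →ₐ[K] MvPolynomial (Fin m) K := aeval fun i => ∑ j, C (M i j) * X j
    let ψ : MvPolynomial (Fin m) K →ₐ[K] MvPolynomial (Fin m) K := aeval fun j => ∑ l, C (N j l) * X l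
    have hψ : ψ.comp φ = AlgHom.id K _ := by
      apply algHom_ext
      intro i
      simp only [φ, AlgHom.comp_apply, aeval_X, map_sum, map_mul, algHom_C, AlgHom.id_apply, algebraMap_eq]
      simp only [ψ, aeval_X, Finset.mul_sum, ← mul_assoc, ← map_mul]
      rw [Finset.sum_comm]
      simp only [← Finset.sum_mul, ← map_sum, hMN]
      simp [apply_ite C]
    have hφ : aeval t = (aeval y).comp φ := by
      apply algHom_ext
      intro i
      simp only [φ, AlgHom.comp_apply, aeval_X, map_sum, map_mul, aeval_C]
      rw [← hM i]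
      simp [Algebra.smul_def]
    rw [algebraicIndependent_iff_injective_aeval, hφ]
    exact (algebraicIndependent_iff_injective_aeval.1 hy).comp (Function.LeftInverse.injective (g := ψ) fun p => DFunLike.congr_fun hψ p)
  refine ⟨t, algebraicIndependent_of_le inf_le_left ht, le_antisymm ?_ fun x hx => mem_of_fixed K G hK _ htfix hgen' hx⟩
  intro z hz
  rw [IntermediateField.mem_restrictScalars] at hz
  induction hz using IntermediateField.adjoin_induction with
  | mem y hy => exact htfix hy
  | algebraMap y => exact y.2.2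
  | add x y _ _ hx hy => exact add_mem hx hy
  | inv x _ hx => exact inv_mem hx
  | mul x y _ _ hx hy => exact mul_mem hx hy

end general

end Groth.Agent.Hopf35.NoName
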