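import Mathlib
import Groth.Agent.Hopf35.NoName
import Groth.Prelude.Def_W4c2brnrinvarInvFld

/-! Fields of invariants of linear groups: stable equivalence, symmetric groups. -/

set_option autoImplicit false

noncomputable section

open MvPolynomial IntermediateField

namespace Groth.Agent.Hopf35.NoNameFld

universe u v w

variable {k : Type u} [Field k]

local notation "P[" σ "]" => MvPolynomial σ k
local notation "L[" σ "]" => InvFld.Fld σ k

theorem algebraicIndependent_X (σ : Type v) : AlgebraicIndependent k (fun i : σ => (InvFld.X i : L[σ])) := by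
  have h := (MvPolynomial.algebraicIndependent_X σ k).map'
    (f := IsScalarTower.toAlgHom k P[σ] L[σ]) (IsFractionRing.injective P[σ] L[σ])
  exact h

theorem algebraMap_mem {σ : Type v} (S : IntermediateField k L[σ]) (h : ∀ i, InvFld.X i ∈ S) (p : P[σ]) :
    algebraMap P[σ] L[σ] p ∈ S := by
  induction p using MvPolynomial.induction_on with
  | C a => rw [← MvPolynomial.algebraMap_eq, ← IsScalarTower.algebraMap_apply]; exact S.algebraMap_mem a
  | add p q hp hq => rw [map_add]; exact add_mem hp hq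
  | mul_X p i hp => rw [map_mul]; exact mul_mem hp (h i)

theorem eq_top_of_X_mem {σ : Type v} (S : IntermediateField k L[σ]) (h : ∀ i, InvFld.X i ∈ S) : S = ⊤ := by
  refine eq_top_iff.2 fun x _ => ?_
  obtain ⟨a, b, -, rfl⟩ := IsFractionRing.div_surjective (A := P[σ]) x
  exact div_mem (algebraMap_mem S h a) (algebraMap_mem S h b)

theorem algHom_ext_X {σ : Type v} {B : Type w} [Field B] [Algebra k B] {f g : L[σ] →ₐ[k] B}
    (h : ∀ i, f (InvFld.X i) = g (InvFld.X i)) : f = g := by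
  refine IsLocalization.algHom_ext (nonZeroDivisors P[σ]) (MvPolynomial.algHom_ext fun i => ?_)
  exact h i

theorem mem_adjoin_of_linear {σ ι : Type*} (u : ι → σ) (G : Subgroup (L[σ] ≃ₐ[k] L[σ]))
    (hx : ∀ g ∈ G, ∀ i, g (InvFld.X (u i)) ∈ Submodule.span k (Set.range fun j => (InvFld.X (u j) : L[σ]))) :
    ∀ g ∈ G, ∀ x ∈ IntermediateField.adjoin k (Set.range fun j => (InvFld.X (u j) : L[σ])),
      g x ∈ IntermediateField.adjoin k (Set.range fun j => (InvFld.X (u j) : L[σ])) := by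
  intro g hg x hmem
  induction hmem using IntermediateField.adjoin_induction with
  | mem y hy =>
    obtain ⟨i, rfl⟩ := hy
    exact (Submodule.span_le.2 (IntermediateField.subset_adjoin k _) :
      Submodule.span k _ ≤ Subalgebra.toSubmodule (IntermediateField.adjoin k _).toSubalgebra) (hx g hg i)
  | algebraMap y => rw [AlgEquiv.commutes]; exact IntermediateField.algebraMap_mem _ y
  | add a b _ _ ha hb => rw [map_add]; exact add_mem ha hb
  | inv a _ ha => rw [map_inv₀]; exact inv_mem ha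
  | mul a b _ _ ha hb => rw [map_mul]; exact mul_mem ha hb

variable [CharZero k]

theorem charZero_Fld (σ : Type v) : CharZero L[σ] := charZero_of_injective_algebraMap (algebraMap k L[σ]).injective

/-- the no-name lemma for `k(V ⊕ W)` -/
theorem noName_sum {ι κ : Type} {m : ℕ} (eκ : Fin m ≃ κ) (G : Subgroup (L[ι ⊕ κ] ≃ₐ[k] L[ι ⊕ κ])) [Finite G]
    (hx : ∀ σ ∈ G, ∀ i : ι, σ (InvFld.X (Sum.inl i)) ∈ Submodule.span k (Set.range fun j : ι => (InvFld.X (Sum.inl j) : L[ι ⊕ κ])))
    (hy : ∀ σ ∈ G, ∀ i : κ, σ (InvFld.X (Sum.inr i)) ∈ Submodule.span k (Set.range fun j : κ => (InvFld.X (Sum.inr j) : L[ι ⊕ κ])))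
    (hfaith : ∀ σ ∈ G, (∀ i : ι, σ (InvFld.X (Sum.inl i)) = InvFld.X (Sum.inl i)) → σ = 1) :
    ∃ t : Fin m → L[ι ⊕ κ],
      AlgebraicIndependent (↥(IntermediateField.adjoin k (Set.range fun j : ι => (InvFld.X (Sum.inl j) : L[ι ⊕ κ])) ⊓ fixedField G)) t ∧
      IntermediateField.restrictScalars k (IntermediateField.adjoin
        (↥(IntermediateField.adjoin k (Set.range fun j : ι => (InvFld.X (Sum.inl j) : L[ι ⊕ κ])) ⊓ fixedField G)) (Set.range t)) =
        fixedField G := by
  haveI := charZero_Fld (k := k) (ι ⊕ κ)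
  haveI := Fintype.ofFinite G
  refine NoName.noName _ G (mem_adjoin_of_linear Sum.inl G hx) (fun σ hσ h => hfaith σ hσ fun i =>
    h _ (IntermediateField.subset_adjoin k _ ⟨i, rfl⟩)) (fun j => InvFld.X (Sum.inr (eκ j))) ?_ ?_ ?_
  · rw [algebraicIndependent_adjoin_iff]
    have h := (algebraicIndependent_X (k := k) (ι ⊕ κ)).comp (Sum.elim (Sum.inr ∘ eκ) Sum.inl)
      (by rintro (a | a) (b | b) h <;> simp_all)
    refine (AlgebraicIndependent.sumElim_iff.1 (show AlgebraicIndependent k (Sum.elim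
      (fun j => (InvFld.X (Sum.inr (eκ j)) : L[ι ⊕ κ])) (fun j : ι => (InvFld.X (Sum.inl j) : L[ι ⊕ κ]))) from ?_)).2
    convert h using 1
    funext a; rcases a with a | a <;> rfl
  · apply IntermediateField.restrictScalars_injective k
    rw [IntermediateField.restrictScalars_top]
    refine eq_top_of_X_mem _ fun i => ?_
    rw [IntermediateField.mem_restrictScalars]
    rcases i with i | i
    · exact IntermediateField.algebraMap_mem _ (⟨_, IntermediateField.subset_adjoin k _ ⟨i, rfl⟩⟩ :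
        IntermediateField.adjoin k (Set.range fun j : ι => (InvFld.X (Sum.inl j) : L[ι ⊕ κ])))
    · exact IntermediateField.subset_adjoin _ _ ⟨eκ.symm i, by simp⟩
  · intro σ hσ j
    have : Set.range (fun j : Fin m => (InvFld.X (Sum.inr (eκ j)) : L[ι ⊕ κ])) =
        Set.range fun j : κ => (InvFld.X (Sum.inr j) : L[ι ⊕ κ]) :=
      eκ.surjective.range_comp (fun j : κ => (InvFld.X (Sum.inr j) : L[ι ⊕ κ]))
    rw [this]
    exact Submodule.span_le_restrictScalars k _ _ (hy σ hσ _)

omit [CharZero k] in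
theorem exists_equiv {F₀ : Type v} [Field F₀] [Algebra k F₀] {L : Type w} [Field L] [Algebra k L]
    (j : F₀ →ₐ[k] L) {m : ℕ} (t : Fin m → L) {F : IntermediateField k L} (hF : j.fieldRange = F)
    (ht : AlgebraicIndependent F t) {M : IntermediateField k L}
    (hM : IntermediateField.restrictScalars k (IntermediateField.adjoin F (Set.range t)) = M) :
    Nonempty (InvFld.Fld (Fin m) F₀ ≃ₐ[k] M) := by
  subst hF
  let φ : MvPolynomial (Fin m) F₀ →ₐ[k] L := aevalTower j t
  have hφ : Function.Injective φ := by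
    let e : F₀ →+* j.fieldRange := j.toRingHom.codRestrict j.fieldRange.toSubfield fun x => ⟨x, rfl⟩
    have he : ∀ p, φ p = aeval t (map e p) := by
      intro p
      induction p using MvPolynomial.induction_on with
      | C a => simp [φ, e, IntermediateField.algebraMap_apply]; rfl
      | add p q hp hq => simp only [map_add, hp, hq]
      | mul_X p i hp => simp only [map_mul, hp, map_X, aeval_X]; simp [φ]
    intro p q h
    rw [he, he] at h
    exact map_injective _ e.injective (algebraicIndependent_iff_injective_aeval.1 ht h)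
  let Φ : InvFld.Fld (Fin m) F₀ →ₐ[k] L := IsFractionRing.liftAlgHom hφ
  have hval : ∀ p, Φ (algebraMap (MvPolynomial (Fin m) F₀) _ p) = φ p := fun p => IsFractionRing.lift_algebraMap hφ p
  have hr : Φ.fieldRange = M := by
    subst hM
    apply le_antisymm
    · rintro _ ⟨x, rfl⟩
      obtain ⟨a, b, -, rfl⟩ := IsFractionRing.div_surjective (A := MvPolynomial (Fin m) F₀) x
      rw [map_div₀, IntermediateField.mem_restrictScalars]
      have hp : ∀ p, φ p ∈ IntermediateField.adjoin j.fieldRange (Set.range t) := by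
        intro p
        induction p using MvPolynomial.induction_on with
        | C a => simp only [φ, aevalTower_C]; exact IntermediateField.algebraMap_mem _ (⟨j a, a, rfl⟩ : j.fieldRange)
        | add p q hp hq => rw [map_add]; exact add_mem hp hq
        | mul_X p i hp => rw [map_mul]; exact mul_mem hp (IntermediateField.subset_adjoin _ _ ⟨i, by simp [φ]⟩)
      exact div_mem (by show Φ _ ∈ _; rw [hval]; exact hp a) (by show Φ _ ∈ _; rw [hval]; exact hp b)
    · intro x hx
      rw [IntermediateField.mem_restrictScalars] at hx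
      induction hx using IntermediateField.adjoin_induction with
      | mem y hy => obtain ⟨i, rfl⟩ := hy; exact ⟨algebraMap (MvPolynomial (Fin m) F₀) _ (X i), by
          show Φ _ = _; rw [hval]; simp [φ]⟩
      | algebraMap y => obtain ⟨_, a, rfl⟩ := y; exact ⟨algebraMap (MvPolynomial (Fin m) F₀) _ (C a), by
          show Φ _ = _; rw [hval]; simp [φ, IntermediateField.algebraMap_apply]⟩
      | add a b _ _ ha hb => exact add_mem ha hb
      | inv a _ ha => exact inv_mem ha
      | mul a b _ _ ha hb => exact mul_mem ha hb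
  exact ⟨(AlgEquiv.ofInjectiveField Φ).trans (IntermediateField.equivOfEq hr)⟩

omit [CharZero k] in
theorem fieldRange_fix {σ τ : Type} (G : Subgroup (L[σ] ≃ₐ[k] L[σ])) (Γ : Subgroup (L[τ] ≃ₐ[k] L[τ]))
    (j : L[σ] →ₐ[k] L[τ]) (v : σ → τ) (hv : ∀ i, j (InvFld.X i) = InvFld.X (v i))
    (h1 : ∀ γ ∈ Γ, ∃ g ∈ G, ∀ x, γ (j x) = j (g x)) (h2 : ∀ g ∈ G, ∃ γ ∈ Γ, ∀ x, γ (j x) = j (g x)) :
    (j.comp (fixedField G).val).fieldRange =
      IntermediateField.adjoin k (Set.range fun i => (InvFld.X (v i) : L[τ])) ⊓ fixedField Γ := by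
  apply le_antisymm
  · rintro _ ⟨⟨x, hx⟩, rfl⟩
    show j x ∈ IntermediateField.adjoin k (Set.range fun i => (InvFld.X (v i) : L[τ])) ⊓ fixedField Γ
    refine ⟨?_, NoName.mem_fixedField'.2 fun γ hγ => ?_⟩
    · have : (IntermediateField.adjoin k (Set.range fun i => (InvFld.X (v i) : L[τ]))).comap j = ⊤ :=
        eq_top_of_X_mem _ fun i => by
          show j (InvFld.X i) ∈ IntermediateField.adjoin k (Set.range fun i => (InvFld.X (v i) : L[τ]))
          rw [hv]; exact IntermediateField.subset_adjoin k _ ⟨i, rfl⟩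
      have hx' : x ∈ (IntermediateField.adjoin k (Set.range fun i => (InvFld.X (v i) : L[τ]))).comap j := by
        rw [this]; trivial
      exact hx'
    · obtain ⟨g, hg, hgx⟩ := h1 γ hγ
      rw [hgx, NoName.mem_fixedField'.1 hx g hg]
  · rintro y ⟨hy1, hy2⟩
    obtain ⟨x, rfl⟩ : y ∈ j.fieldRange := (IntermediateField.adjoin_le_iff.2 (by
      rintro _ ⟨i, rfl⟩; exact ⟨InvFld.X i, hv i⟩)) hy1
    refine ⟨⟨x, NoName.mem_fixedField'.2 fun g hg => ?_⟩, rfl⟩
    obtain ⟨γ, hγ, hγx⟩ := h2 g hg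
    exact j.toRingHom.injective ((hγx x).symm.trans (NoName.mem_fixedField'.1 hy2 γ hγ))

/-- the no-name lemma over the second summand -/
theorem noName_swap {n : ℕ} {κ : Type} (G : Subgroup (L[Fin n ⊕ κ] ≃ₐ[k] L[Fin n ⊕ κ])) [Finite G]
    (hx : ∀ σ ∈ G, ∀ i : Fin n, σ (InvFld.X (Sum.inl i)) ∈ Submodule.span k (Set.range fun j : Fin n => (InvFld.X (Sum.inl j) : L[Fin n ⊕ κ])))
    (hy : ∀ σ ∈ G, ∀ i : κ, σ (InvFld.X (Sum.inr i)) ∈ Submodule.span k (Set.range fun j : κ => (InvFld.X (Sum.inr j) : L[Fin n ⊕ κ])))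
    (hfaith : ∀ σ ∈ G, (∀ i : κ, σ (InvFld.X (Sum.inr i)) = InvFld.X (Sum.inr i)) → σ = 1) :
    ∃ t : Fin n → L[Fin n ⊕ κ],
      AlgebraicIndependent (↥(IntermediateField.adjoin k (Set.range fun j : κ => (InvFld.X (Sum.inr j) : L[Fin n ⊕ κ])) ⊓ fixedField G)) t ∧
      IntermediateField.restrictScalars k (IntermediateField.adjoin
        (↥(IntermediateField.adjoin k (Set.range fun j : κ => (InvFld.X (Sum.inr j) : L[Fin n ⊕ κ])) ⊓ fixedField G)) (Set.range t)) =
        fixedField G := by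
  haveI := charZero_Fld (k := k) (Fin n ⊕ κ)
  haveI := Fintype.ofFinite G
  refine NoName.noName _ G (mem_adjoin_of_linear Sum.inr G hy) (fun σ hσ h => hfaith σ hσ fun i =>
    h _ (IntermediateField.subset_adjoin k _ ⟨i, rfl⟩)) (fun j => InvFld.X (Sum.inl j)) ?_ ?_ ?_
  · rw [algebraicIndependent_adjoin_iff]
    refine (AlgebraicIndependent.sumElim_iff.1 (show AlgebraicIndependent k (Sum.elim
      (fun j : Fin n => (InvFld.X (Sum.inl j) : L[Fin n ⊕ κ])) (fun j : κ => (InvFld.X (Sum.inr j) : L[Fin n ⊕ κ]))) from ?_)).2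
    convert algebraicIndependent_X (k := k) (Fin n ⊕ κ) using 1
    funext a; rcases a with a | a <;> rfl
  · apply IntermediateField.restrictScalars_injective k
    rw [IntermediateField.restrictScalars_top]
    refine eq_top_of_X_mem _ fun i => ?_
    rw [IntermediateField.mem_restrictScalars]
    rcases i with i | i
    · exact IntermediateField.subset_adjoin _ _ ⟨i, rfl⟩
    · exact IntermediateField.algebraMap_mem _ (⟨_, IntermediateField.subset_adjoin k _ ⟨i, rfl⟩⟩ :
        IntermediateField.adjoin k (Set.range fun j : κ => (InvFld.X (Sum.inr j) : L[Fin n ⊕ κ])))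
  · exact fun σ hσ j => Submodule.span_le_restrictScalars k _ _ (hx σ hσ j)

omit [CharZero k] in
/-- a linear automorphism restricts to the polynomial ring -/
theorem exists_poly {σ : Type} (g : L[σ] ≃ₐ[k] L[σ])
    (hg : ∀ i : σ, g (InvFld.X i) ∈ Submodule.span k (Set.range fun j : σ => (InvFld.X j : L[σ]))) :
    ∃ p : P[σ] →ₐ[k] P[σ], (∀ x, algebraMap P[σ] L[σ] (p x) = g (algebraMap P[σ] L[σ] x)) ∧
      ∀ i, p (X i) ∈ Submodule.span k (Set.range fun j : σ => (X j : P[σ])) := by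
  have h : ∀ i, ∃ q ∈ Submodule.span k (Set.range fun j : σ => (X j : P[σ])), algebraMap P[σ] L[σ] q = g (InvFld.X i) := by
    intro i
    have := hg i
    rw [show (fun j : σ => (InvFld.X j : L[σ])) = (IsScalarTower.toAlgHom k P[σ] L[σ]).toLinearMap ∘ fun j => X j from rfl,
      Set.range_comp, Submodule.span_image] at this
    exact this
  choose q hq hq' using h
  refine ⟨aeval q, fun x => ?_, fun i => by rw [aeval_X]; exact hq i⟩
  have := DFunLike.congr_fun (MvPolynomial.algHom_ext (f := (IsScalarTower.toAlgHom k P[σ] L[σ]).comp (aeval q))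
    (g := (g : L[σ] →ₐ[k] L[σ]).comp (IsScalarTower.toAlgHom k P[σ] L[σ])) fun i => by
      simpa using hq' i) x
  exact this

/-- Stable equivalence of the fields of invariants of two faithful representations. -/
theorem stablyEquivalent {n m : ℕ}
    (G : Subgroup (L[Fin n] ≃ₐ[k] L[Fin n])) [Finite G]
    (H : Subgroup (L[Fin m] ≃ₐ[k] L[Fin m])) [Finite H] (e : G ≃* H)
    (hG : ∀ σ ∈ G, ∀ i : Fin n, σ (InvFld.X i) ∈ Submodule.span k (Set.range fun j : Fin n => (InvFld.X j : L[Fin n])))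
    (hH : ∀ τ ∈ H, ∀ i : Fin m, τ (InvFld.X i) ∈ Submodule.span k (Set.range fun j : Fin m => (InvFld.X j : L[Fin m]))) :
    Nonempty (InvFld.Fld (Fin m) (fixedField G) ≃ₐ[k] InvFld.Fld (Fin n) (fixedField H)) := by
  classical
  choose p hp hpl using fun g : G => exists_poly (g : L[Fin n] ≃ₐ[k] L[Fin n]) (hG g g.2)
  choose q hq hql using fun h : H => exists_poly (h : L[Fin m] ≃ₐ[k] L[Fin m]) (hH h h.2)
  have pmul : ∀ g g' x, p (g * g') x = p g (p g' x) := fun g g' x =>
    IsFractionRing.injective P[Fin n] L[Fin n] (by rw [hp, hp, hp]; rfl)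
  have pone : ∀ x, p 1 x = x := fun x => IsFractionRing.injective P[Fin n] L[Fin n] (by rw [hp]; rfl)
  have qmul : ∀ g g' x, q (g * g') x = q g (q g' x) := fun g g' x =>
    IsFractionRing.injective P[Fin m] L[Fin m] (by rw [hq, hq, hq]; rfl)
  have qone : ∀ x, q 1 x = x := fun x => IsFractionRing.injective P[Fin m] L[Fin m] (by rw [hq]; rfl)
  let i₁ : P[Fin n] →ₐ[k] P[Fin n ⊕ Fin m] := rename Sum.inl
  let i₂ : P[Fin m] →ₐ[k] P[Fin n ⊕ Fin m] := rename Sum.inr
  let Q : G → (P[Fin n ⊕ Fin m] →ₐ[k] P[Fin n ⊕ Fin m]) := fun g =>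
    aeval (Sum.elim (fun i => i₁ (p g (X i))) fun i => i₂ (q (e g) (X i)))
  have hQ₁ : ∀ g x, Q g (i₁ x) = i₁ (p g x) := fun g x => DFunLike.congr_fun
    (MvPolynomial.algHom_ext (f := (Q g).comp i₁) (g := i₁.comp (p g)) fun i => by simp [Q, i₁]) x
  have hQ₂ : ∀ g x, Q g (i₂ x) = i₂ (q (e g) x) := fun g x => DFunLike.congr_fun
    (MvPolynomial.algHom_ext (f := (Q g).comp i₂) (g := i₂.comp (q (e g))) fun i => by simp [Q, i₂]) x
  have Qmul : ∀ g g' x, Q (g * g') x = Q g (Q g' x) := fun g g' x => DFunLike.congr_fun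
    (MvPolynomial.algHom_ext (f := Q (g * g')) (g := (Q g).comp (Q g')) fun i => by
      rcases i with i | i
      · rw [AlgHom.comp_apply, show (X (Sum.inl i) : P[Fin n ⊕ Fin m]) = i₁ (X i) by simp [i₁], hQ₁, hQ₁, hQ₁, pmul]
      · rw [AlgHom.comp_apply, show (X (Sum.inr i) : P[Fin n ⊕ Fin m]) = i₂ (X i) by simp [i₂], hQ₂, hQ₂, hQ₂,
          map_mul, qmul]) x
  have Qone : ∀ x, Q 1 x = x := fun x => DFunLike.congr_fun
    (MvPolynomial.algHom_ext (f := Q 1) (g := AlgHom.id k _) fun i => by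
      rcases i with i | i
      · rw [show (X (Sum.inl i) : P[Fin n ⊕ Fin m]) = i₁ (X i) by simp [i₁], hQ₁, pone]; rfl
      · rw [show (X (Sum.inr i) : P[Fin n ⊕ Fin m]) = i₂ (X i) by simp [i₂], hQ₂, map_one, qone]; rfl) x
  let Qe : G → (P[Fin n ⊕ Fin m] ≃ₐ[k] P[Fin n ⊕ Fin m]) := fun g => AlgEquiv.ofAlgHom (Q g) (Q g⁻¹)
    (AlgHom.ext fun x => by rw [AlgHom.comp_apply, ← Qmul, mul_inv_cancel, Qone]; rfl)
    (AlgHom.ext fun x => by rw [AlgHom.comp_apply, ← Qmul, inv_mul_cancel, Qone]; rfl)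
  let Φ₀ : G → (L[Fin n ⊕ Fin m] ≃ₐ[k] L[Fin n ⊕ Fin m]) := fun g => IsFractionRing.algEquivOfAlgEquiv (Qe g)
  have hΦ₀ : ∀ g x, Φ₀ g (algebraMap P[Fin n ⊕ Fin m] _ x) = algebraMap P[Fin n ⊕ Fin m] _ (Q g x) := fun g x =>
    IsFractionRing.algEquivOfAlgEquiv_algebraMap (Qe g) x
  let Φ : G →* (L[Fin n ⊕ Fin m] ≃ₐ[k] L[Fin n ⊕ Fin m]) :=
    { toFun := Φ₀
      map_one' := AlgEquiv.ext fun x => by
        obtain ⟨a, b, -, rfl⟩ := IsFractionRing.div_surjective (A := P[Fin n ⊕ Fin m]) x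
        rw [map_div₀, hΦ₀, hΦ₀, Qone, Qone]; rfl
      map_mul' := fun g g' => AlgEquiv.ext fun x => by
        obtain ⟨a, b, -, rfl⟩ := IsFractionRing.div_surjective (A := P[Fin n ⊕ Fin m]) x
        rw [AlgEquiv.mul_apply, map_div₀, map_div₀, map_div₀, hΦ₀, hΦ₀, hΦ₀, hΦ₀, hΦ₀, hΦ₀, Qmul, Qmul] }
  let Γ := Φ.range
  haveI : Finite Γ := Finite.of_surjective Φ.rangeRestrict Φ.rangeRestrict_surjective
  let A := algebraMap P[Fin n ⊕ Fin m] L[Fin n ⊕ Fin m]
  let A₁ : P[Fin n] →ₐ[k] L[Fin n ⊕ Fin m] := (IsScalarTower.toAlgHom k _ _).comp i₁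
  let A₂ : P[Fin m] →ₐ[k] L[Fin n ⊕ Fin m] := (IsScalarTower.toAlgHom k _ _).comp i₂
  have hA₁ : Function.Injective A₁ := (IsFractionRing.injective P[Fin n ⊕ Fin m] _).comp (rename_injective _ Sum.inl_injective)
  have hA₂ : Function.Injective A₂ := (IsFractionRing.injective P[Fin n ⊕ Fin m] _).comp (rename_injective _ Sum.inr_injective)
  let j₁ : L[Fin n] →ₐ[k] L[Fin n ⊕ Fin m] := IsFractionRing.liftAlgHom hA₁
  let j₂ : L[Fin m] →ₐ[k] L[Fin n ⊕ Fin m] := IsFractionRing.liftAlgHom hA₂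
  have hj₁ : ∀ x, j₁ (algebraMap P[Fin n] _ x) = A (i₁ x) := fun x => IsFractionRing.lift_algebraMap hA₁ x
  have hj₂ : ∀ x, j₂ (algebraMap P[Fin m] _ x) = A (i₂ x) := fun x => IsFractionRing.lift_algebraMap hA₂ x
  have hjX₁ : ∀ i, j₁ (InvFld.X i) = InvFld.X (Sum.inl i) := fun i => by
    show j₁ (algebraMap P[Fin n] _ (X i)) = _; rw [hj₁]; simp [A, i₁]
  have hjX₂ : ∀ i, j₂ (InvFld.X i) = InvFld.X (Sum.inr i) := fun i => by
    show j₂ (algebraMap P[Fin m] _ (X i)) = _; rw [hj₂]; simp [A, i₂]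
  have hc₁ : ∀ g x, Φ g (j₁ x) = j₁ ((g : L[Fin n] ≃ₐ[k] L[Fin n]) x) := fun g x => DFunLike.congr_fun
    (algHom_ext_X (f := (Φ g).toAlgHom.comp j₁)
      (g := j₁.comp (g : L[Fin n] ≃ₐ[k] L[Fin n]).toAlgHom) fun i => by
      show Φ₀ g (j₁ (algebraMap P[Fin n] _ (X i))) = j₁ ((g : L[Fin n] ≃ₐ[k] L[Fin n]) (algebraMap P[Fin n] _ (X i)))
      rw [← hp g, hj₁, hj₁, hΦ₀, hQ₁]) x
  have hc₂ : ∀ g x, Φ g (j₂ x) = j₂ ((e g : L[Fin m] ≃ₐ[k] L[Fin m]) x) := fun g x => DFunLike.congr_fun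
    (algHom_ext_X (f := (Φ g).toAlgHom.comp j₂)
      (g := j₂.comp (e g : L[Fin m] ≃ₐ[k] L[Fin m]).toAlgHom) fun i => by
      show Φ₀ g (j₂ (algebraMap P[Fin m] _ (X i))) = j₂ ((e g : L[Fin m] ≃ₐ[k] L[Fin m]) (algebraMap P[Fin m] _ (X i)))
      rw [← hq (e g), hj₂, hj₂, hΦ₀, hQ₂]) x
  have hs₁ : Submodule.span k (Set.range fun j : Fin n => (InvFld.X (Sum.inl j) : L[Fin n ⊕ Fin m])) =
      (Submodule.span k (Set.range fun j : Fin n => (InvFld.X j : L[Fin n]))).map j₁.toLinearMap := by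
    rw [Submodule.map_span, ← Set.range_comp]
    congr 2; funext i; exact (hjX₁ i).symm
  have hs₂ : Submodule.span k (Set.range fun j : Fin m => (InvFld.X (Sum.inr j) : L[Fin n ⊕ Fin m])) =
      (Submodule.span k (Set.range fun j : Fin m => (InvFld.X j : L[Fin m]))).map j₂.toLinearMap := by
    rw [Submodule.map_span, ← Set.range_comp]
    congr 2; funext i; exact (hjX₂ i).symm
  have hx : ∀ σ ∈ Γ, ∀ i : Fin n, σ (InvFld.X (Sum.inl i)) ∈
      Submodule.span k (Set.range fun j : Fin n => (InvFld.X (Sum.inl j) : L[Fin n ⊕ Fin m])) := by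
    rintro _ ⟨g, rfl⟩ i
    rw [hs₁, ← hjX₁, hc₁]
    exact ⟨_, hG g g.2 i, rfl⟩
  have hy : ∀ σ ∈ Γ, ∀ i : Fin m, σ (InvFld.X (Sum.inr i)) ∈
      Submodule.span k (Set.range fun j : Fin m => (InvFld.X (Sum.inr j) : L[Fin n ⊕ Fin m])) := by
    rintro _ ⟨g, rfl⟩ i
    rw [hs₂, ← hjX₂, hc₂]
    exact ⟨_, hH _ (e g).2 i, rfl⟩
  have hker₁ : ∀ g : G, (∀ i, Φ g (InvFld.X (Sum.inl i)) = InvFld.X (Sum.inl i)) → g = 1 := fun g h =>
    Subtype.ext (AlgEquiv.ext fun x => DFunLike.congr_fun (algHom_ext_X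
      (f := (g : L[Fin n] ≃ₐ[k] L[Fin n]).toAlgHom) (g := AlgHom.id k L[Fin n]) fun i => j₁.toRingHom.injective (by
        show j₁ ((g : L[Fin n] ≃ₐ[k] L[Fin n]) _) = j₁ _
        rw [← hc₁, hjX₁, h i]; exact (hjX₁ i).symm)) x)
  have hker₂ : ∀ g : G, (∀ i, Φ g (InvFld.X (Sum.inr i)) = InvFld.X (Sum.inr i)) → g = 1 := fun g h => e.injective (by
    rw [map_one]
    exact Subtype.ext (AlgEquiv.ext fun x => DFunLike.congr_fun (algHom_ext_X
      (f := (e g : L[Fin m] ≃ₐ[k] L[Fin m]).toAlgHom) (g := AlgHom.id k L[Fin m]) fun i => j₂.toRingHom.injective (by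
        show j₂ ((e g : L[Fin m] ≃ₐ[k] L[Fin m]) _) = j₂ _
        rw [← hc₂, hjX₂, h i]; exact (hjX₂ i).symm)) x))
  obtain ⟨t, ht, hM⟩ := noName_sum (ι := Fin n) (Equiv.refl (Fin m)) Γ hx hy (by
    rintro _ ⟨g, rfl⟩ h
    rw [hker₁ g h, map_one])
  obtain ⟨-, -, s, hs, hN⟩ : ∃ _ : True, True ∧ ∃ t : Fin n → L[Fin n ⊕ Fin m], AlgebraicIndependent
      (↥(IntermediateField.adjoin k (Set.range fun j : Fin m => (InvFld.X (Sum.inr j) : L[Fin n ⊕ Fin m])) ⊓ fixedField Γ)) t ∧
      IntermediateField.restrictScalars k (IntermediateField.adjoin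
        (↥(IntermediateField.adjoin k (Set.range fun j : Fin m => (InvFld.X (Sum.inr j) : L[Fin n ⊕ Fin m])) ⊓ fixedField Γ)) (Set.range t)) =
        fixedField Γ :=
    ⟨trivial, trivial, noName_swap Γ hx hy (by rintro _ ⟨g, rfl⟩ h; rw [hker₂ g h, map_one])⟩
  have hF₁ := fieldRange_fix G Γ j₁ Sum.inl hjX₁ (by rintro _ ⟨g, rfl⟩; exact ⟨g, g.2, hc₁ g⟩)
    fun g hg => ⟨Φ ⟨g, hg⟩, ⟨_, rfl⟩, hc₁ ⟨g, hg⟩⟩
  have hF₂ := fieldRange_fix H Γ j₂ Sum.inr hjX₂ (by rintro _ ⟨g, rfl⟩; exact ⟨e g, (e g).2, hc₂ g⟩)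
    fun h hh => ⟨Φ (e.symm ⟨h, hh⟩), ⟨_, rfl⟩, fun x => by rw [hc₂, e.apply_symm_apply]⟩
  obtain ⟨E₁⟩ := exists_equiv _ t hF₁ ht hM
  obtain ⟨E₂⟩ := exists_equiv _ s hF₂ hs hN
  exact ⟨E₁.trans E₂.symm⟩

/-- the permutation representation has purely transcendental invariants -/
theorem exists_pure_fixedField_perm (n : ℕ) : ∃ H : Subgroup (L[Fin n] ≃ₐ[k] L[Fin n]), Finite H ∧
    Nonempty (Equiv.Perm (Fin n) ≃* H) ∧
    (∀ τ ∈ H, ∀ i : Fin n, τ (InvFld.X i) ∈ Submodule.span k (Set.range fun j : Fin n => (InvFld.X j : L[Fin n]))) ∧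
    ∃ t : Fin n → L[Fin n], AlgebraicIndependent k t ∧ IntermediateField.adjoin k (Set.range t) = fixedField H := by
  classical
  let R : Equiv.Perm (Fin n) → (L[Fin n] ≃ₐ[k] L[Fin n]) := fun π => IsFractionRing.algEquivOfAlgEquiv (renameEquiv k π)
  have hR : ∀ π x, R π (algebraMap P[Fin n] _ x) = algebraMap P[Fin n] _ (rename π x) := fun π x =>
    IsFractionRing.algEquivOfAlgEquiv_algebraMap (renameEquiv k π) x
  let Φ : Equiv.Perm (Fin n) →* (L[Fin n] ≃ₐ[k] L[Fin n]) :=
    { toFun := R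
      map_one' := AlgEquiv.ext fun x => DFunLike.congr_fun (algHom_ext_X (f := (R 1).toAlgHom) (g := AlgHom.id k _)
        fun i => by show R 1 (algebraMap P[Fin n] _ (X i)) = algebraMap P[Fin n] _ (X i); rw [hR, rename_X]; rfl) x
      map_mul' := fun π π' => AlgEquiv.ext fun x => DFunLike.congr_fun (algHom_ext_X (f := (R (π * π')).toAlgHom)
        (g := (R π).toAlgHom.comp (R π').toAlgHom) fun i => by
          show R (π * π') (algebraMap P[Fin n] _ (X i)) = R π (R π' (algebraMap P[Fin n] _ (X i)))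
          rw [hR, hR, hR, rename_X, rename_X, rename_X]; rfl) x }
  have hinj : Function.Injective Φ := by
    intro π π' h
    refine Equiv.ext fun i => ?_
    have := DFunLike.congr_fun h (InvFld.X i)
    change R π (algebraMap P[Fin n] _ (X i)) = R π' (algebraMap P[Fin n] _ (X i)) at this
    rw [hR, hR, rename_X, rename_X] at this
    exact X_injective (IsFractionRing.injective P[Fin n] L[Fin n] this)
  refine ⟨Φ.range, Finite.of_surjective Φ.rangeRestrict Φ.rangeRestrict_surjective, ⟨MonoidHom.ofInjective hinj⟩,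
    ?_, fun i => algebraMap P[Fin n] _ (esymm (Fin n) k (i + 1)), ?_, le_antisymm ?_ ?_⟩
  · rintro _ ⟨π, rfl⟩ i
    refine Submodule.subset_span ⟨π i, ?_⟩
    show _ = R π (algebraMap P[Fin n] _ (X i))
    rw [hR, rename_X]
  · have h := (MvPolynomial.algebraicIndependent_X (Fin n) k).map'
      (f := (IsScalarTower.toAlgHom k P[Fin n] L[Fin n]).comp ((symmetricSubalgebra (Fin n) k).val.comp (esymmAlgHom (Fin n) k n)))
      ((IsFractionRing.injective P[Fin n] L[Fin n]).comp
        (Subtype.val_injective.comp (esymmAlgHom_injective k (Fintype.card_fin n).ge)))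
    convert h using 1
    funext i
    simp [esymmAlgHom]
  · rw [IntermediateField.adjoin_le_iff]
    rintro _ ⟨i, rfl⟩
    refine NoName.mem_fixedField'.2 ?_
    rintro _ ⟨π, rfl⟩
    show R π _ = _
    rw [hR, rename_esymm]
  · intro x hx
    obtain ⟨a, b, hb, rfl⟩ := IsFractionRing.div_surjective (A := P[Fin n]) x
    have hb0 : b ≠ 0 := nonZeroDivisors.ne_zero hb
    set T := IntermediateField.adjoin k (Set.range fun i : Fin n => algebraMap P[Fin n] L[Fin n] (esymm (Fin n) k (i + 1)))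
    have hsymm : ∀ p : P[Fin n], p.IsSymmetric → algebraMap P[Fin n] L[Fin n] p ∈ T := by
      intro p hp
      obtain ⟨q, hq⟩ := esymmAlgHom_surjective k (Fintype.card_fin n).le ⟨p, hp⟩
      have : p = aeval (fun i : Fin n => esymm (Fin n) k (i + 1)) q := by
        rw [← esymmAlgHom_apply, hq]
      rw [this]
      clear hq this
      induction q using MvPolynomial.induction_on with
      | C c => rw [aeval_C, ← IsScalarTower.algebraMap_apply]; exact T.algebraMap_mem c
      | add p q hp hq => rw [map_add, map_add]; exact add_mem hp hq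
      | mul_X p i hp => rw [map_mul, map_mul, aeval_X]; exact mul_mem hp (IntermediateField.subset_adjoin k _ ⟨i, rfl⟩)
    let N : P[Fin n] := ∏ π : Equiv.Perm (Fin n), rename π b
    have hN : N.IsSymmetric := fun τ => by
      rw [map_prod]
      exact Fintype.prod_equiv (Equiv.mulLeft τ) _ _ fun π => by rw [rename_rename]; rfl
    have hN0 : N ≠ 0 := Finset.prod_ne_zero_iff.2 fun π _ h =>
      hb0 (rename_injective _ π.injective (by rw [h, map_zero]))
    let M : P[Fin n] := a * ∏ π ∈ Finset.univ.erase (1 : Equiv.Perm (Fin n)), rename π b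
    have hbL : algebraMap P[Fin n] L[Fin n] b ≠ 0 :=
      (map_ne_zero_iff _ (IsFractionRing.injective P[Fin n] L[Fin n])).2 hb0
    have hM : algebraMap P[Fin n] L[Fin n] M = algebraMap P[Fin n] _ a / algebraMap P[Fin n] _ b * algebraMap P[Fin n] _ N := by
      show _ = _ * algebraMap P[Fin n] _ (∏ π : Equiv.Perm (Fin n), rename π b)
      rw [← Finset.mul_prod_erase _ _ (Finset.mem_univ (1 : Equiv.Perm (Fin n))), map_mul, map_mul, Equiv.Perm.coe_one,
        rename_id, AlgHom.id_apply, ← mul_assoc, div_mul_cancel₀ _ hbL]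
    have hMs : M.IsSymmetric := fun τ => IsFractionRing.injective P[Fin n] L[Fin n] (by
      rw [← hR, hM, map_mul, hR τ N, hN τ]
      congr 1
      exact NoName.mem_fixedField'.1 hx _ ⟨τ, rfl⟩)
    have hNL : algebraMap P[Fin n] L[Fin n] N ≠ 0 :=
      (map_ne_zero_iff _ (IsFractionRing.injective P[Fin n] L[Fin n])).2 hN0
    have := div_mem (hsymm M hMs) (hsymm N hN)
    rwa [hM, mul_div_cancel_right₀ _ hNL] at this

omit [CharZero k] in
/-- a rational function field over a purely transcendental field is purely transcendental -/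
theorem exists_generators {m n : ℕ} {L : Type w} [Field L] [Algebra k L] (F : IntermediateField k L) (e : Fin n → L)
    (he : AlgebraicIndependent k e) (hF : IntermediateField.adjoin k (Set.range e) = F) :
    ∃ t : Fin m ⊕ Fin n → InvFld.Fld (Fin m) F, AlgebraicIndependent k t ∧
      IntermediateField.adjoin k (Set.range t) = ⊤ := by
  subst hF
  let e' : Fin n → IntermediateField.adjoin k (Set.range e) := fun i => ⟨e i, IntermediateField.subset_adjoin k _ ⟨i, rfl⟩⟩
  have he' : Function.Injective (aeval (R := k) e') := by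
    intro p q h
    have := congrArg (IntermediateField.adjoin k (Set.range e)).val h
    simp only [← AlgHom.comp_apply, comp_aeval] at this
    exact algebraicIndependent_iff_injective_aeval.1 he this
  let A := IsScalarTower.toAlgHom k (MvPolynomial (Fin m) (IntermediateField.adjoin k (Set.range e)))
    (InvFld.Fld (Fin m) (IntermediateField.adjoin k (Set.range e)))
  let t : Fin m ⊕ Fin n → InvFld.Fld (Fin m) (IntermediateField.adjoin k (Set.range e)) :=
    Sum.elim (fun i => A (X i)) fun i => A (C (e' i))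
  let ψ : MvPolynomial (Fin m ⊕ Fin n) k →ₐ[k] MvPolynomial (Fin m) (IntermediateField.adjoin k (Set.range e)) :=
    (mapAlgHom (aeval (R := k) e')).comp (sumAlgEquiv k (Fin m) (Fin n)).toAlgHom
  have hψ : Function.Injective ψ := (map_injective _ he').comp (sumAlgEquiv k (Fin m) (Fin n)).injective
  have ht : aeval t = A.comp ψ := by
    apply MvPolynomial.algHom_ext
    rintro (i | i) <;> simp [t, ψ]
  refine ⟨t, ?_, eq_top_iff.2 fun x _ => ?_⟩
  · rw [algebraicIndependent_iff_injective_aeval, ht]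
    exact (IsFractionRing.injective (MvPolynomial (Fin m) (IntermediateField.adjoin k (Set.range e))) _).comp hψ
  · obtain ⟨a, b, -, rfl⟩ := IsFractionRing.div_surjective (A := MvPolynomial (Fin m) (IntermediateField.adjoin k (Set.range e))) x
    suffices h : ∀ p, A p ∈ IntermediateField.adjoin k (Set.range t) from div_mem (h a) (h b)
    intro p
    induction p using MvPolynomial.induction_on with
    | C c =>
      obtain ⟨c, hc⟩ := c
      induction hc using IntermediateField.adjoin_induction with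
      | mem y hy => obtain ⟨i, rfl⟩ := hy; exact IntermediateField.subset_adjoin k _ ⟨Sum.inr i, rfl⟩
      | algebraMap y =>
        rw [show (C (⟨algebraMap k L y, _⟩ : IntermediateField.adjoin k (Set.range e)) :
          MvPolynomial (Fin m) (IntermediateField.adjoin k (Set.range e))) = algebraMap k _ y from rfl, AlgHom.commutes]
        exact IntermediateField.algebraMap_mem _ y
      | add a b ha hb ha' hb' =>
        rw [show (⟨a + b, _⟩ : IntermediateField.adjoin k (Set.range e)) = ⟨a, ha⟩ + ⟨b, hb⟩ from rfl, map_add, map_add]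
        exact add_mem ha' hb'
      | inv a ha ha' =>
        rw [show (⟨a⁻¹, _⟩ : IntermediateField.adjoin k (Set.range e)) = (⟨a, ha⟩)⁻¹ from rfl]
        show ((A.toRingHom.comp C) _) ∈ _
        rw [map_inv₀]
        exact inv_mem ha'
      | mul a b ha hb ha' hb' =>
        rw [show (⟨a * b, _⟩ : IntermediateField.adjoin k (Set.range e)) = ⟨a, ha⟩ * ⟨b, hb⟩ from rfl, map_mul, map_mul]
        exact mul_mem ha' hb'
    | add p q hp hq => rw [map_add]; exact add_mem hp hq
    | mul_X p i hp => rw [map_mul]; exact mul_mem hp (IntermediateField.subset_adjoin k _ ⟨Sum.inl i, rfl⟩)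

/-- `k(V)^{Sₙ}` is stably pure. -/
theorem stablyPure {n m : ℕ} (G : Subgroup (L[Fin m] ≃ₐ[k] L[Fin m])) [Finite G] (e : G ≃* Equiv.Perm (Fin n))
    (hG : ∀ σ ∈ G, ∀ i : Fin m, σ (InvFld.X i) ∈ Submodule.span k (Set.range fun j : Fin m => (InvFld.X j : L[Fin m]))) :
    ∃ (r N : ℕ) (t : Fin N → InvFld.Fld (Fin r) (fixedField G)),
      AlgebraicIndependent k t ∧ IntermediateField.adjoin k (Set.range t) = ⊤ := by
  obtain ⟨H, hfin, ⟨eH⟩, hH, u, hu, huF⟩ := exists_pure_fixedField_perm (k := k) n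
  haveI := hfin
  obtain ⟨E⟩ := stablyEquivalent G H (e.trans eH) hG hH
  obtain ⟨t, ht, htop⟩ := exists_generators (m := m) (fixedField H) u hu huF
  refine ⟨n, m + n, fun i => E.symm (t (finSumFinEquiv.symm i)), ?_, ?_⟩
  · exact (ht.comp _ finSumFinEquiv.symm.injective).map' (f := E.symm.toAlgHom) E.symm.injective
  · rw [show (Set.range fun i => E.symm (t (finSumFinEquiv.symm i))) = E.symm.toAlgHom '' Set.range t by
      rw [← Set.range_comp]; exact finSumFinEquiv.symm.surjective.range_comp (fun a => E.symm (t a)),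
      ← IntermediateField.adjoin_map, htop, ← AlgHom.fieldRange_eq_map]
    exact AlgHom.fieldRange_eq_top.2 E.symm.surjective

end Groth.Agent.Hopf35.NoNameFld
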