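import Groth.Agent.EGA73.MorDetNorm
import Groth.Agent.FEt83.Colim
import Mathlib.RingTheory.TensorProduct.IsBaseChangeFree
import Groth.Prelude.Def_CGrpSh3
import Groth.Prelude.Def_GmPts

/-!
helper35: the norm of functions along a finite locally free morphism: compatibility with base change
and with the determinant on affine schemes with free algebra of functions.
-/

set_option autoImplicit false
set_option backward.isDefEq.respectTransparency.types false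
set_option linter.style.haveILetI false

universe u

open CategoryTheory CategoryTheory.Limits AlgebraicGeometry TopologicalSpace Opposite
open Groth.Agent.EGA73 Groth.Agent.Var76.ZeroScheme

noncomputable section

namespace Groth.Agent.Hopf35.Nm

variable {P Y P' Y' : Scheme.{u}} (π : P ⟶ Y) (π' : P' ⟶ Y') (g : Y' ⟶ Y) (q : P' ⟶ P)

/-- The norm over a chart commutes with base change. -/
theorem nrm_baseChange [IsAffineHom π] (H : IsPullback q π' π g) {U : Y.Opens} {W : Y'.Opens}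
    (hU : IsAffineOpen U) (hW : IsAffineOpen W) (hle : W ≤ g ⁻¹ᵁ U) (hc : IsChart π U)
    (e : π' ⁻¹ᵁ W ≤ q ⁻¹ᵁ (π ⁻¹ᵁ U)) (z : Γ(P, π ⁻¹ᵁ U)) :
    g.appLE U W hle (nrm π U z) = nrm π' W (q.appLE (π ⁻¹ᵁ U) (π' ⁻¹ᵁ W) e z) := by
  classical
  obtain ⟨n, s, hs⟩ := hc
  have hP := Groth.Agent.FEt83.isPushout_sections H hU hW hle e
  letI : Algebra Γ(Y, U) Γ(P, π ⁻¹ᵁ U) := (π.app U).hom.toAlgebra
  letI : Algebra Γ(Y, U) Γ(Y', W) := (g.appLE U W hle).hom.toAlgebra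
  letI : Algebra Γ(Y', W) Γ(P', π' ⁻¹ᵁ W) := (π'.app W).hom.toAlgebra
  letI : Algebra Γ(P, π ⁻¹ᵁ U) Γ(P', π' ⁻¹ᵁ W) := (q.appLE (π ⁻¹ᵁ U) (π' ⁻¹ᵁ W) e).hom.toAlgebra
  letI : Algebra Γ(Y, U) Γ(P', π' ⁻¹ᵁ W) :=
    ((algebraMap Γ(P, π ⁻¹ᵁ U) Γ(P', π' ⁻¹ᵁ W)).comp (algebraMap Γ(Y, U) Γ(P, π ⁻¹ᵁ U))).toAlgebra
  haveI : IsScalarTower Γ(Y, U) Γ(P, π ⁻¹ᵁ U) Γ(P', π' ⁻¹ᵁ W) := .of_algebraMap_eq fun _ => rfl
  haveI : IsScalarTower Γ(Y, U) Γ(Y', W) Γ(P', π' ⁻¹ᵁ W) := .of_algebraMap_eq fun x => by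
    exact congr($(hP.w).hom x)
  have hP' : Algebra.IsPushout Γ(Y, U) Γ(P, π ⁻¹ᵁ U) Γ(Y', W) Γ(P', π' ⁻¹ᵁ W) :=
    CommRingCat.isPushout_iff_isPushout.1 hP
  obtain ⟨b, -⟩ := hs.exists_basis π
  have ibc := hP'.symm.out
  let c := ibc.basis b
  show (g.appLE U W hle).hom (Algebra.norm Γ(Y, U) z) =
    Algebra.norm Γ(Y', W) ((q.appLE (π ⁻¹ᵁ U) (π' ⁻¹ᵁ W) e).hom z)
  rw [Algebra.norm_eq_matrix_det b, Algebra.norm_eq_matrix_det c, RingHom.map_det]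
  congr 1
  ext i j
  rw [RingHom.mapMatrix_apply, Matrix.map_apply, Algebra.leftMulMatrix_eq_repr_mul,
    Algebra.leftMulMatrix_eq_repr_mul]
  have hcb : c j = algebraMap Γ(P, π ⁻¹ᵁ U) Γ(P', π' ⁻¹ᵁ W) (b j) := ibc.basis_apply b j
  rw [hcb, show (q.appLE (π ⁻¹ᵁ U) (π' ⁻¹ᵁ W) e).hom z = algebraMap Γ(P, π ⁻¹ᵁ U) Γ(P', π' ⁻¹ᵁ W) z from rfl,
    ← map_mul]
  exact (ibc.basis_repr_comp_apply b (z * b j) i).symm

variable [IsFinite π] [Flat π] [LocallyOfFinitePresentation π]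

theorem chartOK : ChartOK π fun _ => 1 :=
  ⟨fun y => exists_isChart_of_isFinLocFree π (isFinLocFree_push π) y, fun _ _ _ _ => one_ne_zero⟩

/-- The norm of functions. -/
def Nm : Γ(P, ⊤) →* Γ(Y, ⊤) := (chartOK π).hasVals.normHom ⊤

theorem Nm_spec (z : Γ(P, ⊤)) {V : Y.Opens} (hV : IsChart π V) :
    fres (le_top : V ≤ ⊤) (Nm π z) = nrm π V (fres le_top z) :=
  ((chartOK π).hasVals.normFun_spec (U := ⊤) z le_top hV).trans (pow_one _)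

theorem appLE_top {V : Y.Opens} {W : Y'.Opens} (hle : W ≤ g ⁻¹ᵁ V) (a : Γ(Y, ⊤)) :
    g.appLE V W hle (fres le_top a) = fres (le_top : W ≤ ⊤) (g.appTop a) := by
  show ((Y.presheaf.map (homOfLE (le_top : V ≤ ⊤)).op) ≫ g.appLE V W hle).hom a =
    (g.appTop ≫ Y'.presheaf.map (homOfLE (le_top : W ≤ ⊤)).op).hom a
  rw [Scheme.Hom.map_appLE]
  rfl

theorem Nm_natural [IsFinite π'] [Flat π'] [LocallyOfFinitePresentation π'] (H : IsPullback q π' π g)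
    (z : Γ(P, ⊤)) : g.appTop (Nm π z) = Nm π' (q.appTop z) := by
  refine TopCat.Presheaf.section_ext Y'.sheaf ⊤ _ _ fun y _ => ?_
  obtain ⟨V, hV, hyV, hVc⟩ : ∃ V : Y.Opens, IsAffineOpen V ∧ g y ∈ V ∧ IsChart π V := by
    obtain ⟨V, hy, hc⟩ := (chartOK π).chart (g y)
    obtain ⟨V', hV', hy', hle⟩ := exists_isAffineOpen_mem_and_subset (X := Y) (x := g y) (U := V) hy
    exact ⟨V', hV', hy', hc.mono π hle⟩
  obtain ⟨W', hyW', hW'c⟩ := (chartOK π').chart y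
  obtain ⟨W, hW, hyW, hWle⟩ := exists_isAffineOpen_mem_and_subset (X := Y') (x := y) (U := g ⁻¹ᵁ V ⊓ W')
    ⟨hyV, hyW'⟩
  have hle : W ≤ g ⁻¹ᵁ V := fun x hx => (hWle hx).1
  have hWc : IsChart π' W := hW'c.mono π' fun x hx => (hWle hx).2
  have e : π' ⁻¹ᵁ W ≤ q ⁻¹ᵁ (π ⁻¹ᵁ V) := fun x hx => by
    show π (q x) ∈ V
    rw [← Scheme.Hom.comp_apply, H.w]
    exact hle hx
  have key : fres (le_top : W ≤ ⊤) (g.appTop (Nm π z)) = fres (le_top : W ≤ ⊤) (Nm π' (q.appTop z)) := by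
    rw [← appLE_top g hle, Nm_spec π z hVc, nrm_baseChange π π' g q H hV hW hle hVc e, Nm_spec π' _ hWc]
    exact congrArg _ (appLE_top q e z)
  have := congrArg ((Y'.presheaf.germ W y hyW).hom) key
  rwa [show (Y'.presheaf.germ W y hyW).hom (fres le_top _) = _ from
      TopCat.Presheaf.germ_res_apply Y'.presheaf _ y hyW _,
    show (Y'.presheaf.germ W y hyW).hom (fres le_top _) = _ from
      TopCat.Presheaf.germ_res_apply Y'.presheaf _ y hyW _] at this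

omit [IsFinite π] [Flat π] [LocallyOfFinitePresentation π] in
/-- A chart pulls back to free algebras over affines. -/
theorem free_top_of_chart [IsAffineHom π] [IsAffine Y'] (H : IsPullback q π' π g) {U : Y.Opens}
    (hU : IsAffineOpen U) (hle : (⊤ : Y'.Opens) ≤ g ⁻¹ᵁ U) (hc : IsChart π U) :
    letI := π'.appTop.hom.toAlgebra
    Module.Free Γ(Y', ⊤) Γ(P', ⊤) ∧ Module.Finite Γ(Y', ⊤) Γ(P', ⊤) := by
  obtain ⟨n, s, hs⟩ := hc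
  have e : π' ⁻¹ᵁ ⊤ ≤ q ⁻¹ᵁ (π ⁻¹ᵁ U) := fun x _ => by
    show π (q x) ∈ U
    rw [← Scheme.Hom.comp_apply, H.w]
    exact hle trivial
  have hP := Groth.Agent.FEt83.isPushout_sections H hU (isAffineOpen_top Y') hle e
  letI : Algebra Γ(Y, U) Γ(P, π ⁻¹ᵁ U) := (π.app U).hom.toAlgebra
  letI : Algebra Γ(Y, U) Γ(Y', ⊤) := (g.appLE U ⊤ hle).hom.toAlgebra
  letI : Algebra Γ(Y', ⊤) Γ(P', π' ⁻¹ᵁ ⊤) := (π'.app ⊤).hom.toAlgebra
  letI : Algebra Γ(P, π ⁻¹ᵁ U) Γ(P', π' ⁻¹ᵁ ⊤) := (q.appLE (π ⁻¹ᵁ U) (π' ⁻¹ᵁ ⊤) e).hom.toAlgebra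
  letI : Algebra Γ(Y, U) Γ(P', π' ⁻¹ᵁ ⊤) :=
    ((algebraMap Γ(P, π ⁻¹ᵁ U) Γ(P', π' ⁻¹ᵁ ⊤)).comp (algebraMap Γ(Y, U) Γ(P, π ⁻¹ᵁ U))).toAlgebra
  haveI : IsScalarTower Γ(Y, U) Γ(P, π ⁻¹ᵁ U) Γ(P', π' ⁻¹ᵁ ⊤) := .of_algebraMap_eq fun _ => rfl
  haveI : IsScalarTower Γ(Y, U) Γ(Y', ⊤) Γ(P', π' ⁻¹ᵁ ⊤) := .of_algebraMap_eq fun x => by
    exact congr($(hP.w).hom x)
  have hP' : Algebra.IsPushout Γ(Y, U) Γ(P, π ⁻¹ᵁ U) Γ(Y', ⊤) Γ(P', π' ⁻¹ᵁ ⊤) :=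
    CommRingCat.isPushout_iff_isPushout.1 hP
  obtain ⟨b, -⟩ := hs.exists_basis π
  let c := hP'.symm.out.basis b
  have h1 := Module.Free.of_basis c
  have h2 := Module.Finite.of_basis c
  exact ⟨h1, h2⟩

theorem isChart_top [IsAffine Y] [Algebra Γ(Y, ⊤) Γ(P, ⊤)] [Module.Finite Γ(Y, ⊤) Γ(P, ⊤)]
    [Module.Free Γ(Y, ⊤) Γ(P, ⊤)] (halg : ∀ a, algebraMap Γ(Y, ⊤) Γ(P, ⊤) a = π.appTop a) :
    IsChart π ⊤ := by
  rcases subsingleton_or_nontrivial Γ(Y, ⊤) with h | h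
  · refine ⟨0, Fin.elim0, fun W hW => ⟨fun a b _ => funext fun i => i.elim0, fun z => ⟨0, ?_⟩⟩⟩
    haveI : Subsingleton Γ(P, π ⁻¹ᵁ W) :=
      ((π.app W).hom.comp (Y.presheaf.map (homOfLE (le_top : W ≤ ⊤)).op).hom).codomain_trivial
    exact Subsingleton.elim _ _
  haveI : (Coh.structureModule P).IsQuasicoherent := QC70.isQuasicoherent_unit
  haveI : ((Coh.push π).obj (Coh.structureModule P)).IsQuasicoherent :=
    QCqs72.isQuasicoherent_pushforward (Coh.structureModule P) π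
  let b := Module.finBasis Γ(Y, ⊤) Γ(P, ⊤)
  let e : Γ(P, ⊤) ≃ₗ[Γ(Y, ⊤)] Γ((Coh.push π).obj (Coh.structureModule P), ⊤) :=
    { toFun := fun s => s
      invFun := fun s => s
      left_inv := fun _ => rfl
      right_inv := fun _ => rfl
      map_add' := fun _ _ => rfl
      map_smul' := fun a s => by
        show (a • s : Γ(P, ⊤)) = π.appTop a * s
        rw [Algebra.smul_def, halg] }
  have hs := Props58.LocFree.stalkBasis_of_basis (isAffineOpen_top Y) (b.map e)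
  exact ⟨_, _, fun W hW => hs.bijective hW⟩

theorem Nm_eq_norm [IsAffine Y] [Algebra Γ(Y, ⊤) Γ(P, ⊤)] [Module.Finite Γ(Y, ⊤) Γ(P, ⊤)]
    [Module.Free Γ(Y, ⊤) Γ(P, ⊤)] (halg : ∀ a, algebraMap Γ(Y, ⊤) Γ(P, ⊤) a = π.appTop a) (z : Γ(P, ⊤)) :
    Nm π z = Algebra.norm Γ(Y, ⊤) z := by
  have h := Nm_spec π z (isChart_top π halg)
  erw [Amp73.fres_self, Amp73.fres_self] at h
  rw [h]
  show @Algebra.norm Γ(Y, ⊤) Γ(P, ⊤) _ _ (π.app ⊤).hom.toAlgebra z = _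
  congr 2
  exact Algebra.algebra_ext _ _ fun a => (halg a).symm

end Groth.Agent.Hopf35.Nm
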