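import Groth.Agent.Hopf35.NormSheaf

/-!
helper35: the norm of a function which is one away from a section is its value on the section.
-/

set_option autoImplicit false
set_option backward.isDefEq.respectTransparency.types false
set_option linter.style.haveILetI false

universe u v

open CategoryTheory CategoryTheory.Limits AlgebraicGeometry TopologicalSpace Opposite
open MonoidalCategory CartesianMonoidalCategory MonObj
open Groth.Agent.EGA73 Groth.Agent.Var76.ZeroScheme

noncomputable section

namespace Groth.Agent.Hopf35.NormSection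

open Matrix in
theorem det_id_add_smulRight {R : Type u} {M : Type v} [CommRing R] [AddCommGroup M] [Module R M] [Module.Free R M]
    [Module.Finite R M] (g : M →ₗ[R] R) (y : M) : LinearMap.det (LinearMap.id + g.smulRight y) = 1 + g y := by
  classical
  let b := Module.Free.chooseBasis R M
  rw [← LinearMap.det_toMatrix b, map_add, LinearMap.toMatrix_id,
    show LinearMap.toMatrix b b (g.smulRight y) = replicateCol Unit (b.repr y) * replicateRow Unit (fun j => g (b j)) from ?_,
    det_one_add_replicateCol_mul_replicateRow]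
  · congr 1
    conv_rhs => rw [← b.sum_repr y, map_sum]
    simp [dotProduct, mul_comm]
  · ext i j
    simp [LinearMap.toMatrix_apply, Matrix.mul_apply, mul_comm]

theorem norm_eq_of_mul_eq_zero {A : Type u} {B : Type v} [CommRing A] [CommRing B] [Algebra A B] [Module.Free A B]
    [Module.Finite A B] (φ : B →ₐ[A] A) (t : B) (h : ∀ x, (t - 1) * (x - algebraMap A B (φ x)) = 0) :
    Algebra.norm A t = φ t := by
  have e : Algebra.lmul A B t = LinearMap.id + φ.toLinearMap.smulRight (t - 1) := by
    ext x
    have := h x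
    simp [Algebra.smul_def] at this ⊢
    linear_combination this
  rw [Algebra.norm_apply, e, det_id_add_smulRight]
  simp

variable (K : Precoverage Scheme.{u}) {X X' : Scheme.{u}} (f : X' ⟶ X)
  [(QuotSh.J K X).Subcanonical] [(QuotSh.J K X').Subcanonical]
  [IsFinite f] [Flat f] [LocallyOfFinitePresentation f]

open Nm in
/-- If `t` is one away from the section `σ` then its norm is `σ^* t`. -/
theorem gmFn_normPt_section (N : CGrpSh3.pushGm K f ⟶ CGrpSh2.Gm K X) (hN : CGrpSh3.IsNormMap K f N) (T : Over X)
    (t : (Over.pullback f).obj T ⟶ Red.Gm X') (σ : T.left ⟶ ((Over.pullback f).obj T).left)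
    (hσ : σ ≫ prj f T = 𝟙 _) [IsOpenImmersion σ]
    (ht : ∀ p, p ∉ Set.range σ.base →
      ((Over.pullback f).obj T).left.presheaf.germ ⊤ p trivial (Red.gmFn t) = 1) :
    Red.gmFn (CGrpSh3.normPt K f N T t) = σ.appTop (Red.gmFn t) := by
  refine TopCat.Presheaf.section_ext T.left.sheaf ⊤ _ _ fun y _ => ?_
  obtain ⟨V₀, hy₀, hc₀⟩ := (chartOK (prj f T)).chart y
  obtain ⟨V, hV, hy, hle⟩ := exists_isAffineOpen_mem_and_subset (X := T.left) (x := y) (U := V₀) hy₀
  let TV : Over X := Over.mk (V.ι ≫ T.hom)
  let g : TV ⟶ T := Over.homMk V.ι rfl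
  haveI : IsAffine TV.left := hV
  let t' := (Over.pullback f).map g ≫ t
  letI : Algebra Γ(TV.left, ⊤) Γ(((Over.pullback f).obj TV).left, ⊤) := (prj f TV).appTop.hom.toAlgebra
  obtain ⟨hfree, hfin⟩ := free_top_of_chart (prj f T) (prj f TV) g.left ((Over.pullback f).map g).left
    (isPullback_prj f g) hV (le_of_eq V.ι_preimage_self.symm) (hc₀.mono _ hle)
  haveI := hfree
  haveI := hfin
  have hnat : CGrpSh3.normPt K f N TV t' = g ≫ CGrpSh3.normPt K f N T t :=
    congrArg (fun q => (q (ULift.up (Additive.ofMul t))).down.toMul) (N.hom.naturality g.op)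
  have H := isPullback_prj f g
  let σ' : TV.left ⟶ ((Over.pullback f).obj TV).left := H.lift (g.left ≫ σ) (𝟙 _) (by
    rw [Category.assoc, hσ, Category.comp_id, Category.id_comp])
  have hσ' : σ' ≫ prj f TV = 𝟙 _ := H.lift_snd _ _ _
  have hσg : σ' ≫ ((Over.pullback f).map g).left = g.left ≫ σ := H.lift_fst _ _ _
  have hpb : IsPullback σ' g.left ((Over.pullback f).map g).left σ := by
    refine IsPullback.of_right ?_ hσg H.flip
    rw [hσ', hσ]
    exact IsPullback.of_horiz_isIso ⟨by simp⟩
  haveI : IsOpenImmersion σ' := MorphismProperty.of_isPullback (P := @IsOpenImmersion) hpb.flip inferInstance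
  let φ : Γ(((Over.pullback f).obj TV).left, ⊤) →ₐ[Γ(TV.left, ⊤)] Γ(TV.left, ⊤) :=
    { σ'.appTop.hom with
      commutes' := fun a => by
        show σ'.appTop ((prj f TV).appTop a) = a
        rw [← CommRingCat.comp_apply, ← Scheme.Hom.comp_appTop, hσ']
        simp }
  have key : Algebra.norm Γ(TV.left, ⊤) (Red.gmFn t') = σ'.appTop (Red.gmFn t') := by
    refine norm_eq_of_mul_eq_zero φ _ fun x => ?_
    refine TopCat.Presheaf.section_ext ((Over.pullback f).obj TV).left.sheaf ⊤ _ 0 fun p _ => ?_
    show ((Over.pullback f).obj TV).left.presheaf.germ ⊤ p trivial _ = ((Over.pullback f).obj TV).left.presheaf.germ ⊤ p trivial 0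
    rw [map_zero, map_mul]
    by_cases hp : p ∈ Set.range σ'.base
    · obtain ⟨z, rfl⟩ := hp
      haveI : IsIso (σ'.stalkMap z) := inferInstance
      have h0 : ((Over.pullback f).obj TV).left.presheaf.germ ⊤ (σ'.base z) trivial
          (x - (prj f TV).appTop (σ'.appTop x)) = 0 := by
        refine (ConcreteCategory.bijective_of_isIso (σ'.stalkMap z)).1 ?_
        rw [Scheme.Hom.germ_stalkMap_apply, map_zero]
        show TV.left.presheaf.germ ⊤ z trivial (σ'.appTop (x - (prj f TV).appTop (σ'.appTop x))) = 0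
        rw [map_sub, ← CommRingCat.comp_apply (prj f TV).appTop σ'.appTop, ← Scheme.Hom.comp_appTop, hσ']
        simp
      exact (congrArg (_ * ·) h0).trans (mul_zero _)
    · have hp' : ((Over.pullback f).map g).left.base p ∉ Set.range σ.base := by
        rintro ⟨z, hz⟩
        obtain ⟨w, hw, -⟩ := Scheme.exists_preimage_of_isPullback hpb p z hz.symm
        exact hp ⟨w, hw⟩
      have h1 : ((Over.pullback f).obj TV).left.presheaf.germ ⊤ p trivial (Red.gmFn t') = 1 := by
        rw [GmPts.gmFn_comp, show ((Over.pullback f).obj TV).left.presheaf.germ ⊤ p trivial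
            (((Over.pullback f).map g).left.appTop (Red.gmFn t)) = (((Over.pullback f).map g).left.stalkMap p).hom
              (((Over.pullback f).obj T).left.presheaf.germ ⊤ _ trivial (Red.gmFn t)) from
            (Scheme.Hom.germ_stalkMap_apply ((Over.pullback f).map g).left ⊤ p trivial _).symm, ht _ hp']
        exact map_one _
      rw [map_sub, map_one, h1, sub_self, zero_mul]
  have h1 := hN TV (fun _ => rfl) t'
  rw [key, hnat, GmPts.gmFn_comp, GmPts.gmFn_comp, ← CommRingCat.comp_apply _ σ'.appTop, ← Scheme.Hom.comp_appTop, hσg,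
    Scheme.Hom.comp_appTop, CommRingCat.comp_apply] at h1
  have h2 := congrArg ((TV.left.presheaf.germ ⊤ ⟨y, hy⟩ trivial).hom) h1
  have hg : ∀ a : Γ(T.left, ⊤), (TV.left.presheaf.germ ⊤ ⟨y, hy⟩ trivial).hom (g.left.appTop a) =
      (g.left.stalkMap ⟨y, hy⟩).hom ((T.left.presheaf.germ ⊤ y trivial).hom a) := fun a =>
    (Scheme.Hom.germ_stalkMap_apply g.left ⊤ ⟨y, hy⟩ trivial a).symm
  rw [hg, hg] at h2
  haveI : IsIso (g.left.stalkMap ⟨y, hy⟩) := inferInstanceAs (IsIso (V.ι.stalkMap ⟨y, hy⟩))
  exact (ConcreteCategory.bijective_of_isIso (g.left.stalkMap ⟨y, hy⟩)).1 h2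

end Groth.Agent.Hopf35.NormSection
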