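import Groth.Agent.Hopf35.NormBC

/-!
helper35: the norm map of a finite locally free morphism as a morphism of sheaves of units.
-/

set_option autoImplicit false
set_option backward.isDefEq.respectTransparency.types false
set_option linter.style.haveILetI false

universe u

open CategoryTheory CategoryTheory.Limits AlgebraicGeometry TopologicalSpace Opposite
open MonoidalCategory CartesianMonoidalCategory MonObj
open Groth.Agent.EGA73 Groth.Agent.Var76.ZeroScheme

noncomputable section

namespace Groth.Agent.Hopf35.Nm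

variable (K : Precoverage Scheme.{u}) {X X' : Scheme.{u}} (f : X' ⟶ X)
  [(QuotSh.J K X).Subcanonical] [(QuotSh.J K X').Subcanonical]
  [IsFinite f] [Flat f] [LocallyOfFinitePresentation f]

/-- the projection of the base change -/
abbrev prj (T : Over X) : ((Over.pullback f).obj T).left ⟶ T.left := pullback.fst T.hom f

instance (T : Over X) : IsFinite (prj f T) := MorphismProperty.pullback_fst _ _ inferInstance
instance (T : Over X) : Flat (prj f T) := MorphismProperty.pullback_fst _ _ inferInstance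
instance (T : Over X) : LocallyOfFinitePresentation (prj f T) := MorphismProperty.pullback_fst _ _ inferInstance

omit [IsFinite f] [Flat f] [LocallyOfFinitePresentation f] in
theorem isPullback_prj {T' T : Over X} (g : T' ⟶ T) :
    IsPullback ((Over.pullback f).map g).left (prj f T') (prj f T) g.left := by
  have hout : IsPullback (prj f T') (pullback.snd T'.hom f) (g.left ≫ T.hom) f := by
    rw [Over.w g]; exact IsPullback.of_hasPullback _ _
  refine (IsPullback.of_bot (v₁₁ := ((Over.pullback f).map g).left) (v₂₁ := pullback.snd T.hom f)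
    ?_ ?_ (IsPullback.of_hasPullback T.hom f)).flip
  · convert hout using 1
    exact pullback.lift_snd _ _ _
  · exact (pullback.lift_fst _ _ _).symm

/-- The norm of a point. -/
def nPt (T : Over X) (t : (Over.pullback f).obj T ⟶ Red.Gm X') : T ⟶ Red.Gm X :=
  GmPts.ptOfUnit (Units.map (Nm (prj f T)) (GmPts.unitOfPt t))

theorem gmFn_nPt (T : Over X) (t : (Over.pullback f).obj T ⟶ Red.Gm X') :
    Red.gmFn (nPt f T t) = Nm (prj f T) (Red.gmFn t) :=
  GmPts.gmFn_ptOfUnit _

theorem nPt_natural {T' T : Over X} (g : T' ⟶ T) (t : (Over.pullback f).obj T ⟶ Red.Gm X') :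
    g ≫ nPt f T t = nPt f T' ((Over.pullback f).map g ≫ t) := by
  refine GmPts.gmFn_injective ?_
  show Red.gmFn (g ≫ nPt f T t) = Red.gmFn (nPt f T' ((Over.pullback f).map g ≫ t))
  rw [GmPts.gmFn_comp, gmFn_nPt, gmFn_nPt, GmPts.gmFn_comp]
  exact Nm_natural (prj f T) (prj f T') g.left ((Over.pullback f).map g).left (isPullback_prj f g) _

/-- The norm map. -/
def norm : CGrpSh3.pushGm K f ⟶ CGrpSh2.Gm K X :=
  ⟨{ app := fun T => AddCommGrpCat.ofHom
      (AddMonoidHom.mk' (fun x => ULift.up (Additive.ofMul (nPt f (unop T) x.down.toMul))) fun a b => by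
        refine ULift.ext _ _ (congrArg Additive.ofMul (GmPts.gmFn_injective ?_))
        show Red.gmFn (nPt f (unop T) (a.down.toMul * b.down.toMul)) =
          Red.gmFn (nPt f (unop T) a.down.toMul * nPt f (unop T) b.down.toMul)
        rw [gmFn_nPt, GmPts.gmFn_mul, GmPts.gmFn_mul, gmFn_nPt, gmFn_nPt, map_mul])
     naturality := fun T T' g => AddCommGrpCat.ext fun x =>
       ULift.ext _ _ (congrArg Additive.ofMul (nPt_natural f g.unop x.down.toMul).symm) }⟩

theorem isNormMap_norm : CGrpSh3.IsNormMap K f (norm K f) := by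
  intro T _ _ _ _ halg t
  show Red.gmFn (nPt f T t) = _
  rw [gmFn_nPt]
  exact Nm_eq_norm (prj f T) halg _

/-- A norm map is the norm. -/
theorem gmFn_normPt (N : CGrpSh3.pushGm K f ⟶ CGrpSh2.Gm K X) (hN : CGrpSh3.IsNormMap K f N) (T : Over X)
    (t : (Over.pullback f).obj T ⟶ Red.Gm X') :
    Red.gmFn (CGrpSh3.normPt K f N T t) = Nm (prj f T) (Red.gmFn t) := by
  refine TopCat.Presheaf.section_ext T.left.sheaf ⊤ _ _ fun y _ => ?_
  obtain ⟨V₀, hy₀, hc₀⟩ := (chartOK (prj f T)).chart y
  obtain ⟨V, hV, hy, hle⟩ := exists_isAffineOpen_mem_and_subset (X := T.left) (x := y) (U := V₀) hy₀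
  let TV : Over X := Over.mk (V.ι ≫ T.hom)
  let g : TV ⟶ T := Over.homMk V.ι rfl
  haveI : IsAffine TV.left := hV
  let t' := (Over.pullback f).map g ≫ t
  letI : Algebra Γ(TV.left, ⊤) Γ(((Over.pullback f).obj TV).left, ⊤) := (prj f TV).appTop.hom.toAlgebra
  obtain ⟨hfree, hfin⟩ := free_top_of_chart (prj f T) (prj f TV) g.left ((Over.pullback f).map g).left
    (isPullback_prj f g) hV (le_of_eq V.ι_preimage_self.symm) (hc₀.mono _ hle)
  haveI := hfree
  haveI := hfin
  have hnat : CGrpSh3.normPt K f N TV t' = g ≫ CGrpSh3.normPt K f N T t :=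
    congrArg (fun q => (q (ULift.up (Additive.ofMul t))).down.toMul) (N.hom.naturality g.op)
  have h1 := hN TV (fun _ => rfl) t'
  rw [← Nm_eq_norm (prj f TV) (fun _ => rfl), hnat, GmPts.gmFn_comp, GmPts.gmFn_comp,
    ← Nm_natural (prj f T) (prj f TV) g.left _ (isPullback_prj f g)] at h1
  have h2 := congrArg ((TV.left.presheaf.germ ⊤ ⟨y, hy⟩ trivial).hom) h1
  have hg : ∀ a : Γ(T.left, ⊤), (TV.left.presheaf.germ ⊤ ⟨y, hy⟩ trivial).hom (g.left.appTop a) =
      (g.left.stalkMap ⟨y, hy⟩).hom ((T.left.presheaf.germ ⊤ y trivial).hom a) := fun a =>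
    (Scheme.Hom.germ_stalkMap_apply g.left ⊤ ⟨y, hy⟩ trivial a).symm
  rw [hg, hg] at h2
  haveI : IsIso (g.left.stalkMap ⟨y, hy⟩) := inferInstanceAs (IsIso (V.ι.stalkMap ⟨y, hy⟩))
  exact (ConcreteCategory.bijective_of_isIso (g.left.stalkMap ⟨y, hy⟩)).1 h2

theorem eq_norm (N : CGrpSh3.pushGm K f ⟶ CGrpSh2.Gm K X) (hN : CGrpSh3.IsNormMap K f N) :
    N = norm K f := by
  refine Sheaf.hom_ext (NatTrans.ext (funext fun T => AddCommGrpCat.ext fun x => ULift.ext _ _
    (congrArg Additive.ofMul (GmPts.gmFn_injective ?_))))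
  show Red.gmFn (CGrpSh3.normPt K f N (unop T) x.down.toMul) = Red.gmFn (nPt f (unop T) x.down.toMul)
  rw [gmFn_normPt K f N hN, gmFn_nPt]

end Groth.Agent.Hopf35.Nm
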