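import Mathlib
import Groth.Prelude.Def_W4c6intromoduliQuartic

/-!
Split binary quartics: brackets of root points and projective equivalence.
-/

universe u

open W4c6intromoduli

namespace Groth.Agent.Hopf35.Quartic

variable {R : Type u} [CommRing R]

/-- The bracket of two root points. -/
def br (la mu : Fin 4 → R) (i j : Fin 4) : R := la i * mu j - la j * mu i

theorem invI_eq (la mu : Fin 4 → R) :
    invI (coef la mu) = (br la mu 0 1 * br la mu 2 3) ^ 2
      + (br la mu 0 1 * br la mu 2 3) * (br la mu 0 3 * br la mu 1 2) + (br la mu 0 3 * br la mu 1 2) ^ 2 := by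
  simp [br, invI, coef, rootPoly, Fin.prod_univ_four, Polynomial.coeff_mul, Finset.Nat.antidiagonal_succ,
    Polynomial.coeff_X, Polynomial.coeff_C]
  ring

theorem invJ_eq (la mu : Fin 4 → R) :
    invJ (coef la mu) = (br la mu 0 1 * br la mu 2 3 - br la mu 0 3 * br la mu 1 2)
      * (2 * (br la mu 0 1 * br la mu 2 3) + br la mu 0 3 * br la mu 1 2)
      * (br la mu 0 1 * br la mu 2 3 + 2 * (br la mu 0 3 * br la mu 1 2)) := by
  simp [br, invJ, coef, rootPoly, Fin.prod_univ_four, Polynomial.coeff_mul, Finset.Nat.antidiagonal_succ,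
    Polynomial.coeff_X, Polynomial.coeff_C]
  ring

theorem plucker (la mu : Fin 4 → R) :
    br la mu 0 2 * br la mu 1 3 = br la mu 0 1 * br la mu 2 3 + br la mu 0 3 * br la mu 1 2 := by
  simp only [br]; ring

theorem binForm_perm (la mu : Fin 4 → R) (π : Equiv.Perm (Fin 4)) :
    binForm (la ∘ π) (mu ∘ π) = binForm la mu :=
  Equiv.prod_comp π (fun i => MvPolynomial.C (mu i) * MvPolynomial.X 0 - MvPolynomial.C (la i) * MvPolynomial.X 1)

/-- The image of a linear form. -/
theorem subst_linear (M : Matrix (Fin 2) (Fin 2) R) (p q : R) :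
    subst M (MvPolynomial.C p * MvPolynomial.X 0 - MvPolynomial.C q * MvPolynomial.X 1) =
      MvPolynomial.C (p * M 0 0 - q * M 1 0) * MvPolynomial.X 0 - MvPolynomial.C (q * M 1 1 - p * M 0 1) * MvPolynomial.X 1 := by
  simp only [subst, map_sub, map_mul, MvPolynomial.aeval_X, MvPolynomial.aeval_C, MvPolynomial.algebraMap_eq,
    Fin.sum_univ_two]
  ring

theorem subst_binForm (M : Matrix (Fin 2) (Fin 2) R) (la mu : Fin 4 → R) :
    subst M (binForm la mu) = binForm (fun i => la i * M 1 1 - mu i * M 0 1) (fun i => mu i * M 0 0 - la i * M 1 0) := by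
  simp only [binForm, map_prod, subst_linear]

theorem binForm_scale (t la mu : Fin 4 → R) :
    binForm (fun i => t i * la i) (fun i => t i * mu i) = MvPolynomial.C (∏ i, t i) * binForm la mu := by
  simp only [binForm, map_prod, ← Finset.prod_mul_distrib, map_mul]
  exact Finset.prod_congr rfl fun i _ => by ring

theorem subst_comp (M N : Matrix (Fin 2) (Fin 2) R) (g : MvPolynomial (Fin 2) R) :
    subst N (subst M g) = subst (M * N) g := by
  have h : (subst N).comp (subst M) = subst (M * N) := by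
    refine MvPolynomial.algHom_ext fun i => ?_
    simp only [AlgHom.comp_apply, subst, MvPolynomial.aeval_X, map_sum, map_mul, MvPolynomial.aeval_C,
      MvPolynomial.algebraMap_eq, Fin.sum_univ_two, Matrix.mul_apply, map_add]
    ring
  exact AlgHom.congr_fun h g

theorem subst_one (g : MvPolynomial (Fin 2) R) : subst (1 : Matrix (Fin 2) (Fin 2) R) g = g := by
  have h : subst (1 : Matrix (Fin 2) (Fin 2) R) = AlgHom.id R _ := by
    refine MvPolynomial.algHom_ext fun i => ?_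
    fin_cases i <;> simp [subst, Fin.sum_univ_two]
  rw [h]; rfl

section Field

variable {k : Type u} [Field k]

theorem br_ne {la mu : Fin 4 → k} (hd : disc la mu ≠ 0) {i j : Fin 4} (hij : i ≠ j) : br la mu i j ≠ 0 := by
  intro h
  apply hd
  unfold W4c6intromoduli.disc
  rcases lt_or_gt_of_ne hij with hlt | hgt
  · refine Finset.prod_eq_zero (i := (i, j)) (by simp [hlt]) ?_
    rw [br] at h
    linear_combination (la i * mu j - la j * mu i) * h
  · refine Finset.prod_eq_zero (i := (j, i)) (by simp [hgt]) ?_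
    rw [br] at h
    linear_combination (la i * mu j - la j * mu i) * h

theorem exists_br_eq_zero {la mu : Fin 4 → k} (hd : disc la mu = 0) : ∃ i j : Fin 4, i ≠ j ∧ br la mu i j = 0 := by
  unfold W4c6intromoduli.disc at hd
  obtain ⟨p, hp, h⟩ := Finset.prod_eq_zero_iff.1 hd
  refine ⟨p.2, p.1, (ne_of_lt (Finset.mem_filter.1 hp).2).symm, ?_⟩
  exact pow_eq_zero_iff two_ne_zero |>.1 h

theorem proportional {a b c d : k} (hab : a ≠ 0 ∨ b ≠ 0) (h : a * d - c * b = 0) : ∃ s, c = s * a ∧ d = s * b := by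
  by_cases ha : a = 0
  · subst ha
    have hb : b ≠ 0 := hab.resolve_left (fun h => h rfl)
    refine ⟨d / b, ?_, ?_⟩
    · have : c = 0 := by simpa [hb] using h
      simp [this]
    · field_simp
  · refine ⟨c / a, by field_simp, ?_⟩
    field_simp
    linear_combination h

/-- Two quadruples with the same cross ratio are equivalent. -/
theorem equiv_of_eq {la mu la' mu' : Fin 4 → k} (hd : disc la mu ≠ 0) (hd' : disc la' mu' ≠ 0)
    (h : (br la mu 0 1 * br la mu 2 3) * (br la' mu' 0 2 * br la' mu' 1 3) =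
      (br la' mu' 0 1 * br la' mu' 2 3) * (br la mu 0 2 * br la mu 1 3)) :
    ∃ (M : Matrix (Fin 2) (Fin 2) k) (c : k), IsUnit M.det ∧ c ≠ 0 ∧
      binForm la' mu' = MvPolynomial.C c * subst M (binForm la mu) := by
  have n : ∀ i j : Fin 4, i ≠ j → br la mu i j ≠ 0 := fun i j => br_ne hd
  have n' : ∀ i j : Fin 4, i ≠ j → br la' mu' i j ≠ 0 := fun i j => br_ne hd'
  let x₀ := br la' mu' 2 1 * br la mu 0 2
  let x₁ := br la' mu' 0 2 * br la mu 2 1
  let M : Matrix (Fin 2) (Fin 2) k := !![x₀ * la 1 * mu' 0 - x₁ * la 0 * mu' 1, -(x₀ * la 1 * la' 0 - x₁ * la 0 * la' 1);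
    x₀ * mu 1 * mu' 0 - x₁ * mu 0 * mu' 1, -(x₀ * mu 1 * la' 0 - x₁ * mu 0 * la' 1)]
  let t : Fin 4 → k := ![-(x₀ * br la mu 0 1), -(x₁ * br la mu 0 1), -(br la mu 2 1 * br la mu 0 2 * br la' mu' 0 1),
    -(br la' mu' 2 1 * br la mu 0 2 * br la mu 3 1 * br la' mu' 0 1 / br la' mu' 3 1)]
  have e3 : br la' mu' 2 1 * br la mu 0 2 * br la mu 3 1 * br la' mu' 0 3 =
      br la' mu' 0 2 * br la mu 2 1 * br la mu 0 3 * br la' mu' 3 1 := by
    have p := plucker la mu
    have p' := plucker la' mu'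
    simp only [br] at h p p' ⊢
    linear_combination h + (la' 0 * mu' 2 - la' 2 * mu' 0) * (la' 1 * mu' 3 - la' 3 * mu' 1) * p -
      (la 0 * mu 2 - la 2 * mu 0) * (la 1 * mu 3 - la 3 * mu 1) * p'
  have key : ∀ i, (la i * M 1 1 - mu i * M 0 1 = t i * la' i) ∧ (mu i * M 0 0 - la i * M 1 0 = t i * mu' i) := by
    intro i
    fin_cases i
    · simp only [M, t, x₀, x₁, br]
      simp
      constructor <;> ring
    · simp only [M, t, x₀, x₁, br]
      simp
      constructor <;> ring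
    · simp only [M, t, x₀, x₁, br]
      simp
      constructor <;> ring
    · have h3 : br la' mu' 3 1 ≠ 0 := n' 3 1 (by decide)
      have hq : t 3 * br la' mu' 3 1 = -(br la' mu' 2 1 * br la mu 0 2 * br la mu 3 1 * br la' mu' 0 1) := by
        simp [t, h3]
      change la 3 * M 1 1 - mu 3 * M 0 1 = t 3 * la' 3 ∧ mu 3 * M 0 0 - la 3 * M 1 0 = t 3 * mu' 3
      refine ⟨mul_right_cancel₀ h3 ?_, mul_right_cancel₀ h3 ?_⟩
      · rw [mul_right_comm (t 3), hq]
        simp [M, x₀, x₁]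
        simp only [br] at e3 ⊢
        linear_combination (la' 1) * e3
      · rw [mul_right_comm (t 3), hq]
        simp [M, x₀, x₁]
        simp only [br] at e3 ⊢
        linear_combination (mu' 1) * e3
  have hdet : M.det ≠ 0 := by
    have : M.det = x₀ * x₁ * br la mu 0 1 * br la' mu' 0 1 := by
      simp [M, Matrix.det_fin_two, br]; ring
    rw [this]
    simp only [x₀, x₁, mul_ne_zero_iff]
    exact ⟨⟨⟨⟨n' 2 1 (by decide), n 0 2 (by decide)⟩, n' 0 2 (by decide), n 2 1 (by decide)⟩, n 0 1 (by decide)⟩, n' 0 1 (by decide)⟩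
  have ht : ∏ i, t i ≠ 0 := by
    rw [Fin.prod_univ_four]
    simp [t, x₀, x₁, n, n', div_eq_zero_iff]
  refine ⟨M, (∏ i, t i)⁻¹, isUnit_iff_ne_zero.2 hdet, inv_ne_zero ht, ?_⟩
  rw [subst_binForm, show (fun i => la i * M 1 1 - mu i * M 0 1) = fun i => t i * la' i from funext fun i => (key i).1,
    show (fun i => mu i * M 0 0 - la i * M 1 0) = fun i => t i * mu' i from funext fun i => (key i).2,
    binForm_scale, ← mul_assoc, ← map_mul, inv_mul_cancel₀ ht, map_one, one_mul]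

/-- Quadruples with the same invariants are equivalent. -/
theorem equiv_of_inv {la mu la' mu' : Fin 4 → k} (h3 : (3 : k) ≠ 0) (hd : disc la mu ≠ 0) (hd' : disc la' mu' ≠ 0)
    (h : invI (coef la mu) ^ 3 * invJ (coef la' mu') ^ 2 = invI (coef la' mu') ^ 3 * invJ (coef la mu) ^ 2) :
    ∃ (M : Matrix (Fin 2) (Fin 2) k) (c : k), IsUnit M.det ∧ c ≠ 0 ∧
      binForm la' mu' = MvPolynomial.C c * subst M (binForm la mu) := by
  have hdp : ∀ π : Equiv.Perm (Fin 4), disc (la ∘ π) (mu ∘ π) ≠ 0 := by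
    intro π h0
    obtain ⟨i, j, hij, hb⟩ := exists_br_eq_zero h0
    exact br_ne hd (π.injective.ne hij) hb
  have go : ∀ π : Equiv.Perm (Fin 4),
      (br la mu (π 0) (π 1) * br la mu (π 2) (π 3)) * (br la' mu' 0 2 * br la' mu' 1 3) =
        (br la' mu' 0 1 * br la' mu' 2 3) * (br la mu (π 0) (π 2) * br la mu (π 1) (π 3)) →
      ∃ (M : Matrix (Fin 2) (Fin 2) k) (c : k), IsUnit M.det ∧ c ≠ 0 ∧
        binForm la' mu' = MvPolynomial.C c * subst M (binForm la mu) := fun π he => by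
    obtain ⟨M, c, hM, hc, e⟩ := equiv_of_eq (hdp π) hd' he
    exact ⟨M, c, hM, hc, by rwa [binForm_perm] at e⟩
  rw [invI_eq, invI_eq, invJ_eq, invJ_eq] at h
  have pl := plucker la mu
  have pl' := plucker la' mu'
  have s23 : br la mu 3 2 = -br la mu 2 3 := by simp [br]
  have s13 : br la mu 3 1 = -br la mu 1 3 := by simp [br]
  have s12 : br la mu 2 1 = -br la mu 1 2 := by simp [br]
  have hprod : (27 : k) * (((br la' mu' 0 1 * br la' mu' 2 3) * (-((br la mu 0 1 * br la mu 2 3) + (br la mu 0 3 * br la mu 1 2))) - (-((br la' mu' 0 1 * br la' mu' 2 3) + (br la' mu' 0 3 * br la' mu' 1 2))) * (br la mu 0 1 * br la mu 2 3)) * ((br la' mu' 0 1 * br la' mu' 2 3) * (br la mu 0 3 * br la mu 1 2) - (-((br la' mu' 0 1 * br la' mu' 2 3) + (br la' mu' 0 3 * br la' mu' 1 2))) * (br la mu 0 1 * br la mu 2 3)) * ((br la' mu' 0 1 * br la' mu' 2 3) * (br la mu 0 1 * br la mu 2 3) - (-((br la' mu' 0 1 * br la' mu' 2 3) + (br la' mu' 0 3 * br la' mu' 1 2))) * (-((br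 la mu 0 1 * br la mu 2 3) + (br la mu 0 3 * br la mu 1 2)))) * ((br la' mu' 0 1 * br la' mu' 2 3) * (br la mu 0 3 * br la mu 1 2) - (-((br la' mu' 0 1 * br la' mu' 2 3) + (br la' mu' 0 3 * br la' mu' 1 2))) * (-((br la mu 0 1 * br la mu 2 3) + (br la mu 0 3 * br la mu 1 2)))) * ((br la' mu' 0 1 * br la' mu' 2 3) * (br la mu 0 1 * br la mu 2 3) - (-((br la' mu' 0 1 * br la' mu' 2 3) + (br la' mu' 0 3 * br la' mu' 1 2))) * (br la mu 0 3 * br la mu 1 2)) * ((br la' mu' 0 1 * br la' mu' 2 3) * (-((br la mu 0 1 * br la mu 2 3) + (br la mu 0 3 * br la mu 1 2))) - (-((br la' mu' 0 1 * br la' mu' 2 3) + (br la' mu' 0 3 * br la' mu' 1 2))) * (br la mu 0 3 * br la mu 1 2))) = 0 := by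
    linear_combination h
  have h27 : (27 : k) ≠ 0 := by
    rw [show (27 : k) = 3 ^ 3 by norm_num]; exact pow_ne_zero _ h3
  rcases mul_eq_zero.1 hprod with e | e
  · exact absurd e h27
  rcases mul_eq_zero.1 e with e | e
  · rcases mul_eq_zero.1 e with e | e
    · rcases mul_eq_zero.1 e with e | e
      · rcases mul_eq_zero.1 e with e | e
        · rcases mul_eq_zero.1 e with e | e
          · exact go 1 (show (br la mu 0 1 * br la mu 2 3) * (br la' mu' 0 2 * br la' mu' 1 3) = (br la' mu' 0 1 * br la' mu' 2 3) * (br la mu 0 2 * br la mu 1 3) by linear_combination e + (br la mu 0 1 * br la mu 2 3) * pl' - (br la' mu' 0 1 * br la' mu' 2 3) * pl)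
          · refine go (Equiv.swap 2 3) ?_
            show br la mu 0 1 * br la mu 3 2 * (br la' mu' 0 2 * br la' mu' 1 3) = (br la' mu' 0 1 * br la' mu' 2 3) * (br la mu 0 3 * br la mu 1 2)
            rw [s23]
            linear_combination -e - (br la mu 0 1 * br la mu 2 3) * pl'
        · refine go (Equiv.swap 1 2) ?_
          show (br la mu 0 2 * br la mu 1 3) * (br la' mu' 0 2 * br la' mu' 1 3) = (br la' mu' 0 1 * br la' mu' 2 3) * (br la mu 0 1 * br la mu 2 3)
          linear_combination -e + (br la' mu' 0 2 * br la' mu' 1 3) * pl + ((br la mu 0 1 * br la mu 2 3) + (br la mu 0 3 * br la mu 1 2)) * pl'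
      · refine go (Equiv.swap 1 2 * Equiv.swap 2 3) ?_
        show br la mu 0 2 * br la mu 3 1 * (br la' mu' 0 2 * br la' mu' 1 3) = (br la' mu' 0 1 * br la' mu' 2 3) * (br la mu 0 3 * br la mu 2 1)
        rw [s13, s12]
        linear_combination e - (br la' mu' 0 2 * br la' mu' 1 3) * pl - ((br la mu 0 1 * br la mu 2 3) + (br la mu 0 3 * br la mu 1 2)) * pl'
    · refine go (Equiv.swap 2 3 * Equiv.swap 1 2) ?_
      show (br la mu 0 3 * br la mu 1 2) * (br la' mu' 0 2 * br la' mu' 1 3) = (br la' mu' 0 1 * br la' mu' 2 3) * (br la mu 0 1 * br la mu 3 2)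
      rw [s23]
      linear_combination e + (br la mu 0 3 * br la mu 1 2) * pl'
  · refine go (Equiv.swap 1 3) ?_
    show br la mu 0 3 * br la mu 2 1 * (br la' mu' 0 2 * br la' mu' 1 3) = (br la' mu' 0 1 * br la' mu' 2 3) * (br la mu 0 2 * br la mu 3 1)
    rw [s12, s13]
    linear_combination -e - (br la mu 0 3 * br la mu 1 2) * pl' + (br la' mu' 0 1 * br la' mu' 2 3) * pl

theorem triple_iff (h3 : (3 : k) ≠ 0) {la mu : Fin 4 → k} (hne : ∀ i, la i ≠ 0 ∨ mu i ≠ 0) :
    (invI (coef la mu) = 0 ∧ invJ (coef la mu) = 0) ↔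
      ∃ i j l : Fin 4, i ≠ j ∧ j ≠ l ∧ i ≠ l ∧ la i * mu j = la j * mu i ∧ la j * mu l = la l * mu j := by
  rw [invI_eq, invJ_eq]
  constructor
  · rintro ⟨hI, hJ⟩
    have pl := plucker la mu
    set u := br la mu 0 1 * br la mu 2 3 with hu
    set v := br la mu 0 2 * br la mu 1 3 with hv
    set w := br la mu 0 3 * br la mu 1 2 with hw
    have h27 : (27 : k) * (u * (u + w) * w) ^ 2 = 0 := by
      linear_combination (4 * (u ^ 2 + u * w + w ^ 2) ^ 2) * hI - ((u - w) * (2 * u + w) * (u + 2 * w)) * hJ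
    have h27' : (27 : k) ≠ 0 := by
      rw [show (27 : k) = 3 ^ 3 by norm_num]; exact pow_ne_zero _ h3
    simp only [mul_eq_zero, h27', false_or, pow_eq_zero_iff, ne_eq, two_ne_zero, not_false_eq_true, or_assoc] at h27
    have h0 : u = 0 ∧ v = 0 := by
      rcases h27 with h | h | h
      · have : w = 0 := pow_eq_zero_iff two_ne_zero |>.1 (by linear_combination hI - (u + w) * h)
        exact ⟨h, by linear_combination pl + h + this⟩
      · have : u = 0 := pow_eq_zero_iff two_ne_zero |>.1 (by linear_combination hI - w * h)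
        exact ⟨this, by linear_combination pl + h⟩
      · have : u = 0 := pow_eq_zero_iff two_ne_zero |>.1 (by linear_combination hI - (u + w) * h)
        exact ⟨this, by linear_combination pl + this + h⟩
    obtain ⟨h1, h2⟩ := h0
    rw [hu, mul_eq_zero] at h1
    rw [hv, mul_eq_zero] at h2
    simp only [br, sub_eq_zero] at h1 h2
    rcases h1 with a | a <;> rcases h2 with b | b
    · exact ⟨1, 0, 2, by decide, by decide, by decide, a.symm, b⟩
    · exact ⟨0, 1, 3, by decide, by decide, by decide, a, b⟩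
    · exact ⟨0, 2, 3, by decide, by decide, by decide, b, a⟩
    · exact ⟨1, 3, 2, by decide, by decide, by decide, b, a.symm⟩
  · rintro ⟨i, j, l, hij, hjl, hil, e1, e2⟩
    have e3 : la i * mu l = la l * mu i := by
      rcases hne j with h | h <;> refine mul_left_cancel₀ h ?_
      · linear_combination (la i) * e2 + (la l) * e1
      · linear_combination (mu i) * e2 + (mu l) * e1
    have hz : ∀ a b, (a = i ∨ a = j ∨ a = l) → (b = i ∨ b = j ∨ b = l) → br la mu a b = 0 := by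
      intro a b ha hb
      simp only [br]
      rcases ha with rfl | rfl | rfl <;> rcases hb with rfl | rfl | rfl <;>
        first
          | ring1
          | linear_combination e1
          | linear_combination -e1
          | linear_combination e2
          | linear_combination -e2
          | linear_combination e3
          | linear_combination -e3
    have hu : br la mu 0 1 * br la mu 2 3 = 0 := by
      have hc : ∀ i j l : Fin 4, i ≠ j → j ≠ l → i ≠ l → ((0 = i ∨ 0 = j ∨ 0 = l) ∧ (1 = i ∨ 1 = j ∨ 1 = l)) ∨ ((2 = i ∨ 2 = j ∨ 2 = l) ∧ (3 = i ∨ 3 = j ∨ 3 = l)) := by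
        decide
      have := hc i j l hij hjl hil
      rcases this with ⟨a, b⟩ | ⟨a, b⟩ <;> simp [hz _ _ a b]
    have hw : br la mu 0 3 * br la mu 1 2 = 0 := by
      have hc : ∀ i j l : Fin 4, i ≠ j → j ≠ l → i ≠ l → ((0 = i ∨ 0 = j ∨ 0 = l) ∧ (3 = i ∨ 3 = j ∨ 3 = l)) ∨ ((1 = i ∨ 1 = j ∨ 1 = l) ∧ (2 = i ∨ 2 = j ∨ 2 = l)) := by
        decide
      have := hc i j l hij hjl hil
      rcases this with ⟨a, b⟩ | ⟨a, b⟩ <;> simp [hz _ _ a b]
    rw [hu, hw]
    constructor <;> ring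

/-- The two special forms are not equivalent. -/
theorem not_both {M₁ M₂ : Matrix (Fin 2) (Fin 2) k} (hM : IsUnit M₁.det) {c₁ c₂ : k} (hc : c₁ ≠ 0) (h2 : (2 : k) ≠ 0)
    (h : MvPolynomial.C c₁ * subst M₁ (MvPolynomial.X 0 ^ 2 * MvPolynomial.X 1 * (MvPolynomial.X 0 - MvPolynomial.X 1)) =
      MvPolynomial.C c₂ * subst M₂ (MvPolynomial.X 0 ^ 2 * MvPolynomial.X 1 ^ 2)) : False := by
  have h' := congrArg (subst M₁⁻¹) h
  rw [map_mul (subst M₁⁻¹), map_mul (subst M₁⁻¹), subst_comp, subst_comp, Matrix.mul_nonsing_inv _ hM, subst_one,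
    show ∀ c : k, subst M₁⁻¹ (MvPolynomial.C c) = MvPolynomial.C c from fun c => MvPolynomial.aeval_C _ c] at h'
  generalize M₂ * M₁⁻¹ = N at h'
  have ev : ∀ x y : k, c₁ * (x ^ 2 * y * (x - y)) = c₂ * ((N 0 0 * x + N 0 1 * y) ^ 2 * (N 1 0 * x + N 1 1 * y) ^ 2) := fun x y => by
    simpa [subst, Fin.sum_univ_two, MvPolynomial.algebraMap_eq] using congrArg (MvPolynomial.eval ![x, y]) h'
  have a1 := ev 1 0
  have a2 := ev 0 1
  have a3 := ev 1 1
  have a4 := ev 1 (-1)
  have hc2 : c₂ ≠ 0 := fun e => by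
    subst e
    exact mul_ne_zero h2 hc (by linear_combination -a4)
  have p1 : N 0 0 * N 1 0 = 0 := pow_eq_zero_iff two_ne_zero |>.1 ((mul_eq_zero.1 (by linear_combination -a1 : c₂ * (N 0 0 * N 1 0) ^ 2 = 0)).resolve_left hc2)
  have p2 : N 0 1 * N 1 1 = 0 := pow_eq_zero_iff two_ne_zero |>.1 ((mul_eq_zero.1 (by linear_combination -a2 : c₂ * (N 0 1 * N 1 1) ^ 2 = 0)).resolve_left hc2)
  have p3 : (N 0 0 + N 0 1) * (N 1 0 + N 1 1) = 0 := pow_eq_zero_iff two_ne_zero |>.1 ((mul_eq_zero.1 (by linear_combination -a3 : c₂ * ((N 0 0 + N 0 1) * (N 1 0 + N 1 1)) ^ 2 = 0)).resolve_left hc2)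
  have p4 : (N 0 0 - N 0 1) * (N 1 0 - N 1 1) = 0 := by linear_combination 2 * p1 + 2 * p2 - p3
  exact mul_ne_zero h2 hc (by linear_combination (-1 : k) * a4 - c₂ * ((N 0 0 - N 0 1) * (N 1 0 - N 1 1)) * p4)

theorem double_cases {la mu : Fin 4 → k} (h2 : (2 : k) ≠ 0) (hne : ∀ i, la i ≠ 0 ∨ mu i ≠ 0) (hd : disc la mu = 0)
    (h3z : ∀ i j l : Fin 4, i ≠ j → j ≠ l → i ≠ l → ¬ (la i * mu j = la j * mu i ∧ la j * mu l = la l * mu j)) :
    Xor (∃ (M : Matrix (Fin 2) (Fin 2) k) (c : k), IsUnit M.det ∧ c ≠ 0 ∧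
        binForm la mu = MvPolynomial.C c * subst M
          (MvPolynomial.X 0 ^ 2 * MvPolynomial.X 1 * (MvPolynomial.X 0 - MvPolynomial.X 1)))
      (∃ (M : Matrix (Fin 2) (Fin 2) k) (c : k), IsUnit M.det ∧ c ≠ 0 ∧
        binForm la mu = MvPolynomial.C c * subst M (MvPolynomial.X 0 ^ 2 * MvPolynomial.X 1 ^ 2)) := by
  obtain ⟨i, j, hij, hb⟩ := exists_br_eq_zero hd
  have hperm : ∀ i j : Fin 4, i ≠ j → ∃ π : Equiv.Perm (Fin 4), π 0 = i ∧ π 1 = j := by decide
  obtain ⟨π, hπ0, hπ1⟩ := hperm i j hij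
  rw [← binForm_perm la mu π]
  have hb' : br (la ∘ π) (mu ∘ π) 0 1 = 0 := by simpa [br, hπ0, hπ1] using hb
  have hne' : ∀ i, (la ∘ π) i ≠ 0 ∨ (mu ∘ π) i ≠ 0 := fun i => hne (π i)
  have hz : ∀ i j l : Fin 4, i ≠ j → j ≠ l → i ≠ l →
      ¬ ((la ∘ π) i * (mu ∘ π) j = (la ∘ π) j * (mu ∘ π) i ∧ (la ∘ π) j * (mu ∘ π) l = (la ∘ π) l * (mu ∘ π) j) :=
    fun i j l a b c => h3z _ _ _ (π.injective.ne a) (π.injective.ne b) (π.injective.ne c)
  generalize la ∘ π = a, mu ∘ π = b at hb' hne' hz ⊢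
  have n02 : br a b 0 2 ≠ 0 := fun h => by
    simp only [br, sub_eq_zero] at hb' h
    exact hz 1 0 2 (by decide) (by decide) (by decide) ⟨hb'.symm, h⟩
  have n03 : br a b 0 3 ≠ 0 := fun h => by
    simp only [br, sub_eq_zero] at hb' h
    exact hz 1 0 3 (by decide) (by decide) (by decide) ⟨hb'.symm, h⟩
  obtain ⟨s, hs1, hs2⟩ := proportional (hne' 0) (show a 0 * b 1 - a 1 * b 0 = 0 from hb')
  have hs : s ≠ 0 := fun e => by subst e; simp at hs1 hs2; exact (hne' 1).elim (fun h => h hs1) (fun h => h hs2)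
  have hprod : binForm a b = MvPolynomial.C s * ((MvPolynomial.C (b 0) * MvPolynomial.X 0 - MvPolynomial.C (a 0) * MvPolynomial.X 1) ^ 2 *
      (MvPolynomial.C (b 2) * MvPolynomial.X 0 - MvPolynomial.C (a 2) * MvPolynomial.X 1) *
      (MvPolynomial.C (b 3) * MvPolynomial.X 0 - MvPolynomial.C (a 3) * MvPolynomial.X 1)) := by
    rw [binForm, Fin.prod_univ_four, hs1, hs2, map_mul, map_mul]; ring
  by_cases h23 : br a b 2 3 = 0
  · obtain ⟨r, hr1, hr2⟩ := proportional (hne' 2) (show a 2 * b 3 - a 3 * b 2 = 0 from h23)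
    have hr : r ≠ 0 := fun e => by subst e; simp at hr1 hr2; exact (hne' 3).elim (fun h => h hr1) (fun h => h hr2)
    let M : Matrix (Fin 2) (Fin 2) k := !![b 0, -a 0; b 2, -a 2]
    have hB : ∃ (M : Matrix (Fin 2) (Fin 2) k) (c : k), IsUnit M.det ∧ c ≠ 0 ∧
        binForm a b = MvPolynomial.C c * subst M (MvPolynomial.X 0 ^ 2 * MvPolynomial.X 1 ^ 2) := by
      refine ⟨M, s * r, isUnit_iff_ne_zero.2 ?_, mul_ne_zero hs hr, ?_⟩
      · intro h
        apply n02
        simp [M, Matrix.det_fin_two] at h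
        rw [br]; linear_combination h
      · rw [hprod, hr1, hr2]
        simp [subst, M, Fin.sum_univ_two]
        ring
    refine Or.inr ⟨hB, ?_⟩
    rintro ⟨M₁, c₁, hM₁, hc₁, e₁⟩
    obtain ⟨M₂, c₂, -, -, e₂⟩ := hB
    exact not_both hM₁ hc₁ h2 (e₁.symm.trans e₂)
  · let α := br a b 3 2
    let β := br a b 3 0
    let M : Matrix (Fin 2) (Fin 2) k := !![α * b 0, -(α * a 0); β * b 2, -(β * a 2)]
    have hα : α ≠ 0 := fun h => h23 (by simp only [α, br] at h; rw [br]; linear_combination -h)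
    have hβ : β ≠ 0 := fun h => n03 (by simp only [β, br] at h; rw [br]; linear_combination -h)
    have hA : ∃ (M : Matrix (Fin 2) (Fin 2) k) (c : k), IsUnit M.det ∧ c ≠ 0 ∧
        binForm a b = MvPolynomial.C c * subst M
          (MvPolynomial.X 0 ^ 2 * MvPolynomial.X 1 * (MvPolynomial.X 0 - MvPolynomial.X 1)) := by
      refine ⟨M, s / (α ^ 2 * β * br a b 0 2), isUnit_iff_ne_zero.2 ?_,
        div_ne_zero hs (by simp [hα, hβ, n02]), ?_⟩
      · intro h
        have : M.det = α * β * br a b 0 2 := by simp [M, Matrix.det_fin_two, br]; ring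
        rw [this] at h
        simp [hα, hβ, n02] at h
      · have hd0 : α ^ 2 * β * br a b 0 2 ≠ 0 := by simp [hα, hβ, n02]
        have e : subst M (MvPolynomial.X 0 ^ 2 * MvPolynomial.X 1 * (MvPolynomial.X 0 - MvPolynomial.X 1)) =
            MvPolynomial.C (α ^ 2 * β * br a b 0 2) * ((MvPolynomial.C (b 0) * MvPolynomial.X 0 - MvPolynomial.C (a 0) * MvPolynomial.X 1) ^ 2 *
              (MvPolynomial.C (b 2) * MvPolynomial.X 0 - MvPolynomial.C (a 2) * MvPolynomial.X 1) *
              (MvPolynomial.C (b 3) * MvPolynomial.X 0 - MvPolynomial.C (a 3) * MvPolynomial.X 1)) := by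
          simp [subst, M, Fin.sum_univ_two, α, β, br]
          ring
        rw [hprod, e, ← mul_assoc (MvPolynomial.C (s / _)), ← map_mul, div_mul_cancel₀ _ hd0]
    refine Or.inl ⟨hA, ?_⟩
    rintro ⟨M₂, c₂, -, -, e₂⟩
    obtain ⟨M₁, c₁, hM₁, hc₁, e₁⟩ := hA
    exact not_both hM₁ hc₁ h2 (e₁.symm.trans e₂)

end Field

end Groth.Agent.Hopf35.Quartic
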