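import Mathlib.LinearAlgebra.Matrix.NonsingularInverse
import Mathlib.LinearAlgebra.Matrix.ToLinearEquiv
import Mathlib.Tactic.LinearCombination

/-!
helper35: a skew hermitian form of rank 2 which is a perturbation of the standard alternating one is
congruent to it once a square root of a suitable unit is available.
-/

set_option autoImplicit false

universe v

namespace Groth.Agent.Hopf35.RI

variable {R : Type v} [CommRing R]

theorem exists_congr_std (σ : R ≃+* R) (a b d β r r' l half : R) (ha : σ a = -a) (hd : σ d = -d)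
    (hb : b * β = 1) (hr : r * r = 1 + a * (d * β * σ β)) (hσr : σ r = r) (hrr : r * r' = 1)
    (hl : l * (1 + r) = -1) (h2 : 2 * half = 1) (hσσ : ∀ x, σ (σ x) = x) :
    ∃ v : Matrix (Fin 2) (Fin 2) R, IsUnit v ∧
      (v.map σ).transpose * Matrix.of ![![a, b], ![-σ b, d]] * v = Matrix.of ![![0, 1], ![-1, 0]] := by
  have hσh : σ half = half := by
    have h := congrArg σ h2
    rw [map_mul, map_ofNat, map_one] at h
    linear_combination half * h - σ half * h2
  have hσr' : σ r' = r' := by
    have h := congrArg σ hrr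
    rw [map_mul, map_one, hσr] at h
    linear_combination r' * h - σ r' * hrr
  have hσl : σ l = l := by
    have h := congrArg σ hl
    rw [map_mul, map_add, map_neg, map_one, hσr] at h
    linear_combination -l * h + σ l * hl
  have hσb : σ b * σ β = 1 := by rw [← map_mul, hb, map_one]
  set dd := d * β * σ β with hdd
  have hσdd : σ dd = -dd := by rw [hdd, map_mul, map_mul, hd, hσσ]; ring
  set μ := half * dd * r' ^ 2 with hμ
  have hσμ : σ μ = -μ := by rw [hμ, map_mul, map_mul, map_pow, hσdd, hσh, hσr']; ring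
  set v : Matrix (Fin 2) (Fin 2) R :=
    Matrix.of ![![1, μ], ![β * (l * a), β * (r' + μ * l * a)]] with hv
  have key : (v.map σ).transpose * Matrix.of ![![a, b], ![-σ b, d]] * v =
      Matrix.of ![![0, 1], ![-1, 0]] := by
    ext i j
    fin_cases i <;> fin_cases j <;>
      simp [hv, Matrix.mul_apply, Fin.sum_univ_two, map_mul, map_add, ha, hσl, hσμ, hσr']
    · linear_combination (l * a) * hb + (l * a) * hσb + (a * (1 - l * (r - 1))) * hl +
        (a * l ^ 2) * hr
    · linear_combination (r' + μ * l * a) * hb + (μ * l * a) * hσb +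
        (μ * a * (1 - l * (r - 1)) - r' * (r - 1)) * hl + (μ * a * l ^ 2 + r' * l) * hr + hrr
    · linear_combination (-(μ * l * a)) * hb + (-(r' + μ * l * a)) * hσb +
        (-(μ * a * (1 - l * (r - 1))) + r' * (r - 1)) * hl + (-(μ * a * l ^ 2) - r' * l) * hr - hrr
    · linear_combination (-μ * (r' + μ * l * a)) * hb + (-μ * (r' + μ * l * a)) * hσb +
        (-μ ^ 2 * a * (1 - l * (r - 1)) + 2 * μ * r' * (r - 1)) * hl +
        (-μ ^ 2 * a * l ^ 2 - 2 * μ * r' * l) * hr - 2 * μ * hrr - (dd * r' ^ 2) * h2
  refine ⟨v, ?_, key⟩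
  rw [Matrix.isUnit_iff_isUnit_det]
  have h := congrArg Matrix.det key
  rw [Matrix.det_mul, Matrix.det_fin_two (Matrix.of ![![(0 : R), 1], ![-1, 0]])] at h
  refine IsUnit.of_mul_eq_one _ ((mul_comm _ _).trans (h.trans ?_))
  simp

end Groth.Agent.Hopf35.RI
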