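import Mathlib
import Groth.Agent.AzInv26.Ramified
import Groth.Agent.AzInv26.Normal
import Groth.Prelude.Def_W4c2azumayainvolQEt

/-!
Rings with involution over their fixed rings: quadratic etale criteria and the branch locus.
-/

universe u v w

open scoped TensorProduct

namespace Groth.Agent.Hopf35.RI

open IsLocalRing

variable {S : Type u} [CommRing S] {R : Type v} [CommRing R] [Algebra S R] {lam : R ≃+* R}

theorem lam_algebraMap (hS : RInv.IsFixedRing S R lam) (s : S) : lam (algebraMap S R s) = algebraMap S R s :=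
  (hS.2 _).2 ⟨s, rfl⟩

theorem exists_of_fixed (hS : RInv.IsFixedRing S R lam) {r : R} (hr : lam r = r) : ∃ s, algebraMap S R s = r :=
  (hS.2 r).1 hr

theorem exists_norm (hlam : Function.Involutive lam) (hS : RInv.IsFixedRing S R lam) (r : R) :
    ∃ s, algebraMap S R s = r * lam r :=
  exists_of_fixed hS (by rw [map_mul, hlam, mul_comm])

theorem exists_trace (hlam : Function.Involutive lam) (hS : RInv.IsFixedRing S R lam) (r : R) :
    ∃ s, algebraMap S R s = r + lam r :=
  exists_of_fixed hS (by rw [map_add, hlam, add_comm])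

/-- The involution as an algebra automorphism. -/
def toAlg (hS : RInv.IsFixedRing S R lam) : R ≃ₐ[S] R :=
  AlgEquiv.ofRingEquiv (f := lam) (lam_algebraMap hS)

theorem toAlg_apply (hS : RInv.IsFixedRing S R lam) (r : R) : toAlg hS r = lam r := rfl

theorem toAlg_toRingEquiv (hS : RInv.IsFixedRing S R lam) : (toAlg hS).toRingEquiv = lam :=
  RingEquiv.ext fun _ => rfl

theorem isFixedRing_toAlg (hS : RInv.IsFixedRing S R lam) : RInv.IsFixedRing S R (toAlg hS).toRingEquiv := by
  rwa [toAlg_toRingEquiv]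

theorem quad_no_fixed_prime (hlam : Function.Involutive lam) (hS : RInv.IsFixedRing S R lam)
    (hq : RInv.IsQuadEtale S R) (q : Ideal R) [q.IsPrime] : ∃ r, lam r - r ∉ q := by
  by_contra h
  push Not at h
  exact AzInv26.quadEtale_no_fixed_prime (lam := toAlg hS) hlam (isFixedRing_toAlg hS) hq q h

theorem eq_or_eq_comap (hlam : Function.Involutive lam) (hS : RInv.IsFixedRing S R lam) (q q' : Ideal R)
    [q.IsPrime] [q'.IsPrime] (h : q'.comap (algebraMap S R) = q.comap (algebraMap S R)) (hfix : ∀ r, lam r - r ∈ q) :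
    q' = q := by
  have hsym : ∀ x, x ∈ q → lam x ∈ q := fun x hx => by
    simpa using q.add_mem (hfix x) hx
  refine le_antisymm (fun x hx => ?_) (fun x hx => ?_)
  · obtain ⟨s, hs⟩ := exists_norm hlam hS x
    have h1 : s ∈ q'.comap (algebraMap S R) := by
      rw [Ideal.mem_comap, hs]; exact q'.mul_mem_right _ hx
    rw [h, Ideal.mem_comap, hs] at h1
    rcases ‹q.IsPrime›.mem_or_mem h1 with h2 | h2
    · exact h2
    · simpa [hlam x] using hsym _ h2
  · obtain ⟨s, hs⟩ := exists_trace hlam hS x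
    obtain ⟨t, ht⟩ := exists_norm hlam hS x
    have h1 : s ∈ q.comap (algebraMap S R) := by
      rw [Ideal.mem_comap, hs]; exact q.add_mem hx (hsym x hx)
    have h2 : t ∈ q.comap (algebraMap S R) := by
      rw [Ideal.mem_comap, ht]; exact q.mul_mem_right _ hx
    rw [← h, Ideal.mem_comap, hs] at h1
    rw [← h, Ideal.mem_comap, ht] at h2
    have h3 : x * x ∈ q' := by
      have e : x * x = (x + lam x) * x - x * lam x := by ring
      rw [e]; exact q'.sub_mem (q'.mul_mem_right _ h1) h2
    exact (‹q'.IsPrime›.mem_or_mem h3).elim id id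

theorem comap_isMaximal (q : Ideal R) [hq : q.IsMaximal] : (q.comap lam.toRingHom).IsMaximal :=
  Ideal.comap_isMaximal_of_surjective _ lam.surjective

section Local

variable [IsLocalRing S]

theorem nontrivial (hS : RInv.IsFixedRing S R lam) : Nontrivial R := hS.1.nontrivial

theorem comap_max (hlam : Function.Involutive lam) (hS : RInv.IsFixedRing S R lam) (q : Ideal R) [q.IsMaximal] :
    q.comap (algebraMap S R) = maximalIdeal S :=
  haveI := AzInv26.isIntegral_of_fixed hlam hS
  eq_maximalIdeal (Ideal.isMaximal_comap_of_isIntegral_of_isMaximal (I := q))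

theorem max_eq_or (hlam : Function.Involutive lam) (hS : RInv.IsFixedRing S R lam) (q q' : Ideal R)
    [hq : q.IsMaximal] [hq' : q'.IsMaximal] : q' = q ∨ q' = q.comap lam.toRingHom := by
  haveI hlq := comap_isMaximal (lam := lam) q
  have hsub : (q' : Set R) ⊆ (q : Set R) ∪ (q.comap lam.toRingHom : Set R) := by
    intro x hx
    obtain ⟨s, hs⟩ := exists_norm hlam hS x
    have h : s ∈ q'.comap (algebraMap S R) := by rw [Ideal.mem_comap, hs]; exact q'.mul_mem_right _ hx
    rw [comap_max hlam hS q', ← comap_max hlam hS q, Ideal.mem_comap, hs] at h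
    exact hq.isPrime.mem_or_mem h
  rcases Ideal.subset_union.1 hsub with h | h
  · exact Or.inl (hq'.eq_of_le hq.ne_top h)
  · exact Or.inr (hq'.eq_of_le hlq.ne_top h)

theorem mem_maximalIdeal_of_mem_jacobson (hlam : Function.Involutive lam) (hS : RInv.IsFixedRing S R lam) {s : S}
    (h : algebraMap S R s ∈ Ring.jacobson R) : s ∈ maximalIdeal S := by
  haveI := nontrivial hS
  obtain ⟨q, hq⟩ := Ideal.exists_maximal R
  rw [← comap_max hlam hS q, Ideal.mem_comap]
  exact Ring.jacobson_le_of_isMaximal q h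

theorem lam_mem_jacobson {x : R} (hx : x ∈ Ring.jacobson R) : lam x ∈ Ring.jacobson R := by
  rw [← Ideal.jacobson_bot, Ideal.jacobson, Ideal.mem_sInf] at hx ⊢
  rintro q ⟨-, hq⟩
  exact hx ⟨bot_le, comap_isMaximal (lam := lam) q⟩

theorem quad_of_exists_unit (hlam : Function.Involutive lam) (hS : RInv.IsFixedRing S R lam)
    (h : ∀ q : Ideal R, q.IsMaximal → ∃ r, lam r - r ∉ q) : RInv.IsQuadEtale S R :=
  let ⟨r, hr⟩ := AzInv26.exists_unit_sub hlam hS h
  AzInv26.quadEtale_of_unit hlam hS r hr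

theorem exists_sub_isUnit (hlam : Function.Involutive lam) (hS : RInv.IsFixedRing S R lam) (hq : RInv.IsQuadEtale S R) :
    ∃ r : R, IsUnit (r - lam r) :=
  AzInv26.exists_unit_sub hlam hS fun q hq' => haveI := hq'.isPrime; quad_no_fixed_prime hlam hS hq q

theorem quad_of_exists_notMem (hlam : Function.Involutive lam) (hS : RInv.IsFixedRing S R lam)
    (h : ∃ r : R, lam r - r ∉ Ring.jacobson R) : RInv.IsQuadEtale S R := by
  refine quad_of_exists_unit hlam hS fun q hq => ?_
  by_contra hq'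
  push Not at hq'
  obtain ⟨r, hr⟩ := h
  refine hr ?_
  rw [← Ideal.jacobson_bot, Ideal.jacobson, Ideal.mem_sInf]
  rintro q' ⟨-, hq''⟩
  haveI := hq''.isPrime
  rw [eq_or_eq_comap hlam hS q q' (by rw [comap_max hlam hS q, comap_max hlam hS q']) hq']
  exact hq' r

theorem isLocalRing_and_not_quad (hlam : Function.Involutive lam) (hS : RInv.IsFixedRing S R lam)
    (h : ∀ r : R, lam r - r ∈ Ring.jacobson R) : IsLocalRing R ∧ ¬ RInv.IsQuadEtale S R := by
  haveI := nontrivial hS
  obtain ⟨q, hq⟩ := Ideal.exists_maximal R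
  have hq' : ∀ r, lam r - r ∈ q := fun r => Ring.jacobson_le_of_isMaximal q (h r)
  refine ⟨IsLocalRing.of_unique_max_ideal ⟨q, hq, fun q' hq'' => ?_⟩, fun hqe => ?_⟩
  · haveI := hq''.isPrime
    haveI := hq''
    exact eq_or_eq_comap hlam hS q q' (by rw [comap_max hlam hS q, comap_max hlam hS q']) hq'
  · obtain ⟨r, hr⟩ := quad_no_fixed_prime hlam hS hqe q
    exact hr (hq' r)

theorem hilbert90 (hlam : Function.Involutive lam) (hS : RInv.IsFixedRing S R lam) (hq : RInv.IsQuadEtale S R)
    (r : Rˣ) (hr : lam r * r = 1) : ∃ a : Rˣ, (r : R) = (a⁻¹ : Rˣ) * lam a := by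
  obtain ⟨t, ht⟩ := exists_sub_isUnit hlam hS hq
  suffices ∃ x, IsUnit (x + lam r * lam x) by
    obtain ⟨x, hx⟩ := this
    refine ⟨hx.unit, ?_⟩
    have h1 : lam (x + lam r * lam x) = (x + lam r * lam x) * r := by
      rw [map_add, map_mul, hlam, hlam]
      linear_combination (- lam x) * hr
    rw [IsUnit.unit_spec, h1, ← mul_assoc, show ((hx.unit⁻¹ : Rˣ) : R) * (x + lam r * lam x) = 1 from hx.val_inv_mul, one_mul]
  haveI := nontrivial hS
  obtain ⟨q, hq'⟩ := Ideal.exists_maximal R
  haveI hlq := comap_isMaximal (lam := lam) q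
  have hall : ∀ x, x + lam r * lam x ∉ q → x + lam r * lam x ∉ q.comap lam.toRingHom → IsUnit (x + lam r * lam x) := by
    intro x h1 h2
    by_contra hu
    obtain ⟨m, hm, hmem⟩ := exists_max_ideal_of_mem_nonunits hu
    haveI := hm
    rcases max_eq_or hlam hS q m with rfl | rfl
    · exact h1 hmem
    · exact h2 hmem
  have hlr : ∀ m : Ideal R, m.IsPrime → lam r ∉ m := fun m hm h =>
    hm.ne_top ((Ideal.eq_top_iff_one m).2 (hr ▸ m.mul_mem_right _ h))
  by_cases hfix : q.comap lam.toRingHom = q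
  · by_cases h1 : 1 + lam r * lam 1 ∈ q
    · refine ⟨t, hall t ?_ ?_⟩ <;> (try rw [hfix]) <;>
      · intro h
        have : t - lam t ∈ q := by
          have e : t - lam t = (t + lam r * lam t) - (1 + lam r * lam 1) * lam t := by rw [map_one]; ring
          rw [e]; exact q.sub_mem h (q.mul_mem_right _ h1)
        exact hq'.ne_top (Ideal.eq_top_of_isUnit_mem _ this ht)
    · exact ⟨1, hall 1 h1 (by rwa [hfix])⟩
  · obtain ⟨x, hx, hx'⟩ : ∃ x, x ∈ q.comap lam.toRingHom ∧ x ∉ q := by
      by_contra h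
      push Not at h
      exact hfix (hlq.eq_of_le hq'.ne_top h)
    refine ⟨x, hall x (fun h => hx' ?_) (fun h => hlr _ hlq.isPrime ?_)⟩
    · have : lam x ∈ q := hx
      simpa using q.sub_mem h (q.mul_mem_left (lam r) this)
    · have h2 : lam r * lam x ∈ q.comap lam.toRingHom := by simpa using Ideal.sub_mem _ h hx
      refine (hlq.isPrime.mem_or_mem h2).resolve_right fun h3 => hx' ?_
      rw [Ideal.mem_comap, RingEquiv.toRingHom_eq_coe, RingEquiv.coe_toRingHom, hlam] at h3
      exact h3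

theorem jacobson_sq_le (hlam : Function.Involutive lam) (hS : RInv.IsFixedRing S R lam) (h2 : IsUnit (2 : S)) :
    (Ring.jacobson R) ^ 2 ≤ (maximalIdeal S).map (algebraMap S R) := by
  obtain ⟨c, hc⟩ := (h2.map (algebraMap S R)).exists_left_inv
  rw [map_ofNat] at hc
  have hlc : lam c = c := by
    have : lam c * 2 = 1 := by rw [← map_ofNat lam 2, ← map_mul, hc, map_one]
    linear_combination (lam c) * hc.symm + c * this
  rw [pow_two, Ideal.mul_le]
  intro x hx y hy
  have hfixed : ∀ z, lam z = z → z ∈ Ring.jacobson R → z ∈ (maximalIdeal S).map (algebraMap S R) := by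
    intro z hz hzj
    obtain ⟨s, rfl⟩ := exists_of_fixed hS hz
    exact Ideal.mem_map_of_mem _ (mem_maximalIdeal_of_mem_jacobson hlam hS hzj)
  have hp : ∀ z ∈ Ring.jacobson R, c * (z + lam z) ∈ (maximalIdeal S).map (algebraMap S R) := fun z hz =>
    hfixed _ (by rw [map_mul, map_add, hlam, hlc, add_comm]) (Ideal.mul_mem_left _ _ (Ideal.add_mem _ hz (lam_mem_jacobson hz)))
  have hm : (c * (x - lam x)) * (c * (y - lam y)) ∈ (maximalIdeal S).map (algebraMap S R) :=
    hfixed _ (by simp only [map_mul, map_sub, hlam x, hlam y, hlc]; ring)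
      (Ideal.mul_mem_left _ _ (Ideal.mul_mem_left _ _ (Ideal.sub_mem _ hy (lam_mem_jacobson hy))))
  have e : x * y = c * (x + lam x) * y + c * (x - lam x) * (c * (y + lam y)) + (c * (x - lam x)) * (c * (y - lam y)) := by
    linear_combination (-x * y) * hc + (-(c * (x - lam x)) * y) * hc
  rw [e]
  exact Ideal.add_mem _ (Ideal.add_mem _ (Ideal.mul_mem_right _ _ (hp x hx)) (Ideal.mul_mem_left _ _ (hp y hy))) hm

end Local

section Fibre

variable [IsLocalRing S]

set_option backward.inferInstanceAs.wrap.data false in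
theorem jacobson_eq_map (hq : RInv.IsQuadEtale S R) :
    Ring.jacobson R = (maximalIdeal S).map (algebraMap S R) := by
  obtain ⟨hfin, -, hunr, -⟩ := hq
  haveI := hfin; haveI := hunr
  let I := (maximalIdeal S).map (algebraMap S R)
  refine le_antisymm ?_ ?_
  · letI : Algebra (ResidueField S) (R ⧸ I) := inferInstanceAs <| Algebra (S ⧸ _) _
    haveI : IsScalarTower S (ResidueField S) (R ⧸ I) := inferInstanceAs <| IsScalarTower S (S ⧸ _) _
    haveI : Algebra.FormallyUnramified (ResidueField S) (R ⧸ I) :=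
      .of_restrictScalars S _ _
    haveI : Module.Finite (ResidueField S) (R ⧸ I) := Module.Finite.of_restrictScalars_finite S _ _
    haveI : IsReduced (R ⧸ I) := Algebra.FormallyUnramified.isReduced_of_field (ResidueField S) (R ⧸ I)
    haveI : IsArtinianRing (R ⧸ I) := IsArtinianRing.of_finite (ResidueField S) _
    have h : I.jacobson = I := by
      rw [Ideal.jacobson_eq_iff_jacobson_quotient_eq_bot, IsArtinianRing.jacobson_eq_radical]
      exact nilradical_eq_zero _
    show _ ≤ I
    rw [← Ideal.jacobson_bot, ← h]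
    exact Ideal.jacobson_mono bot_le
  · rw [← Ideal.jacobson_bot, Ideal.jacobson]
    refine le_sInf fun q ⟨_, hq⟩ => ?_
    haveI := hq
    refine Ideal.map_le_iff_le_comap.2 (le_of_eq ?_)
    exact (eq_maximalIdeal (Ideal.isMaximal_comap_of_isIntegral_of_isMaximal (I := q))).symm

set_option backward.inferInstanceAs.wrap.data false in
theorem fibre_cases (hq : RInv.IsQuadEtale S R) :
    (IsField (R ⧸ (maximalIdeal S).map (algebraMap S R)) ∧
      Module.finrank (S ⧸ maximalIdeal S) (R ⧸ (maximalIdeal S).map (algebraMap S R)) = 2 ∧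
      Algebra.IsSeparable (S ⧸ maximalIdeal S) (R ⧸ (maximalIdeal S).map (algebraMap S R))) ∨
    Nonempty ((R ⧸ (maximalIdeal S).map (algebraMap S R)) ≃ₐ[S ⧸ maximalIdeal S]
      ((S ⧸ maximalIdeal S) × (S ⧸ maximalIdeal S))) := by
  obtain ⟨hfin, hproj, hunr, hrk⟩ := hq
  haveI := hfin; haveI := hproj; haveI := hunr
  let I := (maximalIdeal S).map (algebraMap S R)
  let K := ResidueField S
  letI : Algebra K (R ⧸ I) := inferInstanceAs <| Algebra (S ⧸ _) _
  haveI : IsScalarTower S K (R ⧸ I) := inferInstanceAs <| IsScalarTower S (S ⧸ _) _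
  show (IsField (R ⧸ I) ∧ Module.finrank K (R ⧸ I) = 2 ∧ Algebra.IsSeparable K (R ⧸ I)) ∨
    Nonempty ((R ⧸ I) ≃ₐ[K] (K × K))
  haveI : Algebra.FormallyUnramified K (R ⧸ I) := .of_restrictScalars S _ _
  haveI : Module.Finite K (R ⧸ I) := Module.Finite.of_restrictScalars_finite S _ _
  haveI : IsReduced (R ⧸ I) := Algebra.FormallyUnramified.isReduced_of_field K (R ⧸ I)
  haveI : IsArtinianRing (R ⧸ I) := IsArtinianRing.of_finite K _
  haveI : Module.Free S R := Module.free_of_flat_of_isLocalRing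
  have h2 : Module.finrank K (R ⧸ I) = 2 := by
    refine ((Algebra.TensorProduct.quotIdealMapEquivQuotTensor R (maximalIdeal S)).toLinearEquiv.finrank_eq).trans ?_
    rw [Module.finrank_baseChange]
    have := hrk (IsLocalRing.closedPoint S)
    rwa [Module.rankAtStalk_eq_finrank_of_free, Pi.natCast_apply] at this
  by_cases hloc : IsLocalRing (R ⧸ I)
  · left
    have hf : IsField (R ⧸ I) := IsArtinianRing.isField_of_isReduced_of_isLocalRing _
    refine ⟨hf, h2, ?_⟩
    letI := hf.toField
    exact (Algebra.FormallyUnramified.iff_isSeparable K (R ⧸ I)).mp inferInstance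
  · right
    haveI : Nontrivial (R ⧸ I) := Module.nontrivial_of_finrank_pos (R := K) (by omega)
    obtain ⟨P, hP⟩ := Ideal.exists_maximal (R ⧸ I)
    obtain ⟨Q, hQ, hne⟩ : ∃ Q : Ideal (R ⧸ I), Q.IsMaximal ∧ Q ≠ P := by
      by_contra h
      push Not at h
      exact hloc (IsLocalRing.of_unique_max_ideal ⟨P, hP, fun Q hQ => h Q hQ⟩)
    let φ : (R ⧸ I) →ₐ[K] ((R ⧸ I) ⧸ P) × ((R ⧸ I) ⧸ Q) := (Ideal.Quotient.mkₐ K P).prod (Ideal.Quotient.mkₐ K Q)
    have hsurj : Function.Surjective φ := by
      rintro ⟨a, b⟩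
      obtain ⟨a, rfl⟩ := Ideal.Quotient.mk_surjective a
      obtain ⟨b, rfl⟩ := Ideal.Quotient.mk_surjective b
      obtain ⟨i, hi, j, hj, hij⟩ := Submodule.mem_sup.mp ((Ideal.eq_top_iff_one _).mp (hP.coprime_of_ne hQ hne.symm))
      refine ⟨a * j + b * i, Prod.ext ?_ ?_⟩
      · show Ideal.Quotient.mk P _ = _
        rw [Ideal.Quotient.eq, show a * j + b * i - a = (b - a) * i + a * (i + j - 1) by ring, hij, sub_self, mul_zero, add_zero]
        exact P.mul_mem_left _ hi
      · show Ideal.Quotient.mk Q _ = _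
        rw [Ideal.Quotient.eq, show a * j + b * i - b = (a - b) * j + b * (i + j - 1) by ring, hij, sub_self, mul_zero, add_zero]
        exact Q.mul_mem_left _ hj
    haveI : Nontrivial ((R ⧸ I) ⧸ P) := Ideal.Quotient.nontrivial_iff.mpr hP.ne_top
    haveI : Nontrivial ((R ⧸ I) ⧸ Q) := Ideal.Quotient.nontrivial_iff.mpr hQ.ne_top
    have hP1 : 0 < Module.finrank K ((R ⧸ I) ⧸ P) := Module.finrank_pos
    have hQ1 : 0 < Module.finrank K ((R ⧸ I) ⧸ Q) := Module.finrank_pos
    have hle : Module.finrank K (((R ⧸ I) ⧸ P) × ((R ⧸ I) ⧸ Q)) ≤ 2 := h2 ▸ φ.toLinearMap.finrank_le_finrank_of_surjective hsurj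
    rw [Module.finrank_prod] at hle
    have hφ : Function.Bijective φ := by
      refine ⟨(LinearMap.injective_iff_surjective_of_finrank_eq_finrank (f := φ.toLinearMap) ?_).2 hsurj, hsurj⟩
      rw [Module.finrank_prod]; omega
    have e : ∀ (A : Type v) [CommRing A] [Algebra K A] [Nontrivial A], Module.finrank K A = 1 →
        Function.Bijective (Algebra.ofId K A) := by
      intro A _ _ _ h
      haveI : FiniteDimensional K A := Module.finite_of_finrank_eq_succ h
      exact ⟨RingHom.injective _, (LinearMap.injective_iff_surjective_of_finrank_eq_finrank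
        (f := (Algebra.ofId K A).toLinearMap) (by rw [Module.finrank_self, h])).1 (RingHom.injective _)⟩
    exact ⟨(AlgEquiv.ofBijective φ hφ).trans (AlgEquiv.prodCongr (AlgEquiv.ofBijective _ (e _ (by omega))).symm
      (AlgEquiv.ofBijective _ (e _ (by omega))).symm)⟩

end Fibre

section BaseChange

variable {S' : Type w} [CommRing S'] [Algebra S S']

theorem isFixedRing_baseChange {lam : R ≃ₐ[S] R} (hlam : Function.Involutive lam)
    (hS : RInv.IsFixedRing S R lam.toRingEquiv) (h : Module.Flat S S' ∨ IsUnit (2 : S)) :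
    RInv.IsFixedRing S' (S' ⊗[S] R) (Algebra.TensorProduct.congr (AlgEquiv.refl : S' ≃ₐ[S] S') lam).toRingEquiv := by
  let d : R →ₗ[S] R := lam.toLinearMap - LinearMap.id
  have hker : Function.Exact (Algebra.linearMap S R) d := fun r =>
    ⟨fun hr => ((hS.2 r).1 (sub_eq_zero.1 hr)), fun ⟨s, hs⟩ => by
      subst hs; exact sub_eq_zero.2 (lam.commutes s)⟩
  let j : S' →ₗ[S] S' ⊗[S] R := (LinearMap.lTensor S' (Algebra.linearMap S R)) ∘ₗ (TensorProduct.rid S S').symm.toLinearMap
  have hj : ∀ s' : S', j s' = algebraMap S' (S' ⊗[S] R) s' := fun s' => by simp [j]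
  have hfix : ∀ z : S' ⊗[S] R, Algebra.TensorProduct.congr (AlgEquiv.refl : S' ≃ₐ[S] S') lam z - z = LinearMap.lTensor S' d z := by
    intro z
    induction z using TensorProduct.induction_on with
    | zero => simp
    | tmul a r => simp [d, TensorProduct.tmul_sub]
    | add a b ha hb => rw [map_add, map_add, add_sub_add_comm, ha, hb]
  rcases h with h | h
  · refine ⟨?_, fun z => ?_⟩
    · have hi : Function.Injective j :=
        (Module.Flat.lTensor_preserves_injective_linearMap (Algebra.linearMap S R) hS.1).comp (TensorProduct.rid S S').symm.injective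
      intro a b hab
      exact hi (by rw [hj, hj, hab])
    · show Algebra.TensorProduct.congr (AlgEquiv.refl : S' ≃ₐ[S] S') lam z = z ↔ _
      rw [← sub_eq_zero, hfix, (Module.Flat.lTensor_exact S' hker) z]
      constructor
      · rintro ⟨y, rfl⟩
        refine ⟨TensorProduct.rid S S' y, ?_⟩
        rw [← hj]; simp [j]
      · rintro ⟨s', rfl⟩
        exact ⟨(TensorProduct.rid S S').symm s', hj s'⟩
  · obtain ⟨c, hc⟩ := h.exists_left_inv
    have hex : ∀ r : R, ∃ s, algebraMap S R s = r + lam r := exists_trace (lam := lam.toRingEquiv) hlam hS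
    choose tr htr using hex
    let π : R →ₗ[S] S :=
      { toFun := fun r => c * tr r
        map_add' := fun a b => hS.1 (by simp only [map_mul, map_add, htr]; ring)
        map_smul' := fun s a => hS.1 (by simp only [map_mul, htr, smul_eq_mul, RingHom.id_apply, map_smul, Algebra.smul_def, map_mul, AlgEquiv.commutes]; ring) }
    let q : S' ⊗[S] R →ₗ[S] S' := (TensorProduct.rid S S').toLinearMap ∘ₗ LinearMap.lTensor S' π
    have hq : ∀ s' : S', q (algebraMap S' (S' ⊗[S] R) s') = s' := by
      intro s'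
      have : π 1 = 1 := hS.1 (by
        show algebraMap S R (c * tr 1) = _
        rw [map_mul, htr, map_one, one_add_one_eq_two, map_one, ← map_ofNat (algebraMap S R) 2, ← map_mul, hc, map_one])
      simp [q, this]
    refine ⟨fun a b hab => by rw [← hq a, hab, hq], fun z => ⟨fun hz => ⟨q z, ?_⟩, ?_⟩⟩
    · change Algebra.TensorProduct.congr (AlgEquiv.refl : S' ≃ₐ[S] S') lam z = z at hz
      have key : ∀ y : S' ⊗[S] R, algebraMap S' (S' ⊗[S] R) (q y) = c • (y + Algebra.TensorProduct.congr (AlgEquiv.refl : S' ≃ₐ[S] S') lam y) := by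
        intro y
        induction y using TensorProduct.induction_on with
        | zero => simp
        | tmul a r =>
          simp only [q, LinearMap.comp_apply, LinearMap.lTensor_tmul, LinearEquiv.coe_coe, TensorProduct.rid_tmul, Algebra.TensorProduct.algebraMap_apply, Algebra.algebraMap_self, RingHom.id_apply, Algebra.TensorProduct.congr_apply, Algebra.TensorProduct.map_tmul]
          show ((c * tr r) • a) ⊗ₜ[S] (1 : R) = c • (a ⊗ₜ[S] r + a ⊗ₜ[S] lam r)
          rw [TensorProduct.smul_tmul, ← Algebra.algebraMap_eq_smul_one, map_mul, htr, ← Algebra.smul_def, TensorProduct.tmul_smul, TensorProduct.tmul_add]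
        | add a b ha hb => simp only [map_add, ha, hb, smul_add]; abel
      rw [key, hz, smul_add, ← add_smul, show c + c = c * 2 by ring, hc, one_smul]
    · rintro ⟨s', rfl⟩
      simp

end BaseChange

section Loc

variable (M : Submonoid S) (T : Type u) [CommRing T] [Algebra S T] [IsLocalization M T]

instance : IsLocalizedModule M ((TensorProduct.mk S T R) 1) :=
  (isLocalizedModule_iff_isBaseChange M T _).2 (TensorProduct.isBaseChange S R T)

include M in
theorem exists_of_isUnit {x : R} (hx : IsUnit ((1 : T) ⊗ₜ[S] x)) : ∃ (c : R) (t : S), t ∈ M ∧ x * c = algebraMap S R t := by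
  obtain ⟨y, hy⟩ := hx.exists_right_inv
  obtain ⟨⟨c, t⟩, hct⟩ := IsLocalizedModule.surj M ((TensorProduct.mk S T R) 1) y
  have h1 : (TensorProduct.mk S T R) 1 (x * c) = (TensorProduct.mk S T R) 1 (algebraMap S R t) := by
    simp only [TensorProduct.mk_apply] at hct ⊢
    rw [← mul_one (1 : T), ← Algebra.TensorProduct.tmul_mul_tmul, ← hct, Submonoid.smul_def, mul_smul_comm, mul_one, hy,
      Algebra.algebraMap_eq_smul_one, TensorProduct.tmul_smul, Algebra.TensorProduct.one_def]
  obtain ⟨t', ht'⟩ := IsLocalizedModule.exists_of_eq (S := M) h1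
  refine ⟨(t' : S) • c, t' * t, M.mul_mem t'.2 t.2, ?_⟩
  rw [mul_smul_comm, map_mul, ← Algebra.smul_def]
  exact ht'

include M in
theorem exists_unit_of_exists (hlam : Function.Involutive lam) (hS : RInv.IsFixedRing S R lam)
    (h : ∃ z : T ⊗[S] R, IsUnit (z - Algebra.TensorProduct.congr (AlgEquiv.refl : T ≃ₐ[S] T) (toAlg hS) z)) :
    ∃ r : R, IsUnit ((1 : T) ⊗ₜ[S] (r - lam r)) := by
  have _ := hlam
  obtain ⟨z, hz⟩ := h
  obtain ⟨⟨r, t⟩, hrt⟩ := IsLocalizedModule.surj M ((TensorProduct.mk S T R) 1) z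
  refine ⟨r, ?_⟩
  simp only [TensorProduct.mk_apply, Submonoid.smul_def] at hrt
  have h2 : Algebra.TensorProduct.congr (AlgEquiv.refl : T ≃ₐ[S] T) (toAlg hS) ((t : S) • z) = (1 : T) ⊗ₜ[S] lam r := by
    rw [hrt]; simp [toAlg_apply]
  rw [TensorProduct.tmul_sub, ← hrt, ← h2, map_smul, ← smul_sub, Algebra.smul_def]
  refine IsUnit.mul ?_ hz
  rw [IsScalarTower.algebraMap_apply S T (T ⊗[S] R)]
  exact (IsLocalization.map_units T t).map _

end Loc

section Branch

theorem fixed_atPrime (hlam : Function.Involutive lam) (hS : RInv.IsFixedRing S R lam) (T : Type u) [CommRing T]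
    [Algebra S T] [Module.Flat S T] :
    RInv.IsFixedRing T (T ⊗[S] R) (Algebra.TensorProduct.congr (AlgEquiv.refl : T ≃ₐ[S] T) (toAlg hS)).toRingEquiv ∧
      Function.Involutive (Algebra.TensorProduct.congr (AlgEquiv.refl : T ≃ₐ[S] T) (toAlg hS)).toRingEquiv := by
  refine ⟨isFixedRing_baseChange hlam (isFixedRing_toAlg hS) (Or.inl inferInstance), fun z => ?_⟩
  show Algebra.TensorProduct.congr (AlgEquiv.refl : T ≃ₐ[S] T) (toAlg hS)
    (Algebra.TensorProduct.congr (AlgEquiv.refl : T ≃ₐ[S] T) (toAlg hS) z) = z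
  induction z using TensorProduct.induction_on with
  | zero => simp
  | tmul a r => simp [toAlg_apply, hlam r]
  | add a b ha hb => rw [map_add, map_add, ha, hb]

theorem not_quad_iff (hlam : Function.Involutive lam) (hS : RInv.IsFixedRing S R lam) (p : PrimeSpectrum S) :
    ¬ RInv.IsQuadEtale (Localization.AtPrime p.asIdeal) (Localization.AtPrime p.asIdeal ⊗[S] R) ↔
      ∃ q : PrimeSpectrum R, q.asIdeal.comap (algebraMap S R) = p.asIdeal ∧
        (∀ q' : PrimeSpectrum R, q'.asIdeal.comap (algebraMap S R) = p.asIdeal → q' = q) ∧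
        ∀ r : R, lam r - r ∈ q.asIdeal := by
  let T := Localization.AtPrime p.asIdeal
  haveI : Module.Flat S T := IsLocalization.flat T p.asIdeal.primeCompl
  obtain ⟨hT, hTinv⟩ := fixed_atPrime hlam hS T
  let Λ := Algebra.TensorProduct.congr (AlgEquiv.refl : T ≃ₐ[S] T) (toAlg hS)
  constructor
  · intro hnq
    obtain ⟨Q, hQ, hQfix⟩ : ∃ Q : Ideal (T ⊗[S] R), Q.IsMaximal ∧ ∀ z, Λ z - z ∈ Q := by
      by_contra h
      push Not at h
      exact hnq (quad_of_exists_unit hTinv hT h)
    haveI := hQ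
    let q : PrimeSpectrum R := ⟨Q.comap (Algebra.TensorProduct.includeRight : R →ₐ[S] T ⊗[S] R).toRingHom, inferInstance⟩
    have hqp : q.asIdeal.comap (algebraMap S R) = p.asIdeal := by
      have h1 := comap_max hTinv hT Q
      have h2 : (maximalIdeal T).comap (algebraMap S T) = p.asIdeal := IsLocalization.AtPrime.comap_maximalIdeal T p.asIdeal
      rw [← h2, ← h1, Ideal.comap_comap, Ideal.comap_comap, ← IsScalarTower.algebraMap_eq,
        AlgHom.toRingHom_eq_coe, AlgHom.comp_algebraMap]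
    have hfix : ∀ r, lam r - r ∈ q.asIdeal := fun r => by
      show Algebra.TensorProduct.includeRight (lam r - r) ∈ Q
      have := hQfix ((1 : T) ⊗ₜ[S] r)
      simpa [Λ, toAlg_apply, TensorProduct.tmul_sub] using this
    exact ⟨q, hqp, fun q' hq' => PrimeSpectrum.ext (eq_or_eq_comap hlam hS q.asIdeal q'.asIdeal (by rw [hq', hqp]) hfix), hfix⟩
  · rintro ⟨q, hqp, -, hfix⟩ hquad
    obtain ⟨r, hr⟩ := exists_unit_of_exists p.asIdeal.primeCompl T hlam hS (exists_sub_isUnit hTinv hT hquad)
    obtain ⟨c, t, ht, hct⟩ := exists_of_isUnit p.asIdeal.primeCompl T hr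
    refine ht ?_
    rw [← hqp]
    show algebraMap S R t ∈ q.asIdeal
    rw [← hct]
    exact q.asIdeal.mul_mem_right _ (by simpa using q.asIdeal.neg_mem (hfix r))

theorem exists_quad_away (hlam : Function.Involutive lam) (hS : RInv.IsFixedRing S R lam) (p : PrimeSpectrum S)
    (hp : RInv.IsQuadEtale (Localization.AtPrime p.asIdeal) (Localization.AtPrime p.asIdeal ⊗[S] R)) :
    ∃ s : S, s ∉ p.asIdeal ∧ RInv.IsQuadEtale (Localization.Away s) (Localization.Away s ⊗[S] R) := by
  haveI : Module.Flat S (Localization.AtPrime p.asIdeal) := IsLocalization.flat _ p.asIdeal.primeCompl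
  obtain ⟨hT, hTinv⟩ := fixed_atPrime hlam hS (Localization.AtPrime p.asIdeal)
  obtain ⟨r, hr⟩ := exists_unit_of_exists p.asIdeal.primeCompl (Localization.AtPrime p.asIdeal) hlam hS (exists_sub_isUnit hTinv hT hp)
  obtain ⟨c, t, ht, hct⟩ := exists_of_isUnit p.asIdeal.primeCompl (Localization.AtPrime p.asIdeal) hr
  refine ⟨t, ht, ?_⟩
  haveI : Module.Flat S (Localization.Away t) := IsLocalization.flat _ (Submonoid.powers t)
  obtain ⟨hU, hUinv⟩ := fixed_atPrime hlam hS (Localization.Away t)
  refine AzInv26.quadEtale_of_unit hUinv hU ((1 : Localization.Away t) ⊗ₜ[S] r) ?_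
  have e : (1 : Localization.Away t) ⊗ₜ[S] r - (Algebra.TensorProduct.congr (AlgEquiv.refl : Localization.Away t ≃ₐ[S] _) (toAlg hS)).toRingEquiv ((1 : Localization.Away t) ⊗ₜ[S] r) =
      (1 : Localization.Away t) ⊗ₜ[S] (r - lam r) := by
    simp [toAlg_apply, TensorProduct.tmul_sub]
  rw [e]
  refine isUnit_of_mul_isUnit_left (y := (1 : Localization.Away t) ⊗ₜ[S] c) ?_
  rw [Algebra.TensorProduct.tmul_mul_tmul, one_mul, hct, Algebra.algebraMap_eq_smul_one, ← TensorProduct.smul_tmul,
    ← Algebra.algebraMap_eq_smul_one]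
  exact (IsLocalization.Away.algebraMap_isUnit t).map (Algebra.TensorProduct.includeLeftRingHom (R := S) (A := Localization.Away t) (B := R))

theorem isClosed_branch (hlam : Function.Involutive lam) (hS : RInv.IsFixedRing S R lam) :
    IsClosed {p : PrimeSpectrum S | ¬ RInv.IsQuadEtale (Localization.AtPrime p.asIdeal) (Localization.AtPrime p.asIdeal ⊗[S] R)} := by
  rw [← isOpen_compl_iff, isOpen_iff_forall_mem_open]
  intro p hp
  simp only [Set.mem_compl_iff, Set.mem_ofPred_eq, not_not] at hp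
  haveI : Module.Flat S (Localization.AtPrime p.asIdeal) := IsLocalization.flat _ p.asIdeal.primeCompl
  obtain ⟨hT, hTinv⟩ := fixed_atPrime hlam hS (Localization.AtPrime p.asIdeal)
  obtain ⟨r, hr⟩ := exists_unit_of_exists p.asIdeal.primeCompl (Localization.AtPrime p.asIdeal) hlam hS (exists_sub_isUnit hTinv hT hp)
  obtain ⟨c, t, ht, hct⟩ := exists_of_isUnit p.asIdeal.primeCompl (Localization.AtPrime p.asIdeal) hr
  refine ⟨PrimeSpectrum.basicOpen t, fun p' hp' => ?_, (PrimeSpectrum.basicOpen t).isOpen, ht⟩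
  intro hnq
  obtain ⟨q, hqp, -, hfix⟩ := (not_quad_iff hlam hS p').1 hnq
  refine hp' ?_
  rw [← hqp]
  show algebraMap S R t ∈ q.asIdeal
  rw [← hct]
  exact q.asIdeal.mul_mem_right _ (by simpa using q.asIdeal.neg_mem (hfix r))

variable (W : Set (PrimeSpectrum S))
  (hW : W = {p : PrimeSpectrum S | ¬ RInv.IsQuadEtale (Localization.AtPrime p.asIdeal) (Localization.AtPrime p.asIdeal ⊗[S] R)})

include hW in
theorem mem_iff_vanishing_le (hlam : Function.Involutive lam) (hS : RInv.IsFixedRing S R lam) (p : PrimeSpectrum S) :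
    p ∈ W ↔ PrimeSpectrum.vanishingIdeal W ≤ p.asIdeal := by
  have hcl : IsClosed W := hW ▸ isClosed_branch hlam hS
  conv_lhs => rw [← hcl.closure_eq, ← PrimeSpectrum.zeroLocus_vanishingIdeal_eq_closure]
  rfl

include hW in
theorem map_sub_mem_radical (hlam : Function.Involutive lam) (hS : RInv.IsFixedRing S R lam) (r : R) :
    lam r - r ∈ ((PrimeSpectrum.vanishingIdeal W).map (algebraMap S R)).radical := by
  rw [Ideal.radical_eq_sInf, Ideal.mem_sInf]
  rintro Q ⟨hle, hQ⟩
  haveI := hQ
  let p : PrimeSpectrum S := ⟨Q.comap (algebraMap S R), inferInstance⟩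
  have hp : p ∈ W := (mem_iff_vanishing_le W hW hlam hS p).2 (Ideal.map_le_iff_le_comap.1 hle)
  rw [hW] at hp
  obtain ⟨q, hqp, huniq, hfix⟩ := (not_quad_iff hlam hS p).1 hp
  rw [show Q = q.asIdeal from congrArg PrimeSpectrum.asIdeal (huniq ⟨Q, hQ⟩ rfl)]
  exact hfix r

include hW in
theorem isHomeomorph_branch (hlam : Function.Involutive lam) (hS : RInv.IsFixedRing S R lam) (J : Ideal R)
    (hJ : J = ((PrimeSpectrum.vanishingIdeal W).map (algebraMap S R)).radical)
    (hIJ : PrimeSpectrum.vanishingIdeal W ≤ J.comap (algebraMap S R)) :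
    IsHomeomorph (PrimeSpectrum.comap (Ideal.quotientMap J (algebraMap S R) hIJ)) ∧
      (IsUnit (2 : S) → Function.Bijective (Ideal.quotientMap J (algebraMap S R) hIJ)) := by
  set I := PrimeSpectrum.vanishingIdeal W
  set f := Ideal.quotientMap J (algebraMap S R) hIJ
  have hint : f.IsIntegral := by
    refine RingHom.IsIntegral.tower_top (Ideal.Quotient.mk I) f ?_
    rw [show f.comp (Ideal.Quotient.mk I) = (Ideal.Quotient.mk J).comp (algebraMap S R) from RingHom.ext fun _ => rfl]
    exact RingHom.IsIntegral.trans _ _ (AzInv26.isIntegral_of_fixed hlam hS).1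
      ((RingHom.isIntegral_of_surjective (Ideal.Quotient.mk J) Ideal.Quotient.mk_surjective))
  have hmem : ∀ p : PrimeSpectrum S, p ∈ W → ∃ q : PrimeSpectrum R, J ≤ q.asIdeal ∧
      q.asIdeal.comap (algebraMap S R) = p.asIdeal ∧
      ∀ q' : PrimeSpectrum R, q'.asIdeal.comap (algebraMap S R) = p.asIdeal → q' = q := by
    intro p hp
    have hp' := hp
    rw [hW] at hp'
    obtain ⟨q, hqp, huniq, -⟩ := (not_quad_iff hlam hS p).1 hp'
    refine ⟨q, ?_, hqp, huniq⟩
    rw [hJ, q.isPrime.radical_le_iff, Ideal.map_le_iff_le_comap, hqp]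
    exact (mem_iff_vanishing_le W hW hlam hS p).1 hp
  have hcomp : ∀ Q : PrimeSpectrum (R ⧸ J),
      (PrimeSpectrum.comap f Q).asIdeal.comap (Ideal.Quotient.mk I) = (Q.asIdeal.comap (Ideal.Quotient.mk J)).comap (algebraMap S R) := fun Q => rfl
  have hwmem : ∀ Q : PrimeSpectrum (R ⧸ J), (⟨(PrimeSpectrum.comap f Q).asIdeal.comap (Ideal.Quotient.mk I), inferInstance⟩ : PrimeSpectrum S) ∈ W := by
    intro Q
    rw [mem_iff_vanishing_le W hW hlam hS]
    intro x hx
    show Ideal.Quotient.mk I x ∈ (PrimeSpectrum.comap f Q).asIdeal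
    rw [Ideal.Quotient.eq_zero_iff_mem.2 hx]; exact zero_mem _
  refine ⟨(isHomeomorph_iff_continuous_isClosedMap_bijective (f := PrimeSpectrum.comap f)).2
    ⟨PrimeSpectrum.continuous_comap f, PrimeSpectrum.isClosedMap_comap_of_isIntegral f hint, ?_, ?_⟩, fun h2 => ⟨?_, ?_⟩⟩
  · intro Q Q' h
    obtain ⟨q, -, -, huniq⟩ := hmem _ (hwmem Q)
    have e1 := huniq (PrimeSpectrum.comap (Ideal.Quotient.mk J) Q) rfl
    have e2 := huniq (PrimeSpectrum.comap (Ideal.Quotient.mk J) Q') (by rw [h]; rfl)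
    exact PrimeSpectrum.comap_injective_of_surjective _ Ideal.Quotient.mk_surjective (e1.trans e2.symm)
  · intro P
    have hP : (PrimeSpectrum.comap (Ideal.Quotient.mk I) P) ∈ W := by
      rw [mem_iff_vanishing_le W hW hlam hS]
      intro x hx
      show Ideal.Quotient.mk I x ∈ P.asIdeal
      rw [Ideal.Quotient.eq_zero_iff_mem.2 hx]; exact zero_mem _
    obtain ⟨q, hJq, hqp, -⟩ := hmem _ hP
    have hker : RingHom.ker (Ideal.Quotient.mk J) ≤ q.asIdeal := by rw [Ideal.mk_ker]; exact hJq
    let Q : PrimeSpectrum (R ⧸ J) := ⟨q.asIdeal.map (Ideal.Quotient.mk J), Ideal.map_isPrime_of_surjective Ideal.Quotient.mk_surjective hker⟩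
    refine ⟨Q, PrimeSpectrum.comap_injective_of_surjective _ Ideal.Quotient.mk_surjective (PrimeSpectrum.ext ?_)⟩
    rw [← hqp]
    show (PrimeSpectrum.comap f Q).asIdeal.comap (Ideal.Quotient.mk I) = _
    rw [hcomp]
    congr 1
    show (q.asIdeal.map (Ideal.Quotient.mk J)).comap (Ideal.Quotient.mk J) = q.asIdeal
    rw [Ideal.comap_map_of_surjective _ Ideal.Quotient.mk_surjective, ← RingHom.ker_eq_comap_bot]
    exact sup_eq_left.2 hker
  · refine Ideal.quotientMap_injective' (fun s hs => ?_)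
    rw [PrimeSpectrum.mem_vanishingIdeal]
    intro p hp
    obtain ⟨q, hJq, hqp, -⟩ := hmem p hp
    rw [← hqp]
    exact hJq hs
  · intro x
    obtain ⟨r, rfl⟩ := Ideal.Quotient.mk_surjective x
    obtain ⟨s, hs⟩ := exists_trace hlam hS r
    obtain ⟨c, hc⟩ := h2.exists_left_inv
    refine ⟨Ideal.Quotient.mk I (c * s), ?_⟩
    show Ideal.Quotient.mk J (algebraMap S R (c * s)) = Ideal.Quotient.mk J r
    have hc2 : algebraMap S R c * 2 = 1 := by rw [← map_ofNat (algebraMap S R) 2, ← map_mul, hc, map_one]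
    rw [Ideal.Quotient.eq, map_mul, hs, show algebraMap S R c * (r + lam r) - r = algebraMap S R c * (lam r - r) by linear_combination r * hc2]
    exact J.mul_mem_left _ (hJ ▸ map_sub_mem_radical W hW hlam hS r)

end Branch

end Groth.Agent.Hopf35.RI
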