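import Mathlib
import Groth.Agent.Hopf35.RInvBasic
import Groth.Agent.Henz21.FiniteLocal
import Groth.Agent.Henz21.Quotient

/-!
Rings with involution over a strictly henselian fixed ring.
-/

universe u v

namespace Groth.Agent.Hopf35.RI

open IsLocalRing
open scoped Polynomial

variable {H : Type u} [CommRing H] [HenselianLocalRing H] [IsSepClosed (ResidueField H)]
  {R : Type v} [CommRing R] [Algebra H R] {lam : R ≃+* R}

/- Adapted from `AzInv26.Pair.exists_idem`, without the square root hypothesis. -/
theorem exists_idem (hlam : Function.Involutive lam) (hS : RInv.IsFixedRing H R lam) (r : R) (hr : IsUnit (r - lam r)) :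
    ∃ ε : R, ε * ε = ε ∧ ε + lam ε = 1 := by
  obtain ⟨s, hs⟩ := exists_trace hlam hS r
  obtain ⟨p, hp⟩ := exists_norm hlam hS r
  let D := s ^ 2 - 4 * p
  have hD : IsUnit D := by
    rw [← not_not (a := IsUnit D), ← mem_nonunits_iff, ← mem_maximalIdeal]
    intro hD
    haveI := nontrivial hS
    obtain ⟨q, hq⟩ := Ideal.exists_maximal R
    haveI := hq
    rw [← comap_max hlam hS q, Ideal.mem_comap] at hD
    have : algebraMap H R D = (r - lam r) ^ 2 := by
      simp only [D, map_sub, map_pow, map_mul, map_ofNat, hs, hp]; ring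
    rw [this] at hD
    exact hq.ne_top (Ideal.eq_top_of_isUnit_mem _ hD (hr.pow 2))
  let f : H[X] := Polynomial.X ^ 2 - Polynomial.C s * Polynomial.X + Polynomial.C p
  have hf : f.Monic := by simp only [f]; monicity!
  have hfd : f.derivative = 2 * Polynomial.X - Polynomial.C s := by
    simp [f, Polynomial.derivative_pow]
    rfl
  let fk := f.map (residue H)
  have hfk : fk.Monic := hf.map _
  have hrD : residue H D ≠ 0 := by
    rw [ne_eq, residue_eq_zero_iff, mem_maximalIdeal, mem_nonunits_iff, not_not]; exact hD
  have hsep : fk.Separable := by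
    obtain ⟨i, hi⟩ := isUnit_iff_exists_inv.1 hD
    have h1 : IsCoprime f f.derivative := by
      refine ⟨Polynomial.C (-4 * i), Polynomial.C i * f.derivative, ?_⟩
      rw [hfd]
      have : Polynomial.C D * Polynomial.C i = (1 : H[X]) := by
        rw [← map_mul, hi, map_one]
      simp only [f, D, map_mul, map_neg, map_sub, map_pow, map_ofNat] at this ⊢
      linear_combination this
    have := h1.map (Polynomial.mapRingHom (residue H))
    simpa [Polynomial.Separable, fk, Polynomial.derivative_map] using this
  have hdeg : f.natDegree = 2 := by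
    simp only [f]; compute_degree!
  obtain ⟨a₀, ha₀⟩ := IsSepClosed.exists_root fk (by
    rw [Polynomial.degree_eq_natDegree hfk.ne_zero, hf.natDegree_map, hdeg]; simp) hsep
  obtain ⟨a₁, ha₁⟩ := residue_surjective a₀
  have hev : residue H (f.eval a₁) = 0 := by
    have : fk.eval (residue H a₁) = 0 := by rw [ha₁]; exact ha₀
    rwa [Polynomial.eval_map, Polynomial.eval₂_at_apply] at this
  have hev' : IsUnit (f.derivative.eval a₁) := by
    rw [← not_not (a := IsUnit _), ← mem_nonunits_iff, ← mem_maximalIdeal, ← residue_eq_zero_iff]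
    intro h0
    have h1 : fk.derivative.eval (residue H a₁) = 0 := by
      rw [Polynomial.derivative_map, Polynomial.eval_map, Polynomial.eval₂_at_apply]; exact h0
    exact Polynomial.Separable.eval₂_derivative_ne_zero (RingHom.id _) hsep
      (by simpa [ha₁] using ha₀) (by simpa [ha₁] using h1)
  obtain ⟨a, ha, haa⟩ := HenselianLocalRing.is_henselian f hf a₁
    (by rwa [← residue_eq_zero_iff]) hev'
  have hfa : a ^ 2 - s * a + p = 0 := by simpa [f, Polynomial.IsRoot] using ha
  have hu : IsUnit (2 * a - s) := by
    have h2 : (2 * a - s) ^ 2 = D := by simp only [D]; linear_combination 4 * hfa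
    exact (isUnit_pow_iff (two_ne_zero)).1 (h2 ▸ hD)
  obtain ⟨i, hi⟩ := isUnit_iff_exists_inv.1 hu
  have e1 := congrArg (algebraMap H R) hfa
  have e2 := congrArg (algebraMap H R) hi
  simp only [map_add, map_sub, map_mul, map_pow, map_zero, map_one, map_ofNat, hs, hp] at e1 e2
  refine ⟨(r - (r + lam r - algebraMap H R a)) * algebraMap H R i, ?_, ?_⟩
  · linear_combination (-(algebraMap H R i * algebraMap H R i)) * e1 +
      ((algebraMap H R a - lam r) * algebraMap H R i) * e2
  · simp only [map_mul, map_sub, map_add, hlam r, lam_algebraMap hS]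
    linear_combination e2

theorem isSepClosed_of_isIntegral {A : Type*} [CommRing A] [IsLocalRing A] {B : Type*} [CommRing B] [IsLocalRing B]
    [IsSepClosed (ResidueField A)] (f : A →+* B) [IsLocalHom f] (hf : f.IsIntegral) : IsSepClosed (ResidueField B) := by
  letI := (ResidueField.map f).toAlgebra
  haveI : Algebra.IsIntegral (ResidueField A) (ResidueField B) := by
    refine ⟨fun y => ?_⟩
    obtain ⟨b, rfl⟩ := residue_surjective y
    obtain ⟨P, hP, hev⟩ := hf b
    refine ⟨P.map (residue A), hP.map _, ?_⟩
    rw [Polynomial.eval₂_map, RingHom.algebraMap_toAlgebra, ResidueField.map_comp_residue, ← Polynomial.hom_eval₂, hev, map_zero]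
  exact Algebra.IsAlgebraic.isSepClosed (F := ResidueField A)

theorem exists_pi_henselian (hlam : Function.Involutive lam) (hS : RInv.IsFixedRing H R lam) :
    ∃ (ι : Type) (_ : Fintype ι) (T : ι → Type v) (_ : ∀ i, CommRing (T i))
      (_ : ∀ i, HenselianLocalRing (T i)),
      (∀ i, IsSepClosed (IsLocalRing.ResidueField (T i))) ∧ Nonempty (R ≃+* (∀ i, T i)) := by
  haveI := nontrivial hS
  by_cases h : ∃ r : R, lam r - r ∉ Ring.jacobson R
  · obtain ⟨r, hr⟩ := exists_sub_isUnit hlam hS (quad_of_exists_notMem hlam hS h)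
    obtain ⟨ε, hε, hsum⟩ := exists_idem hlam hS r hr
    let J : Fin 2 → Ideal R := ![Ideal.span {ε}, Ideal.span {lam ε}]
    have key : ∀ e : R, e + lam e = 1 → Function.Surjective ((Ideal.Quotient.mk (Ideal.span ({e} : Set R))).comp (algebraMap H R)) ∧
        (e * e = e → Nontrivial (R ⧸ Ideal.span ({e} : Set R))) := by
      intro e he
      refine ⟨fun y => ?_, fun hee => Ideal.Quotient.nontrivial_iff.2 fun htop => ?_⟩
      · obtain ⟨x, rfl⟩ := Ideal.Quotient.mk_surjective y
        obtain ⟨s, hs⟩ := exists_trace hlam hS (x * lam e)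
        refine ⟨s, ?_⟩
        show Ideal.Quotient.mk _ (algebraMap H R s) = _
        rw [Ideal.Quotient.eq, hs, map_mul, hlam, Ideal.mem_span_singleton]
        exact ⟨lam x - x, by linear_combination x * he⟩
      · have hu : IsUnit e := Ideal.span_singleton_eq_top.1 htop
        have h1 : e = 1 := hu.mul_left_cancel (hee.trans (mul_one e).symm)
        rw [h1, map_one] at he
        exact one_ne_zero (add_eq_left.1 he)
    have hlε : lam ε * lam ε = lam ε := by rw [← map_mul, hε]
    have hsum' : lam ε + lam (lam ε) = 1 := by rw [hlam, add_comm]; exact hsum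
    have hsurj : ∀ i, Function.Surjective ((Ideal.Quotient.mk (J i)).comp (algebraMap H R)) := by
      intro i; fin_cases i
      · exact (key ε hsum).1
      · exact (key (lam ε) hsum').1
    haveI hnt : ∀ i, Nontrivial (R ⧸ J i) := by
      intro i; fin_cases i
      · exact (key ε hsum).2 hε
      · exact (key (lam ε) hsum').2 hlε
    have hh : ∀ i, HenselianLocalRing (R ⧸ J i) := fun i => Henz21.henselianLocalRing_of_surjective _ (hsurj i)
    refine ⟨Fin 2, inferInstance, fun i => R ⧸ J i, fun i => inferInstance, hh, fun i => ?_, ?_⟩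
    · haveI := hh i
      haveI : IsLocalHom ((Ideal.Quotient.mk (J i)).comp (algebraMap H R)) := IsLocalHom.of_surjective _ (hsurj i)
      exact isSepClosed_of_isIntegral _ (RingHom.isIntegral_of_surjective _ (hsurj i))
    · refine ⟨RingEquiv.ofBijective (RingHom.pi fun i => Ideal.Quotient.mk (J i)) ⟨?_, ?_⟩⟩
      · rw [injective_iff_map_eq_zero]
        intro x hx
        obtain ⟨a, ha⟩ := Ideal.mem_span_singleton.1 (Ideal.Quotient.eq_zero_iff_mem.1 (congrFun hx 0))
        obtain ⟨b, hb⟩ := Ideal.mem_span_singleton.1 (Ideal.Quotient.eq_zero_iff_mem.1 (congrFun hx 1))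
        have h0 : ε * lam ε = 0 := by linear_combination ε * hsum - hε
        calc x = x * ε + x * lam ε := by linear_combination (-x) * hsum
          _ = ε * lam ε * b + ε * lam ε * a := by linear_combination ε * hb + lam ε * ha
          _ = 0 := by rw [h0]; ring
      · intro y
        obtain ⟨a, ha⟩ := Ideal.Quotient.mk_surjective (y 0)
        obtain ⟨b, hb⟩ := Ideal.Quotient.mk_surjective (y 1)
        refine ⟨a * lam ε + b * ε, funext fun i => ?_⟩
        show Ideal.Quotient.mk (J i) _ = _
        fin_cases i
        · show Ideal.Quotient.mk (Ideal.span {ε}) _ = y 0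
          rw [← ha]
          refine Ideal.Quotient.eq.2 (Ideal.mem_span_singleton.2 ⟨b - a, ?_⟩)
          linear_combination a * hsum
        · show Ideal.Quotient.mk (Ideal.span {lam ε}) _ = y 1
          rw [← hb]
          refine Ideal.Quotient.eq.2 (Ideal.mem_span_singleton.2 ⟨a - b, ?_⟩)
          linear_combination b * hsum
  · push Not at h
    obtain ⟨hloc, -⟩ := isLocalRing_and_not_quad hlam hS h
    haveI := hloc
    haveI hint := AzInv26.isIntegral_of_fixed hlam hS
    let eH : H ≃+* ULift.{v} H := ULift.ringEquiv.symm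
    let eR : R ≃+* ULift.{u} R := ULift.ringEquiv.symm
    haveI : HenselianLocalRing (ULift.{v} H) := Henz21.henselianLocalRing_of_surjective eH.toRingHom eH.surjective
    haveI : IsLocalRing (ULift.{u} R) := eR.isLocalRing
    let g : ULift.{v} H →+* ULift.{u} R := eR.toRingHom.comp ((algebraMap H R).comp eH.symm.toRingHom)
    letI := g.toAlgebra
    haveI : Algebra.IsIntegral (ULift.{v} H) (ULift.{u} R) := by
      refine ⟨fun y => ?_⟩
      obtain ⟨P, hP, hev⟩ := hint.1 y.down
      refine ⟨P.map eH.toRingHom, hP.map _, ?_⟩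
      rw [Polynomial.eval₂_map, RingHom.algebraMap_toAlgebra]
      have : g.comp eH.toRingHom = eR.toRingHom.comp (algebraMap H R) := RingHom.ext fun x => rfl
      rw [this]
      have h2 := congrArg eR.toRingHom hev
      rw [Polynomial.hom_eval₂, map_zero] at h2
      exact h2
    haveI : HenselianLocalRing (ULift.{u} R) := Henz21.henselianLocalRing_of_isIntegral (A := ULift.{v} H)
    have hR : HenselianLocalRing R := Henz21.henselianLocalRing_of_surjective eR.symm.toRingHom eR.symm.surjective
    haveI : IsLocalHom (algebraMap H R) :=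
      ((local_hom_TFAE (algebraMap H R)).out 0 4).2 (comap_max hlam hS (maximalIdeal R))
    refine ⟨Fin 1, inferInstance, fun _ => R, fun _ => inferInstance, fun _ => hR, fun _ => ?_, ⟨?_⟩⟩
    · exact isSepClosed_of_isIntegral (algebraMap H R) hint.1
    · exact RingEquiv.ofBijective (RingHom.pi fun _ : Fin 1 => RingHom.id R)
        ⟨fun a b h => congrFun h 0, fun y => ⟨y 0, funext fun i => congrArg y (Subsingleton.elim 0 i)⟩⟩

end Groth.Agent.Hopf35.RI
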