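import Mathlib
import Groth.Agent.Hopf35.RInvBasic
import Groth.Agent.AzInv26.Cong
import Groth.Agent.AzInv26.Skew

/-!
Diagonalisation of hermitian matrices over rings with involution with local fixed ring.
-/

universe u v

namespace Groth.Agent.Hopf35.RI

open Matrix AzInv26

variable {B : Type u} [CommRing B] {R : Type v} [CommRing R] [Algebra B R] {lam : R ≃+* R}

/- The following three lemmas are those of `AzInv26.Cong`, without the assumption that the ring is local. -/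
/-- Schur complement congruence. -/
theorem cong_schur (hlam : ∀ r, lam (lam r) = r) {κ μ : Type*} [Fintype κ] [DecidableEq κ]
    [Fintype μ] [DecidableEq μ] (a : Matrix κ κ R) (b : Matrix κ μ R) (c : Matrix μ κ R)
    (d : Matrix μ μ R) (ha : IsUnit a.det) (hsym : ct lam (c * a⁻¹) = a⁻¹ * b) :
    Cong lam (fromBlocks a b c d) (fromBlocks a 0 0 (d - c * a⁻¹ * b)) := by
  let g : Matrix (κ ⊕ μ) (κ ⊕ μ) R := fromBlocks 1 0 (-(c * a⁻¹)) 1
  have hg : IsUnit g.det := by simp [g, Matrix.det_fromBlocks_zero₁₂]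
  refine ⟨((Matrix.isUnit_iff_isUnit_det g).2 hg).unit, ?_⟩
  rw [IsUnit.unit_spec]
  simp only [g, ct_fromBlocks, ct_one, ct_neg, hsym, fromBlocks_multiply]
  have h0 : ct lam (0 : Matrix κ μ R) = 0 := by ext i j; simp [ct]
  have e1 : -(c * a⁻¹) * a + c = 0 := by
    rw [Matrix.neg_mul, Matrix.mul_assoc, Matrix.nonsing_inv_mul a ha, Matrix.mul_one,
      neg_add_cancel]
  have e2 : a * -(a⁻¹ * b) + b = 0 := by
    rw [Matrix.mul_neg, ← Matrix.mul_assoc, Matrix.mul_nonsing_inv a ha, Matrix.one_mul,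
      neg_add_cancel]
  simp only [Matrix.one_mul, Matrix.mul_one, Matrix.zero_mul, Matrix.mul_zero, add_zero, zero_add,
    h0, e1, e2]
  congr 1
  rw [Matrix.neg_mul, sub_eq_add_neg, add_comm]

theorem cong_blocks {κ μ : Type*} [Fintype κ] [DecidableEq κ] [Fintype μ] [DecidableEq μ]
    {a a' : Matrix κ κ R} {d d' : Matrix μ μ R} (ha : Cong lam a a') (hd : Cong lam d d') :
    Cong lam (fromBlocks a 0 0 d) (fromBlocks a' 0 0 d') := by
  obtain ⟨g, rfl⟩ := ha
  obtain ⟨h, rfl⟩ := hd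
  refine ⟨⟨fromBlocks g 0 0 h, fromBlocks ↑g⁻¹ 0 0 ↑h⁻¹, ?_, ?_⟩, ?_⟩
  · simp [fromBlocks_multiply, ← fromBlocks_one]
  · simp [fromBlocks_multiply, ← fromBlocks_one]
  · have h0 : ct lam (0 : Matrix κ μ R) = 0 := by ext i j; simp [ct]
    have h0' : ct lam (0 : Matrix μ κ R) = 0 := by ext i j; simp [ct]
    simp [ct_fromBlocks, h0, h0', fromBlocks_multiply]

theorem cong_transvection (hlam : ∀ r, lam (lam r) = r) {ι : Type*} [Fintype ι] [DecidableEq ι]
    (w : Matrix ι ι R) (i j : ι) (hij : i ≠ j) (x : R) :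
    ∃ w', Cong lam w w' ∧ w' i i = w i i + x * w j i + lam x * (w i j + x * w j j) ∧
      (∀ k, k ≠ i → w' i k = w i k + x * w j k) ∧
      (∀ k, k ≠ i → w' k i = w k i + lam x * w k j) ∧
      (∀ k l, k ≠ i → l ≠ i → w' k l = w k l) := by
  have hg : IsUnit (transvection i j x).det := by simp [det_transvection_of_ne i j hij]
  refine ⟨transvection i j x * w * ct lam (transvection i j x),
    ⟨((Matrix.isUnit_iff_isUnit_det _).2 hg).unit, by rw [IsUnit.unit_spec]⟩, ?_⟩
  have hct : ct lam (transvection i j x) = transvection j i (lam x) := by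
    ext p q
    simp only [ct, transvection, Matrix.transpose_apply, Matrix.map_apply, Matrix.add_apply,
      map_add, Matrix.one_apply, Matrix.single_apply, apply_ite lam, map_one, map_zero]
    congr 1
    · exact if_congr eq_comm rfl rfl
    · exact if_congr and_comm rfl rfl
  rw [hct]
  refine ⟨?_, fun k hk => ?_, fun k hk => ?_, fun k l hk hl => ?_⟩
  · simp [mul_transvection_apply_same, transvection_mul_apply_same]
  · rw [mul_transvection_apply_of_ne _ _ _ _ hk, transvection_mul_apply_same]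
  · rw [mul_transvection_apply_same, transvection_mul_apply_of_ne _ _ _ _ hk,
      transvection_mul_apply_of_ne _ _ _ _ hk]
  · rw [mul_transvection_apply_of_ne _ _ _ _ hl, transvection_mul_apply_of_ne _ _ _ _ hk]

theorem isUnit_det_of_cong {ι : Type*} [Fintype ι] [DecidableEq ι] {w w' : Matrix ι ι R}
    (h : Cong lam w w') (hw : IsUnit w.det) : IsUnit w'.det := by
  obtain ⟨g, rfl⟩ := h
  rw [Matrix.det_mul, Matrix.det_mul]
  refine (((Matrix.isUnit_iff_isUnit_det _).1 g.isUnit).mul hw).mul ?_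
  rw [show ct lam (g : Matrix ι ι R) = ((g : Matrix ι ι R).map lam)ᵀ from rfl, Matrix.det_transpose,
    ← RingEquiv.mapMatrix_apply, ← RingEquiv.map_det]
  exact ((Matrix.isUnit_iff_isUnit_det _).1 g.isUnit).map lam

/-- `(ε, lam)`-hermitian. -/
def Herm (ε : R) (lam : R ≃+* R) {ι : Type*} (w : Matrix ι ι R) : Prop := ∀ i j, lam (w i j) = ε * w j i

theorem herm_iff {ε : R} {ι : Type*} {w : Matrix ι ι R} : Herm ε lam w ↔ ct lam w = ε • w :=
  ⟨fun h => Matrix.ext fun i j => h j i, fun h i j => congrFun (congrFun h j) i⟩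

theorem herm_of_cong {ε : R} (hlam : Function.Involutive lam) {ι : Type*} [Fintype ι] [DecidableEq ι]
    {w w' : Matrix ι ι R} (h : Cong lam w w') (hw : Herm ε lam w) : Herm ε lam w' := by
  obtain ⟨g, rfl⟩ := h
  rw [herm_iff] at hw ⊢
  rw [ct_mul, ct_mul, ct_ct hlam, hw, Matrix.smul_mul, Matrix.mul_smul, Matrix.mul_assoc]

/-- One step of diagonalisation. -/
theorem pivot (hlam : Function.Involutive lam) {ε : R} (hε : ε * ε = 1) (hlε : lam ε = ε) {n : ℕ}
    (w : Matrix (Fin (n + 1)) (Fin (n + 1)) R) (hw : Herm ε lam w) (hdet : IsUnit w.det) (I : Fin (n + 1))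
    {b : R} (hb : w I I * b = 1) :
    ∃ (σ : Unit ⊕ Fin n ≃ Fin (n + 1)) (d : Matrix (Fin n) (Fin n) R),
      σ (Sum.inl ()) = I ∧
      Cong lam (w.submatrix σ σ) (fromBlocks (Matrix.of fun _ _ => w I I) 0 0 d) ∧
      Herm ε lam d ∧ IsUnit d.det ∧
      ∀ j k, d j k = w (σ (Sum.inr j)) (σ (Sum.inr k)) - w (σ (Sum.inr j)) I * b * w I (σ (Sum.inr k)) := by
  have hlb : lam b = ε * b := by
    have h1 : (ε * w I I) * lam b = 1 := by rw [← hw I I, ← map_mul, hb, map_one]
    linear_combination (ε * b) * h1 - lam b * hb - (w I I * b * lam b) * hε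
  let σ : Unit ⊕ Fin n ≃ Fin (n + 1) :=
    ((Equiv.sumComm _ _).trans (Equiv.optionEquivSumPUnit (Fin n)).symm).trans (finSuccEquiv' I).symm
  have hσ : σ (Sum.inl ()) = I := by simp [σ]
  let W := w.submatrix σ σ
  let a : Matrix Unit Unit R := Matrix.of fun _ _ => w I I
  have ha : a⁻¹ = Matrix.of fun _ _ => b := by
    refine Matrix.inv_eq_right_inv ?_
    ext i j; simp [a, Matrix.mul_apply, hb]
  have hadet : IsUnit a.det := by simpa [a] using IsUnit.of_mul_eq_one _ hb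
  have hW : W = fromBlocks a W.toBlocks₁₂ W.toBlocks₂₁ W.toBlocks₂₂ := by
    conv_lhs => rw [← fromBlocks_toBlocks W]
    congr 1
  have hsym : ct lam (W.toBlocks₂₁ * a⁻¹) = a⁻¹ * W.toBlocks₁₂ := by
    ext i j
    simp only [ha, ct, W, Matrix.transpose_apply, Matrix.map_apply, Matrix.mul_apply, Matrix.of_apply,
      Finset.univ_unique, Finset.sum_singleton, toBlocks₁₂, toBlocks₂₁, Matrix.submatrix_apply, map_mul, hlb, hw, PUnit.default_eq_unit]
    rw [hw]
    linear_combination (b * w (σ (Sum.inl PUnit.unit)) (σ (Sum.inr j))) * hε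
  have hc := cong_schur hlam a W.toBlocks₁₂ W.toBlocks₂₁ W.toBlocks₂₂ hadet hsym
  rw [← hW] at hc
  have hd : ∀ j k, (W.toBlocks₂₂ - W.toBlocks₂₁ * a⁻¹ * W.toBlocks₁₂) j k =
      w (σ (Sum.inr j)) (σ (Sum.inr k)) - w (σ (Sum.inr j)) I * b * w I (σ (Sum.inr k)) := by
    intro j k
    simp [ha, W, toBlocks₁₂, toBlocks₂₁, toBlocks₂₂, Matrix.mul_apply, hσ]
  refine ⟨σ, _, hσ, hc, fun i j => ?_, ?_, hd⟩
  · rw [hd, hd, map_sub, map_mul, map_mul, hlb, hw, hw, hw]
    linear_combination (-(ε * w (σ (Sum.inr j)) I * b * w I (σ (Sum.inr i)))) * hε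
  · have := isUnit_det_of_cong hc (by rwa [Matrix.det_submatrix_equiv_self])
    rw [Matrix.det_fromBlocks_zero₂₁] at this
    exact isUnit_of_mul_isUnit_right this

/-- A congruence to a diagonal matrix. -/
def Diag (lam : R ≃+* R) {n : ℕ} (w : Matrix (Fin n) (Fin n) R) : Prop := ∃ d, Cong lam w (Matrix.diagonal d)

/-- A matrix splits off a unit and leaves a matrix ready for the next step. -/
def Step (ε : R) (lam : R ≃+* R) {n : ℕ} (w : Matrix (Fin (n + 1)) (Fin (n + 1)) R) : Prop :=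
  ∃ (σ : Unit ⊕ Fin n ≃ Fin (n + 1)) (a : R) (d : Matrix (Fin n) (Fin n) R),
    Cong lam (w.submatrix σ σ) (fromBlocks (Matrix.of fun _ _ => a) 0 0 d) ∧
    Herm ε lam d ∧ IsUnit d.det ∧ (n = 0 ∨ ∃ i, IsUnit (d i i))

theorem diag_of_step {ε : R}
    (hstep : ∀ {n : ℕ} (w : Matrix (Fin (n + 1)) (Fin (n + 1)) R), Herm ε lam w → IsUnit w.det →
      (∃ i, IsUnit (w i i)) → Step ε lam w) :
    ∀ {n : ℕ} (w : Matrix (Fin n) (Fin n) R), Herm ε lam w → IsUnit w.det → (n = 0 ∨ ∃ i, IsUnit (w i i)) → Diag lam w := by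
  intro n
  induction n with
  | zero => exact fun w _ _ _ => ⟨0, by rw [Subsingleton.elim (Matrix.diagonal 0) w]; exact Cong.refl w⟩
  | succ n ih =>
    intro w hw hdet hu
    obtain ⟨σ, a, d, hc, hd, hddet, hgood⟩ := hstep w hw hdet (hu.resolve_left (Nat.succ_ne_zero n))
    obtain ⟨e, he⟩ := ih d hd hddet hgood
    refine ⟨(Sum.elim (fun _ => a) e) ∘ σ.symm, Cong.of_submatrix σ (hc.trans ?_)⟩
    rw [Matrix.submatrix_diagonal_equiv, Function.comp_assoc, Equiv.symm_comp_self, Function.comp_id,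
      ← Matrix.fromBlocks_diagonal, show (Matrix.diagonal fun _ : Unit => a) = Matrix.of fun _ _ => a by
        ext i j; simp [Subsingleton.elim i j]]
    exact cong_blocks (Cong.refl _) he

section LocalBase

variable [IsLocalRing B] (hlam : Function.Involutive lam) (hS : RInv.IsFixedRing B R lam)
  {ε : R} (hε : ε * ε = 1) (hlε : lam ε = ε) (q : Ideal R) [hq : q.IsMaximal]

include hlam hS hε in
theorem isUnit_of_notMem {z : R} (hz : lam z = ε * z) (h : z ∉ q) : IsUnit z := by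
  by_contra hu
  obtain ⟨m, hm, hmem⟩ := exists_max_ideal_of_mem_nonunits hu
  haveI := hm
  rcases max_eq_or hlam hS q m with rfl | rfl
  · exact h hmem
  · have : lam z ∈ q := hmem
    rw [hz] at this
    refine h ?_
    rw [show z = ε * (ε * z) by linear_combination (-z) * hε]
    exact q.mul_mem_left _ this

theorem exists_entry_notMem {ι : Type*} [Fintype ι] [DecidableEq ι] {w : Matrix ι ι R}
    (hw : IsUnit w.det) (q : Ideal R) [q.IsMaximal] (i : ι) : ∃ j, w i j ∉ q := by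
  by_contra h
  push Not at h
  have : w.det ∈ q := by
    rw [← Matrix.det_transpose, Matrix.det_apply]
    exact sum_mem fun σ _ => Submodule.smul_of_tower_mem _ _
      (Ideal.mem_of_dvd _ (Finset.dvd_prod_of_mem _ (Finset.mem_univ i)) (h (σ i)))
  exact Ideal.IsMaximal.ne_top ‹_› (Ideal.eq_top_of_isUnit_mem _ this hw)

include hlam hS hε in
theorem exists_unit_diag (hK : (∃ x, lam x - x ∉ q) ∨ ((∀ x, lam x - x ∈ q) ∧ ε + 1 ∉ q))
    {n : ℕ} (w : Matrix (Fin (n + 1)) (Fin (n + 1)) R) (hw : Herm ε lam w) (hdet : IsUnit w.det) :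
    ∃ w', Cong lam w w' ∧ ∃ i, IsUnit (w' i i) := by
  by_cases h0 : ∃ i, w i i ∉ q
  · obtain ⟨i, hi⟩ := h0
    exact ⟨w, Cong.refl w, i, isUnit_of_notMem hlam hS hε q (hw i i) hi⟩
  push Not at h0
  obtain ⟨j, hj⟩ := exists_entry_notMem hdet q (0 : Fin (n + 1))
  have hj0 : (0 : Fin (n + 1)) ≠ j := fun e => hj (e ▸ h0 0)
  obtain ⟨x, hx⟩ : ∃ x, x * w j 0 + lam x * w 0 j ∉ q := by
    by_contra h
    push Not at h
    have h1 : w j 0 + w 0 j ∈ q := by simpa using h 1
    rcases hK with ⟨x, hx⟩ | ⟨htriv, he⟩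
    · have h2 : (lam x - x) * w 0 j ∈ q := by
        rw [show (lam x - x) * w 0 j = (x * w j 0 + lam x * w 0 j) - x * (w j 0 + w 0 j) by ring]
        exact q.sub_mem (h x) (q.mul_mem_left _ h1)
      exact (hq.isPrime.mem_or_mem h2).elim hx hj
    · have h2 : (ε + 1) * w 0 j ∈ q := by
        have e1 : (ε + 1) * w 0 j = (w j 0 + w 0 j) + (ε * w 0 j - w j 0) := by ring
        rw [e1]
        refine q.add_mem h1 ?_
        rw [← hw j 0]
        exact htriv _
      exact (hq.isPrime.mem_or_mem h2).elim he hj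
  obtain ⟨w', hw', hpp, -⟩ := cong_transvection hlam w 0 j hj0 x
  refine ⟨w', hw', 0, isUnit_of_notMem hlam hS hε q (herm_of_cong hlam hw' hw 0 0) fun hmem => hx ?_⟩
  rw [show x * w j 0 + lam x * w 0 j = w' 0 0 - (w 0 0 + lam x * x * w j j) by rw [hpp]; ring]
  exact q.sub_mem hmem (q.add_mem (h0 0) (q.mul_mem_left _ (h0 j)))

include hlam hS hε hlε in
theorem step_easy (hK : (∃ x, lam x - x ∉ q) ∨ ((∀ x, lam x - x ∈ q) ∧ ε + 1 ∉ q))
    {n : ℕ} (w : Matrix (Fin (n + 1)) (Fin (n + 1)) R) (hw : Herm ε lam w) (hdet : IsUnit w.det)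
    (hu : ∃ i, IsUnit (w i i)) : Step ε lam w := by
  obtain ⟨I, hI⟩ := hu
  obtain ⟨b, hb⟩ := isUnit_iff_exists_inv.1 hI
  obtain ⟨σ, d, -, hc, hd, hddet, -⟩ := pivot hlam hε hlε w hw hdet I hb
  cases n with
  | zero => exact ⟨σ, w I I, d, hc, hd, hddet, Or.inl rfl⟩
  | succ m =>
    obtain ⟨d', hd', hu'⟩ := exists_unit_diag hlam hS hε q hK d hd hddet
    exact ⟨σ, w I I, d', hc.trans (cong_blocks (Cong.refl _) hd'), herm_of_cong hlam hd' hd,
      isUnit_det_of_cong hd' hddet, Or.inr hu'⟩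

include hlam hS hε hlε in
theorem step_alt (htriv : ∀ x, lam x - x ∈ q) (he : ε + 1 ∈ q)
    {n : ℕ} (w : Matrix (Fin (n + 1)) (Fin (n + 1)) R) (hw : Herm ε lam w) (hdet : IsUnit w.det)
    (hu : ∃ i, IsUnit (w i i)) : Step ε lam w := by
  obtain ⟨I, hI⟩ := hu
  obtain ⟨b, hb⟩ := isUnit_iff_exists_inv.1 hI
  obtain ⟨σ, d, hσ, hc, hd, hddet, -⟩ := pivot hlam hε hlε w hw hdet I hb
  by_cases hgood : n = 0 ∨ ∃ i, IsUnit (d i i)
  · exact ⟨σ, w I I, d, hc, hd, hddet, hgood⟩
  push Not at hgood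
  obtain ⟨hn, hnd⟩ := hgood
  have h0 : ∀ i, d i i ∈ q := fun i => by
    by_contra h; exact hnd i (isUnit_of_notMem hlam hS hε q (hd i i) h)
  let p : Fin n := ⟨0, Nat.pos_of_ne_zero hn⟩
  obtain ⟨r, hr⟩ := exists_entry_notMem hddet q p
  have hpr : p ≠ r := fun e => hr (e ▸ h0 p)
  let E : Matrix (Fin (n + 1)) (Fin (n + 1)) R := (fromBlocks (Matrix.of fun _ _ : Unit => w I I) 0 0 d).submatrix σ.symm σ.symm
  have hcE : Cong lam w E := Cong.of_submatrix σ (by
    rw [show E.submatrix σ σ = fromBlocks (Matrix.of fun _ _ : Unit => w I I) 0 0 d by ext i j; simp [E]]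
    exact hc)
  let P := σ (Sum.inr p)
  let Q := σ (Sum.inr r)
  have hIP : I ≠ P := by rw [← hσ]; simp [P]
  have hIQ : Q ≠ I := by rw [← hσ]; simp [Q]
  obtain ⟨E₁, hE₁, hII, hIk, hkI, hkl⟩ := cong_transvection hlam E I P hIP 1
  have hE₁' := herm_of_cong hlam (hcE.trans hE₁) hw
  have hdet₁ := isUnit_det_of_cong (hcE.trans hE₁) hdet
  have eI : σ.symm I = Sum.inl () := by rw [← hσ, Equiv.symm_apply_apply]
  have e1 : E₁ I I = w I I + d p p := by rw [hII, map_one]; simp [E, P, eI]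
  have e2 : E₁ I Q = d p r := by rw [hIk Q hIQ]; simp [E, P, Q, eI]
  have e3 : E₁ Q I = d r p := by rw [hkI Q hIQ, map_one]; simp [E, P, Q, eI]
  have e4 : E₁ Q Q = d r r := by rw [hkl Q Q hIQ hIQ]; simp [E, Q]
  have hu₁ : IsUnit (E₁ I I) := by
    refine isUnit_of_notMem hlam hS hε q (hE₁' I I) fun h => ?_
    rw [e1] at h
    exact hq.ne_top (Ideal.eq_top_of_isUnit_mem _ (by simpa using q.sub_mem h (h0 p)) hI)
  obtain ⟨c, hc₁⟩ := isUnit_iff_exists_inv.1 hu₁
  obtain ⟨τ, d₁, hτ, hcc, hd₁, hd₁det, hform⟩ := pivot hlam hε hlε E₁ hE₁' hdet₁ I hc₁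
  obtain ⟨j, hj⟩ : ∃ j, τ (Sum.inr j) = Q := by
    rcases hx : τ.symm Q with ⟨⟩ | j
    · exact absurd (by rw [← τ.apply_symm_apply Q, hx, hτ]) hIQ
    · exact ⟨j, by rw [← hx, τ.apply_symm_apply]⟩
  refine ⟨τ, E₁ I I, d₁, ?_, hd₁, hd₁det, Or.inr ⟨j, isUnit_of_notMem hlam hS hε q (hd₁ j j) fun h => ?_⟩⟩
  · obtain ⟨g, hg⟩ := hcE.trans hE₁
    refine Cong.trans ?_ hcc
    have hgu : IsUnit ((g : Matrix (Fin (n + 1)) (Fin (n + 1)) R).submatrix τ τ) := by
      rw [Matrix.isUnit_iff_isUnit_det, Matrix.det_submatrix_equiv_self, ← Matrix.isUnit_iff_isUnit_det]; exact g.isUnit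
    refine ⟨hgu.unit, ?_⟩
    rw [IsUnit.unit_spec, show ct lam ((g : Matrix (Fin (n + 1)) (Fin (n + 1)) R).submatrix τ τ) = (ct lam (g : Matrix (Fin (n + 1)) (Fin (n + 1)) R)).submatrix τ τ from rfl,
      Matrix.submatrix_mul_equiv, Matrix.submatrix_mul_equiv, hg]
  · rw [hform, hj, e2, e3, e4] at h
    have h2 : d r p * c * d p r ∈ q := by simpa using q.sub_mem (h0 r) h
    have hc' : c ∉ q := fun hc' => hq.ne_top (Ideal.eq_top_of_isUnit_mem _ hc' (IsUnit.of_mul_eq_one _ ((mul_comm c _).trans hc₁)))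
    have hrp : d r p ∉ q := fun hrp => hr (by
      rw [show d p r = ε * lam (d r p) by rw [hd r p]; linear_combination (-(d p r)) * hε]
      exact q.mul_mem_left _ (by simpa using q.add_mem (htriv (d r p)) hrp))
    rcases hq.isPrime.mem_or_mem h2 with h3 | h3
    · exact (hq.isPrime.mem_or_mem h3).elim hrp hc'
    · exact hr h3

theorem det_eq_zero_of_skew {k : Type v} [Field k] {ι : Type*} [Fintype ι] [DecidableEq ι]
    (hodd : Odd (Fintype.card ι)) (w : Matrix ι ι k) (hs : wᵀ = -w) (hd : ∀ i, w i i = 0) : w.det = 0 := by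
  by_cases h2 : (2 : k) = 0
  · refine AzInv26.det_eq_zero_of_alternating h2 hodd w ?_ hd
    rw [hs]
    ext i j
    rw [Matrix.neg_apply]
    exact neg_eq_of_add_eq_zero_left (by rw [← two_mul, h2, zero_mul])
  · have h := congrArg Matrix.det hs
    rw [Matrix.det_transpose, Matrix.det_neg, hodd.neg_one_pow, neg_one_mul, eq_neg_iff_add_eq_zero, ← two_mul] at h
    exact (mul_eq_zero.1 h).resolve_left h2

include hlam hS hε hlε in
theorem diagonalize {n : ℕ} (w : Matrix (Fin n) (Fin n) R) (hw : Herm ε lam w) (hdet : IsUnit w.det)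
    (hcase : (∃ a : R, lam a - a ∉ Ring.jacobson R) ∨ ε + 1 ∉ Ring.jacobson R ∨ Odd n) : Diag lam w := by
  haveI := nontrivial hS
  obtain ⟨q, hq⟩ := Ideal.exists_maximal R
  haveI := hq
  by_cases hK : (∃ x, lam x - x ∉ q) ∨ ((∀ x, lam x - x ∈ q) ∧ ε + 1 ∉ q)
  · cases n with
    | zero => exact diag_of_step (step_easy hlam hS hε hlε q hK) w hw hdet (Or.inl rfl)
    | succ m =>
      obtain ⟨w', hw', hu⟩ := exists_unit_diag hlam hS hε q hK w hw hdet
      obtain ⟨d, hd⟩ := diag_of_step (step_easy hlam hS hε hlε q hK) w' (herm_of_cong hlam hw' hw)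
        (isUnit_det_of_cong hw' hdet) (Or.inr hu)
      exact ⟨d, hw'.trans hd⟩
  · push Not at hK
    obtain ⟨htriv, he'⟩ := hK
    have he := he' htriv
    have hall : ∀ z, z ∈ q → z ∈ Ring.jacobson R := fun z hz => by
      rw [← Ideal.jacobson_bot, Ideal.jacobson, Ideal.mem_sInf]
      rintro q' ⟨-, hq'⟩
      haveI := hq'.isPrime
      rw [eq_or_eq_comap hlam hS q q' (by rw [comap_max hlam hS q, comap_max hlam hS q']) htriv]
      exact hz
    have hodd : Odd n := by
      rcases hcase with ⟨a, ha⟩ | h | h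
      · exact absurd (hall _ (htriv a)) ha
      · exact absurd (hall _ he) h
      · exact h
    refine diag_of_step (step_alt hlam hS hε hlε q htriv he) w hw hdet ?_
    by_contra hno
    push Not at hno
    letI := Ideal.Quotient.field q
    have hz := det_eq_zero_of_skew (by simpa using hodd) ((Ideal.Quotient.mk q).mapMatrix w) (by
      ext i j
      simp only [RingHom.mapMatrix_apply, Matrix.transpose_apply, Matrix.map_apply, Matrix.neg_apply]
      rw [← map_neg, Ideal.Quotient.eq, sub_neg_eq_add,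
        show w j i + w i j = (ε + 1) * w j i - (lam (w i j) - w i j) by rw [hw i j]; ring]
      exact q.sub_mem (q.mul_mem_right _ he) (htriv _)) (fun i => by
        rw [RingHom.mapMatrix_apply, Matrix.map_apply, Ideal.Quotient.eq_zero_iff_mem]
        by_contra h; exact hno.2 i (isUnit_of_notMem hlam hS hε q (hw i i) h))
    rw [← RingHom.map_det, Ideal.Quotient.eq_zero_iff_mem] at hz
    exact hq.ne_top (Ideal.eq_top_of_isUnit_mem _ hz hdet)

end LocalBase

end Groth.Agent.Hopf35.RI
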