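import Mathlib
import Groth.Agent.Hopf35.RInvHerm

/-!
Normal form of invertible skew hermitian matrices over a local ring with residually trivial involution.
-/

universe v

namespace Groth.Agent.Hopf35.RI

open Matrix AzInv26 IsLocalRing

variable {R : Type v} [CommRing R] {lam : R ≃+* R}

theorem cong_perm {ι : Type*} [Fintype ι] [DecidableEq ι] (π : Equiv.Perm ι) (w : Matrix ι ι R) :
    Cong lam w (w.submatrix π π) := by
  refine ⟨⟨(1 : Matrix ι ι R).submatrix π id, (1 : Matrix ι ι R).submatrix id π, ?_, ?_⟩, ?_⟩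
  · ext i j; simp [Matrix.mul_apply, Matrix.one_apply]
  · rw [mul_eq_one_comm]; ext i j; simp [Matrix.mul_apply, Matrix.one_apply]
  · ext i j; simp [ct, Matrix.mul_apply, Matrix.one_apply, apply_ite lam]

/-- Block normal form modulo an ideal. -/
def Blocks (m : Ideal R) {n : ℕ} (w : Matrix (Fin n) (Fin n) R) : Prop :=
  ∀ i j : Fin n,
    (i.val / 2 ≠ j.val / 2 → w i j = 0) ∧
    (i.val / 2 = j.val / 2 → (Even i.val ↔ Even j.val) → w i j ∈ m) ∧
    (i.val / 2 = j.val / 2 → Even i.val → ¬ Even j.val → w i j - 1 ∈ m) ∧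
    (i.val / 2 = j.val / 2 → ¬ Even i.val → Even j.val → w i j + 1 ∈ m)

theorem diag_mem [IsLocalRing R] (hid : ∀ x, lam x - x ∈ maximalIdeal R) (h2 : IsUnit (2 : R))
    {ι : Type*} {w : Matrix ι ι R} (hw : Herm (-1) lam w) (i : ι) : w i i ∈ maximalIdeal R := by
  obtain ⟨t, ht⟩ := isUnit_iff_exists_inv.1 h2
  have h := Ideal.mul_mem_left (maximalIdeal R) (-t) (hid (w i i))
  rw [hw i i] at h
  rwa [show -t * (-1 * w i i - w i i) = w i i by linear_combination (w i i) * ht] at h

theorem blocks_of_skew [IsLocalRing R] (hlam : Function.Involutive lam)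
    (hid : ∀ x, lam x - x ∈ maximalIdeal R) (h2 : IsUnit (2 : R)) :
    ∀ n (w : Matrix (Fin n) (Fin n) R), Herm (-1) lam w → IsUnit w.det →
      Even n ∧ ∃ w', Cong lam w w' ∧ Blocks (maximalIdeal R) w' := by
  intro n
  induction n using Nat.twoStepInduction with
  | zero => exact fun w _ _ => ⟨⟨0, rfl⟩, w, Cong.refl w, fun i => i.elim0⟩
  | one =>
    intro w hw hdet
    rw [Matrix.det_fin_one] at hdet
    exact absurd hdet ((mem_maximalIdeal _).1 (diag_mem hid h2 hw 0))
  | more n ih _ =>
    intro w hw hdet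
    obtain ⟨j, hj⟩ := exists_unit_entry hdet (0 : Fin (n + 2))
    have hj0 : (0 : Fin (n + 2)) ≠ j := fun e => (mem_maximalIdeal _).1 (diag_mem hid h2 hw 0) (e ▸ hj)
    obtain ⟨k, hk⟩ := isUnit_iff_exists_inv.1 hj
    have hlk : lam (w 0 j) * lam k = 1 := by rw [← map_mul, hk, map_one]
    let π : Equiv.Perm (Fin (n + 2)) := Equiv.swap 1 j
    let e : Fin 2 ⊕ Fin n ≃ Fin (n + 2) := finSumFinEquiv.trans (finCongr (add_comm 2 n))
    let w₁ := w.submatrix π π
    have hw₁ : Herm (-1) lam w₁ := fun a b => hw _ _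
    have hπ0 : π 0 = 0 := Equiv.swap_apply_of_ne_of_ne (by simp [Fin.ext_iff]) hj0
    have hπ1 : π 1 = j := Equiv.swap_apply_left _ _
    have he0 : e (Sum.inl 0) = 0 := by ext; simp [e]
    have he1 : e (Sum.inl 1) = 1 := by ext; simp [e]
    let W := w₁.submatrix e e
    have hW : Herm (-1) lam W := fun a b => hw₁ _ _
    let a := W.toBlocks₁₁
    have ha00 : a 0 0 ∈ maximalIdeal R := diag_mem hid h2 hW (Sum.inl 0)
    have ha11 : a 1 1 ∈ maximalIdeal R := diag_mem hid h2 hW (Sum.inl 1)
    have ha01 : a 0 1 = w 0 j := by simp [a, W, w₁, toBlocks₁₁, he0, he1, hπ0, hπ1]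
    have ha10 : a 1 0 = -lam (w 0 j) := by
      rw [← ha01, show a 0 1 = W (Sum.inl 0) (Sum.inl 1) from rfl, hW, neg_one_mul, neg_neg]
      rfl
    have hadet : IsUnit a.det := by
      rw [Matrix.det_fin_two, ha01, ha10]
      by_contra hu
      have h1 : a 0 0 * a 1 1 - w 0 j * -lam (w 0 j) ∈ maximalIdeal R := (mem_maximalIdeal _).2 hu
      have h3 : w 0 j * lam (w 0 j) ∈ maximalIdeal R := by
        simpa using (maximalIdeal R).sub_mem h1 ((maximalIdeal R).mul_mem_left (a 0 0) ha11)
      exact (mem_maximalIdeal _).1 h3 (hj.mul (hj.map lam))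
    have hsym : ct lam (W.toBlocks₂₁ * a⁻¹) = a⁻¹ * W.toBlocks₁₂ := by
      have hct : ct lam a = -a := by ext i l; simp [ct, a, toBlocks₁₁, hW (Sum.inl l) (Sum.inl i)]
      have hct' : ct lam W.toBlocks₂₁ = -W.toBlocks₁₂ := by
        ext i l; simp [ct, toBlocks₁₂, toBlocks₂₁, hW (Sum.inr l) (Sum.inl i)]
      have hinv : ct lam a⁻¹ = -a⁻¹ := by
        have h := congrArg (fun z => -z) (ct_inv (lam := lam) a hadet)
        simp only [hct, Matrix.neg_mul, neg_neg] at h
        rw [← Matrix.one_mul (ct lam a⁻¹), ← Matrix.nonsing_inv_mul a hadet, Matrix.mul_assoc, h, Matrix.mul_neg, Matrix.mul_one]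
      rw [ct_mul, hinv, hct', Matrix.neg_mul, Matrix.mul_neg, neg_neg]
    have hc := cong_schur hlam a W.toBlocks₁₂ W.toBlocks₂₁ W.toBlocks₂₂ hadet hsym
    rw [fromBlocks_toBlocks] at hc
    let d := W.toBlocks₂₂ - W.toBlocks₂₁ * a⁻¹ * W.toBlocks₁₂
    have hX := herm_of_cong hlam hc hW
    have hXdet := isUnit_det_of_cong hc (show IsUnit W.det by
      rw [Matrix.det_submatrix_equiv_self, Matrix.det_submatrix_equiv_self]; exact hdet)
    rw [Matrix.det_fromBlocks_zero₂₁] at hXdet
    obtain ⟨hn, d', hd', hblocks⟩ := ih d (fun p q => hX (Sum.inr p) (Sum.inr q))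
      (isUnit_of_mul_isUnit_right hXdet)
    let G : Matrix (Fin 2) (Fin 2) R := Matrix.diagonal ![1, lam k]
    have hG : IsUnit G := by
      rw [Matrix.isUnit_iff_isUnit_det, Matrix.det_diagonal]
      simpa [Fin.prod_univ_two] using (IsUnit.of_mul_eq_one_right _ hk).map lam
    have hctG : ct lam G = Matrix.diagonal ![1, k] := by
      ext p q; fin_cases p <;> fin_cases q <;> simp [G, ct, Matrix.diagonal, hlam k]
    let a' := G * a * ct lam G
    have hca : Cong lam a a' := ⟨hG.unit, rfl⟩
    have ha' : ∀ p q, a' p q = ![1, lam k] p * a p q * ![1, k] q := fun p q => by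
      simp [a', hctG, G, Matrix.diagonal_mul, Matrix.mul_diagonal]
    have a00 : a' 0 0 = a 0 0 := by simp [ha']
    have a01 : a' 0 1 = 1 := by simp [ha', ha01, hk]
    have a10 : a' 1 0 = -1 := by simp [ha', ha10, mul_comm (lam k), hlk]
    have a11 : a' 1 1 ∈ maximalIdeal R := by
      rw [ha']; exact Ideal.mul_mem_right _ _ (Ideal.mul_mem_left _ _ ha11)
    refine ⟨by simpa [Nat.even_add] using hn, (fromBlocks a' 0 0 d').submatrix e.symm e.symm, ?_, ?_⟩
    · refine (cong_perm π w).trans (Cong.of_submatrix e ?_)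
      rw [show ((fromBlocks a' 0 0 d').submatrix e.symm e.symm).submatrix e e = fromBlocks a' 0 0 d' by
        ext p q; simp]
      exact hc.trans (cong_blocks hca hd')
    · intro i l
      obtain ⟨i, rfl⟩ := e.surjective i
      obtain ⟨l, rfl⟩ := e.surjective l
      have vl : ∀ x : Fin 2, (e (Sum.inl x)).val = x.val := fun x => by simp [e]
      have vr : ∀ y : Fin n, (e (Sum.inr y)).val = 2 + y.val := fun y => by simp [e]; omega
      have hdiv : ∀ y : ℕ, (2 + y) / 2 = y / 2 + 1 := fun y => by omega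
      have hev : ∀ y : ℕ, Even (2 + y) ↔ Even y := fun y => by simp [Nat.even_add]
      simp only [Matrix.submatrix_apply, Equiv.symm_apply_apply]
      rcases i with x | x <;> rcases l with y | y
      · rw [vl, vl]
        simp only [fromBlocks_apply₁₁]
        fin_cases x <;> fin_cases y
        · simpa [a00] using ha00
        · simp [a01]
        · simp [a10]
        · simpa using a11
      · rw [vl, vr, hdiv]
        simp only [fromBlocks_apply₁₂, Matrix.zero_apply]
        have := x.isLt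
        exact ⟨fun _ => trivial, fun h => by omega, fun h => by omega, fun h => by omega⟩
      · rw [vl, vr, hdiv]
        simp only [fromBlocks_apply₂₁, Matrix.zero_apply]
        have := y.isLt
        exact ⟨fun _ => trivial, fun h => by omega, fun h => by omega, fun h => by omega⟩
      · rw [vr, vr, hdiv, hdiv]
        simp only [fromBlocks_apply₂₂, hev, add_left_inj, ne_eq]
        exact hblocks x y

end Groth.Agent.Hopf35.RI
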