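import Mathlib.RingTheory.Localization.Away.Basic
import Mathlib.RingTheory.Localization.BaseChange
import Mathlib.Algebra.Module.LocalizedModule.Int
import Mathlib.RingTheory.TensorProduct.Maps
import Mathlib.RingTheory.Ideal.Quotient.Operations
import Mathlib.Algebra.MvPolynomial.Eval
import Mathlib.LinearAlgebra.Matrix.NonsingularInverse
import Mathlib.Tactic.LinearCombination

/-!
helper35: spreading out of data on covers by square roots from a localisation to a principal open.
-/

set_option autoImplicit false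

universe u v

open TensorProduct MvPolynomial

noncomputable section

namespace Groth.Agent.Hopf35.RI

variable {B : Type u} [CommRing B] {l : ℕ}

/-- the polynomial algebra with square roots adjoined -/
abbrev Qs {R : Type u} [CommRing R] (s : Fin l → R) : Type u :=
  MvPolynomial (Fin l) R ⧸ Ideal.span (Set.range fun k : Fin l => X k ^ 2 - C (s k))

variable {R R' : Type u} [CommRing R] [Algebra B R] [CommRing R'] [Algebra B R']

/-- a root -/
def root (s : Fin l → R) (k : Fin l) : Qs s := Ideal.Quotient.mk _ (X k)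

theorem root_sq (s : Fin l → R) (k : Fin l) : root s k ^ 2 = algebraMap R (Qs s) (s k) := by
  show Ideal.Quotient.mk _ (X k) ^ 2 = Ideal.Quotient.mk _ (C (s k))
  rw [← map_pow, Ideal.Quotient.eq]
  exact Ideal.subset_span ⟨k, rfl⟩

/-- the map out of the algebra with square roots adjoined -/
def qLift (s : Fin l → R) {D : Type*} [CommRing D] [Algebra B D] (g : R →ₐ[B] D) (x : Fin l → D)
    (hx : ∀ k, x k ^ 2 = g (s k)) : Qs s →ₐ[B] D :=
  Ideal.Quotient.liftₐ _
    ({ eval₂Hom (g : R →+* D) x with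
        commutes' := fun b => by
          show eval₂Hom (g : R →+* D) x (C (algebraMap B R b)) = _
          rw [eval₂Hom_C]; exact g.commutes b } : MvPolynomial (Fin l) R →ₐ[B] D)
    (fun a ha => by
      have : Ideal.span (Set.range fun k : Fin l => X k ^ 2 - C (s k)) ≤
          RingHom.ker (eval₂Hom (g : R →+* D) x) := by
        rw [Ideal.span_le]
        rintro _ ⟨k, rfl⟩
        show eval₂Hom (g : R →+* D) x (X k ^ 2 - C (s k)) = 0
        rw [map_sub, map_pow, eval₂Hom_X', eval₂Hom_C, hx]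
        exact sub_self _
      exact this ha)

theorem qLift_root (s : Fin l → R) {D : Type*} [CommRing D] [Algebra B D] (g : R →ₐ[B] D)
    (x : Fin l → D) (hx : ∀ k, x k ^ 2 = g (s k)) (k : Fin l) : qLift s g x hx (root s k) = x k :=
  eval₂Hom_X' _ _ _

theorem qLift_algebraMap (s : Fin l → R) {D : Type*} [CommRing D] [Algebra B D] (g : R →ₐ[B] D)
    (x : Fin l → D) (hx : ∀ k, x k ^ 2 = g (s k)) (r : R) :
    qLift s g x hx (algebraMap R (Qs s) r) = g r :=
  eval₂Hom_C _ _ _

/-- functoriality -/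
def qMap (g : R →ₐ[B] R') (s : Fin l → R) (s' : Fin l → R') (h : ∀ k, g (s k) = s' k) :
    Qs s →ₐ[B] Qs s' :=
  qLift s ((IsScalarTower.toAlgHom B R' (Qs s')).comp g) (root s') fun k => by
    rw [root_sq, ← h k]; rfl

theorem qs_algHom_ext {s : Fin l → R} {D : Type*} [CommRing D] [Algebra B D] {φ ψ : Qs s →ₐ[B] D}
    (hc : ∀ r, φ (algebraMap R _ r) = ψ (algebraMap R _ r)) (hr : ∀ k, φ (root s k) = ψ (root s k)) :
    φ = ψ := by
  refine AlgHom.ext fun q => ?_
  obtain ⟨p, rfl⟩ := Ideal.Quotient.mk_surjective q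
  induction p using MvPolynomial.induction_on with
  | C a => exact hc a
  | add p q hp hq => rw [map_add, map_add, map_add, hp, hq]
  | mul_X p k hp => rw [map_mul, map_mul, map_mul, hp]; exact congrArg _ (hr k)

section Loc

variable (M : Submonoid B) (T : Type u) [CommRing T] [Algebra B T] [IsLocalization M T]

/-- clearing denominators -/
theorem exists_qMap_eq (g : R →ₐ[B] T) (s : Fin l → R) (s' : Fin l → T) (h : ∀ k, g (s k) = s' k)
    (x : Qs s') : ∃ (q : Qs s) (m : M), qMap g s s' h q = algebraMap B _ m * x := by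
  obtain ⟨p, rfl⟩ := Ideal.Quotient.mk_surjective x
  induction p using MvPolynomial.induction_on with
  | C a =>
    obtain ⟨⟨c, m⟩, hcm⟩ := IsLocalization.surj M a
    refine ⟨algebraMap B _ c, m, ?_⟩
    rw [AlgHom.commutes, IsScalarTower.algebraMap_apply B T (Qs s'),
      IsScalarTower.algebraMap_apply B T (Qs s')]
    show _ = algebraMap T (Qs s') _ * algebraMap T (Qs s') a
    rw [← map_mul, mul_comm, hcm]
  | add p q hp hq =>
    obtain ⟨p0, m, hp⟩ := hp
    obtain ⟨q0, n, hq⟩ := hq
    refine ⟨algebraMap B _ n * p0 + algebraMap B _ m * q0, m * n, ?_⟩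
    rw [map_add, map_mul, map_mul, AlgHom.commutes, AlgHom.commutes, hp, hq, Submonoid.coe_mul,
      map_mul, map_add]
    ring
  | mul_X p k hp =>
    obtain ⟨p0, m, hp⟩ := hp
    refine ⟨p0 * root s k, m, ?_⟩
    rw [map_mul, hp, qMap, qLift_root, map_mul, root, mul_assoc]

theorem exists_smul_eq_zero_of_tmul {N : Type*} [AddCommGroup N] [Module B N] {y : N}
    (h : (1 : T) ⊗ₜ[B] y = 0) : ∃ m : M, (m : B) • y = 0 := by
  obtain ⟨m, hm⟩ := (IsLocalizedModule.eq_zero_iff M (TensorProduct.mk B T N 1)).1 h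
  exact ⟨m, hm⟩

variable {N : Submonoid B} [IsLocalization N R]

include N in
theorem algHom_eq {D : Type*} [CommRing D] [Algebra B D] (φ ψ : R →ₐ[B] D) : φ = ψ :=
  IsLocalization.algHom_ext N (Subsingleton.elim _ _)

/-- the map to the base change -/
def qBC (g : R →ₐ[B] T) (s : Fin l → R) (s' : Fin l → T) (h : ∀ k, g (s k) = s' k)
    (hN : ∀ (D : Type u) [CommRing D] [Algebra B D] (φ ψ : R →ₐ[B] D), φ = ψ) :
    Qs s' →ₐ[B] T ⊗[B] Qs s :=
  qLift s' (Algebra.TensorProduct.includeLeft : T →ₐ[B] T ⊗[B] Qs s) (fun k => (1 : T) ⊗ₜ[B] root s k)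
    fun k => by
      rw [Algebra.TensorProduct.tmul_pow, one_pow, root_sq, ← h k]
      exact AlgHom.congr_fun
        (hN (T ⊗[B] Qs s) (Algebra.TensorProduct.includeRight.comp (IsScalarTower.toAlgHom B R (Qs s)))
          ((Algebra.TensorProduct.includeLeft : T →ₐ[B] T ⊗[B] Qs s).comp g)) (s k)

theorem qBC_qMap (g : R →ₐ[B] T) (s : Fin l → R) (s' : Fin l → T) (h : ∀ k, g (s k) = s' k)
    (hN : ∀ (D : Type u) [CommRing D] [Algebra B D] (φ ψ : R →ₐ[B] D), φ = ψ) (q : Qs s) :
    qBC T g s s' h hN (qMap g s s' h q) = (1 : T) ⊗ₜ[B] q := by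
  have e : (qBC T g s s' h hN).comp (qMap g s s' h) =
      (Algebra.TensorProduct.includeRight : Qs s →ₐ[B] T ⊗[B] Qs s) :=
    by
      refine qs_algHom_ext (B := B) (R := R) (s := s) (D := T ⊗[B] Qs s) (fun r => ?_) fun k => ?_
      · exact AlgHom.congr_fun
          (hN (T ⊗[B] Qs s) (((qBC T g s s' h hN).comp (qMap g s s' h)).comp (IsScalarTower.toAlgHom B R (Qs s)))
            ((Algebra.TensorProduct.includeRight : Qs s →ₐ[B] T ⊗[B] Qs s).comp (IsScalarTower.toAlgHom B R (Qs s)))) r
      · rw [AlgHom.comp_apply, qMap, qLift_root, qBC, qLift_root]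
        rfl
  exact AlgHom.congr_fun e q

end Loc

section Mat

variable {A : Type v} [CommRing A] [Algebra B A] {n : ℕ}

/-- the extended involution -/
def sig (lam : A →ₐ[B] A) (D : Type u) [CommRing D] [Algebra B D] : D ⊗[B] A →ₐ[B] D ⊗[B] A :=
  Algebra.TensorProduct.map (AlgHom.id B D) lam

theorem sig_congr (lam : A ≃ₐ[B] A) (D : Type u) [CommRing D] [Algebra B D] (z : D ⊗[B] A) :
    Algebra.TensorProduct.congr (AlgEquiv.refl : D ≃ₐ[D] D) lam z = sig (lam : A →ₐ[B] A) D z := by
  induction z with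
  | zero => simp
  | add x y hx hy => rw [map_add, map_add, hx, hy]
  | tmul d a => rfl

theorem sig_nat (lam : A →ₐ[B] A) {D D' : Type u} [CommRing D] [Algebra B D] [CommRing D'] [Algebra B D']
    (f : D →ₐ[B] D') (z : D ⊗[B] A) :
    sig lam D' (Algebra.TensorProduct.map f (AlgHom.id B A) z) =
      Algebra.TensorProduct.map f (AlgHom.id B A) (sig lam D z) := by
  induction z with
  | zero => simp
  | add x y hx hy => rw [map_add, map_add, map_add, map_add, hx, hy]
  | tmul d a => rfl

/-- `v` transforms `h` into `c` times `h'` -/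
def Congr (lam : A →ₐ[B] A) (D : Type u) [CommRing D] [Algebra B D]
    (v : Matrix (Fin n) (Fin n) (D ⊗[B] A)) (h h' : Matrix (Fin n) (Fin n) A) (c : B) : Prop :=
  (v.map (sig lam D)).transpose * h.map (Algebra.TensorProduct.includeRight : A →ₐ[B] D ⊗[B] A) * v =
    c • h'.map (Algebra.TensorProduct.includeRight : A →ₐ[B] D ⊗[B] A)

theorem map_smul_sig (lam : A →ₐ[B] A) {D : Type u} [CommRing D] [Algebra B D] (c : B)
    (v : Matrix (Fin n) (Fin n) (D ⊗[B] A)) :
    ((c • v).map (sig lam D)).transpose = c • (v.map (sig lam D)).transpose := by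
  ext i j
  simp

theorem congr_map (lam : A →ₐ[B] A) {D D' : Type u} [CommRing D] [Algebra B D] [CommRing D'] [Algebra B D']
    (f : D →ₐ[B] D') (v : Matrix (Fin n) (Fin n) (D ⊗[B] A)) (h h' : Matrix (Fin n) (Fin n) A) (c : B) :
    let F := (Algebra.TensorProduct.map f (AlgHom.id B A)).mapMatrix (m := Fin n)
    ((F v).map (sig lam D')).transpose * h.map (Algebra.TensorProduct.includeRight : A →ₐ[B] D' ⊗[B] A) * F v =
      F ((v.map (sig lam D)).transpose * h.map (Algebra.TensorProduct.includeRight : A →ₐ[B] D ⊗[B] A) * v) ∧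
      c • h'.map (Algebra.TensorProduct.includeRight : A →ₐ[B] D' ⊗[B] A) =
        F (c • h'.map (Algebra.TensorProduct.includeRight : A →ₐ[B] D ⊗[B] A)) := by
  intro F
  have hR : ∀ m : Matrix (Fin n) (Fin n) A,
      F (m.map (Algebra.TensorProduct.includeRight : A →ₐ[B] D ⊗[B] A)) =
        m.map (Algebra.TensorProduct.includeRight : A →ₐ[B] D' ⊗[B] A) := fun m => by
    ext i j
    simp [F]
  refine ⟨?_, ?_⟩
  · rw [map_mul, map_mul, hR]
    congr 2
    ext i j
    exact sig_nat lam f _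
  · rw [map_smul, hR]

/-- Data over the base change along a localisation comes from data before localising. -/
theorem spread_mat (M : Submonoid B) (T : Type u) [CommRing T] [Algebra B T] [IsLocalization M T]
    (lam : A →ₐ[B] A) (C0 : Type u) [CommRing C0] [Algebra B C0]
    (h h' : Matrix (Fin n) (Fin n) A) (v : Matrix (Fin n) (Fin n) ((T ⊗[B] C0) ⊗[B] A)) (hv : IsUnit v)
    (hcg : Congr lam (T ⊗[B] C0) v h h' 1) :
    ∃ (m m' : M) (v0 w0 : Matrix (Fin n) (Fin n) (C0 ⊗[B] A)),
      v0 * w0 = (m' : B) • 1 ∧ Congr lam C0 v0 h h' ((m : B) ^ 2) := by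
  let ι' : C0 →ₐ[B] T ⊗[B] C0 := Algebra.TensorProduct.includeRight
  let Ψ := Algebra.TensorProduct.map ι' (AlgHom.id B A)
  have hΨ : ∀ x, Ψ x = (TensorProduct.assoc B T C0 A).symm ((1 : T) ⊗ₜ[B] x) := fun x => by
    induction x with
    | zero => simp
    | add p q hp hq => rw [TensorProduct.tmul_add, map_add, map_add, hp, hq]
    | tmul c a => rfl
  haveI : IsLocalizedModule M Ψ.toLinearMap := by
    have e : Ψ.toLinearMap = (TensorProduct.assoc B T C0 A).symm.toLinearMap ∘ₗ
        TensorProduct.mk B T (C0 ⊗[B] A) 1 := LinearMap.ext hΨ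
    rw [e]
    exact IsLocalizedModule.of_linearEquiv M _ _
  let F := Ψ.mapMatrix (m := Fin n)
  have surj : ∀ X : Matrix (Fin n) (Fin n) ((T ⊗[B] C0) ⊗[B] A),
      ∃ (m : M) (X0 : Matrix (Fin n) (Fin n) (C0 ⊗[B] A)), F X0 = (m : B) • X := fun X => by
    classical
    obtain ⟨m, hm⟩ := IsLocalizedModule.exist_integer_multiples_of_finite M Ψ.toLinearMap
      (fun ij : Fin n × Fin n => X ij.1 ij.2)
    choose X0 hX0 using hm
    exact ⟨m, Matrix.of fun i j => X0 (i, j), by ext i j; exact hX0 (i, j)⟩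
  have kill : ∀ X : Matrix (Fin n) (Fin n) (C0 ⊗[B] A), F X = 0 → ∃ m : M, (m : B) • X = 0 := fun X hX => by
    classical
    have h0 : ∀ ij : Fin n × Fin n, ∃ m : M, (m : B) • X ij.1 ij.2 = 0 := fun ij => by
      obtain ⟨m, hm⟩ := (IsLocalizedModule.eq_zero_iff M Ψ.toLinearMap).1
        (show Ψ.toLinearMap (X ij.1 ij.2) = 0 from congrFun (congrFun hX ij.1) ij.2)
      exact ⟨m, hm⟩
    choose m hm using h0
    refine ⟨∏ ij, m ij, ?_⟩
    ext i j
    rw [Matrix.smul_apply, Submonoid.coe_finsetProd, ← Finset.prod_erase_mul _ _ (Finset.mem_univ (i, j)),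
      mul_smul, hm (i, j), smul_zero, Matrix.zero_apply]
  obtain ⟨w, hvw⟩ := hv.exists_right_inv
  obtain ⟨m, v0, hv0⟩ := surj v
  obtain ⟨m1, w0, hw0⟩ := surj w
  obtain ⟨k1, hk1⟩ := kill (v0 * w0 - ((m : B) * m1) • 1) (by
    rw [map_sub, map_mul, map_smul, map_one, hv0, hw0, smul_mul_smul_comm, hvw, sub_self])
  obtain ⟨k2, hk2⟩ := kill ((v0.map (sig lam C0)).transpose *
      h.map (Algebra.TensorProduct.includeRight : A →ₐ[B] C0 ⊗[B] A) * v0 -
      ((m : B) ^ 2) • h'.map (Algebra.TensorProduct.includeRight : A →ₐ[B] C0 ⊗[B] A)) (by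
    obtain ⟨e1, e2⟩ := congr_map lam ι' v0 h h' ((m : B) ^ 2)
    unfold Congr at hcg
    rw [map_sub, ← e1, ← e2, sub_eq_zero]
    show (((F v0).map _).transpose) * _ * F v0 = _
    rw [hv0, map_smul_sig, smul_mul_assoc, smul_mul_assoc, mul_smul_comm, smul_smul, hcg, one_smul, pow_two])
  refine ⟨k2 * m, k2 * k1 * (m * m1), (k2 : B) • v0, (k1 : B) • w0, ?_, ?_⟩
  · rw [smul_sub, sub_eq_zero, smul_smul] at hk1
    rw [smul_mul_smul_comm, ← smul_smul (k2 : B), hk1, smul_smul]
    congr 1
    simp [mul_assoc]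
  · rw [smul_sub, sub_eq_zero, smul_smul] at hk2
    unfold Congr
    rw [map_smul_sig, smul_mul_assoc, smul_mul_assoc, mul_smul_comm, smul_smul, ← smul_smul (k2 : B), hk2,
      smul_smul]
    congr 1
    simp only [Submonoid.coe_mul]
    ring

/-- data with invertible factors gives congruence data -/
theorem congr_of_data (lam : A →ₐ[B] A) {C0 D : Type u} [CommRing C0] [Algebra B C0] [CommRing D] [Algebra B D]
    (f : C0 →ₐ[B] D) (h h' : Matrix (Fin n) (Fin n) A) (m m' : B)
    (hm : IsUnit (algebraMap B D m)) (hm' : IsUnit (algebraMap B D m'))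
    (v0 w0 : Matrix (Fin n) (Fin n) (C0 ⊗[B] A)) (h1 : v0 * w0 = m' • 1)
    (h2 : Congr lam C0 v0 h h' (m ^ 2)) :
    ∃ v : Matrix (Fin n) (Fin n) (D ⊗[B] A), IsUnit v ∧ Congr lam D v h h' 1 := by
  let F := (Algebra.TensorProduct.map f (AlgHom.id B A)).mapMatrix (m := Fin n)
  obtain ⟨u, hu⟩ := hm.exists_right_inv
  obtain ⟨u', hu'⟩ := hm'.exists_right_inv
  let inL : D →ₐ[B] D ⊗[B] A := Algebra.TensorProduct.includeLeft
  refine ⟨inL u • F v0, ?_, ?_⟩
  · rw [Matrix.isUnit_iff_isUnit_det]
    refine IsUnit.of_mul_eq_one ((((inL (algebraMap B D m * u'))) • F w0).det) ?_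
    rw [← Matrix.det_mul, smul_mul_smul_comm, ← map_mul, ← map_mul F, h1, map_smul, map_one, ← IsScalarTower.algebraMap_smul (D ⊗[B] A) m',
      smul_smul, ← AlgHom.commutes inL, ← map_mul,
      show u * (algebraMap B D m * u') * algebraMap B D m' = 1 by
        linear_combination (algebraMap B D m' * u') * hu + hu',
      map_one, one_smul, Matrix.det_one]
  · obtain ⟨e1, e2⟩ := congr_map lam f v0 h h' (m ^ 2)
    unfold Congr at h2 ⊢
    rw [h2] at e1
    have hs : sig lam D (inL u) = inL u := by simp [inL, sig]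
    have e3 : ((inL u • F v0).map (sig lam D)).transpose = inL u • ((F v0).map (sig lam D)).transpose := by
      ext i j
      simp [hs]
    rw [e3, Matrix.smul_mul, Matrix.smul_mul, Matrix.mul_smul, smul_smul, e1, ← e2,
      ← IsScalarTower.algebraMap_smul (D ⊗[B] A) (m ^ 2), smul_smul, ← AlgHom.commutes inL, ← map_mul, ← map_mul,
      show u * u * algebraMap B D (m ^ 2) = 1 by
        rw [map_pow]; linear_combination (algebraMap B D m * u + 1) * hu,
      map_one, one_smul, one_smul]

end Mat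

section Away

variable (M : Submonoid B) (T : Type u) [CommRing T] [Algebra B T] [IsLocalization M T]
  (g : R →ₐ[B] T) (s : Fin l → R) (s' : Fin l → T) (h : ∀ k, g (s k) = s' k)
  (hN : ∀ (D : Type u) [CommRing D] [Algebra B D] (φ ψ : R →ₐ[B] D), φ = ψ) (f0 : Qs s)

/-- the map to the base change of a principal localisation -/
def qAway : Qs s' →ₐ[B] T ⊗[B] Localization.Away f0 :=
  (Algebra.TensorProduct.map (AlgHom.id B T) (IsScalarTower.toAlgHom B (Qs s) (Localization.Away f0))).comp
    (qBC T g s s' h hN)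

theorem qAway_qMap (q : Qs s) :
    qAway T g s s' h hN f0 (qMap g s s' h q) = (1 : T) ⊗ₜ[B] algebraMap (Qs s) (Localization.Away f0) q := by
  rw [qAway, AlgHom.comp_apply, qBC_qMap]
  rfl

include M in
theorem isLocalization_qAway :
    @IsLocalization.Away (Qs s') _ (qMap g s s' h f0) (T ⊗[B] Localization.Away f0) _
      (qAway T g s s' h hN f0).toRingHom.toAlgebra := by
  letI : Algebra (Qs s') (T ⊗[B] Localization.Away f0) := (qAway T g s s' h hN f0).toRingHom.toAlgebra
  have hal : ∀ x, algebraMap (Qs s') (T ⊗[B] Localization.Away f0) x = qAway T g s s' h hN f0 x :=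
    fun x => rfl
  let iR : Localization.Away f0 →ₐ[B] T ⊗[B] Localization.Away f0 := Algebra.TensorProduct.includeRight
  have hmap : ∀ q, algebraMap (Qs s') (T ⊗[B] Localization.Away f0) (qMap g s s' h q) =
      iR (algebraMap (Qs s) (Localization.Away f0) q) := fun q => qAway_qMap T g s s' h hN f0 q
  refine IsLocalization.Away.mk _ ?_ (fun z => ?_) fun x y hxy => ?_
  · rw [hmap]
    exact (IsLocalization.Away.algebraMap_isUnit f0).map iR
  · induction z with
    | zero => exact ⟨0, 0, by simp⟩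
    | tmul t c =>
      obtain ⟨j, q, hq⟩ := IsLocalization.Away.surj f0 c
      refine ⟨j, algebraMap T (Qs s') t * qMap g s s' h q, ?_⟩
      rw [map_mul, hmap, hmap, ← hq, map_mul, map_pow, hal, qAway, AlgHom.comp_apply, qBC, qLift_algebraMap,
        ← mul_assoc]
      congr 1
      simp [iR]
    | add p q hp hq =>
      obtain ⟨j, a, ha⟩ := hp
      obtain ⟨j', a', ha'⟩ := hq
      refine ⟨j + j', qMap g s s' h f0 ^ j' * a + qMap g s s' h f0 ^ j * a', ?_⟩
      rw [map_add, map_mul, map_mul, map_pow, map_pow, ← ha, ← ha', pow_add]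
      ring
  · obtain ⟨q, m, hq⟩ := exists_qMap_eq M T g s s' h (x - y)
    have h0 : (1 : T) ⊗ₜ[B] algebraMap (Qs s) (Localization.Away f0) q = 0 := by
      rw [← qAway_qMap T g s s' h hN f0, ← hal, hq, map_mul, map_sub, hxy, sub_self, mul_zero]
    obtain ⟨m', hm'⟩ := exists_smul_eq_zero_of_tmul M T h0
    rw [Algebra.smul_def, IsScalarTower.algebraMap_apply B (Qs s) (Localization.Away f0), ← map_mul,
      ← map_zero (algebraMap (Qs s) (Localization.Away f0))] at hm'
    obtain ⟨j, hj⟩ := IsLocalization.Away.exists_of_eq f0 hm'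
    refine ⟨j, ?_⟩
    have h1 := congrArg (qMap g s s' h) hj
    rw [mul_zero, map_zero, map_mul, map_pow, map_mul, AlgHom.commutes, hq] at h1
    have hu : IsUnit (algebraMap B (Qs s') ((m' * m : M) : B)) := by
      rw [IsScalarTower.algebraMap_apply B T (Qs s')]
      exact (IsLocalization.map_units T (m' * m)).map _
    rw [← sub_eq_zero, ← mul_sub]
    refine (hu.mul_right_eq_zero).1 (Eq.trans ?_ h1)
    rw [Submonoid.coe_mul, map_mul]
    ring

end Away

/-- the map out of a principal localisation of the base -/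
def awayHom (b : B) (D : Type u) [CommRing D] [Algebra B D] (hb : IsUnit (algebraMap B D b)) :
    Localization.Away b →ₐ[B] D :=
  { IsLocalization.Away.lift b (g := algebraMap B D) hb with
    commutes' := fun c => IsLocalization.Away.lift_eq b hb c }

end Groth.Agent.Hopf35.RI
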