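import Mathlib

/-!
helper35: local homomorphisms with injective cotangent map.
-/

set_option autoImplicit false
set_option linter.style.haveILetI false

universe u

open IsLocalRing

noncomputable section

namespace Groth.Agent.Hopf35.RegDominant

variable {R S : Type u} [CommRing R] [CommRing S] [IsLocalRing R] [IsLocalRing S]

/-- A formally smooth local homomorphism without residue extension reflects `m²`. -/
theorem mem_sq_of_formallySmooth (φ : R →+* S) [IsLocalHom φ] (hφ : φ.FormallySmooth)
    (hres : Function.Surjective ((residue S).comp φ)) {a : R} (ha : a ∈ maximalIdeal R)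
    (h : φ a ∈ maximalIdeal S ^ 2) : a ∈ maximalIdeal R ^ 2 := by
  letI := φ.toAlgebra
  haveI : Algebra.FormallySmooth R S := hφ
  let m := maximalIdeal R
  let B := R ⧸ m ^ 2
  let π : B →ₐ[R] R ⧸ m := Ideal.Quotient.factorₐ R (Ideal.pow_le_self (I := m) two_ne_zero)
  have hπ : Function.Surjective π := Ideal.Quotient.factor_surjective (Ideal.pow_le_self (I := m) two_ne_zero)
  have hnil : IsNilpotent (RingHom.ker (π : B →+* R ⧸ m)) := by
    refine ⟨2, ?_⟩
    have : RingHom.ker (π : B →+* R ⧸ m) = m.map (Ideal.Quotient.mk (m ^ 2)) := Ideal.Quotient.factor_ker (Ideal.pow_le_self (I := m) two_ne_zero)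
    rw [this, ← Ideal.map_pow, Ideal.map_quotient_self]
    rfl
  have hker : RingHom.ker ((residue S).comp φ) = m := by
    ext x
    simp [RingHom.mem_ker, residue_eq_zero_iff, m]
  let e : R ⧸ RingHom.ker ((residue S).comp φ) ≃+* ResidueField S := RingHom.quotientKerEquivOfSurjective hres
  let g : S →+* R ⧸ m := ((Ideal.quotEquivOfEq hker).toRingHom.comp e.symm.toRingHom).comp (residue S)
  let gA : S →ₐ[R] R ⧸ m :=
    { g with
      commutes' := fun r => by
        show (Ideal.quotEquivOfEq hker) (e.symm (residue S (φ r))) = Ideal.Quotient.mk m r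
        rw [show residue S (φ r) = e (Ideal.Quotient.mk _ r) from rfl, e.symm_apply_apply]
        rfl }
  let L := Algebra.FormallySmooth.liftOfSurjective gA π hπ hnil
  have hmax : ∀ s ∈ maximalIdeal S, L s ∈ m.map (Ideal.Quotient.mk (m ^ 2)) := by
    intro s hs
    rw [← show RingHom.ker (π : B →+* R ⧸ m) = m.map (Ideal.Quotient.mk (m ^ 2)) from Ideal.Quotient.factor_ker (Ideal.pow_le_self (I := m) two_ne_zero),
      RingHom.mem_ker]
    show π (L s) = 0
    erw [Algebra.FormallySmooth.liftOfSurjective_apply gA π hπ hnil s]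
    show (Ideal.quotEquivOfEq hker) (e.symm (residue S s)) = 0
    rw [(residue_eq_zero_iff s).2 hs, map_zero, map_zero]
  have h2 : L (φ a) ∈ (m.map (Ideal.Quotient.mk (m ^ 2))) ^ 2 :=
    (Ideal.map_le_iff_le_comap.1 ((Ideal.map_pow _ _ _).trans_le
      (Ideal.pow_right_mono (Ideal.map_le_iff_le_comap.2 hmax) 2))) h
  rw [← Ideal.map_pow, Ideal.map_quotient_self, Ideal.mem_bot] at h2
  rw [show φ a = algebraMap R S a from rfl, AlgHom.commutes] at h2
  exact Ideal.Quotient.eq_zero_iff_mem.1 h2

/-- A local homomorphism from a domain into a regular local ring, without residue extension and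
reflecting `m²`, is injective. -/
theorem injective_of_regular [IsNoetherianRing R] [IsDomain R] [IsRegularLocalRing S] (φ : R →+* S) [IsLocalHom φ]
    (hres : Function.Surjective ((residue S).comp φ))
    (hcot : ∀ a ∈ maximalIdeal R, φ a ∈ maximalIdeal S ^ 2 → a ∈ maximalIdeal R ^ 2) :
    Function.Injective φ := by
  classical
  have hmap : ∀ x ∈ maximalIdeal R, φ x ∈ maximalIdeal S := fun x hx => map_nonunit φ x hx
  let b := Module.finBasis (ResidueField R) (CotangentSpace R)
  choose a ha using fun i => Ideal.toCotangent_surjective _ (b i)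
  let v : Fin (Module.finrank (ResidueField R) (CotangentSpace R)) → CotangentSpace S := fun i =>
    (maximalIdeal S).toCotangent ⟨φ (a i), hmap _ (a i).2⟩
  have hv : LinearIndependent (ResidueField S) v := by
    rw [Fintype.linearIndependent_iff]
    intro c hc i
    choose r hr using fun j => hres (c j)
    have hsum : φ (∑ j, r j * (a j : R)) ∈ maximalIdeal S ^ 2 := by
      let t : maximalIdeal S := ∑ j, φ (r j) • ⟨φ (a j), hmap _ (a j).2⟩
      have ht : (maximalIdeal S).toCotangent t = 0 := by
        rw [map_sum, ← hc]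
        refine Finset.sum_congr rfl fun j _ => ?_
        rw [map_smul, ← hr j]
        exact (IsScalarTower.algebraMap_smul (ResidueField S) (φ (r j)) _).symm
      have := (Ideal.toCotangent_eq_zero _ t).1 ht
      simpa [t, map_sum] using this
    have h2 := hcot _ (Ideal.sum_mem _ fun j _ => Ideal.mul_mem_left _ _ (a j).2) hsum
    have hb : ∑ j, residue R (r j) • b j = 0 := by
      have ht : (maximalIdeal R).toCotangent (∑ j, r j • a j) = 0 :=
        (Ideal.toCotangent_eq_zero _ _).2 (by simpa using h2)
      rw [map_sum] at ht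
      rw [← ht]
      refine Finset.sum_congr rfl fun j _ => ?_
      rw [map_smul, ha]
      exact IsScalarTower.algebraMap_smul (ResidueField R) (r j) (b j)
    rw [← hr i]
    exact (residue_eq_zero_iff _).2 (hmap _
      ((residue_eq_zero_iff _).1 (Fintype.linearIndependent_iff.1 b.linearIndependent _ hb i)))
  obtain ⟨T, hvT, hTfin⟩ : ∃ T : Set (CotangentSpace S), LinearIndependent (ResidueField S) ((↑) : T → CotangentSpace S) ∧
      Set.range v ⊆ T ∧ Submodule.span (ResidueField S) T = ⊤ :=
    ⟨hv.linearIndepOn_id.extend (Set.subset_univ _), hv.linearIndepOn_id.linearIndepOn_extend _,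
      hv.linearIndepOn_id.subset_extend _, by
        rw [hv.linearIndepOn_id.span_extend_eq_span, Submodule.span_univ]⟩
  obtain ⟨hvT', hTspan⟩ := hTfin
  have hTf : T.Finite := hvT.setFinite
  let Z := hTf.toFinset \ Finset.univ.image v
  have hZcard : Z.card + Module.finrank (ResidueField R) (CotangentSpace R) = Module.finrank (ResidueField S) (CotangentSpace S) := by
    have h1 : hTf.toFinset.card = Module.finrank (ResidueField S) (CotangentSpace S) := by
      haveI := hTf.fintype
      rw [← finrank_top (ResidueField S) (CotangentSpace S), ← hTspan, finrank_span_set_eq_card hvT, hTf.toFinset_eq_toFinset]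
    have hsub : Finset.univ.image v ⊆ hTf.toFinset := fun z hz => by
      obtain ⟨i, -, rfl⟩ := Finset.mem_image.1 hz
      exact hTf.mem_toFinset.2 (hvT' ⟨i, rfl⟩)
    rw [← h1, ← Finset.card_sdiff_add_card_eq_card hsub, Finset.card_image_of_injective _ hv.injective,
      Finset.card_univ, Fintype.card_fin]
  choose z hz using fun w : CotangentSpace S => Ideal.toCotangent_surjective _ w
  let q := RingHom.ker φ
  haveI : Nontrivial (R ⧸ q) := Ideal.Quotient.nontrivial_iff.2 (RingHom.ker_ne_top φ)
  haveI : IsLocalRing (R ⧸ q) := .of_surjective' (Ideal.Quotient.mk q) Ideal.Quotient.mk_surjective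
  haveI : IsLocalHom (Ideal.Quotient.mk q) := .of_surjective _ Ideal.Quotient.mk_surjective
  obtain ⟨s, hs, hscard⟩ := (maximalIdeal (R ⧸ q)).exists_finset_card_eq_height_of_isNoetherianRing
  choose l hl using fun x : R ⧸ q => Ideal.Quotient.mk_surjective x
  let P : Finset S := s.image (fun x => φ (l x)) ∪ Z.image (fun w => (z w : S))
  have hP : maximalIdeal S ∈ (Ideal.span (P : Set S)).minimalPrimes := by
    refine ⟨⟨inferInstance, Ideal.span_le.2 ?_⟩, ?_⟩
    · intro x hx
      rcases Finset.mem_union.1 (Finset.mem_coe.1 hx) with h | h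
      · obtain ⟨y, hy, rfl⟩ := Finset.mem_image.1 h
        refine hmap _ ?_
        have : Ideal.Quotient.mk q (l y) ∈ maximalIdeal (R ⧸ q) := by rw [hl]; exact hs.1.2 (Ideal.subset_span hy)
        simpa using this
      · obtain ⟨w, -, rfl⟩ := Finset.mem_image.1 h
        exact (z w).2
    · rintro Q ⟨hQ, hPQ⟩ hQm
      haveI := hQ
      have hR : ∀ x ∈ maximalIdeal R, φ x ∈ Q := by
        intro x hx
        let Q' := Q.comap φ
        have hqQ : q ≤ Q' := fun y hy => by
          show φ y ∈ Q
          rw [RingHom.mem_ker.1 hy]; exact Q.zero_mem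
        haveI : (Q'.map (Ideal.Quotient.mk q)).IsPrime :=
          Ideal.map_isPrime_of_surjective Ideal.Quotient.mk_surjective (by rwa [Ideal.mk_ker])
        have hsQ : Ideal.span (s : Set (R ⧸ q)) ≤ Q'.map (Ideal.Quotient.mk q) := by
          refine Ideal.span_le.2 fun y hy => ?_
          have : φ (l y) ∈ Q := hPQ (Ideal.subset_span (Finset.mem_coe.2 (Finset.mem_union_left _ (Finset.mem_image_of_mem _ hy))))
          rw [← hl y]
          exact Ideal.mem_map_of_mem _ this
        have h3 := hs.2 ⟨inferInstance, hsQ⟩ (le_maximalIdeal (Ideal.IsPrime.ne_top inferInstance))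
        have hxm : Ideal.Quotient.mk q x ∈ maximalIdeal (R ⧸ q) := map_nonunit (Ideal.Quotient.mk q) x hx
        obtain ⟨y, hy, hyx⟩ := (Ideal.mem_map_iff_of_surjective _ Ideal.Quotient.mk_surjective).1 (h3 hxm)
        have : x = y + (x - y) := by ring
        rw [this]
        exact Q'.add_mem hy (hqQ (Ideal.Quotient.eq.1 hyx.symm))
      let gens : Set (maximalIdeal S) := Set.range (fun i => (⟨φ (a i), hmap _ (a i).2⟩ : maximalIdeal S)) ∪ z '' Z
      have hgens : Submodule.span S gens = ⊤ := by
        rw [← CotangentSpace.span_image_eq_top_iff, eq_top_iff, ← hTspan, Submodule.span_le]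
        intro t ht
        by_cases hti : t ∈ Set.range v
        · obtain ⟨i, rfl⟩ := hti
          exact Submodule.subset_span ⟨_, Or.inl ⟨i, rfl⟩, rfl⟩
        · refine Submodule.subset_span ⟨z t, Or.inr ⟨t, ?_, rfl⟩, hz t⟩
          simp only [Z, Finset.coe_sdiff, Finset.coe_image, Set.mem_sdiff, Set.Finite.coe_toFinset, Finset.coe_univ,
            Set.image_univ]
          exact ⟨ht, hti⟩
      intro x hx
      have hle : Submodule.span S gens ≤ Submodule.comap (maximalIdeal S).subtype Q := by
        rw [Submodule.span_le]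
        rintro y (⟨i, rfl⟩ | ⟨w, hw, rfl⟩)
        · exact hR _ (a i).2
        · exact hPQ (Ideal.subset_span (Finset.mem_coe.2 (Finset.mem_union_right _ (Finset.mem_image_of_mem _ hw))))
      rw [hgens] at hle
      exact hle (Submodule.mem_top : (⟨x, hx⟩ : maximalIdeal S) ∈ _)
  have hS : (maximalIdeal S).height ≤ s.card + Z.card := by
    refine (Ideal.height_le_card_of_mem_minimalPrimes_span_finset hP).trans ?_
    exact_mod_cast (Finset.card_union_le _ _).trans (add_le_add Finset.card_image_le Finset.card_image_le)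
  have hSd : ((Module.finrank (ResidueField S) (CotangentSpace S) : ℕ) : WithBot ℕ∞) = ringKrullDim S :=
    (IsRegularLocalRing.iff_finrank_cotangentSpace S).1 inferInstance
  rw [← maximalIdeal_height_eq_ringKrullDim] at hSd
  by_contra hinj
  obtain ⟨r, hr, hr0⟩ : ∃ r, r ∈ q ∧ r ≠ 0 := Submodule.exists_mem_ne_zero_of_ne_bot fun hq =>
    hinj ((RingHom.injective_iff_ker_eq_bot φ).2 hq)
  have h1 : ringKrullDim (R ⧸ Ideal.span {r}) + 1 ≤ ringKrullDim R :=
    ringKrullDim_quotient_succ_le_of_nonZeroDivisor (mem_nonZeroDivisors_of_ne_zero hr0)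
  have h2 : ringKrullDim (R ⧸ q) ≤ ringKrullDim (R ⧸ Ideal.span {r}) :=
    ringKrullDim_le_of_surjective (Ideal.Quotient.factor (by simpa [Ideal.span_le] using hr)) (Ideal.Quotient.factor_surjective _)
  have h3 : ringKrullDim R ≤ (Module.finrank (ResidueField R) (CotangentSpace R) : ℕ) := by
    rw [← IsLocalRing.spanFinrank_maximalIdeal_eq_finrank_cotangentSpace]
    exact ringKrullDim_le_spanFinrank_maximalIdeal R
  have h4 : ringKrullDim (R ⧸ q) = (s.card : ℕ) := by
    rw [← maximalIdeal_height_eq_ringKrullDim, ← hscard]; rfl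
  have h5 : (((maximalIdeal S).height : ℕ∞) : WithBot ℕ∞) ≤ ((s.card + Z.card : ℕ) : WithBot ℕ∞) := by
    exact_mod_cast hS
  have h6 : ((s.card : ℕ) : WithBot ℕ∞) + 1 ≤ (Module.finrank (ResidueField R) (CotangentSpace R) : ℕ) :=
    ((h4 ▸ add_le_add h2 le_rfl : ((s.card : ℕ) : WithBot ℕ∞) + 1 ≤ _).trans h1).trans h3
  rw [← hSd] at h5
  have h5' : Module.finrank (ResidueField S) (CotangentSpace S) ≤ s.card + Z.card := by exact_mod_cast h5
  have h6' : s.card + 1 ≤ Module.finrank (ResidueField R) (CotangentSpace R) := by exact_mod_cast h6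
  omega

end Groth.Agent.Hopf35.RegDominant
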