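import Groth.Agent.LinRed34.FiniteType
import Groth.Agent.Comod33.Act
import Mathlib

/-!
Finite generation of invariants of an equivariant algebra of finite type over a Noetherian algebra.
-/

universe u v w w'

open TensorProduct HopfRep

noncomputable section

namespace Groth.Agent.Hopf35.RelInv

open Groth.Agent.Comod33 Groth.Agent.LinRed34

variable {k : Type u} [Field k] {H : Type v} [CommRing H] [Bialgebra k H]
variable {A : Type w} [CommRing A] [Algebra k A] [Comod k H A] [GLin.IsCoactAlg k H A]
variable {C : Type w'} [CommRing C] [Algebra k C] [Comod k H C] [GLin.IsCoactAlg k H C]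
variable [Algebra A C] [IsScalarTower k A C]

variable (k A C) in
/-- The image of the base. -/
def base : Submodule k C := LinearMap.range (IsScalarTower.toAlgHom k A C).toLinearMap

omit [Comod k H A] [GLin.IsCoactAlg k H A] [Comod k H C] [GLin.IsCoactAlg k H C] in
theorem base_mul_base : base k A C * base k A C = base k A C := by
  refine le_antisymm (Submodule.mul_le.2 ?_) fun x hx => ?_
  · rintro _ ⟨a, rfl⟩ _ ⟨b, rfl⟩
    exact ⟨a * b, by simp⟩
  · rw [← one_mul x]; exact Submodule.mul_mem_mul ⟨1, by simp⟩ hx

omit [Comod k H A] [GLin.IsCoactAlg k H A] [Comod k H C] [GLin.IsCoactAlg k H C] in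
theorem coeff_mem {U : Submodule k C} {p : Polynomial C}
    (hp : p ∈ Algebra.adjoin A (Polynomial.monomial 1 '' (U : Set C))) :
    ∀ n, p.coeff n ∈ base k A C * U ^ n := by
  have h1 : (1 : C) ∈ base k A C := ⟨1, by simp⟩
  induction hp using Algebra.adjoin_induction with
  | mem p hp =>
    obtain ⟨u, hu, rfl⟩ := hp
    intro n
    rw [Polynomial.coeff_monomial]
    split_ifs with h
    · subst h; rw [pow_one, ← one_mul u]; exact Submodule.mul_mem_mul h1 hu
    · exact zero_mem _
  | algebraMap c =>
    intro n
    rw [Polynomial.algebraMap_apply, Polynomial.coeff_C]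
    split_ifs with h
    · subst h; rw [pow_zero, mul_one]; exact ⟨c, by simp⟩
    · exact zero_mem _
  | add p q _ _ hp hq => intro n; rw [Polynomial.coeff_add]; exact add_mem (hp n) (hq n)
  | mul p q _ _ hp hq =>
    intro n
    rw [Polynomial.coeff_mul]
    refine sum_mem fun x hx => ?_
    rw [← Finset.HasAntidiagonal.mem_antidiagonal.1 hx, pow_add, ← base_mul_base, mul_mul_mul_comm]
    exact Submodule.mul_mem_mul (hp _) (hq _)

omit [Comod k H A] [GLin.IsCoactAlg k H A] [Comod k H C] [GLin.IsCoactAlg k H C] in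
theorem pow_monomial_mem {U : Submodule k C} :
    ∀ (n : ℕ) {a : C}, a ∈ U ^ n →
      Polynomial.monomial n a ∈ Algebra.adjoin A (Polynomial.monomial 1 '' (U : Set C))
  | 0, a, ha => by
    rw [pow_zero, Submodule.mem_one] at ha
    obtain ⟨c, rfl⟩ := ha
    rw [Polynomial.monomial_zero_left, IsScalarTower.algebraMap_apply k A C, ← Polynomial.algebraMap_apply]
    exact Subalgebra.algebraMap_mem _ _
  | n + 1, a, ha => by
    rw [pow_succ] at ha
    induction ha using Submodule.mul_induction_on' with
    | mem_mul_mem x hx y hy =>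
      rw [← Polynomial.monomial_mul_monomial]
      exact mul_mem (pow_monomial_mem n hx) (Algebra.subset_adjoin ⟨y, hy, rfl⟩)
    | add x _ y _ hx hy => rw [map_add]; exact add_mem hx hy

omit [Comod k H A] [GLin.IsCoactAlg k H A] [Comod k H C] [GLin.IsCoactAlg k H C] in
theorem monomial_mem {U : Submodule k C} (n : ℕ) {a : C} (ha : a ∈ base k A C * U ^ n) :
    Polynomial.monomial n a ∈ Algebra.adjoin A (Polynomial.monomial 1 '' (U : Set C)) := by
  induction ha using Submodule.mul_induction_on' with
  | mem_mul_mem x hx y hy =>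
    obtain ⟨b, rfl⟩ := hx
    rw [show Polynomial.monomial n ((IsScalarTower.toAlgHom k A C).toLinearMap b * y) = b • Polynomial.monomial n y by
      rw [Polynomial.smul_monomial, Algebra.smul_def]; rfl]
    exact Subalgebra.smul_mem _ (pow_monomial_mem n hy) b
  | add x _ y _ hx hy => rw [map_add]; exact add_mem hx hy

theorem exists_finset (hG : IsLinearlyReductive k H) [IsNoetherianRing A] [Algebra.FiniteType A C]
    (hAC : Hoch.IsComodHom H (IsScalarTower.toAlgHom k A C).toLinearMap) :
    ∃ s : Finset C, GLin.invariants k H C =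
      Algebra.adjoin k (⇑(algebraMap A C) '' ↑(GLin.invariants k H A) ∪ ↑s) := by
  classical
  obtain ⟨g, hg⟩ := (inferInstance : Algebra.FiniteType A C).out
  obtain ⟨U, hUfin, hU, hgU, -⟩ := Hopf34.exists_finite_isSubcomod (k := k) (A := H)
    (insert (1 : C) (g : Set C)) ((g.finite_toSet).insert 1)
  have hV : ∀ n, IsSubcomod (k := k) (A := H) (base k A C * U ^ n) := fun n =>
    isSubcomod_mul (isSubcomod_range hAC) (isSubcomod_pow hU n)
  obtain ⟨b, hb⟩ := Module.Finite.iff_fg.1 hUfin
  set S := Algebra.adjoin A (Polynomial.monomial 1 '' (U : Set C)) with hS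
  have hSfg : S.FG := by
    refine ⟨b.image (Polynomial.monomial 1), le_antisymm ?_ ?_⟩
    · rw [Finset.coe_image]
      exact Algebra.adjoin_mono (Set.image_mono fun x hx => hb ▸ Submodule.subset_span hx)
    · refine Algebra.adjoin_le ?_
      rintro _ ⟨u, hu, rfl⟩
      rw [← hb] at hu
      have : Polynomial.monomial 1 u ∈ Submodule.span k (Polynomial.monomial 1 '' (b : Set C)) := by
        have h := Submodule.mem_map_of_mem (f := (Polynomial.monomial 1 : C →ₗ[C] Polynomial C).restrictScalars k) hu
        rwa [Submodule.map_span] at h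
      rw [Finset.coe_image]
      exact Algebra.span_le_adjoin A _ (Submodule.span_le_restrictScalars k A _ this)
  have : Algebra.FiniteType A S := Subalgebra.fg_iff_finiteType _ |>.1 hSfg
  have : IsNoetherianRing S := Algebra.FiniteType.isNoetherianRing A S
  let T : Set S := {p | ∃ n : ℕ, 0 < n ∧ ∃ a ∈ GLin.invariants k H C, a ∈ base k A C * U ^ n ∧
    (p : Polynomial C) = Polynomial.monomial n a}
  obtain ⟨T', hT', hspan⟩ := (Submodule.fg_span_iff_fg_span_finset_subset T).1
    (IsNoetherian.noetherian (Submodule.span S T))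
  choose! deg hdeg coef hcoef hcoefU heq using fun (p : S) (hp : p ∈ T') => hT' hp
  refine ⟨T'.image coef, le_antisymm ?_ ?_⟩
  swap
  · refine Algebra.adjoin_le (Set.union_subset ?_ ?_)
    · rintro _ ⟨a, ha, rfl⟩
      exact map_mem_fixedPts hAC ha
    · rw [Finset.coe_image]
      rintro _ ⟨p, hp, rfl⟩
      exact hcoef p hp
  have key : ∀ (n : ℕ), ∀ a ∈ GLin.invariants k H C, a ∈ base k A C * U ^ n →
      a ∈ Algebra.adjoin k (⇑(algebraMap A C) '' ↑(GLin.invariants k H A) ∪ ↑(T'.image coef)) := by
    intro n
    induction n using Nat.strong_induction_on with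
    | _ n ih =>
      intro a ha haU
      rcases Nat.eq_zero_or_pos n with h0 | hpos
      · subst h0
        rw [pow_zero, mul_one] at haU
        obtain ⟨c, rfl⟩ := haU
        rw [← rey_of_fixed hG (show _ ∈ fixedPts k H C from ha), ← map_rey hG hAC]
        exact Algebra.subset_adjoin (Or.inl ⟨_, rey_mem hG c, rfl⟩)
      let p : S := ⟨Polynomial.monomial n a, monomial_mem n haU⟩
      have hp : p ∈ Submodule.span S (↑T' : Set S) :=
        hspan ▸ Submodule.subset_span ⟨n, hpos, a, ha, haU, rfl⟩
      obtain ⟨s, -, hs⟩ := Submodule.mem_span_finset.1 hp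
      have hsum : a = ∑ q ∈ T', if deg q ≤ n then (s q : Polynomial C).coeff (n - deg q) * coef q else 0 := by
        have h := congrArg (fun z : S => (z : Polynomial C).coeff n) hs
        simp only [AddSubmonoidClass.coe_finsetSum, Polynomial.finsetSum_coeff, smul_eq_mul, Subalgebra.coe_mul] at h
        rw [show ((p : Polynomial C)).coeff n = a from Polynomial.coeff_monomial_same n a] at h
        rw [← h]
        refine Finset.sum_congr rfl fun q hq => ?_
        rw [heq q hq]
        split_ifs with hle
        · conv_lhs => rw [show n = (n - deg q) + deg q from (Nat.sub_add_cancel hle).symm]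
          rw [Polynomial.coeff_mul_monomial]
        · rw [mul_comm, ← Polynomial.C_mul_X_pow_eq_monomial, mul_assoc, Polynomial.coeff_C_mul,
            Polynomial.coeff_X_pow_mul', if_neg hle, mul_zero]
      rw [← rey_of_fixed hG (show a ∈ fixedPts k H C from ha), hsum, map_sum]
      refine sum_mem fun q hq => ?_
      split_ifs with hle
      · rw [rey_mul_invariant hG (hcoef q hq)]
        refine mul_mem (ih _ (Nat.sub_lt hpos (hdeg q hq)) _ (rey_mem hG _) ?_)
          (Algebra.subset_adjoin (Or.inr (Finset.mem_coe.2 (Finset.mem_image_of_mem coef hq))))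
        exact rey_mem_of_isSubcomod hG (hV _) (coeff_mem (s q).2 _)
      · rw [map_zero]; exact zero_mem _
  have h1U : (1 : Submodule k C) ≤ U := by
    rw [Submodule.one_le]
    exact hgU (Set.mem_insert _ _)
  intro a ha
  have htop : a ∈ Algebra.adjoin A (g : Set C) := hg ▸ Algebra.mem_top
  suffices ∃ n, a ∈ base k A C * U ^ n by
    obtain ⟨n, hn⟩ := this
    exact key n a ha hn
  clear ha
  induction htop using Algebra.adjoin_induction with
  | mem x hx =>
    exact ⟨1, by rw [pow_one, ← one_mul x]; exact Submodule.mul_mem_mul ⟨1, by simp⟩ (hgU (Set.mem_insert_of_mem _ hx))⟩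
  | algebraMap c => exact ⟨0, by rw [pow_zero, mul_one]; exact ⟨c, by simp⟩⟩
  | add x y _ _ hx hy =>
    obtain ⟨i, hi⟩ := hx
    obtain ⟨j, hj⟩ := hy
    exact ⟨max i j, add_mem (mul_le_mul' le_rfl (pow_le_pow_right' h1U (le_max_left i j)) hi)
      (mul_le_mul' le_rfl (pow_le_pow_right' h1U (le_max_right i j)) hj)⟩
  | mul x y _ _ hx hy =>
    obtain ⟨i, hi⟩ := hx
    obtain ⟨j, hj⟩ := hy
    exact ⟨i + j, by rw [pow_add, ← base_mul_base, mul_mul_mul_comm]; exact Submodule.mul_mem_mul hi hj⟩

end Groth.Agent.Hopf35.RelInv
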