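import Groth.Agent.Hopf35.RetrLift
import Groth.Agent.Hopf35.TorusDom
import Groth.Agent.Hopf35.GmChar

/-!
helper35: algebraic retraction data from a retraction of an open subscheme through an open of affine
space.
-/

set_option autoImplicit false
set_option linter.style.haveILetI false

universe u

open CategoryTheory CategoryTheory.Limits MonoidalCategory CartesianMonoidalCategory MonObj GrpObj AlgebraicGeometry
open scoped TensorProduct

noncomputable section

namespace Groth.Agent.Hopf35.Retr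

open GMod80

variable {k : Type u} [Field k] {A : Type u} [CommRing A] [HopfAlgebra k A]
  {T : Over (Spec (CommRingCat.of k))} (ψ : sp k A ≅ T)

theorem sch_w : (sch ψ).hom ≫ T.hom = Spec.map (CommRingCat.ofHom (algebraMap k A)) := Over.w ψ.hom

theorem sch_inv_w : (sch ψ).inv ≫ Spec.map (CommRingCat.ofHom (algebraMap k A)) = T.hom := by
  rw [← sch_w ψ, Iso.inv_hom_id_assoc]

/-- the algebra map of a morphism from an affine scheme -/
theorem exists_algHom {R : Type u} [CommRing R] [Algebra k R] (m : Spec (CommRingCat.of R) ⟶ T.left)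
    (hm : m ≫ T.hom = Spec.map (CommRingCat.ofHom (algebraMap k R))) :
    ∃ t : A →ₐ[k] R, Spec.map (CommRingCat.ofHom t.toRingHom) ≫ (sch ψ).hom = m := by
  let φ := Spec.preimage (m ≫ (sch ψ).inv)
  have hφ : CommRingCat.ofHom (algebraMap k A) ≫ φ = CommRingCat.ofHom (algebraMap k R) := by
    apply Spec.map_injective
    rw [Spec.map_comp, Spec.map_preimage, Category.assoc, sch_inv_w, hm]
  refine ⟨{ φ.hom with commutes' := fun c => congr($(hφ).hom c) }, ?_⟩
  show Spec.map φ ≫ _ = m
  rw [Spec.map_preimage, Category.assoc, Iso.inv_hom_id, Category.comp_id]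

include ψ in
theorem exists_dat (U : T.left.Opens) (n : ℕ) (Y : (Spec (CommRingCat.of (MvPolynomial (Fin n) k))).Opens)
    (a : (U : Scheme.{u}) ⟶ (Y : Scheme.{u})) (b : (Y : Scheme.{u}) ⟶ (U : Scheme.{u}))
    (hne : (U : Set T.left).Nonempty) (hab : a ≫ b = 𝟙 (U : Scheme.{u}))
    (ha : a ≫ Y.ι ≫ Spec.map (CommRingCat.ofHom (algebraMap k (MvPolynomial (Fin n) k))) = U.ι ≫ T.hom)
    (hb : b ≫ U.ι ≫ T.hom = Y.ι ≫ Spec.map (CommRingCat.ofHom (algebraMap k (MvPolynomial (Fin n) k)))) :
    Nonempty (Dat k A) := by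
  obtain ⟨p, hp⟩ := hne
  let q : Spec (CommRingCat.of (MvPolynomial (Fin n) k)) := Y.ι (a ⟨p, hp⟩)
  obtain ⟨_, ⟨h, rfl⟩, hqh, hhY⟩ := PrimeSpectrum.isTopologicalBasis_basic_opens.exists_subset_of_mem_open
    (show q ∈ (Y : Set _) from (a ⟨p, hp⟩).2) Y.2
  let H : (Spec (CommRingCat.of (MvPolynomial (Fin n) k))).Opens := PrimeSpectrum.basicOpen h
  let W : T.left.Opens := U.ι ''ᵁ ((a ≫ Y.ι) ⁻¹ᵁ H)
  have hpW : p ∈ W := ⟨⟨p, hp⟩, hqh, rfl⟩
  have hWU : W ≤ U := fun x hx => by obtain ⟨y, -, rfl⟩ := hx; exact y.2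
  let p' : Spec (CommRingCat.of A) := (sch ψ).inv p
  have hp' : (sch ψ).hom p' = p := by rw [← Scheme.Hom.comp_apply, Iso.inv_hom_id]; rfl
  obtain ⟨_, ⟨g, rfl⟩, hpg, hgW⟩ := PrimeSpectrum.isTopologicalBasis_basic_opens.exists_subset_of_mem_open
    (show p' ∈ ((sch ψ).hom ⁻¹ᵁ W : Set _) by show (sch ψ).hom p' ∈ W; rw [hp']; exact hpW) ((sch ψ).hom ⁻¹ᵁ W).2
  have hg0 : g ≠ 0 := fun h0 => by
    rw [h0] at hpg
    exact hpg (zero_mem _)
  let jg : Spec (CommRingCat.of (Localization.Away g)) ⟶ Spec (CommRingCat.of A) :=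
    Spec.map (CommRingCat.ofHom (algebraMap A (Localization.Away g)))
  have hjg : ∀ x, (sch ψ).hom (jg x) ∈ W := fun x => hgW (by
    have hx : PrimeSpectrum.comap (algebraMap A (Localization.Away g)) x ∈
        Set.range (PrimeSpectrum.comap (algebraMap A (Localization.Away g))) := ⟨x, rfl⟩
    rw [PrimeSpectrum.localization_away_comap_range (Localization.Away g) g] at hx
    exact hx)
  have hgr : Set.range (jg ≫ (sch ψ).hom).base ⊆ Set.range U.ι.base := by
    rintro _ ⟨x, rfl⟩
    rw [Scheme.Opens.range_ι]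
    exact hWU (hjg x)
  let m := IsOpenImmersion.lift U.ι (jg ≫ (sch ψ).hom) hgr
  have hm : m ≫ U.ι = jg ≫ (sch ψ).hom := IsOpenImmersion.lift_fac _ _ hgr
  let φα := Spec.preimage (m ≫ a ≫ Y.ι)
  have hφα : CommRingCat.ofHom (algebraMap k (MvPolynomial (Fin n) k)) ≫ φα =
      CommRingCat.ofHom (algebraMap k (Localization.Away g)) := by
    apply Spec.map_injective
    rw [Spec.map_comp, Spec.map_preimage, Category.assoc, Category.assoc, ha, reassoc_of% hm, sch_w,
      ← Spec.map_comp, ← CommRingCat.ofHom_comp, ← IsScalarTower.algebraMap_eq]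
  let α : MvPolynomial (Fin n) k →ₐ[k] Localization.Away g :=
    { φα.hom with commutes' := fun c => congr($(hφα).hom c) }
  have hα : IsUnit (α h) := by
    by_contra hnu
    obtain ⟨M, hM, hle⟩ := exists_max_ideal_of_mem_nonunits hnu
    let x : Spec (CommRingCat.of (Localization.Away g)) := ⟨M, hM.isPrime⟩
    obtain ⟨y, hy, hye⟩ := hjg x
    have hmx : m x = y := U.ι.isOpenEmbedding.injective (by
      rw [← Scheme.Hom.comp_apply, hm, Scheme.Hom.comp_apply]; exact hye.symm)
    have hin : Spec.map φα x ∈ H := by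
      rw [Spec.map_preimage, Scheme.Hom.comp_apply, hmx]
      exact hy
    exact hin hle
  let jh : Spec (CommRingCat.of (Localization.Away h)) ⟶ Spec (CommRingCat.of (MvPolynomial (Fin n) k)) :=
    Spec.map (CommRingCat.ofHom (algebraMap (MvPolynomial (Fin n) k) (Localization.Away h)))
  have hhr : Set.range jh.base ⊆ Set.range Y.ι.base := by
    rintro _ ⟨x, rfl⟩
    rw [Scheme.Opens.range_ι]
    refine hhY ?_
    have hx : PrimeSpectrum.comap (algebraMap (MvPolynomial (Fin n) k) (Localization.Away h)) x ∈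
        Set.range (PrimeSpectrum.comap (algebraMap (MvPolynomial (Fin n) k) (Localization.Away h))) := ⟨x, rfl⟩
    rw [PrimeSpectrum.localization_away_comap_range (Localization.Away h) h] at hx
    exact hx
  let mb := IsOpenImmersion.lift Y.ι jh hhr
  have hmb : mb ≫ Y.ι = jh := IsOpenImmersion.lift_fac _ _ hhr
  obtain ⟨β, hβ⟩ := exists_algHom ψ (mb ≫ b ≫ U.ι) (by
    rw [Category.assoc, Category.assoc, hb, reassoc_of% hmb, ← Spec.map_comp, ← CommRingCat.ofHom_comp,
      ← IsScalarTower.algebraMap_eq])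
  refine ⟨⟨n, g, hg0, h, α, hα, β, fun x => ?_⟩⟩
  let lf := IsLocalization.Away.lift (S := Localization.Away h) h (g := α.toRingHom) hα
  have h1 : Spec.map (CommRingCat.ofHom lf) ≫ mb = m ≫ a := by
    rw [← cancel_mono Y.ι, Category.assoc, Category.assoc, hmb, ← Spec.map_comp, ← CommRingCat.ofHom_comp,
      IsLocalization.Away.lift_comp h hα]
    exact Spec.map_preimage _
  have h2 : Spec.map (CommRingCat.ofHom β.toRingHom ≫ CommRingCat.ofHom lf) = jg := by
    rw [← cancel_mono (sch ψ).hom, Spec.map_comp, Category.assoc, hβ, reassoc_of% h1, reassoc_of% hab, hm]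
  exact congr($(Spec.map_injective h2).hom x)

end Groth.Agent.Hopf35.Retr
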