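import Groth.Agent.Hopf35.GrpLikeIndex
import Mathlib.FieldTheory.Finite.Extension
import Mathlib.Combinatorics.Nullstellensatz
import Mathlib.Algebra.MvPolynomial.Funext
import Mathlib.RingTheory.HopfAlgebra.Convolution
import Mathlib.RingTheory.Localization.Away.Basic
import Mathlib.RingTheory.Localization.FractionRing
import Mathlib.LinearAlgebra.TensorProduct.Basis

/-!
helper35: points of a retract rational commutative group over the residue field of a local algebra
lift.
-/

set_option autoImplicit false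

universe u v w w'

open TensorProduct WithConv

noncomputable section

namespace Groth.Agent.Hopf35.Retr

variable {k : Type u} [Field k]

/-- rational retraction data -/
structure Dat (k : Type u) [Field k] (A : Type u) [CommRing A] [Algebra k A] where
  n : ℕ
  g : A
  g_ne : g ≠ 0
  h : MvPolynomial (Fin n) k
  α : MvPolynomial (Fin n) k →ₐ[k] Localization.Away g
  hα : IsUnit (α h)
  β : A →ₐ[k] Localization.Away h
  retr : ∀ a, IsLocalization.Away.lift h (g := α.toRingHom) hα (β a) = algebraMap A (Localization.Away g) a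

/-- evaluation -/
def evAt {n : ℕ} (h : MvPolynomial (Fin n) k) {C : Type v} [CommRing C] [Algebra k C] (z : Fin n → C)
    (hz : IsUnit (MvPolynomial.aeval z h)) : Localization.Away h →ₐ[k] C :=
  { IsLocalization.Away.lift h (g := (MvPolynomial.aeval z : MvPolynomial (Fin n) k →ₐ[k] C).toRingHom) hz with
    commutes' := fun c => by
      show IsLocalization.Away.lift h _ (algebraMap k (Localization.Away h) c) = _
      rw [IsScalarTower.algebraMap_apply k (MvPolynomial (Fin n) k) (Localization.Away h)]
      refine (IsLocalization.Away.lift_eq _ _ _).trans ?_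
      exact (MvPolynomial.aeval z).commutes c }

theorem evAt_algebraMap {n : ℕ} (h : MvPolynomial (Fin n) k) {C : Type v} [CommRing C] [Algebra k C]
    (z : Fin n → C) (hz : IsUnit (MvPolynomial.aeval z h)) (p : MvPolynomial (Fin n) k) :
    evAt h z hz (algebraMap _ _ p) = MvPolynomial.aeval z p :=
  IsLocalization.Away.lift_eq h hz p

theorem comp_evAt {n : ℕ} (h : MvPolynomial (Fin n) k) {C : Type v} [CommRing C] [Algebra k C]
    {D : Type w} [CommRing D] [Algebra k D] (f : C →ₐ[k] D) (z : Fin n → C)
    (hz : IsUnit (MvPolynomial.aeval z h)) (hfz : IsUnit (MvPolynomial.aeval (fun i => f (z i)) h)) :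
    f.comp (evAt h z hz) = evAt h (fun i => f (z i)) hfz := by
  refine IsLocalization.algHom_ext (Submonoid.powers h) (MvPolynomial.algHom_ext fun i => ?_)
  show f (evAt h z hz (algebraMap _ _ _)) = evAt h _ hfz (algebraMap _ _ _)
  rw [evAt_algebraMap, evAt_algebraMap, MvPolynomial.aeval_X, MvPolynomial.aeval_X]

variable {A : Type u} [CommRing A] [HopfAlgebra k A]

/-- post-composition of points -/
def post {C : Type v} [CommRing C] [Algebra k C] {D : Type w} [CommRing D] [Algebra k D]
    (f : C →ₐ[k] D) : WithConv (A →ₐ[k] C) →* WithConv (A →ₐ[k] D) where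
  toFun s := toConv (f.comp s.ofConv)
  map_one' := by
    apply WithConv.ofConv_injective
    ext a
    simp [AlgHom.convOne_def]
  map_mul' a b := by
    apply WithConv.ofConv_injective
    exact AlgHom.comp_convMul_distrib f a b

/-- the group of points -/
instance ptGroup {C : Type v} [CommRing C] [Algebra k C] : Group (WithConv (A →ₐ[k] C)) :=
  { (inferInstance : Monoid (WithConv (A →ₐ[k] C))) with
    inv := fun s => post s.ofConv (toConv (HopfAlgebra.antipodeAlgHom k A))
    inv_mul_cancel := fun s => by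
      show post s.ofConv (toConv (HopfAlgebra.antipodeAlgHom k A)) * post s.ofConv (toConv (AlgHom.id k A)) = 1
      rw [← map_mul, AlgHom.antipode_id_cancel, map_one] }

/-- the points of a cocommutative Hopf algebra commute -/
instance ptCommGroup [Coalgebra.IsCocomm k A] {C : Type v} [CommRing C] [Algebra k C] :
    CommGroup (WithConv (A →ₐ[k] C)) :=
  { ptGroup with mul_comm := fun a b => mul_comm (G := WithConv (A →ₐ[k] C)) a b }

theorem post_apply {C : Type v} [CommRing C] [Algebra k C] {D : Type w} [CommRing D] [Algebra k D]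
    (f : C →ₐ[k] D) (s : WithConv (A →ₐ[k] C)) (a : A) : (post f s).ofConv a = f (s.ofConv a) := rfl

theorem post_post {C : Type v} [CommRing C] [Algebra k C] {D : Type w} [CommRing D] [Algebra k D]
    {E : Type w'} [CommRing E] [Algebra k E] (f : C →ₐ[k] D) (f' : D →ₐ[k] E) (s : WithConv (A →ₐ[k] C)) :
    post f' (post f s) = post (f'.comp f) s := rfl

variable (D : Dat k A)

/-- A point at which `g` does not vanish lifts. -/
theorem lift_good {C : Type v} [CommRing C] [Algebra k C] {K : Type w} [Field K] [Algebra k K]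
    (ρ : C →ₐ[k] K) (hρ : Function.Surjective ρ) (hloc : ∀ x, IsUnit (ρ x) → IsUnit x)
    (t : A →ₐ[k] K) (z : Fin D.n → K) (hz : IsUnit (MvPolynomial.aeval z D.h))
    (ht : t = (evAt D.h z hz).comp D.β) : ∃ s : WithConv (A →ₐ[k] C), post ρ s = toConv t := by
  choose c hc using fun i => hρ (z i)
  have hcz : (fun i => ρ (c i)) = z := funext hc
  subst hcz
  have hcu : IsUnit (MvPolynomial.aeval c D.h) := hloc _ (by
    rw [← AlgHom.comp_apply, MvPolynomial.comp_aeval]; exact hz)
  refine ⟨toConv ((evAt D.h c hcu).comp D.β), congrArg toConv ?_⟩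
  rw [ofConv_toConv, ← AlgHom.comp_assoc, comp_evAt D.h ρ c hcu hz, ht]

/-- A point at which `g` does not vanish is the image of a point of the affine space. -/
theorem exists_z {K : Type w} [Field K] [Algebra k K] (t : A →ₐ[k] K) (hg : t D.g ≠ 0) :
    ∃ (z : Fin D.n → K) (hz : IsUnit (MvPolynomial.aeval z D.h)), t = (evAt D.h z hz).comp D.β := by
  let te : Localization.Away D.g →+* K :=
    IsLocalization.Away.lift D.g (g := t.toRingHom) (isUnit_iff_ne_zero.2 hg)
  have hte : ∀ a, te (algebraMap A _ a) = t a := fun a => IsLocalization.Away.lift_eq _ _ _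
  let te' : Localization.Away D.g →ₐ[k] K := { te with
    commutes' := fun c => by
      show te (algebraMap k (Localization.Away D.g) c) = _
      rw [IsScalarTower.algebraMap_apply k A (Localization.Away D.g), hte]
      exact t.commutes c }
  let z : Fin D.n → K := fun i => te' (D.α (MvPolynomial.X i))
  have hc : MvPolynomial.aeval z = te'.comp D.α := MvPolynomial.algHom_ext fun i => by simp [z]
  have hz : IsUnit (MvPolynomial.aeval z D.h) := by
    rw [hc]; exact D.hα.map te'
  refine ⟨z, hz, AlgHom.ext fun a => ?_⟩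
  have key : (evAt D.h z hz).toRingHom = te.comp (IsLocalization.Away.lift D.h (g := D.α.toRingHom) D.hα) := by
    refine IsLocalization.ringHom_ext (Submonoid.powers D.h) (RingHom.ext fun p => ?_)
    show evAt D.h z hz (algebraMap _ _ p) = te (IsLocalization.Away.lift D.h D.hα (algebraMap _ _ p))
    rw [evAt_algebraMap, IsLocalization.Away.lift_eq, hc]
    rfl
  show t a = (evAt D.h z hz).toRingHom (D.β a)
  rw [key, RingHom.comp_apply, D.retr, hte]

/-- If some point of the affine space translates `u` into the good locus then `u` lifts. -/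
theorem lift_of_exists {C : Type v} [CommRing C] [Algebra k C] {K : Type w} [Field K] [Algebra k K]
    (ρ : C →ₐ[k] K) (hρ : Function.Surjective ρ) (hloc : ∀ x, IsUnit (ρ x) → IsUnit x)
    (u : WithConv (A →ₐ[k] K)) (z : Fin D.n → K) (hz : IsUnit (MvPolynomial.aeval z D.h))
    (hg : (u * toConv ((evAt D.h z hz).comp D.β)).ofConv D.g ≠ 0) :
    ∃ s : WithConv (A →ₐ[k] C), post ρ s = u := by
  obtain ⟨s1, h1⟩ := lift_good D ρ hρ hloc _ z hz rfl
  obtain ⟨z', hz', h'⟩ := exists_z D _ hg
  obtain ⟨s2, h2⟩ := lift_good D ρ hρ hloc _ z' hz' h'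
  refine ⟨s2 * s1⁻¹, ?_⟩
  rw [map_mul, map_inv, h1, h2, toConv_ofConv, mul_inv_cancel_right]

/-- The polynomial whose non-vanishing gives a good translate. -/
theorem exists_poly {K : Type u} [Field K] [Algebra k K] [IsDomain (K ⊗[k] A)] (u : WithConv (A →ₐ[k] K)) :
    ∃ Q : MvPolynomial (Fin D.n) K, Q ≠ 0 ∧ ∀ (K' : Type u) [Field K'] [Algebra K K'] [Algebra k K']
      [IsScalarTower k K K'] (z : Fin D.n → K'), MvPolynomial.aeval z Q ≠ 0 →
      ∃ hz : IsUnit (MvPolynomial.aeval z D.h),
        (post (IsScalarTower.toAlgHom k K K') u * toConv ((evAt D.h z hz).comp D.β)).ofConv D.g ≠ 0 := by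
  let hK : MvPolynomial (Fin D.n) K := MvPolynomial.map (algebraMap k K) D.h
  let R := Localization.Away hK
  let X' : Fin D.n → R := fun i => algebraMap (MvPolynomial (Fin D.n) K) R (MvPolynomial.X i)
  have haev : ∀ (p : MvPolynomial (Fin D.n) k), MvPolynomial.aeval X' p =
      algebraMap (MvPolynomial (Fin D.n) K) R (MvPolynomial.map (algebraMap k K) p) := fun p => by
    induction p using MvPolynomial.induction_on with
    | C c =>
      rw [MvPolynomial.aeval_C, MvPolynomial.map_C, IsScalarTower.algebraMap_apply k K R,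
        IsScalarTower.algebraMap_apply K (MvPolynomial (Fin D.n) K) R]
      rfl
    | add p q hp hq => rw [map_add, map_add, map_add, hp, hq]
    | mul_X p i hp => rw [map_mul, map_mul, map_mul, hp, MvPolynomial.aeval_X, MvPolynomial.map_X]
  have hXu : IsUnit (MvPolynomial.aeval X' D.h) := by
    rw [haev]; exact IsLocalization.Away.algebraMap_isUnit hK
  let q : R := (post (IsScalarTower.toAlgHom k K R) u * toConv ((evAt D.h X' hXu).comp D.β)).ofConv D.g
  obtain ⟨j, num, hnum⟩ := IsLocalization.Away.surj hK q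
  -- specialisation
  have spec : ∀ (K' : Type u) [Field K'] [Algebra K K'] [Algebra k K'] [IsScalarTower k K K']
      (z : Fin D.n → K') (hz' : IsUnit (MvPolynomial.aeval z D.h)),
      (post (IsScalarTower.toAlgHom k K K') u * toConv ((evAt D.h z hz').comp D.β)).ofConv D.g *
        MvPolynomial.aeval z hK ^ j = MvPolynomial.aeval z num := fun K' _ _ _ _ z hz' => by
    have hzK : IsUnit (MvPolynomial.aeval z hK) := by rwa [MvPolynomial.aeval_map_algebraMap]
    let e : R →ₐ[k] K' := (evAt hK z hzK).restrictScalars k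
    have hz'' : IsUnit (MvPolynomial.aeval (fun i => e (X' i)) D.h) := by
      rw [← MvPolynomial.comp_aeval]; exact hXu.map e
    have hze : (fun i => e (X' i)) = z := funext fun i =>
      (evAt_algebraMap hK z hzK _).trans (MvPolynomial.aeval_X _ _)
    have h1 : e q = (post (IsScalarTower.toAlgHom k K K') u * toConv ((evAt D.h z hz').comp D.β)).ofConv D.g := by
      show (post e (post (IsScalarTower.toAlgHom k K R) u * toConv ((evAt D.h X' hXu).comp D.β))).ofConv D.g = _
      rw [map_mul, post_post, show post e (toConv ((evAt D.h X' hXu).comp D.β)) =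
        toConv ((e.comp (evAt D.h X' hXu)).comp D.β) from rfl, comp_evAt D.h e X' hXu hz'']
      have e1 : e.comp (IsScalarTower.toAlgHom k K R) = IsScalarTower.toAlgHom k K K' :=
        AlgHom.ext fun c => (evAt hK z hzK).commutes c
      rw [e1]
      have e3 : ∀ z1 (h1 : IsUnit (MvPolynomial.aeval z1 D.h)), z1 = z → evAt D.h z1 h1 = evAt D.h z hz' := by
        rintro _ _ rfl; rfl
      rw [e3 _ _ hze]
    have h2 := congrArg e hnum
    rw [map_mul, map_pow, h1] at h2
    rwa [show e (algebraMap _ R hK) = MvPolynomial.aeval z hK from evAt_algebraMap hK z hzK _,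
      show e (algebraMap _ R num) = MvPolynomial.aeval z num from evAt_algebraMap hK z hzK _] at h2
  refine ⟨hK * num, ?_, fun K' _ _ _ _ z hQ => ?_⟩
  · intro h0
    -- the generic point
    let F := FractionRing (K ⊗[k] A)
    let ι : A →ₐ[k] K ⊗[k] A := Algebra.TensorProduct.includeRight
    let iK : K →ₐ[k] K ⊗[k] A := IsScalarTower.toAlgHom k K (K ⊗[k] A)
    let t : WithConv (A →ₐ[k] F) := post (IsScalarTower.toAlgHom k (K ⊗[k] A) F) (toConv ι)
    let M : WithConv (A →ₐ[k] K) → (K ⊗[k] A →ₐ[K] K ⊗[k] A) := fun w =>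
      Algebra.TensorProduct.lift (Algebra.ofId K (K ⊗[k] A)) (post iK w * toConv ι).ofConv fun _ _ => Commute.all _ _
    have hM : ∀ w a, M w (ι a) = (post iK w * toConv ι).ofConv a := fun w a => by
      simp [M, ι, ← Algebra.TensorProduct.one_def]
    have hinv : ∀ a, M u⁻¹ (M u (ι a)) = ι a := fun a => by
      rw [hM]
      show (post ((M u⁻¹).restrictScalars k) (post iK u * toConv ι)).ofConv a = _
      have e1 : ((M u⁻¹).restrictScalars k).comp iK = iK := AlgHom.ext fun c => (M u⁻¹).commutes c
      have e2 : post ((M u⁻¹).restrictScalars k) (toConv ι) = post iK u⁻¹ * toConv ι :=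
        WithConv.ofConv_injective (AlgHom.ext (hM u⁻¹))
      rw [map_mul, post_post, e1, e2, ← mul_assoc, ← map_mul, mul_inv_cancel, map_one, _root_.one_mul]
    have hg1 : ι D.g ≠ 0 := fun h => D.g_ne (Algebra.TensorProduct.includeRight_injective
      (algebraMap k K).injective (h.trans (map_zero ι).symm))
    have hg2 : (post iK u * toConv ι).ofConv D.g ≠ 0 := fun h => hg1 (by
      rw [← hinv D.g, hM, h, map_zero])
    have hinj := IsFractionRing.injective (K ⊗[k] A) F
    obtain ⟨z, hz, ht⟩ := exists_z D t.ofConv ((map_ne_zero_iff _ hinj).2 hg1)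
    have hs := spec F z hz
    have hgood : (post (IsScalarTower.toAlgHom k K F) u * toConv ((evAt D.h z hz).comp D.β)).ofConv D.g ≠ 0 := by
      rw [← ht, toConv_ofConv]
      have e1 : (IsScalarTower.toAlgHom k (K ⊗[k] A) F).comp iK = IsScalarTower.toAlgHom k K F :=
        AlgHom.ext fun c => (IsScalarTower.algebraMap_apply K (K ⊗[k] A) F c).symm
      rw [← e1, ← post_post, ← map_mul]
      exact (map_ne_zero_iff _ hinj).2 hg2
    have hzK : MvPolynomial.aeval z hK ≠ 0 := by
      rw [MvPolynomial.aeval_map_algebraMap]; exact hz.ne_zero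
    have hn : MvPolynomial.aeval z num ≠ 0 := by
      rw [← hs]; exact mul_ne_zero hgood (pow_ne_zero _ hzK)
    apply mul_ne_zero hzK hn
    rw [← map_mul, h0, map_zero]
  · rw [map_mul] at hQ
    have hzu : IsUnit (MvPolynomial.aeval z D.h) := by
      have := left_ne_zero_of_mul hQ
      rw [MvPolynomial.aeval_map_algebraMap] at this
      exact this.isUnit
    refine ⟨hzu, fun h0 => right_ne_zero_of_mul hQ ?_⟩
    rw [← spec K' z hzu, h0, zero_mul]

theorem isUnit_of_isUnit_norm {R : Type*} [CommRing R] {S : Type*} [CommRing S] [Algebra R S]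
    [Module.Finite R S] [Module.Free R S] {z : S} (hz : IsUnit (Algebra.norm R z)) : IsUnit z := by
  have hu : IsUnit (Algebra.lmul R S z) := (LinearMap.isUnit_iff_isUnit_det _).2 hz
  obtain ⟨w, hw⟩ := ((Module.End.isUnit_iff _).1 hu).2 1
  exact IsUnit.of_mul_eq_one w hw

theorem finrank_dvd_of_algHom {E : Type v} [Field E] [Algebra k E] {F : Type w} [Field F] [Algebra k F]
    (f : F →ₐ[k] E) : Module.finrank k F ∣ Module.finrank k E := by
  letI : Algebra F E := f.toRingHom.toAlgebra
  haveI : IsScalarTower k F E := IsScalarTower.of_algebraMap_eq fun c => (f.commutes c).symm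
  exact ⟨Module.finrank F E, (Module.finrank_mul_finrank k F E).symm⟩

/-- In a tensor product of finite field extensions of coprime degrees every non-zero element is
invertible. -/
theorem isField_tensor {K : Type u} [Field K] [Algebra k K] [Module.Finite k K] {L : Type w} [Field L]
    [Algebra k L] [Module.Finite k L] (hcop : Nat.Coprime (Module.finrank k K) (Module.finrank k L)) :
    IsField (K ⊗[k] L) := by
  haveI : Nontrivial (K ⊗[k] L) := TensorProduct.nontrivial_of_linearMap_injective_of_flat_left k K L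
    (Algebra.linearMap k L) (algebraMap k L).injective
  obtain ⟨M, hM⟩ := Ideal.exists_maximal (K ⊗[k] L)
  letI := Ideal.Quotient.field M
  let π : K ⊗[k] L →ₐ[k] (K ⊗[k] L) ⧸ M := Ideal.Quotient.mkₐ k M
  have h1 := hcop.mul_dvd_of_dvd_of_dvd
    (finrank_dvd_of_algHom (π.comp Algebra.TensorProduct.includeLeft))
    (finrank_dvd_of_algHom (π.comp Algebra.TensorProduct.includeRight))
  have hsurj : Function.Surjective π.toLinearMap := Ideal.Quotient.mk_surjective
  have h2 : Module.finrank k ((K ⊗[k] L) ⧸ M) = Module.finrank k (K ⊗[k] L) := by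
    refine le_antisymm (LinearMap.finrank_le_finrank_of_surjective hsurj) ?_
    rw [Module.finrank_tensorProduct]
    exact Nat.le_of_dvd Module.finrank_pos h1
  have hb : Function.Bijective π :=
    ⟨(LinearMap.injective_iff_surjective_of_finrank_eq_finrank h2.symm).2 hsurj, hsurj⟩
  exact MulEquiv.isField (Field.toIsField ((K ⊗[k] L) ⧸ M)) (RingEquiv.ofBijective π hb).toMulEquiv

/-- Elements fixed by the Galois group of a tensor factor. -/
theorem mem_range_of_fixed {C : Type v} [CommRing C] [Algebra k C] {L : Type w} [Field L] [Algebra k L]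
    [FiniteDimensional k L] [IsGalois k L] (x : C ⊗[k] L)
    (hx : ∀ σ : L ≃ₐ[k] L, Algebra.TensorProduct.map (AlgHom.id k C) (σ : L →ₐ[k] L) x = x) :
    x ∈ (Algebra.TensorProduct.includeLeft : C →ₐ[k] C ⊗[k] L).range := by
  classical
  let b := Module.Free.chooseBasis k C
  let e := TensorProduct.equivFinsuppOfBasisLeft b (N := L)
  have he : ∀ (σ : L ≃ₐ[k] L) (y : C ⊗[k] L) i,
      e (Algebra.TensorProduct.map (AlgHom.id k C) (σ : L →ₐ[k] L) y) i = σ (e y i) := fun σ y i => by
    induction y with
    | zero => simp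
    | add p q hp hq => simp only [map_add, Finsupp.add_apply, hp, hq]
    | tmul c l => simp [e, TensorProduct.equivFinsuppOfBasisLeft_apply_tmul_apply]
  have hfix : ∀ i, e x i ∈ Set.range (algebraMap k L) := fun i => by
    refine (IsGalois.mem_range_algebraMap_iff_fixed _).2 fun σ => ?_
    rw [← he, hx]
  choose c hc using hfix
  have hx' : x = ∑ i ∈ (e x).support, b i ⊗ₜ[k] e x i := by
    conv_lhs => rw [← e.symm_apply_apply x]
    exact TensorProduct.equivFinsuppOfBasisLeft_symm_apply b _
  rw [hx']
  refine Subalgebra.sum_mem _ fun i _ => ⟨c i • b i, ?_⟩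
  rw [← hc i]
  simp [Algebra.algebraMap_eq_smul_one, TensorProduct.smul_tmul]

variable [Coalgebra.IsCocomm k A] (hdom : ∀ (K : Type u) [Field K] [Algebra k K], IsDomain (K ⊗[k] A))

include D hdom in
/-- Lifting of the `l`-th power of a point, for suitable degrees `l`. -/
theorem exists_lift_pow {C : Type u} [CommRing C] [Algebra k C] {K : Type u} [Field K] [Algebra k K]
    [Finite K] (ρ : C →ₐ[k] K) (hρ : Function.Surjective ρ) (hloc : ∀ x, IsUnit (ρ x) → IsUnit x)
    (u : WithConv (A →ₐ[k] K)) :
    ∃ N : ℕ, ∀ l : ℕ, N ≤ l → Nat.Coprime (Module.finrank k K) l →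
      ∃ s : WithConv (A →ₐ[k] C), post ρ s = u ^ l := by
  classical
  haveI : IsDomain (K ⊗[k] A) := hdom K
  obtain ⟨Q, hQ0, hQ⟩ := exists_poly D u
  refine ⟨(Finset.univ.sup fun i => Q.degreeOf i) + 1, fun l hl hcop => ?_⟩
  haveI : Finite k := Finite.of_injective _ (algebraMap k K).injective
  haveI : Module.Finite k K := Module.Finite.of_finite
  haveI : NeZero l := ⟨by omega⟩
  let p := ringChar k
  haveI : CharP k p := ringChar.charP k
  haveI : Fact p.Prime := ⟨CharP.char_is_prime k p⟩
  let L := FiniteField.Extension k p l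
  have hLr : Module.finrank k L = l := FiniteField.finrank_extension k p l
  have hfld : IsField (K ⊗[k] L) := isField_tensor (by rw [hLr]; exact hcop)
  letI : Field (K ⊗[k] L) := hfld.toField
  let ρ' : C ⊗[k] L →ₐ[k] K ⊗[k] L := Algebra.TensorProduct.map ρ (AlgHom.id k L)
  have hρ' : Function.Surjective ρ' := TensorProduct.map_surjective hρ Function.surjective_id
  have hloc' : ∀ x, IsUnit (ρ' x) → IsUnit x := fun x hx => by
    refine isUnit_of_isUnit_norm (R := C) (hloc _ ?_)
    rw [GL.map_norm]
    exact hx.map (Algebra.norm K)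
  let uL : WithConv (A →ₐ[k] K ⊗[k] L) := post (IsScalarTower.toAlgHom k K (K ⊗[k] L)) u
  obtain ⟨z, hz⟩ : ∃ z : Fin D.n → K ⊗[k] L, MvPolynomial.aeval z Q ≠ 0 := by
    by_contra hcon
    push Not at hcon
    haveI : Finite (K ⊗[k] L) := Module.finite_of_finite k
    haveI := Fintype.ofFinite (K ⊗[k] L)
    have hinj := (algebraMap K (K ⊗[k] L)).injective
    refine hQ0 (MvPolynomial.map_injective _ hinj ?_)
    rw [map_zero]
    refine MvPolynomial.eq_zero_of_eval_zero_at_prod_finset _ (fun _ => Finset.univ) (fun i => ?_) fun x _ => ?_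
    · refine lt_of_le_of_lt (by
        rw [MvPolynomial.degreeOf_eq_sup, MvPolynomial.degreeOf_eq_sup]
        exact Finset.sup_mono (MvPolynomial.support_map_subset _ _) : _ ≤ Q.degreeOf i) ?_
      have h1 : Q.degreeOf i ≤ Finset.univ.sup fun i => Q.degreeOf i :=
        Finset.le_sup (f := fun i => Q.degreeOf i) (Finset.mem_univ i)
      have h2 : l < Fintype.card (K ⊗[k] L) := by
        rw [← Nat.card_eq_fintype_card, Module.natCard_eq_pow_finrank (K := k), Module.finrank_tensorProduct, hLr]
        calc l < 2 ^ l := Nat.lt_two_pow_self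
          _ ≤ Nat.card k ^ l := Nat.pow_le_pow_left Finite.one_lt_card l
          _ ≤ Nat.card k ^ (Module.finrank k K * l) :=
            Nat.pow_le_pow_right (Nat.card_pos) (Nat.le_mul_of_pos_left _ Module.finrank_pos)
      rw [Finset.card_univ]
      omega
    · rw [MvPolynomial.eval_map, ← MvPolynomial.aeval_def]
      exact hcon x
  obtain ⟨hzu, hg⟩ := hQ (K ⊗[k] L) z hz
  obtain ⟨s, hs⟩ := lift_of_exists D ρ' hρ' hloc' uL z hzu hg
  let σC : (L ≃ₐ[k] L) → (C ⊗[k] L →ₐ[k] C ⊗[k] L) := fun σ =>
    Algebra.TensorProduct.map (AlgHom.id k C) (σ : L →ₐ[k] L)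
  let N : WithConv (A →ₐ[k] C ⊗[k] L) := ∏ σ : L ≃ₐ[k] L, post (σC σ) s
  have hfix : ∀ τ, post (σC τ) N = N := fun τ => by
    rw [map_prod]
    refine Fintype.prod_equiv (Equiv.mulLeft τ) _ _ fun σ => ?_
    rw [post_post]
    congr 1
    congr 1
    exact (Algebra.TensorProduct.map_comp (AlgHom.id k C) (AlgHom.id k C) (τ : L →ₐ[k] L) (σ : L →ₐ[k] L)).symm
  have hres : post ρ' N = uL ^ l := by
    rw [map_prod, Finset.prod_congr rfl (g := fun _ => uL) fun σ _ => ?_]
    · rw [Finset.prod_const, Finset.card_univ, ← Nat.card_eq_fintype_card,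
        FiniteField.natCard_algEquiv_extension]
    · have e1 : ρ'.comp (σC σ) =
          (Algebra.TensorProduct.map (AlgHom.id k K) (σ : L →ₐ[k] L)).comp ρ' :=
        Algebra.TensorProduct.ext' fun c x => rfl
      rw [post_post, e1, ← post_post, hs, post_post]
      congr 1
      congr 1
      ext c
      exact congrArg (fun q => (c ⊗ₜ[k] q : K ⊗[k] L)) (map_one σ)
  have hmem : ∀ a, N.ofConv a ∈ (Algebra.TensorProduct.includeLeft : C →ₐ[k] C ⊗[k] L).range := fun a =>
    mem_range_of_fixed _ fun σ => congrArg (fun q : WithConv (A →ₐ[k] C ⊗[k] L) => q.ofConv a) (hfix σ)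
  let iC : C →ₐ[k] C ⊗[k] L := Algebra.TensorProduct.includeLeft
  have hiC : Function.Injective iC :=
    Algebra.TensorProduct.includeLeft_injective (algebraMap k L).injective
  let s0 : A →ₐ[k] C := (AlgEquiv.ofInjective iC hiC).symm.toAlgHom.comp (N.ofConv.codRestrict iC.range hmem)
  have hs0 : ∀ a, iC (s0 a) = N.ofConv a := fun a =>
    congrArg Subtype.val ((AlgEquiv.ofInjective iC hiC).apply_symm_apply ⟨N.ofConv a, hmem a⟩)
  refine ⟨toConv s0, ?_⟩
  have hKinj : Function.Injective (IsScalarTower.toAlgHom k K (K ⊗[k] L)) :=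
    (algebraMap K (K ⊗[k] L)).injective
  refine WithConv.ofConv_injective (AlgHom.ext fun a => hKinj ?_)
  have h1 : (post (IsScalarTower.toAlgHom k K (K ⊗[k] L)) (post ρ (toConv s0))) = uL ^ l := by
    rw [← hres]
    refine WithConv.ofConv_injective (AlgHom.ext fun a => ?_)
    show algebraMap K (K ⊗[k] L) (ρ (s0 a)) = ρ' (N.ofConv a)
    rw [← hs0]
    rfl
  rw [show uL ^ l = post (IsScalarTower.toAlgHom k K (K ⊗[k] L)) (u ^ l) from (map_pow _ _ _).symm] at h1
  exact congrArg (fun q : WithConv (A →ₐ[k] K ⊗[k] L) => q.ofConv a) h1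

include D hdom in
/-- Points over the residue field lift. -/
theorem lift {C : Type u} [CommRing C] [Algebra k C] {K : Type u} [Field K] [Algebra k K]
    (ρ : C →ₐ[k] K) (hρ : Function.Surjective ρ) (hloc : ∀ x, IsUnit (ρ x) → IsUnit x)
    (u : WithConv (A →ₐ[k] K)) : ∃ s : WithConv (A →ₐ[k] C), post ρ s = u := by
  haveI : IsDomain (K ⊗[k] A) := hdom K
  rcases finite_or_infinite K with hfin | hinf
  · obtain ⟨N, hN⟩ := exists_lift_pow D hdom ρ hρ hloc u
    haveI : Finite k := Finite.of_injective _ (algebraMap k K).injective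
    haveI : Module.Finite k K := Module.Finite.of_finite
    obtain ⟨l, hl, hlp⟩ := Nat.exists_infinite_primes (N + Module.finrank k K + 1)
    obtain ⟨m, hm, hmp⟩ := Nat.exists_infinite_primes (l + 1)
    have hpos : 0 < Module.finrank k K := Module.finrank_pos
    have hcl : Nat.Coprime (Module.finrank k K) l :=
      ((hlp.coprime_iff_not_dvd).2 fun hd => by have := Nat.le_of_dvd hpos hd; omega).symm
    have hcm : Nat.Coprime (Module.finrank k K) m :=
      ((hmp.coprime_iff_not_dvd).2 fun hd => by have := Nat.le_of_dvd hpos hd; omega).symm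
    obtain ⟨s1, h1⟩ := hN l (by omega) hcl
    obtain ⟨s2, h2⟩ := hN m (by omega) hcm
    have hlm : Nat.Coprime l m := (Nat.coprime_primes hlp hmp).2 (by omega)
    refine ⟨s1 ^ (Nat.gcdA l m) * s2 ^ (Nat.gcdB l m), ?_⟩
    rw [map_mul, map_zpow, map_zpow, h1, h2, ← zpow_natCast u l, ← zpow_natCast u m, ← zpow_mul,
      ← zpow_mul, ← zpow_add, ← Nat.gcd_eq_gcd_ab, hlm.gcd_eq_one, Nat.cast_one, zpow_one]
  · obtain ⟨Q, hQ0, hQ⟩ := exists_poly D u
    obtain ⟨z, hz⟩ : ∃ z : Fin D.n → K, MvPolynomial.eval z Q ≠ 0 := by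
      by_contra hcon
      push Not at hcon
      exact hQ0 (MvPolynomial.funext fun x => by rw [hcon x, map_zero])
    obtain ⟨hzu, hg⟩ := hQ K z hz
    exact lift_of_exists D ρ hρ hloc u z hzu hg

end Groth.Agent.Hopf35.Retr
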