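import Mathlib

/-!
A smooth algebra graded by a fine sharp monoid is a symmetric algebra over its degree-zero part.
-/

universe u w

open DirectSum
open scoped Pointwise

namespace Groth.Agent.Hopf35.SharpGraded

section Monoid

variable {N : Type w} [AddCommMonoid N]

/-- strict divisibility -/
def Prec (m n : N) : Prop := ∃ c, c ≠ 0 ∧ n = m + c

theorem eq_zero_of_add [IsCancelAdd N] (hsharp : ∀ n : N, IsAddUnit n → n = 0) {a b : N}
    (h : a + b = 0) : a = 0 ∧ b = 0 :=
  ⟨hsharp a (IsAddUnit.of_add_eq_zero b h), hsharp b (IsAddUnit.of_add_eq_zero a (by rwa [add_comm]))⟩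

theorem prec_trans [IsCancelAdd N] (hsharp : ∀ n : N, IsAddUnit n → n = 0) {a b c : N}
    (h : Prec a b) (h' : Prec b c) : Prec a c := by
  obtain ⟨x, hx, rfl⟩ := h
  obtain ⟨y, hy, rfl⟩ := h'
  exact ⟨x + y, fun h => hx (eq_zero_of_add hsharp h).1, add_assoc _ _ _⟩

theorem prec_wf [AddMonoid.FG N] [IsCancelAdd N] (hsharp : ∀ n : N, IsAddUnit n → n = 0) :
    WellFounded (Prec (N := N)) := by
  obtain ⟨s, hs⟩ := (AddMonoid.FG.fg_top : (⊤ : AddSubmonoid N).FG)
  have hsurj : ∀ n : N, ∃ v : s → ℕ, ∑ i, v i • (i : N) = n := by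
    intro n
    have hn : n ∈ AddSubmonoid.closure (s : Set N) := hs ▸ trivial
    induction hn using AddSubmonoid.closure_induction with
    | mem x hx =>
      classical
      refine ⟨Pi.single ⟨x, hx⟩ 1, ?_⟩
      rw [Finset.sum_eq_single (⟨x, hx⟩ : s)] <;> simp +contextual
    | zero => exact ⟨0, by simp⟩
    | add a b _ _ ha hb =>
      obtain ⟨v, rfl⟩ := ha
      obtain ⟨v', rfl⟩ := hb
      exact ⟨v + v', by simp [add_smul, Finset.sum_add_distrib]⟩
  choose v hv using hsurj
  haveI : Std.Irrefl (Prec (N := N)) := ⟨fun a ⟨c, hc, h⟩ => hc (add_left_cancel (h.symm.trans (add_zero a).symm))⟩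
  haveI : IsTrans N (Prec (N := N)) := ⟨fun _ _ _ => prec_trans hsharp⟩
  haveI : IsStrictOrder N (Prec (N := N)) := {}
  rw [RelEmbedding.wellFounded_iff_isEmpty]
  refine ⟨fun f => ?_⟩
  obtain ⟨i, j, hij, hle⟩ := wellQuasiOrdered_le (fun n => v (f n))
  obtain ⟨c, hc, hfc⟩ := f.map_rel_iff.mpr (show j > i from hij)
  have h1 : f i + ∑ k, (v (f j) k - v (f i) k) • (k : N) = f j := by
    conv_lhs => arg 1; rw [← hv (f i)]
    rw [← Finset.sum_add_distrib, ← hv (f j)]
    refine Finset.sum_congr rfl fun k _ => ?_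
    rw [hv, ← add_smul, Nat.add_sub_cancel' (hle k)]
  rw [hfc, add_assoc] at h1
  exact hc (eq_zero_of_add hsharp (add_left_cancel (h1.trans (add_zero _).symm))).1

end Monoid

variable {R : Type u} [CommRing R] {S : Type u} [CommRing S] {A : Type u} [CommRing A]
  [Algebra R A] [Algebra R S] [Algebra S A] [IsScalarTower R S A]
  {N : Type w} [AddCommMonoid N] [DecidableEq N] (𝒜 : N → Submodule R A) [GradedAlgebra 𝒜]

theorem proj_of_mem {i : N} {a : A} (ha : a ∈ 𝒜 i) (n : N) :
    GradedRing.proj 𝒜 n a = if i = n then a else 0 := by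
  rw [GradedRing.proj_apply, DirectSum.decompose_of_mem 𝒜 ha, DirectSum.coe_of_apply]
  split_ifs <;> simp

theorem proj_mul_right [IsCancelAdd N] {j : N} {b : A} (hb : b ∈ 𝒜 j) (m : N) (a : A) :
    GradedRing.proj 𝒜 (m + j) (a * b) = GradedRing.proj 𝒜 m a * b := by
  induction a using DirectSum.Decomposition.inductionOn 𝒜 with
  | zero => simp
  | homogeneous c =>
    rw [proj_of_mem 𝒜 (SetLike.mul_mem_graded c.2 hb), proj_of_mem 𝒜 c.2]
    simp only [add_left_inj]
    split_ifs <;> simp
  | add x y hx hy => simp [add_mul, map_add, hx, hy]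

theorem proj_mul_right_eq_zero {j : N} {b : A} (hb : b ∈ 𝒜 j) {n : N} (h : ∀ m, m + j ≠ n)
    (a : A) : GradedRing.proj 𝒜 n (a * b) = 0 := by
  induction a using DirectSum.Decomposition.inductionOn 𝒜 with
  | zero => simp
  | homogeneous c => rw [proj_of_mem 𝒜 (SetLike.mul_mem_graded c.2 hb), if_neg (h _)]
  | add x y hx hy => simp [add_mul, map_add, hx, hy]

theorem sum_proj (a : A) : ∃ D : Finset N, ∑ n ∈ D, GradedRing.proj 𝒜 n a = a := by
  classical
  exact ⟨(DirectSum.decompose 𝒜 a).support, by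
    simp only [GradedRing.proj_apply]; exact DirectSum.sum_support_decompose 𝒜 a⟩

variable [IsCancelAdd N] (hsharp : ∀ n : N, IsAddUnit n → n = 0)
  (hinj : Function.Injective (algebraMap S A)) (hrange : ∀ a : A, a ∈ 𝒜 0 ↔ a ∈ Set.range (algebraMap S A))
include hsharp hinj hrange

omit hinj hsharp in
theorem proj_smul (n : N) (c : S) (a : A) :
    GradedRing.proj 𝒜 n (c • a) = c • GradedRing.proj 𝒜 n a := by
  rw [Algebra.smul_def, Algebra.smul_def, mul_comm, mul_comm (algebraMap S A c)]
  conv_lhs => rw [← add_zero n]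
  exact proj_mul_right 𝒜 ((hrange _).mpr ⟨c, rfl⟩) n a

omit hinj hrange in
theorem proj_zero_mul (a b : A) :
    GradedRing.proj 𝒜 0 (a * b) = GradedRing.proj 𝒜 0 a * GradedRing.proj 𝒜 0 b := by
  induction b using DirectSum.Decomposition.inductionOn 𝒜 with
  | zero => simp
  | homogeneous c =>
    rename_i i
    by_cases hi : i = 0
    · subst hi
      rw [show GradedRing.proj 𝒜 0 (c : A) = c by rw [proj_of_mem 𝒜 c.2, if_pos rfl]]
      simpa using proj_mul_right 𝒜 c.2 0 a
    · rw [proj_mul_right_eq_zero 𝒜 c.2 (fun m h => hi (eq_zero_of_add hsharp h).2),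
        proj_of_mem 𝒜 c.2, if_neg hi, mul_zero]
  | add x y hx hy => simp [mul_add, map_add, hx, hy]

/-- the augmentation onto the degree-zero part -/
theorem exists_aug : ∃ π : A →ₐ[S] S, ∀ a, algebraMap S A (π a) = GradedRing.proj 𝒜 0 a := by
  have h : ∀ a, ∃ c : S, algebraMap S A c = GradedRing.proj 𝒜 0 a := fun a =>
    (hrange _).mp (by rw [GradedRing.proj_apply]; exact ((DirectSum.decompose 𝒜 a) 0).2)
  choose p hp using h
  refine ⟨{ toFun := p, map_one' := ?_, map_mul' := ?_, map_zero' := ?_, map_add' := ?_,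
            commutes' := ?_ }, hp⟩
  · exact hinj (by rw [map_one (algebraMap S A), hp, proj_of_mem 𝒜 (SetLike.one_mem_graded 𝒜), if_pos rfl])
  · intro a b; exact hinj (by rw [map_mul (algebraMap S A), hp, hp, hp, proj_zero_mul 𝒜 hsharp])
  · exact hinj (by rw [hp, map_zero, map_zero])
  · intro a b; exact hinj (by rw [map_add (algebraMap S A), hp, hp, hp, map_add])
  · intro c
    exact hinj (by rw [hp, proj_of_mem 𝒜 ((hrange _).mpr ⟨c, rfl⟩), if_pos rfl]; rfl)

end Groth.Agent.Hopf35.SharpGraded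

namespace Groth.Agent.Hopf35.SharpGraded

/-! ### Facts about a section of an augmentation -/

section Aug

open MvPolynomial

variable {R : Type u} [CommRing R] {S : Type u} [CommRing S] {A : Type u} [CommRing A]
  [Algebra R A] [Algebra R S] [Algebra S A] [IsScalarTower R S A] (π : A →ₐ[S] S)

theorem sub_aug_mem (a : A) : a - algebraMap S A (π a) ∈ RingHom.ker π := by
  rw [RingHom.mem_ker, map_sub, π.commutes, Algebra.algebraMap_self, RingHom.id_apply, sub_self]

/-- the class of `a - π a` in the conormal module -/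
noncomputable def dclass : A →ₗ[S] (RingHom.ker π).Cotangent where
  toFun a := (RingHom.ker π).toCotangent ⟨a - algebraMap S A (π a), sub_aug_mem π a⟩
  map_add' a b := by
    rw [← map_add]
    refine congrArg _ (Subtype.ext ?_)
    show (a + b) - algebraMap S A (π (a + b)) = (a - algebraMap S A (π a)) + (b - algebraMap S A (π b))
    simp only [map_add]; ring
  map_smul' c a := by
    rw [RingHom.id_apply, ← IsScalarTower.algebraMap_smul A c ((RingHom.ker π).toCotangent _), ← map_smul]
    refine congrArg _ (Subtype.ext ?_)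
    show (c • a) - algebraMap S A (π (c • a)) = algebraMap S A c * (a - algebraMap S A (π a))
    simp only [map_smul, smul_eq_mul, map_mul, Algebra.smul_def, Algebra.algebraMap_self,
      RingHom.id_apply, π.commutes]; ring

theorem dclass_of_mem {a : A} (ha : a ∈ RingHom.ker π) :
    dclass π a = (RingHom.ker π).toCotangent ⟨a, ha⟩ := by
  refine congrArg _ (Subtype.ext ?_)
  show a - _ = a
  rw [RingHom.mem_ker.mp ha, map_zero, sub_zero]

theorem dclass_algebraMap (c : S) : dclass π (algebraMap S A c) = 0 := by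
  show (RingHom.ker π).toCotangent _ = 0
  rw [Ideal.toCotangent_eq_zero]
  show algebraMap S A c - algebraMap S A (π (algebraMap S A c)) ∈ _
  rw [π.commutes, Algebra.algebraMap_self, RingHom.id_apply, sub_self]
  exact zero_mem _

theorem dclass_eq_zero {a : A} (ha : a ∈ RingHom.ker π) :
    dclass π a = 0 ↔ a ∈ RingHom.ker π ^ 2 := by
  rw [dclass_of_mem π ha, Ideal.toCotangent_eq_zero]

theorem dclass_mul (a b : A) : dclass π (a * b) = π a • dclass π b + π b • dclass π a := by
  rw [← map_smul, ← map_smul, ← map_add]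
  refine (Ideal.toCotangent_eq _).mpr ?_
  show a * b - algebraMap S A (π (a * b)) -
    (π a • b + π b • a - algebraMap S A (π (π a • b + π b • a))) ∈ _
  rw [show a * b - algebraMap S A (π (a * b)) -
      (π a • b + π b • a - algebraMap S A (π (π a • b + π b • a))) =
      (a - algebraMap S A (π a)) * (b - algebraMap S A (π b)) by
    simp only [map_mul, map_add, map_smul, smul_eq_mul, Algebra.smul_def, π.commutes, Algebra.algebraMap_self, RingHom.id_apply]; ring, pow_two]
  exact Ideal.mul_mem_mul (sub_aug_mem π a) (sub_aug_mem π b)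

/-- If `A` is formally smooth and its augmentation ideal is generated by finitely many elements, the conormal
module is a direct summand of a finite free module. -/
theorem exists_conormal_section [Algebra.FormallySmooth R A] {ι : Type*} [Fintype ι] (x : ι → A)
    (hx : Ideal.span (Set.range x) = RingHom.ker π) :
    ∃ (q : (ι → S) →ₗ[S] (RingHom.ker π).Cotangent) (σ : (RingHom.ker π).Cotangent →ₗ[S] ι → S),
      q ∘ₗ σ = LinearMap.id ∧ ∀ v, q v = dclass π (∑ i, v i • x i) := by
  classical
  set I : Ideal A := RingHom.ker π with hI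
  have hxI : ∀ i, x i ∈ I := fun i => hx ▸ Ideal.subset_span ⟨i, rfl⟩
  let M : Ideal (MvPolynomial ι S) := idealOfVars ι S
  let φ0 : MvPolynomial ι S →ₐ[S] A := aeval x
  have hφX : ∀ i, φ0 (X i) = x i := fun i => aeval_X x i
  have hφC : ∀ c, φ0 (C c) = algebraMap S A c := fun c => aeval_C x c
  have hM : M.map φ0 = I := by
    rw [show M = Ideal.span (Set.range X) from rfl, Ideal.map_span, ← Set.range_comp,
      show (⇑φ0 ∘ X) = x from funext hφX, hx]
  let g : (MvPolynomial ι S ⧸ M ^ 2) →ₐ[R] A ⧸ I ^ 2 :=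
    (Ideal.quotientMapₐ (I ^ 2) φ0 (Ideal.map_le_iff_le_comap.mp (by rw [Ideal.map_pow, hM]))).restrictScalars R
  have hgmk : ∀ p, g (Ideal.Quotient.mk _ p) = Ideal.Quotient.mk _ (φ0 p) := fun p => rfl
  have hcc : ∀ p : MvPolynomial ι S, π (φ0 p) = constantCoeff p := by
    intro p
    induction p using MvPolynomial.induction_on with
    | C a => rw [hφC, π.commutes]; simp
    | add p q hp hq => simp [map_add, hp, hq]
    | mul_X p i hp =>
      rw [map_mul, map_mul, map_mul, hφX, RingHom.mem_ker.mp (hxI i)]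
      simp
  have hmemM : ∀ p : MvPolynomial ι S, constantCoeff p = 0 → p ∈ M := by
    intro p hp
    rw [← pow_one M, mem_pow_idealOfVars_iff']
    intro d hd
    rwa [(Finsupp.degree_eq_zero_iff d).mp (by omega)]
  have hsq : ∀ a ∈ I ^ 2, π a = 0 := fun a ha => Ideal.pow_le_self two_ne_zero ha
  have hgsurj : Function.Surjective g := by
    intro z
    obtain ⟨a, rfl⟩ := Ideal.Quotient.mk_surjective z
    have hmem : a - algebraMap S A (π a) ∈ I := sub_aug_mem π a
    rw [← hx, Ideal.mem_span_range_iff_exists_fun] at hmem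
    obtain ⟨c, hc⟩ := hmem
    refine ⟨Ideal.Quotient.mk _ (C (π a) + ∑ i, C (π (c i)) * X i), ?_⟩
    rw [hgmk, Ideal.Quotient.eq, map_add, map_sum, hφC]
    simp only [map_mul, hφC, hφX]
    rw [← neg_mem_iff, neg_sub, ← sub_sub, ← hc, ← Finset.sum_sub_distrib, pow_two]
    refine sum_mem fun i _ => ?_
    rw [← sub_mul]
    exact Ideal.mul_mem_mul (sub_aug_mem π (c i)) (hxI i)
  let Mb : Ideal (MvPolynomial ι S ⧸ M ^ 2) := M.map (Ideal.Quotient.mk _)
  have hMb : Mb ^ 2 = ⊥ := by rw [← Ideal.map_pow, Ideal.map_quotient_self]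
  have hcongr : ∀ p p' : MvPolynomial ι S, Ideal.Quotient.mk (I ^ 2) (φ0 p) = Ideal.Quotient.mk (I ^ 2) (φ0 p') →
      constantCoeff p = constantCoeff p' := by
    intro p p' h
    have := hsq _ (Ideal.Quotient.eq.mp h)
    rwa [map_sub, hcc, hcc, sub_eq_zero] at this
  have hker : RingHom.ker g ≤ Mb := by
    intro z hz
    obtain ⟨p, rfl⟩ := Ideal.Quotient.mk_surjective z
    refine Ideal.mem_map_of_mem _ (hmemM p ?_)
    rw [hcongr p 0 (by rw [map_zero, map_zero, ← hgmk]; exact hz), map_zero]
  have hnil : IsNilpotent (RingHom.ker (g : (MvPolynomial ι S ⧸ M ^ 2) →+* A ⧸ I ^ 2)) :=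
    ⟨2, le_bot_iff.mp ((Ideal.pow_right_mono hker 2).trans hMb.le)⟩
  let h : A →ₐ[R] MvPolynomial ι S ⧸ M ^ 2 :=
    Algebra.FormallySmooth.liftOfSurjective (Ideal.Quotient.mkₐ R (I ^ 2)) g hgsurj hnil
  have hgh : ∀ a, g (h a) = Ideal.Quotient.mk _ a := fun a =>
    Algebra.FormallySmooth.liftOfSurjective_apply _ g hgsurj hnil a
  -- lifts of `h a` have the expected constant coefficient
  have hconst : ∀ a p, Ideal.Quotient.mk _ p = h a → constantCoeff p = π a := by
    intro a p hp
    have := hgh a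
    rw [← hp, hgmk] at this
    have := hsq _ (Ideal.Quotient.eq.mp this)
    rwa [map_sub, hcc, sub_eq_zero] at this
  have hhI : ∀ a ∈ I, h a ∈ Mb := by
    intro a ha
    obtain ⟨p, hp⟩ := Ideal.Quotient.mk_surjective (h a)
    rw [← hp]
    exact Ideal.mem_map_of_mem _ (hmemM p ((hconst a p hp).trans ha))
  have hsmul : ∀ (c : S) (a : A), a ∈ I → h (c • a) = c • h a := by
    intro c a ha
    have h1 : h (algebraMap S A c) - algebraMap S _ c ∈ Mb := by
      obtain ⟨p, hp⟩ := Ideal.Quotient.mk_surjective (h (algebraMap S A c))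
      rw [← hp, show algebraMap S (MvPolynomial ι S ⧸ M ^ 2) c = Ideal.Quotient.mk _ (C c) from rfl,
        ← map_sub]
      refine Ideal.mem_map_of_mem _ (hmemM _ ?_)
      rw [map_sub, hconst _ p hp, π.commutes]; simp
    have h2 := Ideal.mul_mem_mul h1 (hhI a ha)
    rw [show Mb * Mb = ⊥ by rw [← Ideal.map_mul, ← pow_two, Ideal.map_quotient_self], Ideal.mem_bot, sub_mul, sub_eq_zero] at h2
    rw [Algebra.smul_def, map_mul, h2, ← Algebra.smul_def]
  -- linear coefficients
  let cf : (MvPolynomial ι S ⧸ M ^ 2) →ₗ[S] ι → S :=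
    (Submodule.liftQ ((M ^ 2).restrictScalars S)
      (LinearMap.pi fun i => MvPolynomial.lcoeff S (Finsupp.single i 1)) (fun p hp => by
        funext i
        exact (mem_pow_idealOfVars_iff' 2 p).mp hp _ (by simp))).comp
      (Submodule.Quotient.restrictScalarsEquiv S (M ^ 2)).symm.toLinearMap
  have hcf : ∀ p i, cf (Ideal.Quotient.mk _ p) i = p.coeff (Finsupp.single i 1) := fun p i => rfl
  let σA : A →ₗ[S] ι → S :=
    { toFun := fun a => cf (h (a - algebraMap S A (π a)))
      map_add' := fun a b => by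
        rw [← map_add, ← map_add]
        congr 2
        simp only [map_add]; ring
      map_smul' := fun c a => by
        rw [RingHom.id_apply, ← map_smul, ← hsmul c _ (sub_aug_mem π a)]
        congr 2
        simp only [map_smul, smul_eq_mul, map_mul, Algebra.smul_def, Algebra.algebraMap_self,
          RingHom.id_apply, π.commutes]; ring }
  have hdsurj : Function.Surjective (dclass π) := by
    intro y
    obtain ⟨⟨a, ha⟩, rfl⟩ := I.toCotangent_surjective y
    exact ⟨a, dclass_of_mem π ha⟩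
  have hle : LinearMap.ker (dclass π) ≤ LinearMap.ker σA := by
    intro a ha
    have ha' : a - algebraMap S A (π a) ∈ I ^ 2 := (Ideal.toCotangent_eq_zero _ _).mp ha
    have hIc : I ≤ Mb.comap h := hhI
    have h0 : h (a - algebraMap S A (π a)) ∈ Mb ^ 2 :=
      (Ideal.le_comap_pow h 2) (Ideal.pow_right_mono hIc 2 ha')
    rw [hMb, Ideal.mem_bot] at h0
    show cf (h (a - algebraMap S A (π a))) = 0
    rw [h0, map_zero]
  refine ⟨(dclass π).comp (Fintype.linearCombination S x),
    (Submodule.liftQ _ σA hle).comp ((dclass π).quotKerEquivOfSurjective hdsurj).symm.toLinearMap, ?_,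
    fun v => rfl⟩
  apply LinearMap.ext
  intro y
  obtain ⟨⟨a, ha⟩, rfl⟩ := I.toCotangent_surjective y
  rw [← dclass_of_mem π ha]
  have e : ((dclass π).quotKerEquivOfSurjective hdsurj).symm (dclass π a) = Submodule.Quotient.mk a := by
    rw [LinearEquiv.symm_apply_eq]; rfl
  simp only [LinearMap.comp_apply, LinearMap.id_apply, LinearEquiv.coe_coe, e, Submodule.liftQ_apply]
  show dclass π (∑ i, cf (h (a - algebraMap S A (π a))) i • x i) = dclass π a
  rw [RingHom.mem_ker.mp ha, map_zero, sub_zero]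
  obtain ⟨p, hp⟩ := Ideal.Quotient.mk_surjective (h a)
  rw [← sub_eq_zero, ← map_sub]
  have hlin : p - ∑ i, C (p.coeff (Finsupp.single i 1)) * X i ∈ M ^ 2 := by
    rw [mem_pow_idealOfVars_iff']
    intro d hd
    simp only [MvPolynomial.coeff_sub, MvPolynomial.coeff_sum, MvPolynomial.coeff_C_mul, MvPolynomial.coeff_X']
    rcases Nat.lt_or_ge (Finsupp.degree d) 1 with h0 | h1
    · obtain rfl := (Finsupp.degree_eq_zero_iff d).mp (by omega)
      rw [show p.coeff 0 = 0 from (hconst a p hp).trans ha, zero_sub, neg_eq_zero]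
      exact Finset.sum_eq_zero fun i _ => by simp
    · obtain ⟨j, rfl⟩ : ∃ j, d = Finsupp.single j 1 := by
        obtain ⟨j, hj⟩ : d ∈ Set.range (fun a : ι => Finsupp.single a 1) := by
          rw [Finsupp.range_single_one]; show Finsupp.degree d = 1; omega
        exact ⟨j, hj.symm⟩
      rw [Finset.sum_eq_single j]
      · simp
      · intro b _ hb; simp [Finsupp.single_left_inj, hb]
      · exact fun h' => absurd (Finset.mem_univ _) h'
  have h3 : φ0 (p - ∑ i, C (p.coeff (Finsupp.single i 1)) * X i) ∈ I ^ 2 := by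
    have := Ideal.mem_map_of_mem φ0 hlin
    rwa [Ideal.map_pow, hM] at this
  have h4 : φ0 p - a ∈ I ^ 2 := Ideal.Quotient.eq.mp (by rw [← hgmk, hp, hgh])
  have h5 : (∑ i, cf (h a) i • x i) - a ∈ I := sub_mem (sum_mem fun i _ => by
    rw [Algebra.smul_def]; exact I.mul_mem_left _ (hxI i)) ha
  rw [dclass_eq_zero π h5, ← hI, ← hp]
  simp only [map_sub, map_sum, map_mul, hφC, hφX] at h3
  simpa only [hcf, Algebra.smul_def, sub_sub_sub_cancel_left] using sub_mem h4 h3

end Aug

end Groth.Agent.Hopf35.SharpGraded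

namespace Groth.Agent.Hopf35.SharpGraded

section Sym

open MvPolynomial

variable {R : Type u} [CommRing R] {S : Type u} [CommRing S] {A : Type u} [CommRing A]
  [Algebra R A] [Algebra R S] [Algebra S A] [IsScalarTower R S A] (π : A →ₐ[S] S)

/-- the augmentation ideal of a symmetric algebra of a direct summand of a free module is separated -/
theorem iInf_pow_aug_eq_bot {P : Type*} [AddCommGroup P] [Module S P] {ι : Type*} [Fintype ι]
    (q : (ι → S) →ₗ[S] P) (σ : P →ₗ[S] ι → S) (hqσ : q ∘ₗ σ = LinearMap.id)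
    {z : SymmetricAlgebra S P}
    (hz : ∀ n : ℕ, z ∈ RingHom.ker (SymmetricAlgebra.algebraMapInv (R := S) (M := P)) ^ n) : z = 0 := by
  classical
  let e : SymmetricAlgebra S P →ₐ[S] MvPolynomial ι S :=
    SymmetricAlgebra.lift ((Fintype.linearCombination S (fun i => (X i : MvPolynomial ι S))).comp σ)
  let r : MvPolynomial ι S →ₐ[S] SymmetricAlgebra S P :=
    aeval fun i => SymmetricAlgebra.ι S P (q (Pi.single i 1))
  have hre : r.comp e = AlgHom.id S _ := by
    apply SymmetricAlgebra.algHom_ext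
    apply LinearMap.ext
    intro y
    show r (e (SymmetricAlgebra.ι S P y)) = SymmetricAlgebra.ι S P y
    rw [SymmetricAlgebra.lift_ι_apply]
    simp only [LinearMap.comp_apply, Fintype.linearCombination_apply, map_sum, map_smul, r, aeval_X,
      ← map_smul, ← map_sum]
    conv_rhs => rw [← show q (σ y) = y from LinearMap.congr_fun hqσ y, pi_eq_sum_univ' (σ y)]
    simp [map_sum, map_smul]
  have hc : (MvPolynomial.aeval (fun _ : ι => (0 : S))).comp e = SymmetricAlgebra.algebraMapInv := by
    apply SymmetricAlgebra.algHom_ext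
    apply LinearMap.ext
    intro y
    show aeval _ (e (SymmetricAlgebra.ι S P y)) = SymmetricAlgebra.algebraMapInv (SymmetricAlgebra.ι S P y)
    rw [SymmetricAlgebra.lift_ι_apply, SymmetricAlgebra.algebraMapInv_ι]
    simp [Fintype.linearCombination_apply]
  have hle : (RingHom.ker (SymmetricAlgebra.algebraMapInv (R := S) (M := P))).map e ≤ idealOfVars ι S := by
    rw [Ideal.map_le_iff_le_comap]
    intro a ha
    rw [Ideal.mem_comap, ← pow_one (idealOfVars ι S), mem_pow_idealOfVars_iff']
    intro d hd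
    rw [(Finsupp.degree_eq_zero_iff d).mp (by omega)]
    have := (AlgHom.congr_fun hc a).trans ha
    rw [← MvPolynomial.constantCoeff_eq]
    simpa [aeval_zero'] using this
  have h0 : e z = 0 := by
    ext d
    rw [MvPolynomial.coeff_zero]
    have hm := Ideal.pow_right_mono hle (Finsupp.degree d + 1)
    rw [← Ideal.map_pow] at hm
    exact (mem_pow_idealOfVars_iff' _ _).mp (hm (Ideal.mem_map_of_mem e (hz _))) d (Nat.lt_succ_self _)
  have := AlgHom.congr_fun hre z
  rw [AlgHom.comp_apply, h0, map_zero] at this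
  exact this.symm

theorem mem_pow_succ_of_mem_pow [Algebra.FormallySmooth R A] {T : Type u} [CommRing T] [Algebra R T]
    (J : Ideal T) (φ : T →+* A) (q2 : A →ₐ[R] T ⧸ J ^ 2)
    (hq2φ : ∀ z, q2 (φ z) = Ideal.Quotient.mk (J ^ 2) z) {z : T} (hz : φ z = 0) (n : ℕ)
    (ihn : z ∈ J ^ n) : z ∈ J ^ (n + 1) := by
  let K := J ^ (n + 2)
  have hK : J ^ (n + 2) ≤ J ^ 2 := Ideal.pow_le_pow_right (by omega)
  let g : (T ⧸ K) →ₐ[R]
      T ⧸ J ^ 2 := Ideal.Quotient.factorₐ R hK
  have hgs : Function.Surjective g := fun w => by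
    obtain ⟨a, rfl⟩ := Ideal.Quotient.mk_surjective w; exact ⟨Ideal.Quotient.mk _ a, rfl⟩
  let Jb := J.map (Ideal.Quotient.mk K)
  have hJb : Jb ^ (n + 2) = ⊥ := by rw [← Ideal.map_pow, Ideal.map_quotient_self]
  have hker : RingHom.ker (g : (T ⧸ K) →+* T ⧸ J ^ 2) ≤ Jb := by
    intro w hw
    obtain ⟨a, rfl⟩ := Ideal.Quotient.mk_surjective w
    exact Ideal.mem_map_of_mem _ (Ideal.pow_le_self two_ne_zero (Ideal.Quotient.eq_zero_iff_mem.mp hw))
  have hnil : IsNilpotent (RingHom.ker (g : (T ⧸ K) →+* T ⧸ J ^ 2)) := by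
    refine ⟨n + 2, ?_⟩
    have h := Ideal.pow_right_mono hker (n + 2)
    rw [hJb, le_bot_iff] at h
    exact h
  let ψ := Algebra.FormallySmooth.liftOfSurjective q2 g hgs hnil
  let θ : T →+* T ⧸ K :=
    (ψ : A →+* _).comp φ
  have hθ : ∀ w, θ w - Ideal.Quotient.mk K w ∈ Jb ^ 2 := by
    intro w
    obtain ⟨a, ha⟩ := Ideal.Quotient.mk_surjective (θ w - Ideal.Quotient.mk K w)
    rw [← ha, ← Ideal.map_pow]
    refine Ideal.mem_map_of_mem _ (Ideal.Quotient.eq_zero_iff_mem.mp ?_)
    have h1 : g (θ w) = Ideal.Quotient.mk (J ^ 2) w :=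
      (Algebra.FormallySmooth.liftOfSurjective_apply q2 g hgs hnil (φ w)).trans (hq2φ w)
    have h2 := congrArg g ha
    rw [map_sub, h1, show g (Ideal.Quotient.mk K w) = Ideal.Quotient.mk (J ^ 2) w from rfl, sub_self] at h2
    exact h2
  have key : ∀ j, ∀ w ∈ J ^ j, θ w - Ideal.Quotient.mk K w ∈ Jb ^ (j + 1) := by
    intro j
    induction j with
    | zero => intro w _; exact Ideal.pow_le_pow_right (by norm_num) (hθ w)
    | succ j ihj =>
      intro w hw
      rw [pow_succ'] at hw
      refine Submodule.mul_induction_on hw (fun a ha b hb => ?_) (fun a b ha hb => ?_)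
      · have hb' : Ideal.Quotient.mk K b ∈ Jb ^ j := by
          rw [← Ideal.map_pow]; exact Ideal.mem_map_of_mem _ hb
        have hbθ : θ b ∈ Jb ^ j := by
          have := add_mem (Ideal.pow_le_pow_right (Nat.le_succ j) (ihj b hb)) hb'
          rwa [sub_add_cancel] at this
        rw [map_mul, map_mul, show θ a * θ b - Ideal.Quotient.mk K a * Ideal.Quotient.mk K b =
          (θ a - Ideal.Quotient.mk K a) * θ b + Ideal.Quotient.mk K a * (θ b - Ideal.Quotient.mk K b) by ring]
        refine add_mem ?_ ?_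
        · rw [show j + 1 + 1 = 2 + j by ring, pow_add]; exact Ideal.mul_mem_mul (hθ a) hbθ
        · rw [pow_succ' Jb (j + 1)]; exact Ideal.mul_mem_mul (Ideal.mem_map_of_mem _ ha) (ihj b hb)
      · rw [map_add, map_add, add_sub_add_comm]; exact add_mem ha hb
  have hmem := key n z ihn
  rw [show θ z = ψ (φ z) from rfl, hz, map_zero, zero_sub, neg_mem_iff, ← Ideal.map_pow,
    Ideal.mem_quotient_iff_mem (Ideal.pow_le_pow_right (Nat.le_succ _))] at hmem
  exact hmem

set_option maxHeartbeats 400000 in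
theorem lift_injective [Algebra.FormallySmooth R A] {ι : Type*} [Fintype ι]
    (q : (ι → S) →ₗ[S] (RingHom.ker π).Cotangent) (σ : (RingHom.ker π).Cotangent →ₗ[S] ι → S)
    (hqσ : q ∘ₗ σ = LinearMap.id) (s : (RingHom.ker π).Cotangent →ₗ[S] A)
    (hs0 : ∀ y, π (s y) = 0) (hs : ∀ y, dclass π (s y) = y) :
    Function.Injective (SymmetricAlgebra.lift s) := by
  classical
  letI algR : Algebra R (SymmetricAlgebra S (RingHom.ker π).Cotangent) :=
    ((algebraMap S (SymmetricAlgebra S (RingHom.ker π).Cotangent)).comp (algebraMap R S)).toAlgebra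
  set J := RingHom.ker (SymmetricAlgebra.algebraMapInv (R := S) (M := (RingHom.ker π).Cotangent)) with hJ
  set φ := SymmetricAlgebra.lift s with hφ
  let ι' := SymmetricAlgebra.ι S (RingHom.ker π).Cotangent
  have hιJ : ∀ y, ι' y ∈ J := fun y => SymmetricAlgebra.algebraMapInv_ι y
  -- the first order map
  have hmul : ∀ a b : A, Ideal.Quotient.mk (J ^ 2) (algebraMap S _ (π (a * b)) + ι' (dclass π (a * b))) =
      Ideal.Quotient.mk (J ^ 2) ((algebraMap S _ (π a) + ι' (dclass π a)) * (algebraMap S _ (π b) + ι' (dclass π b))) := by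
    intro a b
    rw [Ideal.Quotient.eq, dclass_mul, map_mul, map_add, map_smul, map_smul, map_mul, Algebra.smul_def, Algebra.smul_def]
    have h2 : ι' (dclass π a) * ι' (dclass π b) ∈ J ^ 2 := pow_two J ▸ Ideal.mul_mem_mul (hιJ _) (hιJ _)
    convert neg_mem h2 using 1
    ring
  let q2 : A →ₐ[R] SymmetricAlgebra S (RingHom.ker π).Cotangent ⧸ J ^ 2 :=
    { toFun := fun a => Ideal.Quotient.mk (J ^ 2) (algebraMap S _ (π a) + ι' (dclass π a))
      map_one' := by
        rw [show dclass π 1 = 0 by simpa using dclass_algebraMap π 1]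
        simp
      map_mul' := fun a b => (hmul a b).trans (map_mul _ _ _)
      map_zero' := by simp
      map_add' := fun a b => by rw [← map_add]; congr 1; simp only [map_add]; ring
      commutes' := fun c => by
        rw [IsScalarTower.algebraMap_apply R S A, π.commutes, Algebra.algebraMap_self, RingHom.id_apply,
          dclass_algebraMap, map_zero, add_zero]
        rfl }
  have hq2φ : ∀ z, q2 (φ z) = Ideal.Quotient.mk (J ^ 2) z := by
    intro z
    induction z using SymmetricAlgebra.induction with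
    | algebraMap c =>
      show Ideal.Quotient.mk _ (algebraMap S _ (π (φ (algebraMap S _ c))) + ι' (dclass π (φ (algebraMap S _ c)))) = _
      rw [φ.commutes, π.commutes, dclass_algebraMap, map_zero, add_zero, Algebra.algebraMap_self, RingHom.id_apply]
    | ι y =>
      show Ideal.Quotient.mk _ (algebraMap S _ (π (φ (ι' y))) + ι' (dclass π (φ (ι' y)))) = _
      rw [show φ (ι' y) = s y from SymmetricAlgebra.lift_ι_apply (f := s) y, hs0, hs, map_zero, zero_add]
    | mul a b ha hb => rw [map_mul, map_mul, ha, hb, map_mul]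
    | add a b ha hb => rw [map_add, map_add, ha, hb, map_add]
  rw [injective_iff_map_eq_zero]
  intro z hz
  refine iInf_pow_aug_eq_bot q σ hqσ fun n => ?_
  induction n with
  | zero => simp
  | succ n ihn =>
    exact mem_pow_succ_of_mem_pow (R := R) (A := A) (T := SymmetricAlgebra S (RingHom.ker π).Cotangent) J φ.toRingHom q2 hq2φ hz n ihn

end Sym

section Main

variable {R : Type u} [CommRing R] {S : Type u} [CommRing S] {A : Type u} [CommRing A]
  [Algebra R A] [Algebra R S] [Algebra S A] [IsScalarTower R S A]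
  {N : Type w} [AddCommMonoid N] [DecidableEq N] [AddMonoid.FG N] [IsCancelAdd N]
  (𝒜 : N → Submodule R A) [GradedAlgebra 𝒜]

theorem exists_algEquiv_symmetricAlgebra (hsharp : ∀ n : N, IsAddUnit n → n = 0)
    (hinj : Function.Injective (algebraMap S A))
    (hrange : ∀ a : A, a ∈ 𝒜 0 ↔ a ∈ Set.range (algebraMap S A)) [Algebra.Smooth R A] :
    ∃ (P : Type u) (_ : AddCommGroup P) (_ : Module S P), Module.Finite S P ∧
      Module.Projective S P ∧ Nonempty (A ≃ₐ[S] SymmetricAlgebra S P) := by
  classical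
  obtain ⟨π, hπ⟩ := exists_aug 𝒜 hsharp hinj hrange
  have hπ0 : ∀ {n : N} {a : A}, a ∈ 𝒜 n → n ≠ 0 → π a = 0 := fun {n a} ha hn =>
    hinj (by rw [hπ, proj_of_mem 𝒜 ha, if_neg hn, map_zero])
  -- homogeneous generators of the augmentation ideal
  obtain ⟨G, hG⟩ := (inferInstance : Algebra.FiniteType R A).out
  choose D hD using sum_proj 𝒜 (A := A)
  let Q : Finset (A × N) := (G.biUnion fun g => (D g).image fun n => (g, n)).filter fun p => p.2 ≠ 0
  let x : Fin Q.card → A := fun i => GradedRing.proj 𝒜 (Q.equivFin.symm i).1.2 (Q.equivFin.symm i).1.1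
  let d : Fin Q.card → N := fun i => (Q.equivFin.symm i).1.2
  have hxd : ∀ i, x i ∈ 𝒜 (d i) := fun i => by
    show GradedRing.proj 𝒜 _ _ ∈ _
    rw [GradedRing.proj_apply]; exact SetLike.coe_mem _
  have hd0 : ∀ i, d i ≠ 0 := fun i => (Finset.mem_filter.mp (Q.equivFin.symm i).2).2
  have hxI : ∀ i, x i ∈ RingHom.ker π := fun i => hπ0 (hxd i) (hd0 i)
  have hx : Ideal.span (Set.range x) = RingHom.ker π := by
    refine le_antisymm (Ideal.span_le.mpr (by rintro _ ⟨i, rfl⟩; exact hxI i)) fun a ha => ?_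
    have hgen : ∀ g ∈ G, g - algebraMap S A (π g) ∈ Ideal.span (Set.range x) := by
      intro g hg
      nth_rewrite 1 [← hD g]
      rw [hπ]
      by_cases h0 : (0 : N) ∈ D g
      · rw [← Finset.add_sum_erase _ _ h0, add_sub_cancel_left]
        refine sum_mem fun n hn => ?_
        have hmem : (g, n) ∈ Q := Finset.mem_filter.mpr ⟨Finset.mem_biUnion.mpr ⟨g, hg,
          Finset.mem_image.mpr ⟨n, Finset.mem_of_mem_erase hn, rfl⟩⟩, Finset.ne_of_mem_erase hn⟩
        exact Ideal.subset_span ⟨Q.equivFin ⟨_, hmem⟩, by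
          show GradedRing.proj 𝒜 _ _ = _
          rw [Equiv.symm_apply_apply]⟩
      · have hz : GradedRing.proj 𝒜 0 g = 0 := by
          rw [← hD g, map_sum]
          refine Finset.sum_eq_zero fun n hn => ?_
          rw [proj_of_mem 𝒜 (show GradedRing.proj 𝒜 n g ∈ 𝒜 n by rw [GradedRing.proj_apply]; exact SetLike.coe_mem _),
            if_neg (fun h => h0 (by rwa [h] at hn))]
        rw [hz, sub_zero]
        refine sum_mem fun n hn => ?_
        have hmem : (g, n) ∈ Q := Finset.mem_filter.mpr ⟨Finset.mem_biUnion.mpr ⟨g, hg,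
          Finset.mem_image.mpr ⟨n, hn, rfl⟩⟩, fun h => h0 (by rwa [show n = 0 from h] at hn)⟩
        exact Ideal.subset_span ⟨Q.equivFin ⟨_, hmem⟩, by
          show GradedRing.proj 𝒜 _ _ = _
          rw [Equiv.symm_apply_apply]⟩
    have heq : Ideal.Quotient.mkₐ R (Ideal.span (Set.range x)) =
        ((Ideal.Quotient.mkₐ R (Ideal.span (Set.range x))).comp ((IsScalarTower.toAlgHom R S A).comp
          (π.restrictScalars R))) := by
      refine AlgHom.ext_of_adjoin_eq_top hG fun g hg => ?_
      exact Ideal.Quotient.eq.mpr (hgen g hg)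
    have := AlgHom.congr_fun heq a
    rw [AlgHom.comp_apply, AlgHom.comp_apply, AlgHom.restrictScalars_apply, RingHom.mem_ker.mp ha, map_zero,
      map_zero] at this
    exact Ideal.Quotient.eq_zero_iff_mem.mp this
  obtain ⟨q, σ, hqσ, hq⟩ := exists_conormal_section (R := R) π x hx
  let I := RingHom.ker π
  have hxI' : Ideal.span (Set.range x) = I := hx
  have hspanP : ∀ y : I.Cotangent, ∃ v, q v = y := fun y => ⟨σ y, LinearMap.congr_fun hqσ y⟩
  -- graded pieces of the conormal module
  have hprojI : ∀ n, ∀ a ∈ I, GradedRing.proj 𝒜 n a ∈ I := by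
    intro n a ha
    have hm : GradedRing.proj 𝒜 n a ∈ 𝒜 n := by rw [GradedRing.proj_apply]; exact SetLike.coe_mem _
    by_cases hn : n = 0
    · subst hn; rw [← hπ, RingHom.mem_ker.mp ha, map_zero]; exact zero_mem _
    · exact hπ0 hm hn
  have hproj2 : ∀ n, ∀ a ∈ I ^ 2, GradedRing.proj 𝒜 n a ∈ I ^ 2 := by
    intro n a ha
    rw [pow_two, ← hxI', Ideal.span_mul_span'] at ha ⊢
    suffices h : ∀ r, GradedRing.proj 𝒜 n (r * a) ∈ Ideal.span (Set.range x * Set.range x) by
      simpa using h 1
    induction ha using Submodule.span_induction with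
    | zero => simp
    | add u v _ _ hu hv => intro r; rw [mul_add, map_add]; exact add_mem (hu r) (hv r)
    | smul c u _ hu => intro r; rw [smul_eq_mul, ← mul_assoc]; exact hu _
    | mem u hu =>
      intro r
      obtain ⟨_, ⟨i, rfl⟩, _, ⟨j, rfl⟩, rfl⟩ := hu
      by_cases hm : ∃ m, m + (d i + d j) = n
      · obtain ⟨m, rfl⟩ := hm
        rw [proj_mul_right 𝒜 (SetLike.mul_mem_graded (hxd i) (hxd j))]
        exact Ideal.mul_mem_left _ _ (Ideal.subset_span ⟨_, ⟨i, rfl⟩, _, ⟨j, rfl⟩, rfl⟩)
      · rw [proj_mul_right_eq_zero 𝒜 (SetLike.mul_mem_graded (hxd i) (hxd j)) (fun m h => hm ⟨m, h⟩)]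
        exact zero_mem _
  let prj : N → A →ₗ[S] A := fun n =>
    { toFun := GradedRing.proj 𝒜 n, map_add' := map_add _, map_smul' := proj_smul 𝒜 hrange n }
  have hdsurj : Function.Surjective (dclass π) := fun y => by
    obtain ⟨⟨a, ha⟩, rfl⟩ := I.toCotangent_surjective y
    exact ⟨a, dclass_of_mem π ha⟩
  let f : N → A →ₗ[S] I.Cotangent := fun n => (dclass π).comp ((prj n).comp
    (LinearMap.id - (Algebra.linearMap S A).comp π.toLinearMap))
  have hf : ∀ n, LinearMap.ker (dclass π) ≤ LinearMap.ker (f n) := by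
    intro n a ha
    have ha' : a - algebraMap S A (π a) ∈ I ^ 2 := (Ideal.toCotangent_eq_zero _ _).mp ha
    exact (dclass_eq_zero π (hprojI n _ (Ideal.pow_le_self two_ne_zero ha'))).mpr (hproj2 n _ ha')
  let p : N → I.Cotangent →ₗ[S] I.Cotangent := fun n =>
    (Submodule.liftQ _ (f n) (hf n)).comp ((dclass π).quotKerEquivOfSurjective hdsurj).symm.toLinearMap
  have hp : ∀ n a, a ∈ I → p n (dclass π a) = dclass π (GradedRing.proj 𝒜 n a) := by
    intro n a ha
    have e : ((dclass π).quotKerEquivOfSurjective hdsurj).symm (dclass π a) = Submodule.Quotient.mk a := by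
      rw [LinearEquiv.symm_apply_eq]; rfl
    show Submodule.liftQ _ (f n) (hf n) (((dclass π).quotKerEquivOfSurjective hdsurj).symm (dclass π a)) = _
    rw [e, Submodule.liftQ_apply]
    show dclass π (GradedRing.proj 𝒜 n (a - algebraMap S A (π a))) = _
    rw [RingHom.mem_ker.mp ha, map_zero, sub_zero]
  -- the homogeneous section
  let lx : (Fin Q.card → S) →ₗ[S] A := Fintype.linearCombination S x
  let s : I.Cotangent →ₗ[S] A :=
    ∑ n ∈ Finset.univ.image d, (prj n).comp (lx.comp (σ.comp (p n)))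
  have hlx : ∀ v, lx v ∈ I := fun v => by
    show (∑ i, v i • x i) ∈ I
    exact sum_mem fun i _ => by rw [Algebra.smul_def]; exact I.mul_mem_left _ (hxI i)
  have hσ : ∀ y, dclass π (lx (σ y)) = y := fun y =>
    (hq (σ y)).symm.trans (LinearMap.congr_fun hqσ y)
  have hspan : ∀ y : I.Cotangent, y = ∑ i, σ y i • dclass π (x i) := fun y => by
    conv_lhs => rw [← hσ y]
    show dclass π (∑ i, σ y i • x i) = _
    simp [map_sum, map_smul]
  have hsgen : ∀ i, s (dclass π (x i)) = GradedRing.proj 𝒜 (d i) (lx (σ (dclass π (x i)))) := by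
    intro i
    have hpd : ∀ n, p n (dclass π (x i)) = if d i = n then dclass π (x i) else 0 := fun n => by
      rw [hp n _ (hxI i), proj_of_mem 𝒜 (hxd i)]; split_ifs <;> simp
    simp only [s, LinearMap.coe_sum, Finset.sum_apply, LinearMap.comp_apply, hpd]
    rw [Finset.sum_eq_single (d i)]
    · rw [if_pos rfl]; rfl
    · intro n _ hn; rw [if_neg (Ne.symm hn)]; simp
    · exact fun h => absurd (Finset.mem_image.mpr ⟨i, Finset.mem_univ _, rfl⟩) h
  have hsI : ∀ y, s y ∈ I := fun y => by
    simp only [s, LinearMap.coe_sum, Finset.sum_apply, LinearMap.comp_apply]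
    exact sum_mem fun n _ => hprojI n _ (hlx _)
  have hs : ∀ y, dclass π (s y) = y := by
    intro y
    conv_lhs => rw [hspan y]
    conv_rhs => rw [hspan y]
    simp only [map_sum, map_smul]
    refine Finset.sum_congr rfl fun i _ => congrArg _ ?_
    rw [hsgen i, ← hp _ _ (hlx _), hσ, hp _ _ (hxI i), proj_of_mem 𝒜 (hxd i), if_pos rfl]
  let φ := SymmetricAlgebra.lift s
  have hsB : ∀ y, s y ∈ φ.range := fun y =>
    ⟨SymmetricAlgebra.ι S _ y, SymmetricAlgebra.lift_ι_apply (f := s) y⟩
  have hgr : ∀ n, ∀ a ∈ 𝒜 n, a ∈ φ.range := by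
    intro n
    induction n using (prec_wf hsharp).induction with
    | h n ih =>
      intro a ha
      by_cases hn : n = 0
      · obtain ⟨c, rfl⟩ := (hrange a).mp (hn ▸ ha)
        exact φ.range.algebraMap_mem c
      have hlow : ∀ z ∈ I ^ 2, GradedRing.proj 𝒜 n z ∈ φ.range := by
        intro z hz
        rw [pow_two, ← hxI', Ideal.span_mul_span'] at hz
        suffices h : ∀ r, GradedRing.proj 𝒜 n (r * z) ∈ φ.range by simpa using h 1
        induction hz using Submodule.span_induction with
        | zero => simp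
        | add u v _ _ hu hv => intro r; rw [mul_add, map_add]; exact add_mem (hu r) (hv r)
        | smul c u _ hu => intro r; rw [smul_eq_mul, ← mul_assoc]; exact hu _
        | mem u hu =>
          intro r
          obtain ⟨_, ⟨i, rfl⟩, _, ⟨j, rfl⟩, rfl⟩ := hu
          by_cases hm : ∃ m, m + (d i + d j) = n
          · obtain ⟨m, hm⟩ := hm
            rw [← hm, proj_mul_right 𝒜 (SetLike.mul_mem_graded (hxd i) (hxd j))]
            refine mul_mem (ih m ⟨d i + d j, fun h => hd0 i (eq_zero_of_add hsharp h).1, hm.symm⟩ _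
              (by rw [GradedRing.proj_apply]; exact SetLike.coe_mem _)) (mul_mem ?_ ?_)
            · exact ih (d i) ⟨m + d j, fun h => hd0 j (eq_zero_of_add hsharp h).2,
                by rw [← hm]; abel⟩ _ (hxd i)
            · exact ih (d j) ⟨m + d i, fun h => hd0 i (eq_zero_of_add hsharp h).2,
                by rw [← hm]; abel⟩ _ (hxd j)
          · rw [proj_mul_right_eq_zero 𝒜 (SetLike.mul_mem_graded (hxd i) (hxd j)) (fun m h => hm ⟨m, h⟩)]
            exact zero_mem _
      have haI : a ∈ I := hπ0 ha hn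
      rw [← hxI', Ideal.mem_span_range_iff_exists_fun] at haI
      obtain ⟨c, hc⟩ := haI
      rw [show a = GradedRing.proj 𝒜 n a by rw [proj_of_mem 𝒜 ha, if_pos rfl], ← hc, map_sum]
      refine sum_mem fun i _ => ?_
      by_cases hm : ∃ m, m + d i = n
      · obtain ⟨m, hm⟩ := hm
        rw [← hm, proj_mul_right 𝒜 (hxd i)]
        refine mul_mem (ih m ⟨d i, hd0 i, hm.symm⟩ _ (by rw [GradedRing.proj_apply]; exact SetLike.coe_mem _)) ?_
        by_cases hm0 : m = 0
        · rw [hm0, zero_add] at hm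
          have hdiff : x i - s (dclass π (x i)) ∈ I ^ 2 := by
            rw [← dclass_eq_zero π (sub_mem (hxI i) (hsI _)), map_sub, hs, sub_self]
          have := hlow _ hdiff
          rw [map_sub, proj_of_mem 𝒜 (hxd i), if_pos hm, proj_of_mem 𝒜 (i := d i)
            (by rw [hsgen i, GradedRing.proj_apply]; exact SetLike.coe_mem _), if_pos hm] at this
          simpa using add_mem this (hsB (dclass π (x i)))
        · exact ih (d i) ⟨m, hm0, by rw [← hm, add_comm]⟩ _ (hxd i)
      · rw [proj_mul_right_eq_zero 𝒜 (hxd i) (fun m h => hm ⟨m, h⟩)]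
        exact zero_mem _
  have hsurj : Function.Surjective φ := by
    intro a
    obtain ⟨D', hD'⟩ := sum_proj 𝒜 a
    rw [← hD']
    exact sum_mem fun n _ => hgr n _ (by rw [GradedRing.proj_apply]; exact SetLike.coe_mem _)
  refine ⟨I.Cotangent, inferInstance, inferInstance,
    Module.Finite.of_surjective q hspanP, Module.Projective.of_split σ q hqσ,
    ⟨(AlgEquiv.ofBijective φ ⟨lift_injective (R := R) π q σ hqσ s hsI hs, hsurj⟩).symm⟩⟩

end Main

end Groth.Agent.Hopf35.SharpGraded
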