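import Groth.Agent.FlatCrit65.Purity.ProjOpen
import Groth.Agent.FlatCrit65.Purity.Basic
import Groth.Agent.FlatCrit65.Assassin.FpModel
import Groth.Agent.FlatMor66.RelAssLocus
import Groth.Agent.FlatMor67.FlatAtBC
import Groth.Agent.FlatMor67.PurePush
import Groth.Agent.FlatMor68.NoethModAlg
import Groth.Agent.S1192
import Groth.Agent.S1219
import Mathlib

/-!
# Pure spreadouts exist after dividing out a finitely generated ideal of the local ring

Over the local ring modulo the extension of a prime of a Noetherian subring of coefficients, a model is a base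
change from a field, hence free.
-/

set_option autoImplicit false
set_option linter.style.haveILetI false
set_option linter.unusedSectionVars false

universe u

noncomputable section

open TensorProduct

attribute [local instance] Algebra.TensorProduct.rightAlgebra

namespace Groth.Agent.Hopf35.Spreadout

section Torsion

variable {A B : Type u} [CommRing A] [CommRing B] [Algebra A B] [Algebra.FiniteType A B]
  (M : Type u) [AddCommGroup M] [Module B M] [Module A M] [IsScalarTower A B M] [Module.Finite B M]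

/-- The torsion of a fibre is killed by one element. -/
theorem exists_bounded_torsion (p : Ideal A) [p.IsPrime] (T : Submonoid B) :
    ∃ t₀ ∈ T, ∀ (y : M ⊗[A] p.ResidueField), ∀ t ∈ T, t • y = 0 → t₀ • y = 0 := by
  classical
  let k := p.ResidueField
  let C := B ⊗[A] k
  haveI : Algebra.IsPushout A k B C := .symm inferInstance
  haveI : Algebra.FiniteType k C := Algebra.FiniteType.equiv inferInstance (Algebra.IsPushout.equiv A k B C)
  haveI : IsNoetherianRing C := Algebra.FiniteType.isNoetherianRing k C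
  haveI : SMulCommClass B k C := ⟨fun s r z => by
    rw [Algebra.smul_def r z, Algebra.smul_def r (s • z)]
    exact (mul_smul_comm s _ z).symm⟩
  let F := C ⊗[B] M
  let e : F ≃ₗ[k] k ⊗[A] M := Algebra.IsPushout.cancelBaseChange A k B C M
  let ψ : M ⊗[A] k ≃+ F := (TensorProduct.comm A M k).toAddEquiv.trans e.symm.toAddEquiv
  have hψ0 : ∀ (m : M) (c : k), ψ (m ⊗ₜ c) = algebraMap k C c ⊗ₜ[B] m := fun m c => by
    show e.symm (c ⊗ₜ m) = _
    rw [Algebra.IsPushout.cancelBaseChange_symm_tmul]
  have hψ : ∀ (b : B) y, ψ (b • y) = algebraMap B C b • ψ y := fun b y => by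
    induction y using TensorProduct.induction_on with
    | zero => simp
    | tmul m c => rw [TensorProduct.smul_tmul', hψ0, hψ0, TensorProduct.tmul_smul, algebraMap_smul]
    | add x y hx hy => simp only [smul_add, map_add, hx, hy]
  let K : Submodule C F :=
    { carrier := {y | ∃ t ∈ T, algebraMap B C t • y = 0}
      zero_mem' := ⟨1, T.one_mem, smul_zero _⟩
      add_mem' := by
        rintro x y ⟨s, hs, hx⟩ ⟨t, ht, hy⟩
        refine ⟨s * t, T.mul_mem hs ht, ?_⟩
        rw [map_mul, mul_smul, smul_add, hy, add_zero, smul_comm, hx, smul_zero]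
      smul_mem' := by
        rintro c x ⟨t, ht, hx⟩
        exact ⟨t, ht, by rw [smul_comm, hx, smul_zero]⟩ }
  obtain ⟨G, hG⟩ := IsNoetherian.noetherian K
  have hGK : ∀ y : G, ∃ t ∈ T, algebraMap B C t • (y : F) = 0 := fun y =>
    (hG ▸ Submodule.subset_span y.2 : (y : F) ∈ K)
  choose s hs hs0 using hGK
  refine ⟨∏ y : G, s y, Submonoid.prod_mem T fun y _ => hs y, fun y t ht hy => ?_⟩
  have hmem : ψ y ∈ Submodule.span C (G : Set F) := by
    rw [hG]
    exact ⟨t, ht, by rw [← hψ, hy, map_zero]⟩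
  refine ψ.injective ?_
  rw [hψ, map_zero]
  generalize ψ y = z at hmem
  induction hmem using Submodule.span_induction with
  | mem z hz =>
    rw [← Finset.prod_erase_mul _ _ (Finset.mem_univ (⟨z, hz⟩ : G)), map_mul, mul_smul, hs0 ⟨z, hz⟩, smul_zero]
  | zero => rw [smul_zero]
  | add a b _ _ ha hb => rw [smul_add, ha, hb, add_zero]
  | smul c a _ ha => rw [smul_comm, ha, smul_zero]

omit [Algebra.FiniteType A B] [Module.Finite B M] in
theorem smul_eq_rTensor (t : B) {X : Type u} [AddCommGroup X] [Module A X] (y : M ⊗[A] X) :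
    t • y = (Algebra.lsmul A A M t).rTensor X y := by
  induction y using TensorProduct.induction_on with
  | zero => simp
  | tmul m c => rw [TensorProduct.smul_tmul']; rfl
  | add x y hx hy => rw [smul_add, map_add, hx, hy]

omit [Algebra.FiniteType A B] [Module.Finite B M] in
/-- Torsion on fibres does not grow under field extensions. -/
theorem smul_eq_zero_of_field {k k₁ : Type u} [Field k] [Field k₁] [Algebra A k] [Algebra A k₁] [Algebra k k₁]
    [IsScalarTower A k k₁] (t t₀ : B) (h : ∀ y : M ⊗[A] k, t • y = 0 → t₀ • y = 0) :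
    ∀ y : M ⊗[A] k₁, t • y = 0 → t₀ • y = 0 := by
  let e : k₁ ⊗[k] (k ⊗[A] M) ≃ₗ[k₁] k₁ ⊗[A] M := TensorProduct.AlgebraTensorModule.cancelBaseChange A k k₁ k₁ M
  let b := Module.Free.chooseBasis k k₁
  let c : k₁ ⊗[k] (k ⊗[A] M) ≃ₗ[k] _ := TensorProduct.equivFinsuppOfBasisLeft b
  let σ : B → (k ⊗[A] M →ₗ[k] k ⊗[A] M) := fun s => (Algebra.lsmul A A M s).baseChange k
  have key : ∀ (s : B) (z : k₁ ⊗[k] (k ⊗[A] M)),
      TensorProduct.comm A k₁ M (e ((σ s).lTensor k₁ z)) = s • TensorProduct.comm A k₁ M (e z) := fun s z => by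
    induction z using TensorProduct.induction_on with
    | zero => simp
    | add x y hx hy => simp only [map_add, smul_add, hx, hy]
    | tmul a w =>
      induction w using TensorProduct.induction_on with
      | zero => simp
      | add x y hx hy => simp only [TensorProduct.tmul_add, map_add, smul_add, hx, hy]
      | tmul d m => simp [σ, e, TensorProduct.smul_tmul']
  have hk : ∀ w, σ t w = 0 → σ t₀ w = 0 := fun w hw => by
    have hcomm : ∀ s, TensorProduct.comm A k M (σ s w) = s • TensorProduct.comm A k M w := fun s => by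
      clear hw
      induction w using TensorProduct.induction_on with
      | zero => simp
      | add x y hx hy => simp only [map_add, smul_add, hx, hy]
      | tmul d m => simp [σ, TensorProduct.smul_tmul']
    exact (TensorProduct.comm A k M).injective (by
      rw [hcomm, map_zero]
      exact h _ (by rw [← hcomm, hw, map_zero]))
  intro y hy
  obtain ⟨z, rfl⟩ := (e.toAddEquiv.trans (TensorProduct.comm A k₁ M).toAddEquiv).surjective y
  show t₀ • TensorProduct.comm A k₁ M (e z) = 0
  have hz : (σ t).lTensor k₁ z = 0 :=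
    (e.toAddEquiv.trans (TensorProduct.comm A k₁ M).toAddEquiv).injective
      ((key t z).trans (hy.trans (map_zero _).symm))
  have hc : ∀ (s : B) i, c ((σ s).lTensor k₁ z) i = σ s (c z i) := fun s i => by
    clear hy hz
    induction z using TensorProduct.induction_on with
    | zero => simp
    | add x y hx hy => simp only [map_add, Finsupp.add_apply, hx, hy]
    | tmul a w => simp [c]
  rw [← key, show (σ t₀).lTensor k₁ z = 0 from c.injective (Finsupp.ext fun i => by
    rw [hc, map_zero, Finsupp.zero_apply, hk _ (by rw [← hc, hz, map_zero, Finsupp.zero_apply])]), map_zero, map_zero]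

end Torsion

/-- Over a local ring, an element not killing anything on the closed fibre of a projective module kills nothing
after any base change. -/
theorem smul_injective_of_closedFibre {A C : Type u} [CommRing A] [IsLocalRing A] [CommRing C] [Algebra A C]
    [Algebra.FinitePresentation A C] (N : Type u) [AddCommGroup N] [Module C N] [Module A N] [IsScalarTower A C N]
    [Module.FinitePresentation C N] [Module.Projective A N] (t : C)
    (h : ∀ y : N ⊗[A] (IsLocalRing.maximalIdeal A).ResidueField, t • y = 0 → y = 0)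
    (Q : Type u) [AddCommGroup Q] [Module A Q] (z : N ⊗[A] Q) (hz : t • z = 0) : z = 0 := by
  by_contra hz0
  let m := IsLocalRing.maximalIdeal A
  obtain ⟨P, hP⟩ := Ideal.nonempty_minimalPrimes (I := (Submodule.span C {z}).annihilator) fun htop => hz0 (by
    have := Submodule.mem_annihilator.1 (htop ▸ trivial : (1 : C) ∈ (Submodule.span C {z}).annihilator) z
      (Submodule.mem_span_singleton_self z)
    rwa [one_smul] at this)
  haveI := hP.1.1
  have htP : t ∈ P := hP.1.2 (by rw [Submodule.mem_annihilator_span_singleton]; exact hz)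
  have hass := ((Groth.Agent.S1192.result N Q (P.under A) P).1 ⟨z, hP⟩).2
  haveI : Module.Flat A N := Module.Flat.of_projective
  have hflat : ∀ (q : Ideal C) [q.IsPrime], q.LiesOver m → FlatCA.FlatAt A q N :=
    fun q _ _ => FlatCrit65.Purity.flatAt_of_flat q
  have hpure : FlatCA.IsPureAlong A C N m := ((Groth.Agent.S1219.result N).1 inferInstance) m
  obtain ⟨q, _, hPq, hqm, hq⟩ := FlatCrit65.Purity.exists_ass_over_of_pure hflat hpure (P.under A)
    (IsLocalRing.le_maximalIdeal (Ideal.IsPrime.ne_top inferInstance)) P hass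
  haveI := hqm
  obtain ⟨y, hy⟩ := (FlatMor67.PurePush.ass_fiber_iff (p := m) (S := C) (N := N) q).1 hq
  obtain ⟨k, hk⟩ := (hy t).1 (hPq htP)
  have hpow : ∀ k : ℕ, t ^ k • y = 0 → y = 0 := fun k => by
    induction k with
    | zero => intro h0; rwa [pow_zero, one_smul] at h0
    | succ k ih => intro h0; exact ih (h _ (by rw [← mul_smul, ← pow_succ']; exact h0))
  exact (inferInstance : q.IsPrime).ne_top (q.eq_top_iff_one.2 ((hy 1).2 ⟨1, by rw [hpow k hk, smul_zero]⟩))

/-- The base change of a module over a localization is its base change over the localization. -/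
theorem isBaseChange_localized {A L A₁ L₁ N N₁ : Type u} [CommRing A] [CommRing L] [CommRing A₁] [CommRing L₁]
    [Algebra A L] [Algebra A A₁] [Algebra A₁ L₁] [Algebra L L₁] [Algebra A L₁] [IsScalarTower A A₁ L₁]
    [IsScalarTower A L L₁] [Algebra.IsPushout A A₁ L L₁] [AddCommGroup N] [Module L N] [Module A N]
    [IsScalarTower A L N] [AddCommGroup N₁] [Module L₁ N₁] [Module A₁ N₁] [Module L N₁] [Module A N₁]
    [IsScalarTower A₁ L₁ N₁] [IsScalarTower L L₁ N₁] [IsScalarTower A A₁ N₁]
    (hL : N →ₗ[L] N₁) (hA : N →ₗ[A] N₁) (heq : ∀ n, hL n = hA n) (hh : IsBaseChange A₁ hA) :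
    IsBaseChange L₁ hL := by
  let eh : L₁ ⊗[L] N →ₗ[L₁] N₁ := (TensorProduct.isBaseChange L N L₁).lift hL
  let c := Algebra.IsPushout.cancelBaseChange A A₁ L L₁ N
  have hc : ∀ z, eh (c.symm z) = hh.equiv z := fun z => by
    induction z using TensorProduct.induction_on with
    | zero => simp
    | add x y hx hy => simp only [map_add, hx, hy]
    | tmul a n =>
      rw [Algebra.IsPushout.cancelBaseChange_symm_tmul, IsBaseChange.equiv_tmul]
      rw [show (algebraMap A₁ L₁ a ⊗ₜ[L] n : L₁ ⊗[L] N) = algebraMap A₁ L₁ a • ((1 : L₁) ⊗ₜ n) by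
        rw [TensorProduct.smul_tmul', smul_eq_mul, mul_one], map_smul, algebraMap_smul]
      exact congrArg (a • ·) (((TensorProduct.isBaseChange L N L₁).lift_eq hL n).trans (heq n))
  have hbij : Function.Bijective eh := by
    have : (eh : L₁ ⊗[L] N → N₁) = hh.equiv ∘ c := funext fun z => by
      rw [Function.comp_apply, ← hc, c.symm_apply_apply]
    rw [this]
    exact hh.equiv.bijective.comp c.bijective
  exact IsBaseChange.of_equiv (LinearEquiv.ofBijective eh hbij) fun n =>
    (TensorProduct.isBaseChange L N L₁).lift_eq hL n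

/-- An element bounding the torsion of the fibre gives torsion-free closed fibre after inverting it. -/
theorem eq_zero_of_closedFibre {A B B' A₁ C M N' k k₁ : Type u} [CommRing A] [CommRing B] [CommRing B'] [CommRing A₁]
    [CommRing C] [Field k] [Field k₁] [Algebra A B] [Algebra B B'] [Algebra A B'] [IsScalarTower A B B']
    [Algebra A A₁] [Algebra A₁ C] [Algebra B' C] [Algebra B C] [IsScalarTower B B' C] [Algebra A C]
    [IsScalarTower A B' C] [IsScalarTower A A₁ C] [Algebra.IsPushout A B' A₁ C]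
    [AddCommGroup M] [Module B M] [Module A M] [IsScalarTower A B M]
    [AddCommGroup N'] [Module C N'] [Module A₁ N'] [IsScalarTower A₁ C N'] [Module B' N'] [IsScalarTower B' C N']
    [Module B N'] [IsScalarTower B B' N'] [IsScalarTower B C N']
    (t₀ : B) [IsLocalization.Away t₀ B'] (m' : B' ⊗[B] M →ₗ[B'] N') (hm' : IsBaseChange C m')
    [Algebra A k] [Algebra A₁ k₁] [Algebra A k₁] [IsScalarTower A A₁ k₁] [Algebra k k₁] [IsScalarTower A k k₁]
    (t : B) (hbound : ∀ y : M ⊗[A] k, t • y = 0 → t₀ • y = 0) :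
    ∀ y : N' ⊗[A₁] k₁, algebraMap B C t • y = 0 → y = 0 := by
  intro y hy
  obtain ⟨c, hc⟩ := FlatMor67.FlatAtBC.exists_tensor_equiv (R := A) (R' := A₁) m' hm' k₁
  have hcB : ∀ (b : B) w, c (b • w) = algebraMap B C b • c w := fun b w => by
    induction w using TensorProduct.induction_on with
    | zero => simp
    | add x y hx hy => simp only [smul_add, map_add, hx, hy]
    | tmul x n =>
      rw [TensorProduct.smul_tmul', hc, hc, TensorProduct.smul_tmul', ← algebraMap_smul B' b x, map_smul,
        algebraMap_smul, algebraMap_smul]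
  obtain ⟨w, rfl⟩ := c.surjective y
  rw [← hcB, ← map_zero c] at hy
  have hw : t • w = 0 := c.injective hy
  clear hy
  suffices w = 0 by rw [this, map_zero]
  haveI : IsLocalizedModule (Submonoid.powers t₀) (TensorProduct.mk B B' M 1) :=
    (isLocalizedModule_iff_isBaseChange (Submonoid.powers t₀) B' _).2 (TensorProduct.isBaseChange B M B')
  let F := TensorProduct.AlgebraTensorModule.rTensor A k₁ (TensorProduct.mk B B' M 1)
  obtain ⟨⟨w₀, s⟩, hws⟩ := IsLocalizedModule.surj (Submonoid.powers t₀) F w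
  dsimp only at hws
  have hs' : ∀ v, (s : B) • v = 0 → v = (0 : (B' ⊗[B] M) ⊗[A] k₁) := fun v hv =>
    ((Module.End.isUnit_iff _).1 (IsLocalizedModule.map_units F s)).1 (hv.trans (map_zero _).symm)
  refine hs' w ?_
  change (s : B) • w = F w₀ at hws
  rw [hws]
  have h1 : F (t • w₀) = 0 := by rw [map_smul, ← hws, smul_comm, hw, smul_zero]
  obtain ⟨⟨_, n, rfl⟩, h2⟩ := (IsLocalizedModule.eq_zero_iff (Submonoid.powers t₀) F).1 h1
  refine (IsLocalizedModule.eq_zero_iff (Submonoid.powers t₀) F).2 ⟨⟨t₀ ^ (n + 1), n + 1, rfl⟩, ?_⟩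
  show t₀ ^ (n + 1) • w₀ = 0
  rw [pow_succ', mul_smul]
  refine smul_eq_zero_of_field (k := k) M t t₀ hbound _ ?_
  rw [smul_comm]
  exact h2

/-- A map to a localization is universally injective when the denominators act injectively after base change. -/
theorem univInj_localized {A₁ C L₁ N' N₁ : Type u} [CommRing A₁] [CommRing C] [CommRing L₁] [Algebra A₁ C]
    (S : Submonoid C) [Algebra C L₁] [IsLocalization S L₁]
    [AddCommGroup N'] [Module C N'] [Module A₁ N'] [IsScalarTower A₁ C N']
    [AddCommGroup N₁] [Module L₁ N₁] [Module C N₁] [IsScalarTower C L₁ N₁] [Module A₁ N₁] [IsScalarTower A₁ C N₁]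
    (g : N' →ₗ[C] N₁) (hg : IsBaseChange L₁ g)
    (h : ∀ s ∈ S, ∀ (Q : Type u) [AddCommGroup Q] [Module A₁ Q] (z : N' ⊗[A₁] Q), s • z = 0 → z = 0) :
    FlatCA.UnivInj A₁ (g.restrictScalars A₁) := by
  intro Q _ _
  rw [LinearMap.lTensor_inj_iff_rTensor_inj]
  haveI : IsLocalizedModule S g := (isLocalizedModule_iff_isBaseChange _ L₁ g).2 hg
  rw [injective_iff_map_eq_zero]
  intro z hz
  let G := TensorProduct.AlgebraTensorModule.rTensor A₁ Q g
  have hz' : G z = 0 := hz
  obtain ⟨⟨s, hs⟩, hsz⟩ := (IsLocalizedModule.eq_zero_iff S G).1 hz'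
  exact h s hs Q z hsz

/-- Base change from a field is free. -/
theorem free_of_model {A A₀ B' B₀ A₁ C M' M₀ N' : Type u} [CommRing A] [CommRing A₀] [CommRing B'] [CommRing B₀]
    [CommRing A₁] [CommRing C] [Algebra A₀ A] [Algebra A₀ B₀] [Algebra B₀ B'] [Algebra A B'] [Algebra A₀ B']
    [IsScalarTower A₀ A B'] [IsScalarTower A₀ B₀ B'] [Algebra.IsPushout A₀ A B₀ B']
    [Algebra A A₁] [Algebra A₁ C] [Algebra B' C] [Algebra A C] [IsScalarTower A A₁ C] [IsScalarTower A B' C]
    [Algebra.IsPushout A B' A₁ C] [Algebra A₀ A₁] [IsScalarTower A₀ A A₁]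
    {k₀ : Type u} [Field k₀] [Algebra A₀ k₀] [Algebra k₀ A₁] [IsScalarTower A₀ k₀ A₁]
    [AddCommGroup M₀] [Module B₀ M₀] [Module A₀ M₀] [IsScalarTower A₀ B₀ M₀]
    [AddCommGroup M'] [Module B' M'] [Module A M'] [IsScalarTower A B' M'] (eM : B' ⊗[B₀] M₀ ≃ₗ[B'] M')
    [AddCommGroup N'] [Module C N'] [Module A₁ N'] [IsScalarTower A₁ C N'] [Module B' N'] [IsScalarTower B' C N']
    (m' : M' →ₗ[B'] N') (hm' : IsBaseChange C m') : Module.Free A₁ N' := by
  haveI : Algebra.IsPushout A A₁ B' C := .symm inferInstance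
  haveI : SMulCommClass B₀ A B' := ⟨fun s r z => by
    rw [Algebra.smul_def r z, Algebra.smul_def r (s • z)]
    exact (mul_smul_comm s _ z).symm⟩
  haveI : SMulCommClass A B₀ B' := SMulCommClass.symm _ _ _
  let eA : M' ≃ₗ[A] A ⊗[A₀] M₀ :=
    (eM.symm.restrictScalars A).trans (Algebra.IsPushout.cancelBaseChange A₀ A B₀ B' M₀)
  haveI : Module.Free A₁ (A₁ ⊗[A₀] M₀) := Module.Free.of_equiv
    (TensorProduct.AlgebraTensorModule.cancelBaseChange A₀ k₀ A₁ A₁ M₀)
  let eN : N' ≃ₗ[A₁] A₁ ⊗[A₀] M₀ :=
    (((Algebra.IsPushout.cancelBaseChange A A₁ B' C M').symm.trans (hm'.equiv.restrictScalars A₁)).symm).trans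
      ((LinearEquiv.baseChange A A₁ _ _ eA).trans (TensorProduct.AlgebraTensorModule.cancelBaseChange A₀ A A₁ A₁ M₀))
  exact Module.Free.of_equiv eN.symm

set_option maxHeartbeats 1000000 in
/-- The spreadout of a base change. -/
theorem exists_spreadout_aux {A B B' A₀ B₀ A₁ B₁ L L₁ C M M₀ N N₁ k k₀ : Type u} [CommRing A] [CommRing B]
    [CommRing B'] [CommRing A₀] [CommRing B₀] [CommRing A₁] [IsLocalRing A₁] [CommRing B₁] [CommRing L] [CommRing L₁]
    [CommRing C] [Field k] [Field k₀]
    [Algebra A B] [Algebra B B'] [Algebra A B'] [IsScalarTower A B B'] [Algebra.FinitePresentation A B']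
    [Algebra B L] [Algebra A L] [IsScalarTower A B L]
    [Algebra A A₁] [Algebra A₁ B₁] [Algebra B B₁] [Algebra A B₁] [IsScalarTower A A₁ B₁] [IsScalarTower A B B₁]
    [Algebra.IsPushout A B A₁ B₁]
    [Algebra B₁ C] [Algebra A₁ C] [IsScalarTower A₁ B₁ C] [Algebra B C] [IsScalarTower B B₁ C] [Algebra A C]
    [IsScalarTower A A₁ C] [IsScalarTower A B C]
    [Algebra B₁ L₁] [Algebra A₁ L₁] [IsScalarTower A₁ B₁ L₁] [Algebra B L₁] [IsScalarTower B B₁ L₁] [Algebra A L₁]
    [IsScalarTower A A₁ L₁] [IsScalarTower A B L₁]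
    [Algebra C L₁] [IsScalarTower B₁ C L₁] [Algebra L L₁] [IsScalarTower B L L₁] [Algebra B' C] [IsScalarTower B B' C]
    (T : Submonoid B) [IsLocalization T L] [IsLocalization (T.map (algebraMap B B₁)) L₁]
    (t₀ : B) (ht₀ : t₀ ∈ T) [IsLocalization.Away t₀ B'] [IsLocalization.Away (algebraMap B B₁ t₀) C]
    [AddCommGroup M] [Module B M] [Module A M] [IsScalarTower A B M] [Module.FinitePresentation B M]
    [AddCommGroup N] [Module L N] [Module B N] [Module A N] [IsScalarTower B L N] [IsScalarTower A L N]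
    [IsScalarTower A B N] (f : M →ₗ[B] N) [IsLocalizedModule T f]
    [AddCommGroup N₁] [Module L₁ N₁] [Module A₁ N₁] [IsScalarTower A₁ L₁ N₁] [Module B N₁] [IsScalarTower B L₁ N₁]
    [Module A N₁] [IsScalarTower A A₁ N₁] [IsScalarTower A B N₁]
    [Module C N₁] [IsScalarTower C L₁ N₁] [IsScalarTower A₁ C N₁] [IsScalarTower B C N₁] [IsScalarTower A₁ C L₁]
    [Algebra A₀ A] [Algebra A₀ B₀] [Algebra B₀ B'] [AddCommGroup M₀] [Module B₀ M₀] [Module A₀ M₀]
    [IsScalarTower A₀ B₀ M₀] (e : A ⊗[A₀] B₀ ≃ₐ[A] B') (he : ∀ b, e (1 ⊗ₜ b) = algebraMap B₀ B' b)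
    (eM : B' ⊗[B₀] M₀ ≃ₗ[B'] B' ⊗[B] M)
    [Algebra A₀ A₁] [IsScalarTower A₀ A A₁] [Algebra A₀ k₀] [Algebra k₀ A₁] [IsScalarTower A₀ k₀ A₁]
    [Algebra A k] [Algebra k (IsLocalRing.maximalIdeal A₁).ResidueField]
    [IsScalarTower A k (IsLocalRing.maximalIdeal A₁).ResidueField]
    (hbound : ∀ (y : M ⊗[A] k), ∀ t ∈ T, t • y = 0 → t₀ • y = 0)
    [SMulCommClass B A₁ C] (h : N →ₗ[B] N₁) (hh : IsBaseChange A₁ (h.restrictScalars A)) :
    ∃ g : C ⊗[B] M →ₗ[C] N₁, IsBaseChange L₁ g ∧ Module.Projective A₁ (C ⊗[B] M) ∧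
      FlatCA.UnivInj A₁ (g.restrictScalars A₁) := by
  classical
  haveI : IsScalarTower B C L₁ := IsScalarTower.of_algebraMap_eq fun b => by
    rw [IsScalarTower.algebraMap_apply B B₁ C, ← IsScalarTower.algebraMap_apply B₁ C L₁,
      ← IsScalarTower.algebraMap_apply B B₁ L₁]
  haveI : IsScalarTower A B₁ C := IsScalarTower.of_algebraMap_eq fun a => by
    rw [IsScalarTower.algebraMap_apply A A₁ C, IsScalarTower.algebraMap_apply A₁ B₁ C,
      ← IsScalarTower.algebraMap_apply A A₁ B₁]
  haveI : IsScalarTower A B₁ L₁ := IsScalarTower.of_algebraMap_eq fun a => by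
    rw [IsScalarTower.algebraMap_apply A A₁ L₁, IsScalarTower.algebraMap_apply A₁ B₁ L₁,
      ← IsScalarTower.algebraMap_apply A A₁ B₁]
  let N' := C ⊗[B] M
  let mC : M →ₗ[B] N' := TensorProduct.mk B C M 1
  have hmC : IsBaseChange C mC := TensorProduct.isBaseChange B M C
  haveI : IsScalarTower A L L₁ := IsScalarTower.of_algebraMap_eq fun a => by
    rw [IsScalarTower.algebraMap_apply A B L, ← IsScalarTower.algebraMap_apply B L L₁,
      ← IsScalarTower.algebraMap_apply A B L₁]
  letI : Module L N₁ := Module.compHom N₁ (algebraMap L L₁)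
  haveI : IsScalarTower L L₁ N₁ := IsScalarTower.of_algebraMap_smul fun _ _ => rfl
  haveI : IsScalarTower B L N₁ := IsScalarTower.of_algebraMap_smul fun b x => by
    show algebraMap L L₁ (algebraMap B L b) • x = b • x
    rw [← IsScalarTower.algebraMap_apply B L L₁, algebraMap_smul]
  haveI hloc₁ : IsLocalization (Algebra.algebraMapSubmonoid B₁ T) L₁ := ‹IsLocalization (T.map _) L₁›
  haveI hpBL : Algebra.IsPushout B L B₁ L₁ :=
    Algebra.IsPushout.symm ((Algebra.isLocalization_iff_isPushout T L).1 hloc₁)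
  haveI hpAL : Algebra.IsPushout A L A₁ L₁ :=
    (Algebra.IsPushout.comp_iff (R := A) (S := B) (T := L) (R' := A₁) (S' := B₁) (T' := L₁)).2 hpBL
  haveI : Algebra.IsPushout A A₁ L L₁ := .symm hpAL
  let hL : N →ₗ[L] N₁ := h.extendScalarsOfIsLocalization T L
  have hLbc : IsBaseChange L₁ hL := isBaseChange_localized hL (h.restrictScalars A) (fun _ => rfl) hh
  let m₁ : M →ₗ[B] N₁ := h ∘ₗ f
  have hfL : IsBaseChange L f := IsLocalizedModule.isBaseChange T L f
  have hcompose := IsBaseChange.comp (f := f) (g := hL) hfL hLbc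
  have heq : (hL.restrictScalars B) ∘ₗ f = m₁ := LinearMap.ext fun _ => rfl
  have hm₁ : IsBaseChange L₁ m₁ := by rw [heq] at hcompose; exact hcompose
  let g : N' →ₗ[C] N₁ := hmC.lift m₁
  have hg : IsBaseChange L₁ g := by
    refine IsBaseChange.of_comp hmC ?_
    have h' : (g.restrictScalars B) ∘ₗ mC = m₁ := LinearMap.ext fun x => hmC.lift_eq m₁ x
    rw [h']
    exact hm₁
  haveI : IsScalarTower A B' C := IsScalarTower.of_algebraMap_eq fun a => by
    rw [IsScalarTower.algebraMap_apply A B B', ← IsScalarTower.algebraMap_apply B B' C,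
      ← IsScalarTower.algebraMap_apply A B C]
  haveI hlocC : IsLocalization (Algebra.algebraMapSubmonoid B₁ (Submonoid.powers t₀)) C := by
    rw [show Algebra.algebraMapSubmonoid B₁ (Submonoid.powers t₀) = Submonoid.powers (algebraMap B B₁ t₀) from
      Submonoid.map_powers _ _]
    infer_instance
  haveI : Algebra.IsPushout B B' B₁ C :=
    Algebra.IsPushout.symm ((Algebra.isLocalization_iff_isPushout (Submonoid.powers t₀) B').1 hlocC)
  haveI hpAB' : Algebra.IsPushout A B' A₁ C :=
    (Algebra.IsPushout.comp_iff (R := A) (S := B) (T := B') (R' := A₁) (S' := B₁) (T' := C)).2 inferInstance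
  haveI : Algebra.IsPushout A A₁ B' C := .symm hpAB'
  haveI : Algebra.FinitePresentation A₁ C := Algebra.FinitePresentation.equiv (Algebra.IsPushout.equiv A A₁ B' C)
  have hmM' : IsBaseChange B' (TensorProduct.mk B B' M 1) := TensorProduct.isBaseChange B M B'
  haveI : SMulCommClass B B' C := ⟨fun s r z => by
    rw [Algebra.smul_def r z, Algebra.smul_def r (s • z)]
    exact (mul_smul_comm s _ z).symm⟩
  haveI : IsScalarTower B' C N' := inferInstance
  haveI : IsScalarTower B B' N' := inferInstance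
  let M' := B' ⊗[B] M
  let m' : M' →ₗ[B'] N' := hmM'.lift mC
  have hm' : IsBaseChange C m' := by
    refine IsBaseChange.of_comp hmM' ?_
    have h' : (m'.restrictScalars B) ∘ₗ TensorProduct.mk B B' M 1 = mC := LinearMap.ext fun x => hmM'.lift_eq mC x
    rw [h']
    exact hmC
  letI : Algebra A₀ B' := ((algebraMap A B').comp (algebraMap A₀ A)).toAlgebra
  haveI : IsScalarTower A₀ A B' := IsScalarTower.of_algebraMap_eq fun _ => rfl
  haveI : IsScalarTower A₀ B₀ B' := IsScalarTower.of_algebraMap_eq fun x => by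
    show algebraMap A B' (algebraMap A₀ A x) = _
    rw [← he, ← e.commutes]
    congr 1
    show algebraMap A₀ A x ⊗ₜ[A₀] (1 : B₀) = (1 : A) ⊗ₜ[A₀] algebraMap A₀ B₀ x
    rw [Algebra.algebraMap_eq_smul_one, Algebra.algebraMap_eq_smul_one, TensorProduct.smul_tmul]
  haveI : Algebra.IsPushout A₀ A B₀ B' := ⟨IsBaseChange.of_equiv e.toLinearEquiv fun b => he b⟩
  haveI : Module.Free A₁ N' := free_of_model (A := A) (A₀ := A₀) (A₁ := A₁) (k₀ := k₀) eM m' hm'
  haveI : Module.FinitePresentation C N' := inferInstance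
  let k₁ := (IsLocalRing.maximalIdeal A₁).ResidueField
  have hinj : ∀ t ∈ T, ∀ y : N' ⊗[A₁] k₁, algebraMap B C t • y = 0 → y = 0 := fun t ht =>
    eq_zero_of_closedFibre (A := A) (k := k) t₀ m' hm' t fun y hy => hbound y t ht hy
  refine ⟨g, hg, inferInstance, ?_⟩
  let T₁ := T.map (algebraMap B B₁)
  haveI : IsLocalization (T₁.map (algebraMap B₁ C)) L₁ :=
    IsLocalization.isLocalization_of_submonoid_le C L₁ (Submonoid.powers (algebraMap B B₁ t₀)) T₁
      (Submonoid.powers_le.2 (Submonoid.mem_map_of_mem _ ht₀))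
  refine univInj_localized (T₁.map (algebraMap B₁ C)) g hg ?_
  rintro _ ⟨_, ⟨b, hb, rfl⟩, rfl⟩ Q _ _ z hz
  refine smul_injective_of_closedFibre N' (algebraMap B C b) (hinj b hb) Q z ?_
  rw [IsScalarTower.algebraMap_apply B B₁ C]
  exact hz

set_option maxHeartbeats 1000000 in
/-- Existence of pure spreadouts. -/
theorem exists_spreadout {A B : Type u} [CommRing A] [CommRing B] [Algebra A B] [Algebra.FinitePresentation A B]
    (T : Submonoid B) (N : Type u) [AddCommGroup N] [Module (Localization T) N] [Module B N] [Module A N]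
    [IsScalarTower B (Localization T) N] [IsScalarTower A (Localization T) N] [IsScalarTower A B N]
    [Module.FinitePresentation (Localization T) N] (p : Ideal A) [p.IsPrime] :
    ∃ I : Ideal (Localization.AtPrime p), I.FG ∧ I ≤ IsLocalRing.maximalIdeal (Localization.AtPrime p) ∧
      ∀ (B₁ N₁ : Type u) [CommRing B₁] [Algebra B B₁] [Algebra (Localization.AtPrime p ⧸ I) B₁] [Algebra A B₁]
        [IsScalarTower A B B₁] [IsScalarTower A (Localization.AtPrime p ⧸ I) B₁]
        [Algebra.IsPushout A B (Localization.AtPrime p ⧸ I) B₁]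
        [AddCommGroup N₁] [Module (Localization (T.map (algebraMap B B₁))) N₁] [Module (Localization.AtPrime p ⧸ I) N₁]
        [IsScalarTower (Localization.AtPrime p ⧸ I) (Localization (T.map (algebraMap B B₁))) N₁]
        [Module B N₁] [IsScalarTower B (Localization (T.map (algebraMap B B₁))) N₁]
        [Module A N₁] [IsScalarTower A (Localization.AtPrime p ⧸ I) N₁] [IsScalarTower A B N₁]
        (h : N →ₗ[B] N₁), IsBaseChange (Localization.AtPrime p ⧸ I) (h.restrictScalars A) →
        FlatCA.HasPureSpreadout (Localization.AtPrime p ⧸ I) B₁ (T.map (algebraMap B B₁)) N₁ := by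
  classical
  -- a model and the element bounding the torsion of the fibre
  obtain ⟨M, _, _, f, hMfp, hfloc⟩ := FlatCrit65.exists_fp_model T (Localization T) N
  letI : Module A M := Module.compHom M (algebraMap A B)
  haveI : IsScalarTower A B M := IsScalarTower.of_algebraMap_smul fun _ _ => rfl
  obtain ⟨t₀, ht₀, hbound⟩ := exists_bounded_torsion (A := A) (B := B) M p T
  let B' := Localization.Away t₀
  haveI : Algebra.FinitePresentation B B' := IsLocalization.Away.finitePresentation t₀
  haveI : Algebra.FinitePresentation A B' := Algebra.FinitePresentation.trans A B B'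
  let M' := B' ⊗[B] M
  -- the Noetherian subring of coefficients
  obtain ⟨A₀, B₀, M₀, _, _, _, _, _, _, _, _, _, e, eM, he, hft, hfp, hfinM, -⟩ :=
    FlatMor68.NoethModAlg.exists_flat_module_model A B' M'
  haveI := hft
  haveI : IsNoetherianRing A₀ := Algebra.FiniteType.isNoetherianRing ℤ A₀
  let Ap := Localization.AtPrime p
  haveI : IsScalarTower A₀ A Ap := inferInstance
  let q₀ : Ideal A₀ := (IsLocalRing.maximalIdeal Ap).comap (algebraMap A₀ Ap)
  haveI : q₀.IsPrime := Ideal.comap_isPrime _ _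
  let I : Ideal Ap := q₀.map (algebraMap A₀ Ap)
  have hIm : I ≤ IsLocalRing.maximalIdeal Ap := Ideal.map_comap_le
  refine ⟨I, Ideal.FG.map (IsNoetherian.noetherian q₀) _, hIm, ?_⟩
  intro B₁ N₁ _ _ _ _ _ _ _ _ _ _ _ _ _ _ _ _ h hh
  let A₁ := Ap ⧸ I
  haveI : Nontrivial A₁ := Ideal.Quotient.nontrivial_iff.2 fun htop =>
    (IsLocalRing.maximalIdeal.isMaximal Ap).ne_top (top_unique (htop ▸ hIm))
  haveI : IsLocalRing A₁ := IsLocalRing.of_surjective' (Ideal.Quotient.mk I) Ideal.Quotient.mk_surjective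
  -- the localizations after base change
  let T₁ := T.map (algebraMap B B₁)
  let L := Localization T
  let L₁ := Localization T₁
  let t₁ : B₁ := algebraMap B B₁ t₀
  have ht₁ : t₁ ∈ T₁ := Submonoid.mem_map_of_mem _ ht₀
  let C := Localization.Away t₁
  letI : Algebra C L₁ := (IsLocalization.Away.lift t₁ (g := algebraMap B₁ L₁)
    (IsLocalization.map_units L₁ (⟨t₁, ht₁⟩ : T₁))).toAlgebra
  haveI hBCL : IsScalarTower B₁ C L₁ := IsScalarTower.of_algebraMap_eq fun b => (IsLocalization.Away.lift_eq t₁ _ b).symm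
  haveI hACL : IsScalarTower A₁ C L₁ := IsScalarTower.of_algebraMap_eq (R := A₁) (S := C) (A := L₁) fun a => by
    rw [IsScalarTower.algebraMap_apply A₁ B₁ C, ← IsScalarTower.algebraMap_apply B₁ C L₁,
      ← IsScalarTower.algebraMap_apply A₁ B₁ L₁]
  haveI : IsScalarTower B B₁ C := inferInstance
  haveI : IsScalarTower B C L₁ := IsScalarTower.of_algebraMap_eq fun b => by
    rw [IsScalarTower.algebraMap_apply B B₁ C, ← IsScalarTower.algebraMap_apply B₁ C L₁,
      ← IsScalarTower.algebraMap_apply B B₁ L₁]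
  letI : Module C N₁ := Module.compHom N₁ (algebraMap C L₁)
  haveI hCLN : IsScalarTower C L₁ N₁ := IsScalarTower.of_algebraMap_smul fun _ _ => rfl
  haveI hACN : IsScalarTower A₁ C N₁ := IsScalarTower.of_algebraMap_smul (R := A₁) (A := C) (M := N₁) fun a x => by
    show algebraMap C L₁ (algebraMap A₁ C a) • x = a • x
    rw [← IsScalarTower.algebraMap_apply A₁ C L₁]
    exact algebraMap_smul L₁ a x
  haveI : IsScalarTower B C N₁ := IsScalarTower.of_algebraMap_smul fun b x => by
    show algebraMap C L₁ (algebraMap B C b) • x = b • x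
    rw [← IsScalarTower.algebraMap_apply B C L₁, algebraMap_smul]
  haveI : IsScalarTower A B C := inferInstance
  haveI : SMulCommClass B A₁ C := ⟨fun s r z => by
    rw [Algebra.smul_def r z, Algebra.smul_def r (s • z)]
    exact (mul_smul_comm s _ z).symm⟩
  letI : Algebra L L₁ := (IsLocalization.lift (M := T) (g := algebraMap B L₁) fun t => by
    rw [IsScalarTower.algebraMap_apply B B₁ L₁]
    exact IsLocalization.map_units L₁ (⟨_, Submonoid.mem_map_of_mem _ t.2⟩ : T₁)).toAlgebra
  haveI : IsScalarTower B L L₁ := IsScalarTower.of_algebraMap_eq fun b => (IsLocalization.lift_eq _ b).symm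
  letI : Algebra B' C := (IsLocalization.Away.lift t₀ (g := algebraMap B C) (by
    rw [IsScalarTower.algebraMap_apply B B₁ C]
    exact IsLocalization.Away.algebraMap_isUnit t₁)).toAlgebra
  haveI : IsScalarTower B B' C := IsScalarTower.of_algebraMap_eq fun b => (IsLocalization.Away.lift_eq t₀ _ b).symm
  haveI : IsScalarTower A₀ A A₁ := inferInstance
  letI : Algebra q₀.ResidueField A₁ := (Ideal.ResidueField.lift q₀ (algebraMap A₀ A₁)
    (fun x hx => by
      rw [RingHom.mem_ker]
      show Ideal.Quotient.mk I (algebraMap A₀ Ap x) = 0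
      rw [Ideal.Quotient.eq_zero_iff_mem]
      exact Ideal.mem_map_of_mem _ hx)
    (fun x hx => by
      show IsUnit (Ideal.Quotient.mk I (algebraMap A₀ Ap x))
      exact (not_not.1 fun hu => hx ((IsLocalRing.mem_maximalIdeal _).2 hu) : IsUnit (algebraMap A₀ Ap x)).map _)).toAlgebra
  haveI : IsScalarTower A₀ q₀.ResidueField A₁ := IsScalarTower.of_algebraMap_eq fun x =>
    (Ideal.ResidueField.lift_algebraMap q₀ _ _ _ x).symm
  -- the closed fibre
  let 𝔪 := IsLocalRing.maximalIdeal A₁
  let k₁ := 𝔪.ResidueField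
  have hpm : p = 𝔪.comap (algebraMap A A₁) := by
    have h1 : 𝔪.comap (Ideal.Quotient.mk I) = IsLocalRing.maximalIdeal Ap :=
      IsLocalRing.eq_maximalIdeal (Ideal.comap_isMaximal_of_surjective _ Ideal.Quotient.mk_surjective)
    rw [show algebraMap A A₁ = (Ideal.Quotient.mk I).comp (algebraMap A Ap) from rfl, ← Ideal.comap_comap, h1]
    exact (IsLocalization.AtPrime.comap_maximalIdeal Ap p).symm
  letI : Algebra p.ResidueField k₁ := (Ideal.ResidueField.mapₐ p 𝔪 (Algebra.ofId A A₁) hpm).toRingHom.toAlgebra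
  haveI : IsScalarTower A p.ResidueField k₁ := IsScalarTower.of_algebraMap_eq fun a =>
    ((Ideal.ResidueField.mapₐ p 𝔪 (Algebra.ofId A A₁) hpm).commutes a).symm
  obtain ⟨g, hg, hproj, huniv⟩ := exists_spreadout_aux (A := A) (B := B) (L := L) (A₁ := A₁) (B₁ := B₁) (L₁ := L₁) (N := N) (N₁ := N₁) (M := M) (C := C) (k := p.ResidueField)
    (k₀ := q₀.ResidueField) T t₀ ht₀ f e he eM hbound h hh
  exact ⟨C, inferInstance, inferInstance, inferInstance, inferInstance, inferInstance, hBCL, hACL, inferInstance,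
    hCLN, hACN, C ⊗[B] M, inferInstance, inferInstance, inferInstance, inferInstance, g,
    AlgebraicGeometry.IsOpenImmersion.of_isLocalization t₁, inferInstance, hg, hproj, huniv⟩

end Groth.Agent.Hopf35.Spreadout
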