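import Groth.Prelude.Def_GLinSh
import Mathlib

/-!
helper35: finiteness of stabilisers of geometric points through points.
-/

set_option autoImplicit false
set_option linter.style.haveILetI false
set_option backward.isDefEq.respectTransparency.types false

universe u

open CategoryTheory CategoryTheory.Limits MonoidalCategory CartesianMonoidalCategory MonObj AlgebraicGeometry Topology

noncomputable section

namespace Groth.Agent.Hopf35.StabPtsGen

variable {S : Scheme.{u}} {G X : Over S} [GrpObj G] (a : AlgGrp.Action G X) {T : Over S}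

/-- The fixers of a `T`-point. -/
abbrev fixers (x : T ⟶ X) : Set (T ⟶ G) := {g | lift g x ≫ a.act = x}

theorem lift_psi_self (g : T ⟶ G) (x : T ⟶ X) :
    lift g (𝟙 T) ≫ GIT.psi a x = lift (lift g x ≫ a.act) (𝟙 T) := by
  apply CartesianMonoidalCategory.hom_ext <;> simp [GIT.psi, lift_whiskerLeft_assoc]

theorem sec_cond (x : T ⟶ X) {s : T.left ⟶ GLinSh.stab a x} (hs : s ≫ GLinSh.stabTo a x = 𝟙 _) :
    (s ≫ pullback.fst (GIT.psi a x).left (lift x (𝟙 T)).left) ≫ (GIT.psi a x).left = (lift x (𝟙 T)).left :=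
  (Category.assoc _ _ _).trans <| (congrArg (s ≫ ·) pullback.condition).trans <|
    (Category.assoc _ _ _).symm.trans <| (congrArg (· ≫ (lift x (𝟙 T)).left) hs).trans (Category.id_comp _)

/-- The point of `G ⊗ T` given by a section of the stabiliser. -/
def secMor (x : T ⟶ X) {s : T.left ⟶ GLinSh.stab a x} (hs : s ≫ GLinSh.stabTo a x = 𝟙 _) : T ⟶ G ⊗ T :=
  Over.homMk (s ≫ pullback.fst (GIT.psi a x).left (lift x (𝟙 T)).left) <|
    (congrArg (_ ≫ ·) (Over.w (GIT.psi a x))).symm.trans <| (Category.assoc _ _ _).symm.trans <|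
      (congrArg (· ≫ (X ⊗ T).hom) (sec_cond a x hs)).trans (Over.w (lift x (𝟙 T)))

theorem secMor_psi (x : T ⟶ X) {s : T.left ⟶ GLinSh.stab a x} (hs : s ≫ GLinSh.stabTo a x = 𝟙 _) :
    secMor a x hs ≫ GIT.psi a x = lift x (𝟙 T) :=
  Over.OverMorphism.ext (sec_cond a x hs)

theorem secMor_eq (x : T ⟶ X) {s : T.left ⟶ GLinSh.stab a x} (hs : s ≫ GLinSh.stabTo a x = 𝟙 _) :
    lift (secMor a x hs ≫ fst G T) (𝟙 T) = secMor a x hs := by
  have h2 : secMor a x hs ≫ snd G T = 𝟙 T := by
    have := congrArg (· ≫ snd X T) (secMor_psi a x hs)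
    simpa [GIT.psi] using this
  apply CartesianMonoidalCategory.hom_ext <;> simp [h2]

/-- Sections of the stabiliser are the fixers. -/
def sectionsEquiv (x : T ⟶ X) :
    {s : T.left ⟶ GLinSh.stab a x // s ≫ GLinSh.stabTo a x = 𝟙 _} ≃ fixers a x where
  toFun s := ⟨secMor a x s.2 ≫ fst G T, by
    have hm := secMor_psi a x s.2
    rw [← secMor_eq a x s.2, lift_psi_self] at hm
    simpa using congrArg (· ≫ fst X T) hm⟩
  invFun g := ⟨pullback.lift (lift g.1 (𝟙 T)).left (𝟙 _) (by
      rw [← Over.comp_left, lift_psi_self, show lift g.1 x ≫ a.act = x from g.2, Category.id_comp]),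
    pullback.lift_snd _ _ _⟩
  left_inv s := Subtype.ext (pullback.hom_ext
    ((pullback.lift_fst _ _ _).trans (congrArg CommaMorphism.left (secMor_eq a x s.2)))
    ((pullback.lift_snd _ _ _).trans s.2.symm))
  right_inv g := Subtype.ext (Over.OverMorphism.ext
    ((congrArg (· ≫ (fst G T).left) (pullback.lift_fst _ _ _)).trans
      (congrArg CommaMorphism.left (lift_fst g.1 (𝟙 T)))))

theorem isFinite_stabTo_iff [LocallyOfFiniteType G.hom] [QuasiCompact G.hom] [IsSeparated X.hom]
    {Ω : Type u} [Field Ω] [IsAlgClosed Ω] (e : T.left ≅ Spec (CommRingCat.of Ω)) (x : T ⟶ X) :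
    IsFinite (GLinSh.stabTo a x) ↔ (fixers a x).Finite := by
  haveI : LocallyOfFiniteType (snd G T).left := inferInstanceAs (LocallyOfFiniteType (pullback.snd G.hom T.hom))
  haveI : QuasiCompact (snd G T).left := inferInstanceAs (QuasiCompact (pullback.snd G.hom T.hom))
  haveI : IsSeparated (snd X T).left := inferInstanceAs (IsSeparated (pullback.snd X.hom T.hom))
  have hw : (GIT.psi a x).left ≫ (snd X T).left = (snd G T).left :=
    congrArg CommaMorphism.left (by simp [GIT.psi] : GIT.psi a x ≫ snd X T = snd G T)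
  haveI : LocallyOfFiniteType ((GIT.psi a x).left ≫ (snd X T).left) := hw ▸ inferInstance
  haveI : QuasiCompact ((GIT.psi a x).left ≫ (snd X T).left) := hw ▸ inferInstance
  haveI : LocallyOfFiniteType (GIT.psi a x).left := locallyOfFiniteType_of_comp _ (snd X T).left
  haveI : QuasiCompact (GIT.psi a x).left := QuasiCompact.of_comp _ (snd X T).left
  haveI : LocallyOfFiniteType (GLinSh.stabTo a x) := inferInstanceAs (LocallyOfFiniteType (pullback.snd _ _))
  haveI : QuasiCompact (GLinSh.stabTo a x) := inferInstanceAs (QuasiCompact (pullback.snd _ _))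
  let f : GLinSh.stab a x ⟶ Spec (CommRingCat.of Ω) := GLinSh.stabTo a x ≫ e.hom
  haveI : JacobsonSpace (GLinSh.stab a x) := LocallyOfFiniteType.jacobsonSpace f
  let E : {s : Spec (CommRingCat.of Ω) ⟶ GLinSh.stab a x // s ≫ f = 𝟙 _} ≃
      {s : T.left ⟶ GLinSh.stab a x // s ≫ GLinSh.stabTo a x = 𝟙 _} :=
    { toFun := fun s => ⟨e.hom ≫ s.1, by
        rw [← cancel_mono e.hom, Category.assoc, Category.assoc, show s.1 ≫ GLinSh.stabTo a x ≫ e.hom = 𝟙 _ from s.2]
        simp⟩
      invFun := fun s => ⟨e.inv ≫ s.1, by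
        show (e.inv ≫ s.1) ≫ GLinSh.stabTo a x ≫ e.hom = 𝟙 _
        rw [Category.assoc, reassoc_of% s.2, e.inv_hom_id]⟩
      left_inv := fun s => Subtype.ext (by simp)
      right_inv := fun s => Subtype.ext (by simp) }
  let W := (pointEquivClosedPoint f).symm.trans (E.trans (sectionsEquiv a x))
  rw [show IsFinite (GLinSh.stabTo a x) ↔ IsFinite f from
    (MorphismProperty.cancel_right_of_respectsIso @IsFinite _ e.hom).symm]
  constructor
  · intro h
    haveI := h
    haveI : Finite (GLinSh.stab a x) := by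
      haveI : Subsingleton (Spec (CommRingCat.of Ω)) := inferInstanceAs (Subsingleton (PrimeSpectrum Ω))
      refine Set.finite_univ_iff.mp ((f.finite_preimage_singleton (IsLocalRing.closedPoint Ω)).subset fun z _ => ?_)
      exact Subsingleton.elim _ _
    haveI : Finite (fixers a x) := Finite.of_equiv _ W
    exact Set.toFinite _
  · intro h
    haveI := h.to_subtype
    haveI : Finite (closedPoints (GLinSh.stab a x)) := Finite.of_equiv _ W.symm
    have hcp : (closedPoints (GLinSh.stab a x)).Finite := Set.toFinite _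
    haveI : DiscreteTopology (GLinSh.stab a x) := JacobsonSpace.discreteTopology hcp
    haveI : Finite (GLinSh.stab a x) := by
      have : closedPoints (GLinSh.stab a x) = Set.univ := Set.eq_univ_of_forall fun z => isClosed_discrete _
      exact Set.finite_univ_iff.mp (this ▸ hcp)
    haveI : LocallyQuasiFinite f := LocallyQuasiFinite.of_finite_preimage_singleton f fun _ => Set.toFinite _
    exact IsFinite.of_locallyQuasiFinite f

end Groth.Agent.Hopf35.StabPtsGen
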