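import Groth.Agent.FBase64.TensorField
import Mathlib

/-!
helper35: tensor powers of an algebra: evaluation homomorphisms, smoothness, domains.
-/

set_option autoImplicit false
set_option linter.style.haveILetI false

universe u

open scoped TensorProduct

noncomputable section

namespace Groth.Agent.Hopf35.TensorPow

variable (k A : Type u) [Field k] [CommRing A] [Algebra k A]

/-- The tensor power. -/
abbrev T (n : ℕ) : Type u := ⨂[k] _ : Fin n, A

variable {k A}

/-- The factor inclusion. -/
abbrev inc {n : ℕ} (i : Fin n) : A →ₐ[k] T k A n :=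
  PiTensorProduct.singleAlgHom (R := k) (A := fun _ : Fin n => A) i

variable {S : Type u} [CommRing S] [Algebra k S]

/-- The algebra map out of a tensor power with given components. -/
def evalHom {n : ℕ} (g : Fin n → A →ₐ[k] S) : T k A n →ₐ[k] S :=
  PiTensorProduct.liftAlgHom ((MultilinearMap.mkPiAlgebra k (Fin n) S).compLinearMap fun i => (g i).toLinearMap)
    (by simp) (fun x y => by simp [Finset.prod_mul_distrib])

theorem evalHom_inc {n : ℕ} (g : Fin n → A →ₐ[k] S) (i : Fin n) (a : A) : evalHom g (inc i a) = g i a := by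
  classical
  change PiTensorProduct.lift ((MultilinearMap.mkPiAlgebra k (Fin n) S).compLinearMap fun i => (g i).toLinearMap)
    (PiTensorProduct.tprod k (Pi.mulSingle i a)) = g i a
  simp only [PiTensorProduct.lift.tprod, MultilinearMap.compLinearMap_apply, MultilinearMap.mkPiAlgebra_apply,
    AlgHom.toLinearMap_apply]
  rw [Fintype.prod_eq_single i (fun t ht => by rw [Pi.mulSingle_eq_of_ne ht, map_one]), Pi.mulSingle_eq_same]

@[simp]
theorem evalHom_single {n : ℕ} (g : Fin n → A →ₐ[k] S) (i : Fin n) (a : A) :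
    evalHom g (PiTensorProduct.tprod k (Pi.mulSingle i a)) = g i a := evalHom_inc g i a

@[simp]
theorem evalHom_tprod_one {n : ℕ} (g : Fin n → A →ₐ[k] S) : evalHom g (PiTensorProduct.tprod k 1) = 1 :=
  map_one (evalHom g)

theorem evalHom_comp_inc {n : ℕ} (g : Fin n → A →ₐ[k] S) (i : Fin n) : (evalHom g).comp (inc i) = g i :=
  AlgHom.ext (evalHom_inc g i)

variable (k A)

/-- The empty tensor power is the base. -/
def zeroEquiv : T k A 0 ≃ₐ[k] k :=
  AlgEquiv.ofAlgHom (evalHom Fin.elim0) (Algebra.ofId k (T k A 0)) (Subsingleton.elim _ _)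
    (PiTensorProduct.algHom_ext fun i => i.elim0)

/-- Splitting off the first factor. -/
def splitEquiv (n : ℕ) : T k A (n + 1) ≃ₐ[k] A ⊗[k] T k A n :=
  AlgEquiv.ofAlgHom
    (evalHom (Fin.cons Algebra.TensorProduct.includeLeft
      fun i => Algebra.TensorProduct.includeRight.comp (inc i) : Fin (n + 1) → A →ₐ[k] A ⊗[k] T k A n))
    (Algebra.TensorProduct.lift (inc 0) (evalHom fun i => inc i.succ) fun _ _ => Commute.all _ _)
    (Algebra.TensorProduct.ext (AlgHom.ext fun a => by simp [evalHom_inc])
      (PiTensorProduct.algHom_ext fun i => AlgHom.ext fun a => by simp [evalHom_inc]))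
    (PiTensorProduct.algHom_ext fun i => by
      induction i using Fin.cases with
      | zero => exact AlgHom.ext fun a => by simp [evalHom_inc]
      | succ i => exact AlgHom.ext fun a => by simp [evalHom_inc])

theorem smooth [Algebra.Smooth k A] : ∀ n, Algebra.Smooth k (T k A n)
  | 0 => Algebra.Smooth.of_equiv (zeroEquiv k A).symm
  | n + 1 => by
    haveI := smooth n
    haveI : Algebra.Smooth k (A ⊗[k] T k A n) := Algebra.Smooth.comp k A _
    exact Algebra.Smooth.of_equiv (splitEquiv k A n).symm

theorem isDomain [IsAlgClosed k] [IsDomain A] : ∀ n, IsDomain (T k A n)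
  | 0 => (zeroEquiv k A).toMulEquiv.isDomain
  | n + 1 => by
    haveI := isDomain n
    haveI : IsDomain (A ⊗[k] T k A n) := FBase64.isDomain_tensor_of_isAlgClosed k A (T k A n)
    exact (splitEquiv k A n).toMulEquiv.isDomain

variable {k A}

/-- Two factor inclusions differ on a non-scalar. -/
theorem exists_inc_ne [Nontrivial A] (hA : ¬ Function.Surjective (algebraMap k A)) {n : ℕ} {i j : Fin n} (hij : i ≠ j) :
    ∃ a : A, inc (k := k) i a ≠ inc j a := by
  classical
  obtain ⟨a, ha⟩ : ∃ a : A, a ∉ (k ∙ (1 : A)) := by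
    by_contra h
    push Not at h
    exact hA fun a => by
      obtain ⟨c, hc⟩ := Submodule.mem_span_singleton.1 (h a)
      exact ⟨c, by rw [Algebra.algebraMap_eq_smul_one]; exact hc⟩
  obtain ⟨lam, hlam, hker⟩ := Submodule.exists_le_ker_of_notMem ha
  have hlam1 : lam 1 = 0 := hker (Submodule.mem_span_singleton_self _)
  obtain ⟨mu, hmu, -⟩ := Submodule.exists_le_ker_of_notMem (p := (⊥ : Submodule k A)) (v := (1 : A))
    (by simp)
  let L : Fin n → A →ₗ[k] k := fun t => if t = i then lam else mu
  refine ⟨a, fun h => ?_⟩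
  have h2 := congrArg (PiTensorProduct.lift ((MultilinearMap.mkPiAlgebra k (Fin n) k).compLinearMap L)) h
  simp only [PiTensorProduct.singleAlgHom_apply, PiTensorProduct.lift.tprod, MultilinearMap.compLinearMap_apply,
    MultilinearMap.mkPiAlgebra_apply, MonoidHom.mulSingle_apply] at h2
  rw [Finset.prod_eq_zero (f := fun t => L t (Pi.mulSingle (M := fun _ : Fin n => A) j a t)) (Finset.mem_univ i)
    (by simp [L, Pi.mulSingle_eq_of_ne hij, hlam1])] at h2
  refine Finset.prod_ne_zero_iff.2 (fun t _ => ?_) h2
  rcases eq_or_ne t i with rfl | ht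
  · simpa [L] using hlam
  · simpa [L, ht, Pi.mulSingle_eq_of_ne ht] using hmu

end Groth.Agent.Hopf35.TensorPow
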